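import Mathlib

set_option autoImplicit false

namespace Cfsg.Agent.Lib.Helper58.Mazurov

universe u

/-- hypotheses of the splitting-coset lemma -/
structure MHyp {G : Type*} [Group G] (N F : Subgroup G) (h : G) (m : ℕ) : Prop where
  nN : N.Normal
  nF : F.Normal
  le : N ≤ F
  ord : ∀ f ∈ F, orderOf (h * f) = m
  fpf : ∀ f ∈ F, ∀ i : ℕ, (h * f) ^ i ≠ 1 → ∀ f' ∈ F,
    (h * f) ^ i * f' * ((h * f) ^ i)⁻¹ * f'⁻¹ ∈ N → f' ∈ N

variable {G : Type*} [Group G]

theorem MHyp.shift {N F : Subgroup G} {h : G} {m : ℕ} (H : MHyp N F h m) {f0 : G} (hf0 : f0 ∈ F) :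
    MHyp N F (h * f0) m := by
  refine ⟨H.nN, H.nF, H.le, ?_, ?_⟩
  · intro f hf
    rw [mul_assoc]
    exact H.ord _ (F.mul_mem hf0 hf)
  · intro f hf i hi f' hf' hc
    have e : h * f0 * f = h * (f0 * f) := mul_assoc _ _ _
    rw [e] at hi hc
    exact H.fpf _ (F.mul_mem hf0 hf) i hi f' hf' hc

/-- nondegenerate case: powers lying in `N` are trivial -/
theorem MHyp.pow_mem {N F : Subgroup G} {h : G} {m : ℕ} (H : MHyp N F h m) {f0 : G} (hf0 : f0 ∈ F)
    (hf0N : f0 ∉ N) {f : G} (hf : f ∈ F) {i : ℕ} (hi : (h * f) ^ i ∈ N) : (h * f) ^ i = 1 := by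
  by_contra hne
  apply hf0N
  refine H.fpf f hf i hne f0 hf0 ?_
  have h1 : f0 * ((h * f) ^ i)⁻¹ * f0⁻¹ ∈ N := H.nN.conj_mem _ (N.inv_mem hi) f0
  have : (h * f) ^ i * f0 * ((h * f) ^ i)⁻¹ * f0⁻¹ = (h * f) ^ i * (f0 * ((h * f) ^ i)⁻¹ * f0⁻¹) := by group
  rw [this]
  exact N.mul_mem hi h1

theorem comm_of_comm_mod [Finite G] {N Z : Subgroup G} (hN : N.Normal) {x v : G} (hv : v ∈ N)
    (hz : x * v * x⁻¹ * v⁻¹ ∈ Z) (hxZ : ∀ z ∈ Z, x * z = z * x)
    (hcop : (orderOf x).Coprime (Nat.card N)) : x * v = v * x := by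
  set z := x * v * x⁻¹ * v⁻¹ with hzdef
  have hzN : z ∈ N := N.mul_mem (hN.conj_mem v hv x) (N.inv_mem hv)
  have hxz : x * z = z * x := hxZ z hz
  have hconj : x * v * x⁻¹ = z * v := by rw [hzdef]; group
  have hpow : ∀ k : ℕ, x ^ k * v * (x ^ k)⁻¹ = z ^ k * v := by
    intro k
    induction k with
    | zero => simp
    | succ k ih =>
      have hxzk : x * z ^ k = z ^ k * x := (Commute.pow_right (show Commute x z from hxz) k).eq
      calc x ^ (k + 1) * v * (x ^ (k + 1))⁻¹ = x * (x ^ k * v * (x ^ k)⁻¹) * x⁻¹ := by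
            rw [pow_succ']; group
        _ = x * (z ^ k * v) * x⁻¹ := by rw [ih]
        _ = (x * z ^ k) * v * x⁻¹ := by group
        _ = z ^ k * (x * v * x⁻¹) := by rw [hxzk]; group
        _ = z ^ (k + 1) * v := by rw [hconj, pow_succ]; group
  have h1 := hpow (orderOf x)
  rw [pow_orderOf_eq_one] at h1
  simp at h1
  have h2 : orderOf z ∣ orderOf x := orderOf_dvd_of_pow_eq_one h1
  have h3 : orderOf z ∣ Nat.card N := by
    have := orderOf_dvd_natCard (⟨z, hzN⟩ : N)
    rwa [Subgroup.orderOf_mk] at this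
  have h4 : orderOf z = 1 := Nat.eq_one_of_dvd_coprimes hcop h2 h3
  have h5 : z = 1 := orderOf_eq_one_iff.mp h4
  have : x * v * x⁻¹ = v := by rw [hconj, h5, one_mul]
  calc x * v = x * v * x⁻¹ * x := by group
    _ = v * x := by rw [this]

/-- transfer to a quotient by a normal subgroup inside `N` (nondegenerate case) -/
theorem MHyp.quot {N F : Subgroup G} {h : G} {m : ℕ} (H : MHyp N F h m) {f0 : G} (hf0 : f0 ∈ F)
    (hf0N : f0 ∉ N) (Z : Subgroup G) [Z.Normal] (hZN : Z ≤ N) :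
    MHyp (N.map (QuotientGroup.mk' Z)) (F.map (QuotientGroup.mk' Z)) (QuotientGroup.mk' Z h) m := by
  have hcomap : (N.map (QuotientGroup.mk' Z)).comap (QuotientGroup.mk' Z) = N := by
    rw [Subgroup.comap_map_eq, QuotientGroup.ker_mk', sup_eq_left.mpr hZN]
  refine ⟨H.nN.map _ (QuotientGroup.mk'_surjective Z), H.nF.map _ (QuotientGroup.mk'_surjective Z),
    Subgroup.map_mono H.le, ?_, ?_⟩
  · rintro _ ⟨f, hf, rfl⟩
    rw [← map_mul]
    apply Nat.dvd_antisymm
    · rw [← H.ord f hf]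
      exact orderOf_map_dvd _ _
    · rw [← H.ord f hf]
      apply orderOf_dvd_of_pow_eq_one
      apply H.pow_mem hf0 hf0N hf
      apply hZN
      have h1 := pow_orderOf_eq_one (QuotientGroup.mk' Z (h * f))
      rw [← map_pow] at h1
      exact (QuotientGroup.eq_one_iff _).mp h1
  · rintro _ ⟨f, hf, rfl⟩ i hi _ ⟨f', hf', rfl⟩ hc
    rw [← map_mul, ← map_pow] at hi hc
    have hi' : (h * f) ^ i ≠ 1 := by
      intro h1
      apply hi
      rw [h1, map_one]
    rw [← map_mul, ← map_inv, ← map_mul, ← map_inv, ← map_mul] at hc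
    have hc' : (h * f) ^ i * f' * ((h * f) ^ i)⁻¹ * f'⁻¹ ∈ N := by
      rw [← hcomap]
      exact hc
    exact ⟨f', H.fpf f hf i hi' f' hf' hc', rfl⟩

/-- transfer to a subgroup containing an element of the coset `h F` -/
theorem MHyp.sub {N F : Subgroup G} {h : G} {m : ℕ} (H : MHyp N F h m) (K : Subgroup G)
    {f0 : G} (hf0 : f0 ∈ F) (hK : h * f0 ∈ K) :
    MHyp (N.subgroupOf K) (F.subgroupOf K) (⟨h * f0, hK⟩ : K) m := by
  have H' := H.shift hf0
  refine ⟨H.nN.subgroupOf K, H.nF.subgroupOf K, ?_, ?_, ?_⟩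
  · intro x hx
    exact H.le hx
  · intro f hf
    rw [← Subgroup.orderOf_coe]
    exact H'.ord _ hf
  · intro f hf i hi f' hf' hc
    have hi' : ((h * f0) * (f : G)) ^ i ≠ 1 := by
      intro h1
      apply hi
      apply Subtype.ext
      simpa using h1
    exact H'.fpf _ hf i hi' _ hf' hc


open scoped IsMulCommutative


/-- expansion of `(v g)^k` for `v` in an abelian normal subgroup -/
theorem mul_pow_conjNormal (V : Subgroup G) [V.Normal] [IsMulCommutative V] (g : G) (v : V) (k : ℕ) :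
    ((v : G) * g) ^ k = ((∏ i ∈ Finset.range k, MulAut.conjNormal (g ^ i) v : V) : G) * g ^ k := by
  induction k with
  | zero => simp
  | succ k ih =>
    rw [pow_succ, ih, Finset.prod_range_succ, Subgroup.coe_mul, MulAut.conjNormal_apply, pow_succ]
    group

/-- elements of `R ∩ N` are trivial when the orders are coprime -/
theorem eq_one_of_mem_of_mem [Finite G] {R N : Subgroup G} (hRN : (Nat.card R).Coprime (Nat.card N))
    {x : G} (hxR : x ∈ R) (hxN : x ∈ N) : x = 1 := by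
  have h1 : orderOf x ∣ Nat.card R := by
    have := orderOf_dvd_natCard (⟨x, hxR⟩ : R)
    rwa [Subgroup.orderOf_mk] at this
  have h2 : orderOf x ∣ Nat.card N := by
    have := orderOf_dvd_natCard (⟨x, hxN⟩ : N)
    rwa [Subgroup.orderOf_mk] at this
  exact orderOf_eq_one_iff.mp (Nat.eq_one_of_dvd_coprimes hRN h1 h2)

/-- the averaging lemma -/
theorem lemmaB [Finite G] {N F : Subgroup G} {h : G} {m : ℕ} (H : MHyp N F h m)
    (R : Subgroup G) (hRF : R ≤ F) (hRN : (Nat.card R).Coprime (Nat.card N))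
    (hnorm : h ∈ Subgroup.normalizer (R : Set G))
    (V : Subgroup G) [V.Normal] (hVN : V ≤ N) [IsMulCommutative V] :
    ∀ x ∈ R, ∀ v ∈ V, x * v = v * x := by
  classical
  let _ : Fintype R := Fintype.ofFinite R
  have hNn := H.nN
  have hFn := H.nF
  have hm : orderOf h = m := by simpa using H.ord 1 F.one_mem
  have hmpos : 0 < m := hm ▸ orderOf_pos h
  -- normalizer facts
  have hn1 : ∀ (i : ℕ) (y : G), y ∈ R → (h ^ i)⁻¹ * y * h ^ i ∈ R := by
    intro i y hy
    have : (h ^ i)⁻¹ ∈ Subgroup.normalizer (R : Set G) := Subgroup.inv_mem _ (Subgroup.pow_mem _ hnorm i)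
    have := (Subgroup.mem_normalizer_iff.mp this y).mp hy
    simpa using this
  set c : G →* MulAut V := MulAut.conjNormal with hc
  intro x hx v0 hv0
  set v : V := ⟨v0, hv0⟩ with hv
  -- for every y ∈ R the product over i vanishes
  have hprod : ∀ y : R, ∏ i ∈ Finset.range m, c (((y : G)⁻¹ * h * y) ^ i) v = 1 := by
    intro y
    have hf1 : h⁻¹ * (y : G)⁻¹ * h * y ∈ F := by
      apply hRF
      have := hn1 1 ((y : G)⁻¹) (R.inv_mem y.2)
      simp only [pow_one] at this
      exact R.mul_mem this y.2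
    have hg : (y : G)⁻¹ * h * y = h * (h⁻¹ * (y : G)⁻¹ * h * y) := by group
    have hgm : ((y : G)⁻¹ * h * y) ^ m = 1 := by
      rw [hg, ← H.ord _ hf1, pow_orderOf_eq_one]
    have hf2 : h⁻¹ * (v : G) * h * (h⁻¹ * (y : G)⁻¹ * h * y) ∈ F := by
      refine F.mul_mem (H.le (hVN ?_)) hf1
      have := (inferInstance : V.Normal).conj_mem (v : G) v.2 h⁻¹
      simpa [mul_assoc] using this
    have hvg : (v : G) * ((y : G)⁻¹ * h * y) = h * (h⁻¹ * (v : G) * h * (h⁻¹ * (y : G)⁻¹ * h * y)) := by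
      group
    have hvgm : ((v : G) * ((y : G)⁻¹ * h * y)) ^ m = 1 := by
      rw [hvg, ← H.ord _ hf2, pow_orderOf_eq_one]
    have := mul_pow_conjNormal V ((y : G)⁻¹ * h * y) v m
    rw [hvgm, hgm, mul_one] at this
    exact Subtype.ext this.symm
  -- total product
  have htot : ∏ i ∈ Finset.range m, ∏ y : R, c (((y : G)⁻¹ * h * y) ^ i) v = 1 := by
    rw [Finset.prod_comm]
    exact Finset.prod_eq_one (fun y _ => hprod y)
  set τ : V := ∏ z : R, c (z : G) v with hτ
  have hτfix : ∀ r ∈ R, c r τ = τ := by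
    intro r hr
    rw [hτ, map_prod]
    have : ∀ z : R, c r (c (z : G) v) = c (((⟨r, hr⟩ : R) * z : R) : G) v := by
      intro z
      rw [Subgroup.coe_mul, map_mul]
      rfl
    simp_rw [this]
    exact Fintype.prod_equiv (Equiv.mulLeft (⟨r, hr⟩ : R)) _ _ (fun z => rfl)
  have hconjpow : ∀ (y : G) (i : ℕ), (y⁻¹ * h * y) ^ i = y⁻¹ * h ^ i * y := by
    intro y i
    have := conj_pow (a := y⁻¹) (b := h) (i := i)
    simpa using this
  have hinner : ∀ i : ℕ, h ^ i ≠ 1 → ∏ y : R, c (((y : G)⁻¹ * h * y) ^ i) v = c (h ^ i) τ := by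
    intro i hi
    let φ : R → R := fun y =>
      ⟨(h ^ i)⁻¹ * (y : G)⁻¹ * h ^ i * y, R.mul_mem (hn1 i _ (R.inv_mem y.2)) y.2⟩
    have hφinj : Function.Injective φ := by
      intro y y' hyy
      have h1 : (h ^ i)⁻¹ * (y : G)⁻¹ * h ^ i * y = (h ^ i)⁻¹ * (y' : G)⁻¹ * h ^ i * y' :=
        congrArg Subtype.val hyy
      have h1' : (y : G)⁻¹ * h ^ i * y = (y' : G)⁻¹ * h ^ i * y' := by
        have := congrArg (fun t => h ^ i * t) h1
        simpa [mul_assoc] using this
      have h2 : h ^ i * ((y' : G) * (y : G)⁻¹) * (h ^ i)⁻¹ * ((y' : G) * (y : G)⁻¹)⁻¹ = 1 := by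
        have e : h ^ i = (y' : G) * ((y : G)⁻¹ * h ^ i * y) * (y' : G)⁻¹ := by
          rw [h1']; group
        calc h ^ i * ((y' : G) * (y : G)⁻¹) * (h ^ i)⁻¹ * ((y' : G) * (y : G)⁻¹)⁻¹
            = h ^ i * ((y' : G) * ((y : G)⁻¹ * h ^ i * y)⁻¹ * (y' : G)⁻¹) := by group
          _ = h ^ i * ((y' : G) * ((y : G)⁻¹ * h ^ i * y) * (y' : G)⁻¹)⁻¹ := by group
          _ = 1 := by rw [← e]; group
      have h3 : (y' : G) * (y : G)⁻¹ ∈ N := by
        apply H.fpf 1 F.one_mem i (by simpa using hi) _ (hRF (R.mul_mem y'.2 (R.inv_mem y.2)))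
        simp only [mul_one]
        rw [h2]
        exact N.one_mem
      have h4 := eq_one_of_mem_of_mem hRN (R.mul_mem y'.2 (R.inv_mem y.2)) h3
      apply Subtype.ext
      have : (y' : G) = y := by
        calc (y' : G) = (y' : G) * (y : G)⁻¹ * y := by group
          _ = y := by rw [h4, one_mul]
      exact this.symm
    have hφbij : Function.Bijective φ := Finite.injective_iff_bijective.mp hφinj
    have hterm : ∀ y : R, c (((y : G)⁻¹ * h * y) ^ i) v = c (h ^ i) (c ((φ y : R) : G) v) := by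
      intro y
      rw [hconjpow, ← MulAut.mul_apply, ← map_mul]
      congr 2
      show (y : G)⁻¹ * h ^ i * y = h ^ i * ((h ^ i)⁻¹ * (y : G)⁻¹ * h ^ i * y)
      group
    simp_rw [hterm]
    rw [← map_prod]
    congr 1
    exact Function.Bijective.prod_comp hφbij (fun z : R => c (z : G) v)
  obtain ⟨m', rfl⟩ : ∃ m', m = m' + 1 := ⟨m - 1, by omega⟩
  rw [Finset.prod_range_succ'] at htot
  have h0 : ∏ y : R, c (((y : G)⁻¹ * h * y) ^ 0) v = v ^ Nat.card R := by
    simp only [pow_zero, map_one, MulAut.one_apply, Finset.prod_const, Finset.card_univ]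
    rw [Nat.card_eq_fintype_card]
  have hrest : ∏ i ∈ Finset.range m', ∏ y : R, c (((y : G)⁻¹ * h * y) ^ (i + 1)) v =
      ∏ i ∈ Finset.range m', c (h ^ (i + 1)) τ := by
    apply Finset.prod_congr rfl
    intro i hi
    apply hinner
    apply pow_ne_one_of_lt_orderOf (by omega)
    rw [hm]
    have := Finset.mem_range.mp hi
    omega
  rw [h0, hrest] at htot
  set w : V := ∏ i ∈ Finset.range m', c (h ^ (i + 1)) τ with hw
  have hwfix : c x w = w := by
    rw [hw, map_prod]
    apply Finset.prod_congr rfl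
    intro i _
    have e : x * h ^ (i + 1) = h ^ (i + 1) * ((h ^ (i + 1))⁻¹ * x * h ^ (i + 1)) := by group
    rw [← MulAut.mul_apply, ← map_mul, e, map_mul, MulAut.mul_apply, hτfix _ (hn1 (i + 1) x hx)]
  have hvpow : v ^ Nat.card R = w⁻¹ := eq_inv_of_mul_eq_one_right htot
  have hfix : (c x v) ^ Nat.card R = v ^ Nat.card R := by
    rw [← map_pow, hvpow, map_inv, hwfix]
  have hu : (c x v * v⁻¹) ^ Nat.card R = 1 := by
    rw [mul_pow, inv_pow, hfix, mul_inv_cancel]
  have hu1 : orderOf (c x v * v⁻¹) ∣ Nat.card R := orderOf_dvd_of_pow_eq_one hu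
  have hu2 : orderOf (c x v * v⁻¹) ∣ Nat.card N :=
    (orderOf_dvd_natCard _).trans (Subgroup.card_dvd_of_le hVN)
  have hu3 : c x v * v⁻¹ = 1 := orderOf_eq_one_iff.mp (Nat.eq_one_of_dvd_coprimes hRN hu1 hu2)
  have hu4 : c x v = v := mul_inv_eq_one.mp hu3
  have hu5 : x * v0 * x⁻¹ = v0 := by
    have := congrArg Subtype.val hu4
    rwa [MulAut.conjNormal_apply] at this
  calc x * v0 = x * v0 * x⁻¹ * x := by group
    _ = v0 * x := by rw [hu5]


/-- reduction to elements of prime power order -/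
theorem of_prime_pow [Finite G] (N F : Subgroup G)
    (hpp : ∀ x ∈ F, (∃ r a : ℕ, r.Prime ∧ ¬ r ∣ Nat.card N ∧ orderOf x = r ^ a) →
      ∀ v ∈ N, x * v = v * x) :
    ∀ x ∈ F, (orderOf x).Coprime (Nat.card N) → ∀ v ∈ N, x * v = v * x := by
  intro x
  induction hk : orderOf x using Nat.strong_induction_on generalizing x with
  | _ k ih =>
    intro hxF hcop v hv
    by_cases hk1 : k = 1
    · have : x = 1 := orderOf_eq_one_iff.mp (hk.trans hk1)
      rw [this, one_mul, mul_one]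
    have hkpos : 0 < k := hk ▸ orderOf_pos x
    set r := k.minFac with hrdef
    have hr : r.Prime := Nat.minFac_prime hk1
    obtain ⟨a, b, hrb, hkab⟩ := Nat.exists_eq_pow_mul_and_not_dvd (n := k) (by omega) r hr.ne_one
    have hrk : r ∣ k := Nat.minFac_dvd k
    have hrN : ¬ r ∣ Nat.card N := by
      intro hdv
      have := Nat.dvd_gcd hrk hdv
      rw [hcop] at this
      exact hr.one_lt.ne' (Nat.dvd_one.mp this)
    have ha : a ≠ 0 := by
      rintro rfl
      apply hrb
      rw [pow_zero, one_mul] at hkab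
      rwa [← hkab]
    have hbpos : 0 < b := by
      rcases Nat.eq_zero_or_pos b with h0 | h0
      · rw [h0, mul_zero] at hkab; omega
      · exact h0
    have hrapos : 0 < r ^ a := pow_pos hr.pos a
    -- the two powers
    have ho1 : orderOf (x ^ b) = r ^ a := by
      rw [orderOf_pow' x hbpos.ne', hk, hkab, Nat.gcd_eq_right (Dvd.intro_left _ rfl),
        Nat.mul_div_cancel _ hbpos]
    have ho2 : orderOf (x ^ (r ^ a)) = b := by
      rw [orderOf_pow' x hrapos.ne', hk, hkab, Nat.gcd_eq_right (Dvd.intro _ rfl),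
        Nat.mul_div_cancel_left _ hrapos]
    have hblt : b < k := by
      rw [hkab]
      have : 1 < r ^ a := Nat.one_lt_pow ha hr.one_lt
      nlinarith
    have c1 : x ^ b * v = v * x ^ b := hpp _ (F.pow_mem hxF b) ⟨r, a, hr, hrN, ho1⟩ v hv
    have c2 : x ^ (r ^ a) * v = v * x ^ (r ^ a) := by
      refine ih b hblt (x ^ (r ^ a)) ho2 (F.pow_mem hxF _) ?_ v hv
      apply Nat.Coprime.coprime_dvd_left _ hcop
      rw [hkab]
      exact Dvd.intro_left _ rfl
    have hgcd : Nat.gcd (r ^ a) b = 1 := by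
      apply Nat.Coprime.pow_left
      exact (Nat.Prime.coprime_iff_not_dvd hr).mpr hrb
    have hbez := Nat.gcd_eq_gcd_ab (r ^ a) b
    rw [hgcd] at hbez
    have hx : x = (x ^ (r ^ a)) ^ (Nat.gcdA (r ^ a) b) * (x ^ b) ^ (Nat.gcdB (r ^ a) b) := by
      rw [← zpow_natCast x (r ^ a), ← zpow_natCast x b, ← zpow_mul, ← zpow_mul, ← zpow_add]
      have : ((r ^ a : ℕ) : ℤ) * Nat.gcdA (r ^ a) b + (b : ℤ) * Nat.gcdB (r ^ a) b = 1 := by
        rw [← hbez]; rfl
      rw [this, zpow_one]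
    have hC1 : x ^ b ∈ Subgroup.centralizer ({v} : Set G) := by
      rw [Subgroup.mem_centralizer_iff]
      intro y hy
      rw [Set.mem_singleton_iff] at hy
      rw [hy]; exact c1.symm
    have hC2 : x ^ (r ^ a) ∈ Subgroup.centralizer ({v} : Set G) := by
      rw [Subgroup.mem_centralizer_iff]
      intro y hy
      rw [Set.mem_singleton_iff] at hy
      rw [hy]; exact c2.symm
    have hC : x ∈ Subgroup.centralizer ({v} : Set G) := by
      rw [hx]
      exact Subgroup.mul_mem _ (Subgroup.zpow_mem _ hC2 _) (Subgroup.zpow_mem _ hC1 _)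
    rw [Subgroup.mem_centralizer_iff] at hC
    exact (hC v rfl).symm

/-- Frattini argument in coset form -/
theorem frattini_coset [Finite G] {p : ℕ} [Fact p.Prime] (F : Subgroup G) [F.Normal]
    (P : Sylow p ↥F) (g : G) :
    ∃ f ∈ F, g * f ∈ Subgroup.normalizer ((P : Subgroup F).map F.subtype : Set G) := by
  have h1 := Sylow.normalizer_sup_eq_top P
  have h2 : g ∈ Subgroup.normalizer ((P : Subgroup F).map F.subtype : Set G) ⊔ F := by
    rw [h1]; trivial
  rw [← SetLike.mem_coe, Subgroup.mul_normal] at h2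
  obtain ⟨a, ha, b, hb, hab⟩ := h2
  refine ⟨b⁻¹, F.inv_mem hb, ?_⟩
  rw [← hab]
  simpa using ha

/-- a subgroup containing a Sylow `p`-subgroup for every prime `p` is everything -/
theorem eq_top_of_sylow_le {H : Type*} [Group H] [Finite H] (K : Subgroup H)
    (hK : ∀ p : ℕ, p.Prime → ∃ P : Sylow p H, (P : Subgroup H) ≤ K) : K = ⊤ := by
  apply Subgroup.eq_top_of_card_eq
  apply Nat.dvd_antisymm (Subgroup.card_subgroup_dvd_card K)
  rw [← Nat.factorization_prime_le_iff_dvd Nat.card_pos.ne' Nat.card_pos.ne']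
  intro p hp
  have : Fact p.Prime := ⟨hp⟩
  obtain ⟨P, hP⟩ := hK p hp
  rw [← Nat.Prime.pow_dvd_iff_le_factorization hp Nat.card_pos.ne', ← Sylow.card_eq_multiplicity P]
  exact Subgroup.card_dvd_of_le hP

open scoped Pointwise

/-- an element of `r`-power order normalizes some Sylow `p`-subgroup of `N` when `r ∤ |N|` -/
theorem exists_invariant_sylow [Finite G] (N : Subgroup G) [N.Normal] {x : G} {r a : ℕ} (hr : r.Prime)
    (hrN : ¬ r ∣ Nat.card N) (hxo : orderOf x = r ^ a) (p : ℕ) [Fact p.Prime] :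
    ∃ P : Sylow p ↥N, x ∈ Subgroup.normalizer ((P : Subgroup N).map N.subtype : Set G) := by
  have : Fact r.Prime := ⟨hr⟩
  set φ : MulAut N := MulAut.conjNormal x with hφ
  have hφo : orderOf φ ∣ r ^ a := by
    rw [← hxo]
    exact orderOf_map_dvd _ _
  obtain ⟨b, -, hb⟩ := (Nat.dvd_prime_pow hr).mp hφo
  have hZ : IsPGroup r (Subgroup.zpowers φ) := by
    apply IsPGroup.of_card (n := b)
    rw [Nat.card_zpowers, hb]
  have hnd : ¬ r ∣ Nat.card (Sylow p N) := by
    intro hdv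
    apply hrN
    have P0 : Sylow p N := default
    exact hdv.trans ((Sylow.card_dvd_index P0).trans (Subgroup.index_dvd_card _))
  obtain ⟨P, hP⟩ := hZ.nonempty_fixed_point_of_prime_not_dvd_card (Sylow p N) hnd
  rw [MulAction.mem_fixedPoints] at hP
  have hP1 := hP ⟨φ, Subgroup.mem_zpowers φ⟩
  have hP2 : φ • (P : Subgroup N) = (P : Subgroup N) := by
    have := congrArg (fun Q : Sylow p N => (Q : Subgroup N)) hP1
    simpa [Sylow.pointwise_smul_def] using this
  refine ⟨P, ?_⟩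
  rw [Subgroup.mem_normalizer_iff]
  intro y
  constructor
  · rintro ⟨y0, hy0, rfl⟩
    have h1 : φ • y0 ∈ φ • (P : Subgroup N) := Subgroup.smul_mem_pointwise_smul _ _ _ hy0
    rw [hP2] at h1
    exact ⟨φ • y0, h1, rfl⟩
  · rintro ⟨z0, hz0, hz⟩
    have hyN : y ∈ N := by
      have h1 : x * y * x⁻¹ ∈ N := by
        rw [← hz]; exact z0.2
      have h2 := (inferInstance : N.Normal).conj_mem _ h1 x⁻¹
      simpa [mul_assoc] using h2
    have h3 : φ • (⟨y, hyN⟩ : N) = z0 := by
      apply Subtype.ext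
      show x * y * x⁻¹ = (z0 : G)
      exact hz.symm
    have h4 : φ • (⟨y, hyN⟩ : N) ∈ φ • (P : Subgroup N) := by
      rw [h3, hP2]; exact hz0
    rw [Subgroup.smul_mem_pointwise_smul_iff] at h4
    exact ⟨⟨y, hyN⟩, h4, rfl⟩

/-- a nontrivial normal `p`-subgroup inside `N` yields a nontrivial abelian normal subgroup inside `N` -/
theorem exists_abelian_normal_of_normal_sylow [Finite G] (N : Subgroup G) {p : ℕ} [Fact p.Prime]
    (P : Sylow p ↥N) (hP : (P : Subgroup N) ≠ ⊥)
    (hn : Subgroup.normalizer ((P : Subgroup N).map N.subtype : Set G) = ⊤) :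
    ∃ Z : Subgroup G, Z.Normal ∧ Z ≤ N ∧ Z ≠ ⊥ ∧ IsMulCommutative Z := by
  set P' : Subgroup G := (P : Subgroup N).map N.subtype with hP'
  have hP'n : P'.Normal := Subgroup.normalizer_eq_top_iff.mp hn
  have hP'N : P' ≤ N := Subgroup.map_subtype_le _
  have hP'p : IsPGroup p P' := P.isPGroup'.map N.subtype
  have hP'ne : P' ≠ ⊥ := by
    rw [hP', Ne, Subgroup.map_eq_bot_iff_of_injective _ N.subtype_injective]
    exact hP
  have : Nontrivial P' := (Subgroup.nontrivial_iff_ne_bot P').mpr hP'ne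
  have hc : Nontrivial (Subgroup.center P') := hP'p.center_nontrivial
  refine ⟨(Subgroup.center P').map P'.subtype, ConjAct.normal_of_characteristic_of_normal,
    (Subgroup.map_subtype_le _).trans hP'N, ?_, inferInstance⟩
  rw [Ne, Subgroup.map_eq_bot_iff_of_injective _ P'.subtype_injective]
  exact (Subgroup.nontrivial_iff_ne_bot _).mp hc

theorem card_subgroupOf_dvd' (N M : Subgroup G) : Nat.card (N.subgroupOf M) ∣ Nat.card N := by
  let f : (N.subgroupOf M) →* N :=
    MonoidHom.codRestrict (M.subtype.comp (N.subgroupOf M).subtype) N (fun y => y.2)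
  apply Subgroup.card_dvd_of_injective f
  intro a b hab
  apply Subtype.ext
  apply Subtype.ext
  exact congrArg (fun t : N => (t : G)) hab

/-- induction hypothesis of the main theorem -/
def IHyp (n : ℕ) : Prop :=
  ∀ (G : Type u) [Group G] [Finite G] (N F : Subgroup G) (h : G) (m : ℕ),
    Nat.card G ≤ n → MHyp N F h m →
      ∀ x ∈ F, (orderOf x).Coprime (Nat.card N) → ∀ v ∈ N, x * v = v * x


theorem case1 {n : ℕ} (ih : IHyp.{u} n) {G : Type u} [Group G] [Finite G] {N F : Subgroup G}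
    {h : G} {m : ℕ} (hcard : Nat.card G ≤ n + 1) (H : MHyp N F h m)
    {f0 : G} (hf0 : f0 ∈ F) (hf0N : f0 ∉ N)
    (Z : Subgroup G) [Z.Normal] (hZN : Z ≤ N) (hZ : Z ≠ ⊥) [IsMulCommutative Z]
    (R : Subgroup G) (hRF : R ≤ F) (hRN : (Nat.card R).Coprime (Nat.card N))
    (hnorm : ∃ f ∈ F, h * f ∈ Subgroup.normalizer (R : Set G)) :
    ∀ x ∈ R, ∀ v ∈ N, x * v = v * x := by
  obtain ⟨f1, hf1, hn1⟩ := hnorm
  have hB := lemmaB (H.shift hf1) R hRF hRN hn1 Z hZN
  intro x hx v hv
  have hxo : (orderOf x).Coprime (Nat.card N) := by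
    apply Nat.Coprime.coprime_dvd_left _ hRN
    have := orderOf_dvd_natCard (⟨x, hx⟩ : R)
    rwa [Subgroup.orderOf_mk] at this
  have hcardq : Nat.card (G ⧸ Z) ≤ n := by
    have h1 := Subgroup.card_eq_card_quotient_mul_card_subgroup Z
    have h2 : 1 < Nat.card Z := (Subgroup.one_lt_card_iff_ne_bot Z).mpr hZ
    have h3 : 0 < Nat.card (G ⧸ Z) := Nat.card_pos
    nlinarith
  have Hq := H.quot hf0 hf0N Z hZN
  have hq := ih (G ⧸ Z) _ _ _ m hcardq Hq (QuotientGroup.mk' Z x) ⟨x, hRF hx, rfl⟩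
    (by
      apply Nat.Coprime.coprime_dvd_left (orderOf_map_dvd _ _)
      exact Nat.Coprime.coprime_dvd_right (Subgroup.card_map_dvd _ _) hxo)
    (QuotientGroup.mk' Z v) ⟨v, hv, rfl⟩
  have hz : x * v * x⁻¹ * v⁻¹ ∈ Z := by
    rw [← QuotientGroup.eq_one_iff]
    have : ((x * v * x⁻¹ * v⁻¹ : G) : G ⧸ Z) =
        QuotientGroup.mk' Z x * QuotientGroup.mk' Z v * (QuotientGroup.mk' Z x)⁻¹ *
          (QuotientGroup.mk' Z v)⁻¹ := rfl
    rw [this, hq]
    group
  exact comm_of_comm_mod H.nN hv hz (hB x hx) hxo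

theorem case2 {n : ℕ} (ih : IHyp.{u} n) {G : Type u} [Group G] [Finite G] {N F : Subgroup G}
    {h : G} {m : ℕ} (hcard : Nat.card G ≤ n + 1) (H : MHyp N F h m)
    (hZ : ¬ ∃ Z : Subgroup G, Z.Normal ∧ Z ≤ N ∧ Z ≠ ⊥ ∧ IsMulCommutative Z)
    {x : G} (hxF : x ∈ F) {r a : ℕ} (hr : r.Prime) (hrN : ¬ r ∣ Nat.card N)
    (hxo : orderOf x = r ^ a) :
    ∀ v ∈ N, x * v = v * x := by
  have hNn : N.Normal := H.nN
  have hxcop : (orderOf x).Coprime (Nat.card N) := by
    rw [hxo]
    exact Nat.Coprime.pow_left _ ((Nat.Prime.coprime_iff_not_dvd hr).mpr hrN)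
  have hK : ((Subgroup.centralizer ({x} : Set G)).subgroupOf N) = ⊤ := by
    apply eq_top_of_sylow_le
    intro p hp
    have : Fact p.Prime := ⟨hp⟩
    obtain ⟨P, hxP⟩ := exists_invariant_sylow N hr hrN hxo p
    refine ⟨P, ?_⟩
    by_cases hPbot : (P : Subgroup N) = ⊥
    · rw [hPbot]; exact bot_le
    set M := Subgroup.normalizer ((P : Subgroup N).map N.subtype : Set G) with hM
    have hMtop : M ≠ ⊤ := fun htop => hZ (exists_abelian_normal_of_normal_sylow N P hPbot htop)
    have hMcard : Nat.card M ≤ n := by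
      have h1 : Nat.card M ∣ Nat.card G := Subgroup.card_subgroup_dvd_card M
      have h2 : Nat.card M ≠ Nat.card G := fun e => hMtop (Subgroup.eq_top_of_card_eq M e)
      have h3 := Nat.le_of_dvd Nat.card_pos h1
      omega
    obtain ⟨f1, hf1, hf1M⟩ := frattini_coset N P h
    have Hs := H.sub M (H.le hf1) hf1M
    have key := ih M _ _ _ m hMcard Hs ⟨x, hxP⟩ (show x ∈ F from hxF) (by
        rw [Subgroup.orderOf_mk]
        exact Nat.Coprime.coprime_dvd_right (card_subgroupOf_dvd' N M) hxcop)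
    intro y hy
    rw [Subgroup.mem_subgroupOf, Subgroup.mem_centralizer_iff]
    intro z hz
    rw [Set.mem_singleton_iff] at hz
    rw [hz]
    have hyP' : (y : G) ∈ (P : Subgroup N).map N.subtype := ⟨y, hy, rfl⟩
    have hyM : (y : G) ∈ M := Subgroup.le_normalizer hyP'
    have := key ⟨y, hyM⟩ (show (y : G) ∈ N from y.2)
    exact congrArg Subtype.val this
  intro v hv
  have : (⟨v, hv⟩ : N) ∈ (Subgroup.centralizer ({x} : Set G)).subgroupOf N := by
    rw [hK]; trivial
  rw [Subgroup.mem_subgroupOf, Subgroup.mem_centralizer_iff] at this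
  exact this x rfl

theorem main_aux (n : ℕ) : IHyp.{u} n := by
  induction n with
  | zero =>
    intro G _ _ N F h m hcard
    have := Nat.card_pos (α := G)
    omega
  | succ n ih =>
    intro G _ _ N F h m hcard H
    apply of_prime_pow
    rintro x hxF ⟨r, a, hr, hrN, hxo⟩
    have : Fact r.Prime := ⟨hr⟩
    have hNn : N.Normal := H.nN
    have hFn : F.Normal := H.nF
    by_cases hFN : F ≤ N
    · -- degenerate: x ∈ N has order coprime to |N|
      intro v hv
      have h1 : orderOf x ∣ Nat.card N := by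
        have := orderOf_dvd_natCard (⟨x, hFN hxF⟩ : N)
        rwa [Subgroup.orderOf_mk] at this
      have h2 : (orderOf x).Coprime (Nat.card N) := by
        rw [hxo]
        exact Nat.Coprime.pow_left _ ((Nat.Prime.coprime_iff_not_dvd hr).mpr hrN)
      have h3 : orderOf x = 1 := Nat.eq_one_of_dvd_coprimes h2 (dvd_refl _) h1
      rw [orderOf_eq_one_iff.mp h3, one_mul, mul_one]
    obtain ⟨f0, hf0, hf0N⟩ := SetLike.not_le_iff_exists.mp hFN
    by_cases hZ : ∃ Z : Subgroup G, Z.Normal ∧ Z ≤ N ∧ Z ≠ ⊥ ∧ IsMulCommutative Z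
    · obtain ⟨Z, hZn, hZN, hZbot, hZc⟩ := hZ
      -- Sylow r-subgroup of F containing x
      have hxp : IsPGroup r (Subgroup.zpowers (⟨x, hxF⟩ : F)) := by
        apply IsPGroup.of_card (n := a)
        rw [Nat.card_zpowers, Subgroup.orderOf_mk, hxo]
      obtain ⟨R0, hR0⟩ := hxp.exists_le_sylow
      set R : Subgroup G := (R0 : Subgroup F).map F.subtype with hR
      have hRF : R ≤ F := Subgroup.map_subtype_le _
      have hxR : x ∈ R := ⟨⟨x, hxF⟩, hR0 (Subgroup.mem_zpowers _), rfl⟩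
      have hRN : (Nat.card R).Coprime (Nat.card N) := by
        have h1 : Nat.card R = Nat.card (R0 : Subgroup F) :=
          Nat.card_congr ((R0 : Subgroup F).equivMapOfInjective F.subtype F.subtype_injective).symm.toEquiv
        rw [h1, Sylow.card_eq_multiplicity]
        exact Nat.Coprime.pow_left _ ((Nat.Prime.coprime_iff_not_dvd hr).mpr hrN)
      exact case1 ih hcard H hf0 hf0N Z hZN hZbot R hRF hRN (frattini_coset F R0 h) x hxR
    · exact case2 ih hcard H hZ hxF hr hrN hxo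

/-- main theorem -/
theorem main {G : Type u} [Group G] [Finite G] {N F : Subgroup G} {h : G} {m : ℕ}
    (H : MHyp N F h m) : ∀ x ∈ F, (orderOf x).Coprime (Nat.card N) → ∀ v ∈ N, x * v = v * x :=
  main_aux (Nat.card G) G N F h m le_rfl H

end Cfsg.Agent.Lib.Helper58.Mazurov
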