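import Cfsg.Agent.Lib.Helper58.SpecA6

set_option autoImplicit false

namespace Cfsg.Agent.Lib.Helper58

open Matrix Polynomial

theorem pow_eq_one_of_annih {F R : Type*} [Field F] [Ring R] [Algebra F R] (h2 : (2 : F) = 0)
    (t : F) (M : R) (hM : (M - 1) * (M * M - t • M + 1) = 0) :
    (t = 0 → M ^ 4 = 1) ∧ (t = 1 → M ^ 3 = 1) ∧ (t ^ 2 + t + 1 = 0 → M ^ 5 = 1) := by
  have haev : aeval M ((X - 1) * (X ^ 2 - C t * X + 1) : F[X]) = 0 := by
    simp only [map_mul, map_sub, map_add, map_pow, aeval_X, aeval_C, map_one]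
    rw [← Algebra.smul_def, pow_two]; exact hM
  have h2' : (2 : F[X]) = 0 := by
    have h : (2 : F[X]) = C (2 : F) := (map_ofNat C 2).symm
    rw [h, h2, map_zero]
  refine ⟨?_, ?_, ?_⟩
  · intro ht
    have hid : (X ^ 4 - 1 : F[X]) = (X - 1) * (X ^ 2 - C t * X + 1) * (X + 1) := by
      rw [ht, map_zero]; ring
    have h := congrArg (aeval M) hid
    rw [map_mul, haev, zero_mul] at h
    simpa [sub_eq_zero] using h
  · intro ht
    have hid : (X ^ 3 - 1 : F[X]) = (X - 1) * (X ^ 2 - C t * X + 1) + (X - 1) * X * 2 := by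
      rw [ht, map_one]; ring
    rw [h2', mul_zero, add_zero] at hid
    have h := congrArg (aeval M) hid
    rw [haev] at h
    simpa [sub_eq_zero] using h
  · intro ht
    have htC : (C t ^ 2 + C t + 1 : F[X]) = 0 := by
      have h : (C (t ^ 2 + t + 1) : F[X]) = 0 := by rw [ht, map_zero]
      simpa using h
    have hid : (X ^ 5 - 1 : F[X]) = (X - 1) * (X ^ 2 - C t * X + 1) * (X ^ 2 - C (-1 - t) * X + 1)
        + (X - 1) * X ^ 2 * (C t ^ 2 + C t + 1) - (X - 1) * X ^ 2 * 2 := by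
      simp only [map_sub, map_neg, map_one]; ring
    rw [h2', htC, mul_zero, add_zero, sub_zero] at hid
    have h := congrArg (aeval M) hid
    rw [map_mul, haev, zero_mul] at h
    simpa [sub_eq_zero] using h


/-- Matrices in `SL(3,F)` with last row `(0,0,1)`. -/
def affSet (F : Type*) [Field F] : Set (SpecialLinearGroup (Fin 3) F) :=
  {M | (M : Matrix (Fin 3) (Fin 3) F) 2 0 = 0 ∧ (M : Matrix (Fin 3) (Fin 3) F) 2 1 = 0 ∧
    (M : Matrix (Fin 3) (Fin 3) F) 2 2 = 1}

/-- The affine group `F² ⋊ SL(2,F)` inside `SL(3,F)`. -/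
def affSub (F : Type*) [Field F] : Subgroup (SpecialLinearGroup (Fin 3) F) where
  carrier := affSet F
  mul_mem' := by
    rintro a b ⟨ha0, ha1, ha2⟩ ⟨hb0, hb1, hb2⟩
    refine ⟨?_, ?_, ?_⟩ <;>
    simp [Matrix.mul_apply, Fin.sum_univ_three, ha0, ha1, ha2,
      hb0, hb1, hb2]
  one_mem' := by simp [affSet]
  inv_mem' := by
    rintro a ⟨ha0, ha1, ha2⟩
    have h : (a : Matrix (Fin 3) (Fin 3) F) *
        ((a⁻¹ : SpecialLinearGroup (Fin 3) F) : Matrix (Fin 3) (Fin 3) F) = 1 :=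
      congrArg (fun x : SpecialLinearGroup (Fin 3) F => (x : Matrix (Fin 3) (Fin 3) F))
        (mul_inv_cancel a)
    have key : ∀ j, ((a⁻¹ : SpecialLinearGroup (Fin 3) F) : Matrix (Fin 3) (Fin 3) F) 2 j =
        (1 : Matrix (Fin 3) (Fin 3) F) 2 j := by
      intro j
      have h' := congrFun (congrFun h 2) j
      simpa [Matrix.mul_apply, Fin.sum_univ_three, ha0, ha1, ha2] using h'
    refine ⟨?_, ?_, ?_⟩
    · simpa using key 0
    · simpa using key 1
    · simpa using key 2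

theorem mem_affSub {F : Type*} [Field F] (M : SpecialLinearGroup (Fin 3) F) :
    M ∈ affSub F ↔ (M : Matrix (Fin 3) (Fin 3) F) 2 0 = 0 ∧
      (M : Matrix (Fin 3) (Fin 3) F) 2 1 = 0 ∧ (M : Matrix (Fin 3) (Fin 3) F) 2 2 = 1 := Iff.rfl

theorem aff_annih {F : Type*} [Field F] (M : SpecialLinearGroup (Fin 3) F) (hM : M ∈ affSub F) :
    ((M : Matrix (Fin 3) (Fin 3) F) - 1) *
      ((M : Matrix (Fin 3) (Fin 3) F) * (M : Matrix (Fin 3) (Fin 3) F) -
        ((M : Matrix (Fin 3) (Fin 3) F) 0 0 + (M : Matrix (Fin 3) (Fin 3) F) 1 1) •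
          (M : Matrix (Fin 3) (Fin 3) F) + 1) = 0 := by
  obtain ⟨h0, h1, h2⟩ := hM
  have hdet : (M : Matrix (Fin 3) (Fin 3) F).det = 1 := M.2
  rw [Matrix.det_fin_three] at hdet
  simp only [h0, h1, h2] at hdet
  generalize (M : Matrix (Fin 3) (Fin 3) F) = A at *
  ext i j
  fin_cases i <;> fin_cases j <;>
  simp [Matrix.mul_apply, Fin.sum_univ_three, h0, h1, h2]
  · linear_combination (-(A 0 0 - 1)) * hdet
  · linear_combination (-(A 0 1)) * hdet
  · linear_combination (-(A 0 2)) * hdet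
  · linear_combination (-(A 1 0)) * hdet
  · linear_combination (-(A 1 1 - 1)) * hdet
  · linear_combination (-(A 1 2)) * hdet


theorem two_eq_zero_of_card_four {F : Type*} [Field F] [Fintype F] (hF : Fintype.card F = 4) :
    (2 : F) = 0 := by
  have h4 : (4 : F) = 0 := by
    have h := Nat.cast_card_eq_zero F
    rw [hF] at h
    exact_mod_cast h
  have h22 : (2 : F) ^ 2 = 0 := by
    rw [← h4]; norm_num
  exact pow_eq_zero_iff (two_ne_zero) |>.mp h22

theorem trichotomy_of_card_four {F : Type*} [Field F] [Fintype F] (hF : Fintype.card F = 4)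
    (t : F) : t = 0 ∨ t = 1 ∨ t ^ 2 + t + 1 = 0 := by
  have h := FiniteField.pow_card t
  rw [hF] at h
  have h' : t * ((t - 1) * (t ^ 2 + t + 1)) = 0 := by linear_combination h
  rcases mul_eq_zero.mp h' with h1 | h1
  · exact Or.inl h1
  · rcases mul_eq_zero.mp h1 with h2 | h2
    · exact Or.inr (Or.inl (sub_eq_zero.mp h2))
    · exact Or.inr (Or.inr h2)

theorem exists_omega {F : Type*} [Field F] [Fintype F] (hF : Fintype.card F = 4) :
    ∃ ω : F, ω ^ 2 + ω + 1 = 0 := by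
  classical
  have hex : ∃ ω : F, ω ≠ 0 ∧ ω ≠ 1 := by
    by_contra hcon
    push Not at hcon
    have hle : Fintype.card F ≤ 2 := by
      calc Fintype.card F = (Finset.univ : Finset F).card := rfl
        _ ≤ ({0, 1} : Finset F).card := by
          apply Finset.card_le_card
          intro x _
          by_cases hx : x = 0
          · simp [hx]
          · simp [hcon x hx]
        _ ≤ 2 := Finset.card_le_two
    omega
  obtain ⟨ω, h0, h1⟩ := hex
  rcases trichotomy_of_card_four hF ω with h | h | h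
  · exact absurd h h0
  · exact absurd h h1
  · exact ⟨ω, h⟩

theorem aff_pow {F : Type*} [Field F] [Fintype F] (hF : Fintype.card F = 4)
    (M : SpecialLinearGroup (Fin 3) F) (hM : M ∈ affSub F) :
    ((M : Matrix (Fin 3) (Fin 3) F) 0 0 + (M : Matrix (Fin 3) (Fin 3) F) 1 1 = 0 → M ^ 4 = 1) ∧
    ((M : Matrix (Fin 3) (Fin 3) F) 0 0 + (M : Matrix (Fin 3) (Fin 3) F) 1 1 = 1 → M ^ 3 = 1) ∧
    (((M : Matrix (Fin 3) (Fin 3) F) 0 0 + (M : Matrix (Fin 3) (Fin 3) F) 1 1) ^ 2 +
      ((M : Matrix (Fin 3) (Fin 3) F) 0 0 + (M : Matrix (Fin 3) (Fin 3) F) 1 1) + 1 = 0 →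
        M ^ 5 = 1) := by
  obtain ⟨h1, h2, h3⟩ := pow_eq_one_of_annih (two_eq_zero_of_card_four hF) _ _ (aff_annih M hM)
  exact ⟨fun h => Subtype.ext (h1 h), fun h => Subtype.ext (h2 h), fun h => Subtype.ext (h3 h)⟩

theorem aff_pow_cases {F : Type*} [Field F] [Fintype F] (hF : Fintype.card F = 4)
    (M : SpecialLinearGroup (Fin 3) F) (hM : M ∈ affSub F) :
    M ^ 2 = 1 ∨ M ^ 3 = 1 ∨ M ^ 4 = 1 ∨ M ^ 5 = 1 := by
  obtain ⟨h1, h2, h3⟩ := aff_pow hF M hM
  rcases trichotomy_of_card_four hF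
    ((M : Matrix (Fin 3) (Fin 3) F) 0 0 + (M : Matrix (Fin 3) (Fin 3) F) 1 1) with h | h | h
  · exact Or.inr (Or.inr (Or.inl (h1 h)))
  · exact Or.inr (Or.inl (h2 h))
  · exact Or.inr (Or.inr (Or.inr (h3 h)))


/-- The element with linear part `[[a,b],[c,d]]` and translation part `(e,f)`. -/
def affMk {F : Type*} [Field F] (a b c d e f : F) (h : a * d - b * c = 1) :
    SpecialLinearGroup (Fin 3) F :=
  ⟨!![a, b, e; c, d, f; 0, 0, 1], by
    rw [Matrix.det_fin_three]
    simp only [Matrix.of_apply, Matrix.cons_val', Matrix.cons_val_zero, Matrix.cons_val_one,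
      Matrix.cons_val_two, Matrix.cons_val_fin_one, Matrix.empty_val']
    simp
    linear_combination h⟩

theorem affMk_mem {F : Type*} [Field F] (a b c d e f : F) (h : a * d - b * c = 1) :
    affMk a b c d e f h ∈ affSub F := by
  refine ⟨?_, ?_, ?_⟩ <;> simp [affMk]

theorem affMk_ne_one {F : Type*} [Field F] (a b c d e f : F) (h : a * d - b * c = 1)
    (hne : a ≠ 1 ∨ b ≠ 0 ∨ e ≠ 0 ∨ f ≠ 0) : affMk a b c d e f h ≠ 1 := by
  intro heq
  have h00 := congrFun (congrFun (congrArg Subtype.val heq) 0) 0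
  have h01 := congrFun (congrFun (congrArg Subtype.val heq) 0) 1
  have h02 := congrFun (congrFun (congrArg Subtype.val heq) 0) 2
  have h12 := congrFun (congrFun (congrArg Subtype.val heq) 1) 2
  simp [affMk] at h00 h01 h02 h12
  rcases hne with h | h | h | h
  · exact h h00
  · exact h h01
  · exact h h02
  · exact h h12

theorem aff_exists_orders {F : Type*} [Field F] [Fintype F] (hF : Fintype.card F = 4) :
    ∀ n ∈ ({1, 2, 3, 4, 5} : Set ℕ), ∃ M ∈ affSub F, orderOf M = n := by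
  have h2 : (2 : F) = 0 := two_eq_zero_of_card_four hF
  have h11 : (1 : F) + 1 = 0 := by rw [one_add_one_eq_two]; exact h2
  intro n hn
  simp only [Set.mem_insert_iff, Set.mem_singleton_iff] at hn
  rcases hn with rfl | rfl | rfl | rfl | rfl
  · exact ⟨1, (affSub F).one_mem, orderOf_one⟩
  · -- order 2: a translation
    have hd : (1 : F) * 1 - 0 * 0 = 1 := by ring
    refine ⟨affMk 1 0 0 1 1 0 hd, affMk_mem _ _ _ _ _ _ _, ?_⟩
    apply orderOf_eq_two
    · exact affMk_ne_one _ _ _ _ _ _ _ (Or.inr (Or.inr (Or.inl one_ne_zero)))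
    · have hsq : (!![1, 0, 1; 0, 1, 0; 0, 0, 1] : Matrix (Fin 3) (Fin 3) F) ^ 2 = 1 := by
        rw [pow_two]
        ext i j
        fin_cases i <;> fin_cases j <;>
          simp [Matrix.mul_apply, Fin.sum_univ_three, h11]
      exact Subtype.ext hsq
  · -- order 3
    have hd : (0 : F) * 1 - 1 * 1 = 1 := by linear_combination (-1 : F) * h2
    refine ⟨affMk 0 1 1 1 0 0 hd, affMk_mem _ _ _ _ _ _ _, ?_⟩
    apply orderOf_eq_three
    · exact affMk_ne_one _ _ _ _ _ _ _ (Or.inl zero_ne_one)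
    · apply (aff_pow hF _ (affMk_mem _ _ _ _ _ _ _)).2.1
      simp [affMk]
  · -- order 4
    have hd : (1 : F) * 1 - 1 * 0 = 1 := by ring
    refine ⟨affMk 1 1 0 1 0 1 hd, affMk_mem _ _ _ _ _ _ _, ?_⟩
    apply orderOf_eq_four
    · intro heq
      have h02 : ((!![1, 1, 0; 0, 1, 1; 0, 0, 1] : Matrix (Fin 3) (Fin 3) F) ^ 2) 0 2 =
          (1 : Matrix (Fin 3) (Fin 3) F) 0 2 :=
        congrFun (congrFun (congrArg Subtype.val heq) 0) 2
      rw [pow_two] at h02
      simp [Matrix.mul_apply, Fin.sum_univ_three] at h02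
    · apply (aff_pow hF _ (affMk_mem _ _ _ _ _ _ _)).1
      simp [affMk, h11]
  · -- order 5
    obtain ⟨ω, hω⟩ := exists_omega hF
    have hd : (0 : F) * ω - 1 * 1 = 1 := by linear_combination (-1 : F) * h2
    refine ⟨affMk 0 1 1 ω 0 0 hd, affMk_mem _ _ _ _ _ _ _, ?_⟩
    apply orderOf_eq_five
    · exact affMk_ne_one _ _ _ _ _ _ _ (Or.inl zero_ne_one)
    · apply (aff_pow hF _ (affMk_mem _ _ _ _ _ _ _)).2.2
      simp [affMk, hω]

theorem range_orderOf_subgroup {G : Type*} [Group G] (K : Subgroup G) :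
    Set.range (orderOf : K → ℕ) = {n | ∃ x ∈ K, orderOf x = n} := by
  ext n
  constructor
  · rintro ⟨x, rfl⟩
    exact ⟨x.1, x.2, (Subgroup.orderOf_coe x)⟩
  · rintro ⟨x, hx, rfl⟩
    exact ⟨⟨x, hx⟩, (Subgroup.orderOf_coe ⟨x, hx⟩).symm⟩

theorem aff_spec {F : Type*} [Field F] [Fintype F] (hF : Fintype.card F = 4) :
    Set.range (orderOf : affSub F → ℕ) = ({1, 2, 3, 4, 5} : Set ℕ) := by
  rw [range_orderOf_subgroup]
  apply Set.Subset.antisymm
  · rintro n ⟨M, hM, rfl⟩
    exact mem_spec_of_pow _ (aff_pow_cases hF M hM)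
  · intro n hn
    exact aff_exists_orders hF n hn

end Cfsg.Agent.Lib.Helper58
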