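import Mathlib

set_option autoImplicit false

namespace Cfsg.Agent.Lib.Helper58

theorem two_ne_zero_zmod {p : ℕ} [Fact p.Prime] (hp : p ≠ 2) : (2 : ZMod p) ≠ 0 := by
  intro h
  have h1 : ((2 : ℕ) : ZMod p) = 0 := by exact_mod_cast h
  rw [ZMod.natCast_eq_zero_iff] at h1
  have hp' : p.Prime := Fact.out
  exact hp ((Nat.prime_dvd_prime_iff_eq hp' Nat.prime_two).mp h1)

/-- A permutation of a vector space over `ZMod p` (`p` odd) agreeing on every triple of points
with an affine map is itself affine. -/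
theorem affine_of_triples {p : ℕ} [Fact p.Prime] (hp : p ≠ 2) {V : Type*} [AddCommGroup V]
    [Module (ZMod p) V] (σ : Equiv.Perm V)
    (h : ∀ t : Fin 3 → V, ∃ (A : V ≃ₗ[ZMod p] V) (b : V), ∀ i, σ (t i) = A (t i) + b) :
    ∃ (A : V ≃ₗ[ZMod p] V) (b : V), ∀ x, σ x = A x + b := by
  have h2 : (2 : ZMod p) ≠ 0 := two_ne_zero_zmod hp
  -- homogeneity
  have hhom : ∀ (c : ZMod p) (x : V), σ (c • x) - σ 0 = c • (σ x - σ 0) := by
    intro c x
    obtain ⟨A, b, hA⟩ := h ![0, x, c • x]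
    have e0 : σ 0 = A 0 + b := hA 0
    have e1 : σ x = A x + b := hA 1
    have e2 : σ (c • x) = A (c • x) + b := hA 2
    rw [LinearEquiv.map_zero, zero_add] at e0
    rw [e2, e1, e0, LinearEquiv.map_smul]
    simp
  -- midpoints
  have hmid : ∀ x y : V, σ ((2 : ZMod p)⁻¹ • (x + y)) = (2 : ZMod p)⁻¹ • (σ x + σ y) := by
    intro x y
    obtain ⟨A, b, hA⟩ := h ![x, y, (2 : ZMod p)⁻¹ • (x + y)]
    have e0 : σ x = A x + b := hA 0
    have e1 : σ y = A y + b := hA 1
    have e2 : σ ((2 : ZMod p)⁻¹ • (x + y)) = A ((2 : ZMod p)⁻¹ • (x + y)) + b := hA 2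
    rw [e2, e0, e1, LinearEquiv.map_smul, LinearEquiv.map_add]
    have hb : b = (2 : ZMod p)⁻¹ • (b + b) := by
      rw [← two_smul (ZMod p) b, smul_smul, inv_mul_cancel₀ h2, one_smul]
    conv_lhs => rw [hb]
    rw [← smul_add]
    congr 1
    abel
  have hadd : ∀ x y : V, σ (x + y) - σ 0 = (σ x - σ 0) + (σ y - σ 0) := by
    intro x y
    have e1 : x + y = (2 : ZMod p) • ((2 : ZMod p)⁻¹ • (x + y)) := by
      rw [smul_smul, mul_inv_cancel₀ h2, one_smul]
    have e2 := hhom 2 ((2 : ZMod p)⁻¹ • (x + y))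
    rw [← e1, hmid, smul_sub, smul_smul, mul_inv_cancel₀ h2, one_smul, two_smul] at e2
    rw [e2]; abel
  let τ : V →ₗ[ZMod p] V :=
    { toFun := fun x => σ x - σ 0
      map_add' := hadd
      map_smul' := fun c x => by simpa using hhom c x }
  have hbij : Function.Bijective τ := by
    constructor
    · intro x y hxy
      have : σ x - σ 0 = σ y - σ 0 := hxy
      exact σ.injective (sub_left_injective this)
    · intro z
      obtain ⟨x, hx⟩ := σ.surjective (z + σ 0)
      exact ⟨x, by change σ x - σ 0 = z; rw [hx]; abel⟩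
  refine ⟨LinearEquiv.ofBijective τ hbij, σ 0, fun x => ?_⟩
  change σ x = (σ x - σ 0) + σ 0
  abel

end Cfsg.Agent.Lib.Helper58
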