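import Mathlib
import Cfsg.Agent.Lib.Helper89.TableChain2

/-!
# Centralisers by a search along a stabiliser chain

For a table-driven group with a verified stabiliser chain, `search` walks through the transversals of
the chain and discards a branch as soon as the images of two base points `b`, `s b` are not related
by `s`; at a leaf the element is a word, compared with a list of allowed words on the check points.
-/

set_option autoImplicit false

namespace Cfsg.Agent.Lib.Helper58.CentSearch

open Cfsg.Agent.Lib.Helper89 Cfsg.Agent.Lib.Helper89.TableChain2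

/-- a level of the chain: `(k, k', b, T)` -/
abbrev Lvl : Type := ℕ × ℕ × ℕ × List (List ℕ)

/-- compatibility of the new image `b ↦ c` with the known images -/
def compat (tab : ℕ → ℕ → ℕ) (sw : List ℕ) (seen : List (ℕ × ℕ)) (b c : ℕ) : Bool :=
  seen.all fun p =>
    (!(Nat.beq (act tab sw p.1) b) || Nat.beq (act tab sw p.2) c) &&
    (!(Nat.beq (act tab sw b) p.1) || Nat.beq (act tab sw c) p.2)

/-- the search -/
def search (tab : ℕ → ℕ → ℕ) (sw : List ℕ) (chk : List ℕ) (Z : List (List ℕ)) :
    ℕ → List Lvl → List ℕ → List (ℕ × ℕ) → Bool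
  | k, [], pre, _ => Nat.beq k 0 &&
      (Z.any (fun z => chk.all fun x => Nat.beq (act tab pre x) (act tab z x)) ||
       chk.any (fun x => !(Nat.beq (act tab (pre ++ sw) x) (act tab (sw ++ pre) x))))
  | k, (kL, k', b, T) :: Ls, pre, seen => Nat.beq k kL &&
      T.all fun t =>
        !(compat tab sw seen b (act tab pre (act tab t b))) ||
          search tab sw chk Z k' Ls (pre ++ t) ((b, act tab pre (act tab t b)) :: seen)

variable {G : Type*} [Group G] {α : Type*} [MulAction G α] [Finite G]

theorem search_sound (D : Data G α) (sw : List ℕ) (hsw : ∀ c ∈ sw, c < D.m) (Z : List (List ℕ))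
    (hZ : ∀ z ∈ Z, ∀ c ∈ z, c < D.m) :
    ∀ (Ls : List Lvl) (k : ℕ) (pre : List ℕ) (seen : List (ℕ × ℕ)),
      (∀ L ∈ Ls, ∃ E, Data.LevelOK D L.1 L.2.1 L.2.2.1 L.2.2.2 E) →
      (∀ c ∈ pre, c < D.m) →
      (∀ p ∈ seen, p.1 < D.N ∧ p.2 < D.N) →
      search D.tab sw D.chk Z k Ls pre seen = true →
      ∀ h ∈ D.H k, (∀ p ∈ seen, (D.ev pre * h) • D.pt p.1 = D.pt p.2) →
        Commute (D.ev pre * h) (D.ev sw) → ∃ z ∈ Z, D.ev pre * h = D.ev z := by
  intro Ls
  induction Ls with
  | nil =>
    intro k pre seen _ hpre _ hs h hh _ hcomm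
    unfold search at hs
    rw [Bool.and_eq_true] at hs
    obtain ⟨hk, hs⟩ := hs
    have hk0 : k = 0 := Nat.eq_of_beq_eq_true hk
    subst hk0
    rw [D.H_zero, Subgroup.mem_bot] at hh
    subst hh
    rw [mul_one] at hcomm ⊢
    rw [Bool.or_eq_true] at hs
    rcases hs with hs | hs
    · rw [List.any_eq_true] at hs
      obtain ⟨z, hz, hall⟩ := hs
      refine ⟨z, hz, ?_⟩
      apply D.ev_eq_of_act hpre (hZ z hz)
      intro x hx
      exact Nat.eq_of_beq_eq_true (List.all_eq_true.1 hall x hx)
    · exfalso
      rw [List.any_eq_true] at hs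
      obtain ⟨x, hx, hne⟩ := hs
      have hxN : x < D.N := D.chk_lt x hx
      have h1 : ∀ c ∈ pre ++ sw, c < D.m := by
        intro c hc
        rcases List.mem_append.1 hc with hc | hc
        · exact hpre c hc
        · exact hsw c hc
      have h2 : ∀ c ∈ sw ++ pre, c < D.m := by
        intro c hc
        rcases List.mem_append.1 hc with hc | hc
        · exact hsw c hc
        · exact hpre c hc
      have e1 : D.ev (pre ++ sw) = D.ev (sw ++ pre) := by
        rw [Data.ev_append, Data.ev_append]
        exact hcomm.eq
      have e2 := congrArg (fun g : G => g • D.pt x) e1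
      rw [D.ev_smul _ h1 x hxN, D.ev_smul _ h2 x hxN] at e2
      have e3 := D.pt_inj _ (D.act_lt _ h1 x hxN) _ (D.act_lt _ h2 x hxN) e2
      rw [e3] at hne
      simp at hne
  | cons L Ls ih =>
    intro k pre seen hL hpre hseen hs h hh hinv hcomm
    obtain ⟨kL, k', b, T⟩ := L
    unfold search at hs
    rw [Bool.and_eq_true] at hs
    obtain ⟨hk, hs⟩ := hs
    have hkk : k = kL := Nat.eq_of_beq_eq_true hk
    subst hkk
    obtain ⟨E, hOK⟩ := hL (k, k', b, T) List.mem_cons_self
    have hOK' : Data.LevelOK D k k' b T E := hOK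
    obtain ⟨a, h', hh', rfl⟩ := (hOK'.mem_H_iff h).1 hh
    set t := T.getD a.val [] with ht
    have htT : t ∈ T := by
      rw [ht, List.getD_eq_getElem _ _ a.isLt]
      exact List.getElem_mem _
    have htm : ∀ c ∈ t, c < D.m := hOK'.word_lt a.val a.isLt
    have hbN : b < D.N := hOK'.bN
    have hs' := List.all_eq_true.1 hs t htT
    set c := act D.tab pre (act D.tab t b) with hc
    have htb : act D.tab t b < D.N := D.act_lt t htm b hbN
    have hcN : c < D.N := D.act_lt pre hpre _ htb
    have hg : D.ev pre * (D.ev t * h') = D.ev (pre ++ t) * h' := by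
      rw [Data.ev_append, mul_assoc]
    -- the image of the base point
    have hgb : (D.ev pre * (D.ev t * h')) • D.pt b = D.pt c := by
      have h1 : h' • D.pt b = D.pt b := hOK'.le_stab hh'
      rw [mul_smul, mul_smul, h1, D.ev_smul t htm b hbN, D.ev_smul pre hpre _ htb]
    -- compatibility
    have hcompat : compat D.tab sw seen b c = true := by
      unfold compat
      rw [List.all_eq_true]
      intro p hp
      obtain ⟨hp1, hp2⟩ := hseen p hp
      have hgp := hinv p hp
      rw [Bool.and_eq_true]
      constructor
      · by_cases hb1 : act D.tab sw p.1 = b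
        · have e1 : D.ev sw • D.pt p.1 = D.pt b := by rw [D.ev_smul sw hsw p.1 hp1, hb1]
          have e2 : (D.ev pre * (D.ev t * h')) • D.pt b = D.pt (act D.tab sw p.2) := by
            rw [← e1, ← mul_smul, hcomm.eq, mul_smul, hgp, D.ev_smul sw hsw p.2 hp2]
          rw [hgb] at e2
          have e3 := D.pt_inj _ hcN _ (D.act_lt sw hsw p.2 hp2) e2
          rw [← e3]
          simp
        · have : Nat.beq (act D.tab sw p.1) b = false := by
            rw [Bool.eq_false_iff]
            intro h0
            exact hb1 (Nat.eq_of_beq_eq_true h0)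
          rw [this]
          rfl
      · by_cases hb1 : act D.tab sw b = p.1
        · have e1 : D.ev sw • D.pt b = D.pt p.1 := by rw [D.ev_smul sw hsw b hbN, hb1]
          have e2 : (D.ev pre * (D.ev t * h')) • D.pt p.1 = D.pt (act D.tab sw c) := by
            rw [← e1, ← mul_smul, hcomm.eq, mul_smul, hgb, D.ev_smul sw hsw c hcN]
          rw [hgp] at e2
          have e3 := D.pt_inj _ hp2 _ (D.act_lt sw hsw c hcN) e2
          rw [← e3]
          simp
        · have : Nat.beq (act D.tab sw b) p.1 = false := by
            rw [Bool.eq_false_iff]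
            intro h0
            exact hb1 (Nat.eq_of_beq_eq_true h0)
          rw [this]
          rfl
    rw [hcompat] at hs'
    simp only [Bool.not_true, Bool.false_or] at hs'
    rw [hg] at hinv hcomm ⊢ 
    rw [hg] at hgb
    apply ih k' (pre ++ t) ((b, c) :: seen) (fun L hL' => hL L (List.mem_cons_of_mem _ hL'))
      (by
        intro c' hc'
        rcases List.mem_append.1 hc' with hc' | hc'
        · exact hpre c' hc'
        · exact htm c' hc')
      (by
        intro p hp
        rcases List.mem_cons.1 hp with rfl | hp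
        · exact ⟨hbN, hcN⟩
        · exact hseen p hp)
      hs' h' hh'
      (by
        intro p hp
        rcases List.mem_cons.1 hp with rfl | hp
        · exact hgb
        · exact hinv p hp)
      hcomm

end Cfsg.Agent.Lib.Helper58.CentSearch
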