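import Mathlib
import Cfsg.Agent.Lib.Helper89.TableChain2

/-!
# Small tools for words in a table-driven group: powers, nontriviality
-/

set_option autoImplicit false

namespace Cfsg.Agent.Lib.Helper58.EvTools

open Cfsg.Agent.Lib.Helper89 Cfsg.Agent.Lib.Helper89.TableChain2

variable {G : Type*} [Group G] {α : Type*} [MulAction G α] (D : Data G α)

theorem ev_pow (w : List ℕ) (n : ℕ) : D.ev ((List.replicate n w).flatten) = (D.ev w) ^ n := by
  induction n with
  | zero => simp [Data.ev_nil]
  | succ n ih =>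
    rw [List.replicate_succ, List.flatten_cons, Data.ev_append, ih, pow_succ']

theorem flatten_lt (w : List ℕ) (n : ℕ) (hw : ∀ c ∈ w, c < D.m) :
    ∀ c ∈ (List.replicate n w).flatten, c < D.m := by
  intro c hc
  rw [List.mem_flatten] at hc
  obtain ⟨l, hl, hcl⟩ := hc
  rw [List.eq_of_mem_replicate hl] at hcl
  exact hw c hcl

/-- a word whose power acts trivially on the check points -/
theorem pow_eq_one (w : List ℕ) (n : ℕ) (hw : ∀ c ∈ w, c < D.m)
    (h : D.chk.all (fun x => Nat.beq (act D.tab ((List.replicate n w).flatten) x) x) = true) :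
    (D.ev w) ^ n = 1 := by
  rw [← ev_pow, ← Data.ev_nil (D := D)]
  apply D.ev_eq_of_act (flatten_lt D w n hw) (by simp)
  intro x hx
  rw [act_nil]
  exact Nat.eq_of_beq_eq_true (List.all_eq_true.1 h x hx)

/-- a word whose power moves a check point -/
theorem pow_ne_one (w : List ℕ) (n : ℕ) (hw : ∀ c ∈ w, c < D.m)
    (h : D.chk.any (fun x => !(Nat.beq (act D.tab ((List.replicate n w).flatten) x) x)) = true) :
    (D.ev w) ^ n ≠ 1 := by
  intro h1
  rw [List.any_eq_true] at h
  obtain ⟨x, hx, hne⟩ := h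
  have hxN := D.chk_lt x hx
  rw [← ev_pow] at h1
  have h2 := congrArg (fun g : G => g • D.pt x) h1
  simp only [one_smul] at h2
  rw [D.ev_smul _ (flatten_lt D w n hw) x hxN] at h2
  have h3 := D.pt_inj _ (D.act_lt _ (flatten_lt D w n hw) x hxN) _ hxN h2
  rw [h3] at hne
  simp at hne

end Cfsg.Agent.Lib.Helper58.EvTools
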