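import Mathlib

set_option autoImplicit false

namespace Cfsg.Agent.Lib.Helper58

open MulAction Subgroup

section Counting

variable {G : Type*} [Group G] {Ω : Type*} [MulAction G Ω]

theorem orbit_subgroup_eq (S : Subgroup G) (v : Ω) :
    orbit S v = {u : Ω | ∃ h ∈ S, h • v = u} := by
  ext u
  constructor
  · rintro ⟨⟨h, hh⟩, rfl⟩
    exact ⟨h, hh, rfl⟩
  · rintro ⟨h, hh, rfl⟩
    exact ⟨⟨h, hh⟩, rfl⟩

theorem card_orbit_subgroup (S : Subgroup G) (v : Ω) :
    Nat.card (orbit S v) = (stabilizer G v).relIndex S := by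
  rw [Nat.card_congr (orbitEquivQuotientStabilizer S v)]
  have h2 : stabilizer S v = (stabilizer G v).subgroupOf S := by
    ext ⟨x, hx⟩
    simp [mem_stabilizer_iff, mem_subgroupOf]
  rw [h2]
  rfl

theorem relIndex_mul_card_inf [Finite G] (H K : Subgroup G) :
    Nat.card (H ⊓ K : Subgroup G) * H.relIndex K = Nat.card K := by
  rw [← relIndex_bot_left, ← relIndex_bot_left, ← inf_relIndex_right H K]
  exact relIndex_mul_relIndex _ _ _ bot_le inf_le_right

theorem card_stabilizer_eq [Finite G] [IsPretransitive G Ω] (a b : Ω) :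
    Nat.card (stabilizer G a) = Nat.card (stabilizer G b) := by
  obtain ⟨g, rfl⟩ := exists_smul_eq G a b
  rw [stabilizer_smul_eq_stabilizer_map_conj]
  exact Nat.card_congr
    ((stabilizer G a).equivMapOfInjective _ (MulAut.conj g).injective).toEquiv

theorem card_orbit_stabilizer_swap [Finite G] [IsPretransitive G Ω] (a b : Ω) :
    Nat.card (orbit (stabilizer G a) b) = Nat.card (orbit (stabilizer G b) a) := by
  rw [card_orbit_subgroup, card_orbit_subgroup]
  have h1 := relIndex_mul_card_inf (stabilizer G b) (stabilizer G a)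
  have h2 := relIndex_mul_card_inf (stabilizer G a) (stabilizer G b)
  rw [inf_comm] at h2
  have h3 := card_stabilizer_eq (G := G) a b
  have hpos : 0 < Nat.card (stabilizer G b ⊓ stabilizer G a : Subgroup G) := Nat.card_pos
  apply Nat.eq_of_mul_eq_mul_left hpos
  rw [h1, h2, h3]

end Counting


section Manning

variable {G : Type*} [Group G] {Ω : Type*} [MulAction G Ω]

/-- The pointwise stabiliser in `G_α` of the `G_α`-orbit of `ω`. -/
def kerOn (G : Type*) [Group G] {Ω : Type*} [MulAction G Ω] (α ω : Ω) : Subgroup G where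
  carrier := {k | k ∈ stabilizer G α ∧ ∀ y ∈ orbit (stabilizer G α) ω, k • y = y}
  one_mem' := ⟨one_mem _, fun y _ => one_smul _ y⟩
  mul_mem' := fun {a b} ha hb =>
    ⟨mul_mem ha.1 hb.1, fun y hy => by rw [mul_smul, hb.2 y hy, ha.2 y hy]⟩
  inv_mem' := fun {a} ha => ⟨inv_mem ha.1, fun y hy => by rw [inv_smul_eq_iff, ha.2 y hy]⟩

theorem mem_kerOn {α ω : Ω} {k : G} :
    k ∈ kerOn G α ω ↔ k ∈ stabilizer G α ∧ ∀ y ∈ orbit (stabilizer G α) ω, k • y = y := Iff.rfl

theorem mem_orbit_stab {α ω y : Ω} :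
    y ∈ orbit (stabilizer G α) ω ↔ ∃ g ∈ stabilizer G α, g • ω = y := by
  rw [orbit_subgroup_eq]; rfl

theorem smul_mem_orbit_stab {α ω y : Ω} {g : G} (hg : g ∈ stabilizer G α)
    (hy : y ∈ orbit (stabilizer G α) ω) : g • y ∈ orbit (stabilizer G α) ω := by
  rw [mem_orbit_stab] at hy ⊢
  obtain ⟨g', hg', rfl⟩ := hy
  exact ⟨g * g', mul_mem hg hg', mul_smul _ _ _⟩

theorem kerOn_conj {α ω : Ω} {g k : G} (hg : g ∈ stabilizer G α) (hk : k ∈ kerOn G α ω) :
    g * k * g⁻¹ ∈ kerOn G α ω := by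
  refine ⟨mul_mem (mul_mem hg hk.1) (inv_mem hg), fun y hy => ?_⟩
  have h1 : g⁻¹ • y ∈ orbit (stabilizer G α) ω := smul_mem_orbit_stab (inv_mem hg) hy
  rw [mul_smul, mul_smul, hk.2 _ h1, smul_inv_smul]

theorem kerOn_le_normalizer {α ω : Ω} :
    stabilizer G α ≤ normalizer (kerOn G α ω : Set G) := by
  intro g hg
  rw [mem_normalizer_iff]
  intro k
  constructor
  · intro hk
    exact kerOn_conj hg hk
  · intro hk
    have := kerOn_conj (inv_mem hg) hk
    simpa [mul_assoc] using this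


/-- In-neighbourhood of `θ` in the orbital of `(α, ω)`. -/
def inNbr (G : Type*) [Group G] {Ω : Type*} [MulAction G Ω] (α ω θ : Ω) : Set Ω :=
  {γ | ∃ g : G, g • α = γ ∧ g • ω = θ}

theorem mem_inNbr_smul {α ω θ γ : Ω} (g : G) :
    γ ∈ inNbr G α ω (g • θ) ↔ g⁻¹ • γ ∈ inNbr G α ω θ := by
  constructor
  · rintro ⟨g', h1, h2⟩
    exact ⟨g⁻¹ * g', by rw [mul_smul, h1], by rw [mul_smul, h2, inv_smul_smul]⟩
  · rintro ⟨g', h1, h2⟩
    exact ⟨g * g', by rw [mul_smul, h1, smul_inv_smul], by rw [mul_smul, h2]⟩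

theorem inNbr_self_eq {α ω : Ω} : inNbr G α ω ω = orbit (stabilizer G ω) α := by
  ext γ
  rw [mem_orbit_stab]
  constructor
  · rintro ⟨g, h1, h2⟩
    exact ⟨g, h2, h1⟩
  · rintro ⟨g, h1, h2⟩
    exact ⟨g, h2, h1⟩

theorem card_inNbr [Finite G] [IsPretransitive G Ω] (α ω θ : Ω) :
    Nat.card (inNbr G α ω θ) = Nat.card (orbit (stabilizer G α) ω) := by
  obtain ⟨g, rfl⟩ := exists_smul_eq G ω θ
  rw [← card_orbit_stabilizer_swap ω α, ← inNbr_self_eq]
  refine Nat.card_congr ⟨fun γ => ⟨g⁻¹ • γ.1, (mem_inNbr_smul g).mp γ.2⟩,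
    fun γ => ⟨g • γ.1, (mem_inNbr_smul g).mpr (by rw [inv_smul_smul]; exact γ.2)⟩, ?_, ?_⟩
  · intro γ; simp
  · intro γ; simp


theorem kerOn_fix_next [Finite G] [Finite Ω] (hprim : IsPreprimitive G Ω)
    (hep : ∀ (α ω : Ω), IsPreprimitive (stabilizer G α) (orbit (stabilizer G α) ω))
    {α ω : Ω} (hω : ω ≠ α) {x : G} (hx : x • α = ω) {k : G} (hk : k ∈ kerOn G α ω) {y : Ω}
    (hy : y ∈ orbit (stabilizer G α) ω) : k • (x • y) = x • y := by
  by_contra hne
  have hωD : ω ∈ orbit (stabilizer G α) ω := mem_orbit_self _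
  -- (3a) the kernel is transitive on the orbit of δ
  have htrans : ∀ θ ∈ orbit (stabilizer G α) (x • y), ∃ k' ∈ kerOn G α ω, k' • (x • y) = θ := by
    intro θ hθ
    have hnorm : ((kerOn G α ω).subgroupOf (stabilizer G α)).Normal :=
      Subgroup.normal_subgroupOf_of_le_normalizer kerOn_le_normalizer
    have hq : IsQuasiPreprimitive (stabilizer G α) (orbit (stabilizer G α) (x • y)) :=
      @IsPreprimitive.isQuasiPreprimitive _ _ _ _ (hep α (x • y))
    have hfp : fixedPoints ((kerOn G α ω).subgroupOf (stabilizer G α))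
        (orbit (stabilizer G α) (x • y)) ≠ Set.univ := by
      intro huniv
      have hmem : (⟨x • y, mem_orbit_self _⟩ : orbit (stabilizer G α) (x • y)) ∈
          fixedPoints ((kerOn G α ω).subgroupOf (stabilizer G α))
            (orbit (stabilizer G α) (x • y)) := by
        rw [huniv]; exact Set.mem_univ _
      rw [mem_fixedPoints] at hmem
      have h1 := hmem ⟨⟨k, hk.1⟩, hk⟩
      exact hne (congrArg Subtype.val h1)
    have hpt := hq.isPretransitive_of_normal hfp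
    obtain ⟨n, hn⟩ := hpt.exists_smul_eq (⟨x • y, mem_orbit_self _⟩ :
      orbit (stabilizer G α) (x • y)) ⟨θ, hθ⟩
    exact ⟨n.1.1, n.2, congrArg Subtype.val hn⟩
  -- (3b) the kernel preserves x • D
  have hpres : ∀ k' ∈ kerOn G α ω, ∀ y' ∈ orbit (stabilizer G α) ω,
      ∃ y'' ∈ orbit (stabilizer G α) ω, k' • (x • y') = x • y'' := by
    intro k' hk' y' hy'
    refine ⟨(x⁻¹ * k' * x) • y', smul_mem_orbit_stab ?_ hy', ?_⟩
    · rw [mem_stabilizer_iff, mul_smul, mul_smul, hx, hk'.2 ω hωD, ← hx, inv_smul_smul]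
    · rw [mul_smul, mul_smul, smul_inv_smul]
  have hΘ : ∀ θ ∈ orbit (stabilizer G α) (x • y), ∃ y' ∈ orbit (stabilizer G α) ω,
      θ = x • y' := by
    intro θ hθ
    obtain ⟨k', hk', rfl⟩ := htrans θ hθ
    obtain ⟨y'', hy'', h⟩ := hpres k' hk' y hy
    exact ⟨y'', hy'', h⟩
  -- (3d) D ⊆ inNbr θ for θ in the orbit of δ
  have hsub : ∀ θ ∈ orbit (stabilizer G α) (x • y),
      orbit (stabilizer G α) ω ⊆ inNbr G α ω θ := by
    intro θ hθ β' hβ'
    obtain ⟨g, hg, rfl⟩ := mem_orbit_stab.mp hβ'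
    have hθ' : g⁻¹ • θ ∈ orbit (stabilizer G α) (x • y) := smul_mem_orbit_stab (inv_mem hg) hθ
    obtain ⟨y', hy', h⟩ := hΘ _ hθ'
    obtain ⟨g', hg', rfl⟩ := mem_orbit_stab.mp hy'
    refine ⟨g * x * g', ?_, ?_⟩
    · rw [mul_smul, mul_smul, mem_stabilizer_iff.mp hg', hx]
    · rw [mul_smul, mul_smul, ← h, smul_inv_smul]
  have heq : ∀ θ ∈ orbit (stabilizer G α) (x • y),
      inNbr G α ω θ = orbit (stabilizer G α) ω := by
    intro θ hθ
    have hfin : (inNbr G α ω θ).Finite := Set.toFinite _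
    refine (Set.eq_of_subset_of_ncard_le (hsub θ hθ) ?_ hfin).symm
    rw [← Nat.card_coe_set_eq, ← Nat.card_coe_set_eq, card_inNbr]
  -- (3e) the block
  have hblock : IsBlock G {θ : Ω | inNbr G α ω θ = orbit (stabilizer G α) ω} := by
    rw [isBlock_iff_smul_eq_of_mem]
    intro g a ha hga
    simp only [Set.mem_ofPred_eq] at ha hga
    have hgD : ∀ γ, γ ∈ orbit (stabilizer G α) ω ↔ g⁻¹ • γ ∈ orbit (stabilizer G α) ω := by
      intro γ
      have h0 : γ ∈ inNbr G α ω (g • a) ↔ g⁻¹ • γ ∈ inNbr G α ω a := mem_inNbr_smul g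
      rw [hga, ha] at h0
      exact h0
    ext θ
    rw [Set.mem_smul_set_iff_inv_smul_mem]
    simp only [Set.mem_ofPred_eq]
    constructor
    · intro h
      ext γ
      rw [hgD γ, ← h, ← mem_inNbr_smul, smul_inv_smul]
    · intro h
      ext γ
      have h2 : γ ∈ inNbr G α ω (g⁻¹ • θ) ↔ g • γ ∈ inNbr G α ω θ := by
        rw [mem_inNbr_smul, inv_inv]
      rw [h2, h, hgD (g • γ), inv_smul_smul]
  rcases hprim.isTrivialBlock_of_isBlock hblock with hsing | huniv
  · have h1 : x • y ∈ {θ : Ω | inNbr G α ω θ = orbit (stabilizer G α) ω} :=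
      heq _ (mem_orbit_self _)
    have h2 : k • (x • y) ∈ {θ : Ω | inNbr G α ω θ = orbit (stabilizer G α) ω} :=
      heq _ (smul_mem_orbit_stab hk.1 (mem_orbit_self _))
    exact hne (hsing h2 h1)
  · -- then D is G-invariant, so contains α
    have hall : ∀ θ, inNbr G α ω θ = orbit (stabilizer G α) ω := by
      intro θ
      have : θ ∈ {θ : Ω | inNbr G α ω θ = orbit (stabilizer G α) ω} := by
        rw [huniv]; exact Set.mem_univ _
      exact this
    have := hprim.toIsPretransitive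
    obtain ⟨g, hg⟩ := exists_smul_eq G ω α
    have h3 : g⁻¹ • α = ω := by rw [← hg, inv_smul_smul]
    have h1 : α ∈ inNbr G α ω (g • ω) := by
      rw [mem_inNbr_smul, hall, h3]; exact hωD
    rw [hall] at h1
    obtain ⟨g', hg', h2⟩ := mem_orbit_stab.mp h1
    exact hω (smul_left_cancel g' (h2.trans (mem_stabilizer_iff.mp hg').symm))


/-- **Manning's theorem** on extremely primitive groups: the point stabiliser acts faithfully
on each of its nontrivial orbits. -/
theorem manning [Finite G] [Finite Ω] [FaithfulSMul G Ω] (hprim : IsPreprimitive G Ω)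
    (hep : ∀ (α ω : Ω), IsPreprimitive (stabilizer G α) (orbit (stabilizer G α) ω))
    {α ω : Ω} (hω : ω ≠ α) : kerOn G α ω = ⊥ := by
  have := hprim.toIsPretransitive
  obtain ⟨x, hx⟩ := exists_smul_eq G α ω
  have hωD : ω ∈ orbit (stabilizer G α) ω := mem_orbit_self _
  have hconj : ∀ k, k ∈ (kerOn G α ω : Set G) → x⁻¹ * k * x⁻¹⁻¹ ∈ (kerOn G α ω : Set G) := by
    intro k hk
    rw [inv_inv]
    refine ⟨?_, fun y hy => ?_⟩
    · rw [mem_stabilizer_iff, mul_smul, mul_smul, hx, hk.2 ω hωD, ← hx, inv_smul_smul]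
    · rw [mul_smul, mul_smul, kerOn_fix_next hprim hep hω hx hk hy, inv_smul_smul]
  have hxN : x⁻¹ ∈ normalizer (kerOn G α ω : Set G) := mem_normalizer_fintype hconj
  have hxN' : x ∈ normalizer (kerOn G α ω : Set G) := by simpa using inv_mem hxN
  have hnt : Nontrivial Ω := ⟨⟨ω, α, hω⟩⟩
  have hco : IsCoatom (stabilizer G α) :=
    IsPreprimitive.isCoatom_stabilizer_of_isPreprimitive (G := G) (X := Ω) α
  have hx_notin : x ∉ stabilizer G α := by
    intro h
    rw [mem_stabilizer_iff] at h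
    exact hω (hx.symm.trans h)
  have htop : normalizer (kerOn G α ω : Set G) = ⊤ := by
    rcases hco.le_iff.mp (kerOn_le_normalizer (ω := ω)) with h | h
    · exact h
    · exact absurd (h ▸ hxN') hx_notin
  have hn : (kerOn G α ω).Normal := normalizer_eq_top_iff.mp htop
  rw [Subgroup.eq_bot_iff_forall]
  intro k hk
  apply FaithfulSMul.eq_of_smul_eq_smul (α := Ω)
  intro γ
  obtain ⟨g, rfl⟩ := exists_smul_eq G α γ
  have h1 : g⁻¹ * k * g⁻¹⁻¹ ∈ kerOn G α ω := hn.conj_mem k hk g⁻¹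
  have h2 := mem_stabilizer_iff.mp h1.1
  rw [inv_inv, mul_smul, mul_smul, inv_smul_eq_iff] at h2
  rw [h2, one_smul]

end Manning

end Cfsg.Agent.Lib.Helper58
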