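import Mathlib
import Cfsg.Agent.Lib.Helper58.Manning

set_option autoImplicit false
set_option linter.style.haveILetI false

namespace Cfsg.Agent.Lib.Helper58


open MulAction

section LemmaA

variable {H : Type*} [Group H] {Δ : Type*} [MulAction H Δ] [FaithfulSMul H Δ]

/-- An element commuting with a transitive subgroup and fixing a point is trivial. -/
theorem eq_one_of_commute_of_fix (A : Subgroup H) [IsPretransitive A Δ] (c : H)
    (hc : ∀ a ∈ A, c * a = a * c) (δ : Δ) (hδ : c • δ = δ) : c = 1 := by
  apply FaithfulSMul.eq_of_smul_eq_smul (α := Δ)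
  intro δ'
  obtain ⟨a, ha⟩ := exists_smul_eq A δ δ'
  have ha' : (a : H) • δ = δ' := ha
  rw [one_smul, ← ha', ← mul_smul, hc a a.2, mul_smul, hδ]

theorem abelian_normal_regular (hprim : IsPreprimitive H Δ) (A : Subgroup H) [A.Normal]
    (hAc : IsMulCommutative A) (hA : A ≠ ⊥) :
    IsPretransitive A Δ ∧ (∀ δ : Δ, stabilizer A δ = ⊥) ∧
      Subgroup.centralizer (A : Set H) ≤ A := by
  have hcomm : ∀ a ∈ A, ∀ b ∈ A, a * b = b * a := by
    intro a ha b hb
    have := hAc.is_comm.comm (⟨a, ha⟩ : A) ⟨b, hb⟩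
    exact congrArg Subtype.val this
  have hfix : fixedPoints A Δ ≠ Set.univ := by
    intro hfp
    apply hA
    rw [Subgroup.eq_bot_iff_forall]
    intro a ha
    apply FaithfulSMul.eq_of_smul_eq_smul (α := Δ)
    intro δ
    have : δ ∈ fixedPoints A Δ := by rw [hfp]; trivial
    rw [one_smul]
    exact this ⟨a, ha⟩
  haveI htr : IsPretransitive A Δ := IsQuasiPreprimitive.isPretransitive_of_normal hfix
  refine ⟨htr, ?_, ?_⟩
  · intro δ
    rw [Subgroup.eq_bot_iff_forall]
    intro a ha
    have h1 : (a : H) = 1 := eq_one_of_commute_of_fix A (a : H)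
      (fun b hb => hcomm _ a.2 _ hb) δ ha
    exact Subtype.ext h1
  · intro c hc
    rw [Subgroup.mem_centralizer_iff] at hc
    obtain ⟨δ, -⟩ := (Set.ne_univ_iff_exists_notMem _).mp hfix
    obtain ⟨a, ha⟩ := exists_smul_eq A δ (c • δ)
    have ha' : (a : H) • δ = c • δ := ha
    have h1 : (a : H)⁻¹ * c = 1 := by
      apply eq_one_of_commute_of_fix A _ _ δ
      · rw [mul_smul, ← ha', inv_smul_smul]
      · intro b hb
        have h2 : b * c = c * b := hc b hb
        have h3 : (a : H)⁻¹ * b = b * (a : H)⁻¹ := hcomm _ (A.inv_mem a.2) _ hb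
        rw [mul_assoc, ← h2, ← mul_assoc, h3, mul_assoc]
    have : c = a := by
      rw [inv_mul_eq_one] at h1
      exact h1.symm
    rw [this]
    exact a.2

omit [FaithfulSMul H Δ] in
/-- A regular subgroup has the cardinality of the set. -/
theorem card_eq_of_regular (A : Subgroup H) (htr : IsPretransitive A Δ)
    (hreg : ∀ δ : Δ, stabilizer A δ = ⊥) (δ : Δ) : Nat.card A = Nat.card Δ := by
  have hbij : Function.Bijective (fun a : A => a • δ) := by
    constructor
    · intro a b hab
      have hab' : a • δ = b • δ := hab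
      have : a⁻¹ * b ∈ stabilizer A δ := by
        rw [mem_stabilizer_iff, mul_smul, ← hab', inv_smul_smul]
      rw [hreg δ, Subgroup.mem_bot] at this
      exact inv_mul_eq_one.mp this
    · intro δ'
      exact exists_smul_eq A δ δ'
  exact Nat.card_congr (Equiv.ofBijective _ hbij)

end LemmaA




theorem card_dvd_card_sub_one {K : Type*} [Group K] [Finite K] {Ω : Type*} [Fintype Ω]
    [MulAction K Ω] (α : Ω) (hα : ∀ k : K, k • α = α)
    (hfree : ∀ ω : Ω, ω ≠ α → ∀ k : K, k • ω = ω → k = 1) :
    Nat.card K ∣ Fintype.card Ω - 1 := by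
  classical
  haveI : Fintype K := Fintype.ofFinite K
  have hB := sum_card_fixedBy_eq_card_orbits_mul_card_group K Ω
  have h1 : ∀ k : K, Fintype.card (fixedBy Ω k) = if k = 1 then Fintype.card Ω else 1 := by
    intro k
    split_ifs with hk
    · subst hk
      have : fixedBy Ω (1 : K) = Set.univ := by
        ext ω; simp
      simp [this]
    · have : fixedBy Ω k = {α} := by
        ext ω
        simp only [mem_fixedBy, Set.mem_singleton_iff]
        constructor
        · intro h
          by_contra hne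
          exact hk (hfree ω hne k h)
        · rintro rfl; exact hα k
      simp [this]
  simp_rw [h1] at hB
  rw [Finset.sum_ite, Finset.sum_const, Finset.sum_const] at hB
  have h2 : (Finset.univ.filter (fun k : K => k = 1)).card = 1 := by
    rw [Finset.card_eq_one]; exact ⟨1, by ext; simp⟩
  have h3 : (Finset.univ.filter (fun k : K => ¬ k = 1)).card = Fintype.card K - 1 := by
    rw [Finset.filter_not, Finset.card_sdiff_of_subset (Finset.filter_subset _ _), h2,
      Finset.card_univ]
  rw [h2, h3] at hB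
  simp only [smul_eq_mul, one_mul, mul_one] at hB
  have hKpos : 0 < Fintype.card K := Fintype.card_pos
  have hΩpos : 0 < Fintype.card Ω := Fintype.card_pos_iff.mpr ⟨α⟩
  rw [Nat.card_eq_fintype_card]
  have h4 : Fintype.card K ∣ Fintype.card Ω + (Fintype.card K - 1) := ⟨_, by rw [hB, mul_comm]⟩
  have h5 : Fintype.card Ω + (Fintype.card K - 1) = (Fintype.card Ω - 1) + Fintype.card K := by
    omega
  rw [h5] at h4
  exact (Nat.dvd_add_left (dvd_refl _)).mp h4



theorem prime_card_of_bot_isCoatom {H : Type*} [Group H] [Finite H]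
    (hcomm : ∀ a b : H, a * b = b * a)
    (hco : IsCoatom (⊥ : Subgroup H)) : (Nat.card H).Prime := by
  letI : CommGroup H := { ‹Group H› with mul_comm := hcomm }
  haveI : Nontrivial H := by
    by_contra hnt
    rw [not_nontrivial_iff_subsingleton] at hnt
    exact hco.1 (Subsingleton.elim _ _)
  haveI : IsSimpleGroup H := ⟨fun K _ => by
    by_cases hK : K = ⊥
    · exact Or.inl hK
    · exact Or.inr (hco.2 K (bot_lt_iff_ne_bot.mpr hK))⟩
  exact IsSimpleGroup.prime_card



theorem exists_glHom_module (p : ℕ) [Fact p.Prime] {V : Type*} [AddCommGroup V]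
    [Module (ZMod p) V] [Finite V] (e : ℕ) (hcard : Nat.card V = p ^ e)
    {H : Type*} [Group H] (ρ : H →* AddMonoid.End V) :
    ∃ φ : H →* GL (Fin e) (ZMod p), φ.ker = ρ.ker := by
  have hp : p.Prime := Fact.out
  haveI : Module.Finite (ZMod p) V := Module.Finite.of_finite
  have hfr : Module.finrank (ZMod p) V = e := by
    have h1 : Nat.card V = Nat.card (ZMod p) ^ Module.finrank (ZMod p) V :=
      Module.natCard_eq_pow_finrank
    rw [Nat.card_zmod, hcard] at h1
    exact (Nat.pow_right_injective hp.two_le h1).symm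
  let b : Module.Basis (Fin e) (ZMod p) V := Module.finBasisOfFinrankEq _ _ hfr
  let g : H →* Module.End (ZMod p) V :=
    { toFun := fun h => AddMonoidHom.toZModLinearMap p (ρ h)
      map_one' := by ext v; rw [map_one]; rfl
      map_mul' := by intro x y; ext v; rw [map_mul]; rfl }
  let f : H →* Matrix (Fin e) (Fin e) (ZMod p) :=
    ((LinearMap.toMatrixAlgEquiv b : Module.End (ZMod p) V ≃ₐ[ZMod p] _) : _ →* _).comp g
  refine ⟨f.toHomUnits, ?_⟩
  ext h
  rw [MonoidHom.mem_ker, MonoidHom.mem_ker, Units.ext_iff, MonoidHom.coe_toHomUnits]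
  show (LinearMap.toMatrixAlgEquiv b) (g h) = 1 ↔ _
  rw [← map_one (LinearMap.toMatrixAlgEquiv b), (LinearMap.toMatrixAlgEquiv b).injective.eq_iff]
  constructor
  · intro hg
    ext v
    have := congrArg (fun L : Module.End (ZMod p) V => L v) hg
    exact this
  · intro hρ
    ext v
    show ρ h v = v
    rw [hρ]; rfl

theorem exists_glHom (p : ℕ) [Fact p.Prime] {M : Type*} [CommGroup M] [Finite M]
    (hexp : ∀ x : M, x ^ p = 1) (e : ℕ) (hcard : Nat.card M = p ^ e)
    {H : Type*} [Group H] (ρ : H →* MulAut M) :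
    ∃ φ : H →* GL (Fin e) (ZMod p), φ.ker = ρ.ker := by
  letI : Module (ZMod p) (Additive M) := AddCommGroup.zmodModule (n := p) (by
    intro x
    exact congrArg Additive.ofMul (hexp x.toMul))
  let g : H →* AddMonoid.End (Additive M) :=
    { toFun := fun h => MonoidHom.toAdditive (ρ h).toMonoidHom
      map_one' := by ext v; rw [map_one]; rfl
      map_mul' := by intro x y; ext v; rw [map_mul]; rfl }
  obtain ⟨φ, hφ⟩ := exists_glHom_module p (V := Additive M) e hcard g
  refine ⟨φ, ?_⟩
  rw [hφ]
  ext h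
  rw [MonoidHom.mem_ker, MonoidHom.mem_ker]
  constructor
  · intro hg
    ext x
    have := congrArg (fun L : AddMonoid.End (Additive M) => (L (Additive.ofMul x)).toMul) hg
    exact this
  · intro hρ
    ext v
    show Additive.ofMul (ρ h v.toMul) = v
    rw [hρ]; rfl


section FaithfulOrbit

variable {G : Type*} [Group G] {Ω : Type*} [MulAction G Ω]

/-- Consequence of Manning's theorem: in an extremely primitive group the point stabiliser acts
faithfully on each of its non-trivial orbits. -/
theorem faithful_on_orbit [Finite G] [Finite Ω] [FaithfulSMul G Ω] (hprim : IsPreprimitive G Ω)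
    (hep : ∀ (α ω : Ω), IsPreprimitive (stabilizer G α) (orbit (stabilizer G α) ω))
    {α ω : Ω} (hω : ω ≠ α) :
    FaithfulSMul (stabilizer G α) (orbit (stabilizer G α) ω) := by
  refine ⟨fun {h1 h2} hh => ?_⟩
  have hk : ((h2⁻¹ * h1 : stabilizer G α) : G) ∈ kerOn G α ω := by
    refine ⟨(h2⁻¹ * h1).2, fun y hy => ?_⟩
    have h3 := congrArg Subtype.val (hh ⟨y, hy⟩)
    have h4 : (h1 : G) • y = (h2 : G) • y := h3
    show ((h2⁻¹ * h1 : stabilizer G α) : G) • y = y
    rw [Subgroup.coe_mul, mul_smul, h4, Subgroup.coe_inv, inv_smul_smul]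
  rw [manning hprim hep hω, Subgroup.mem_bot] at hk
  have : h2⁻¹ * h1 = 1 := Subtype.ext hk
  exact (inv_mul_eq_one.mp this).symm

end FaithfulOrbit

end Cfsg.Agent.Lib.Helper58
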