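import Mathlib
import Cfsg.Agent.Lib.Helper89.TableChain2

/-!
# A level certificate for a stabiliser chain with packed words

Words are packed in natural numbers, four bits per letter; all loops are `Nat.rec` on a literal, and no long
list is indexed.  The outcome is a `Data.LevelOK` of helper89's `TableChain2`.
-/

set_option autoImplicit false

namespace Cfsg.Agent.Lib.Helper58.FastChain

open Cfsg.Agent.Lib.Helper89 Cfsg.Agent.Lib.Helper89.TableChain2

/-- the `i`-th letter of a packed word -/
def letter (c i : ℕ) : ℕ := Nat.land (Nat.shiftRight c (Nat.mul 4 i)) 15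

/-- the action of a packed word of length `ℓ` -/
def actP (tab : ℕ → ℕ → ℕ) (c ℓ x : ℕ) : ℕ :=
  Nat.rec (motive := fun _ => ℕ) x (fun i r => tab (letter c i) r) ℓ

/-- the packed word as a list -/
def wordP (c ℓ : ℕ) : List ℕ :=
  Nat.rec (motive := fun _ => List ℕ) [] (fun i r => letter c i :: r) ℓ

/-- all letters are below `k` -/
def lettersLt (k c ℓ : ℕ) : Bool :=
  Nat.rec (motive := fun _ => Bool) true (fun i r => Nat.blt (letter c i) k && r) ℓ

/-- a predicate on a range -/
def rangeAll (lo len : ℕ) (p : ℕ → Bool) : Bool :=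
  Nat.rec (motive := fun _ => Bool) true (fun i r => p (Nat.add lo i) && r) len

theorem actP_zero (tab : ℕ → ℕ → ℕ) (c x : ℕ) : actP tab c 0 x = x := rfl

theorem actP_succ (tab : ℕ → ℕ → ℕ) (c ℓ x : ℕ) :
    actP tab c (ℓ + 1) x = tab (letter c ℓ) (actP tab c ℓ x) := rfl

theorem wordP_zero (c : ℕ) : wordP c 0 = [] := rfl

theorem wordP_succ (c ℓ : ℕ) : wordP c (ℓ + 1) = letter c ℓ :: wordP c ℓ := rfl

theorem act_wordP (tab : ℕ → ℕ → ℕ) (c ℓ x : ℕ) : act tab (wordP c ℓ) x = actP tab c ℓ x := by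
  induction ℓ with
  | zero => rfl
  | succ ℓ ih => rw [wordP_succ, act_cons, ih, actP_succ]

theorem lettersLt_succ (k c ℓ : ℕ) :
    lettersLt k c (ℓ + 1) = (Nat.blt (letter c ℓ) k && lettersLt k c ℓ) := rfl

theorem lettersLt_sound (k c ℓ : ℕ) (h : lettersLt k c ℓ = true) : ∀ l ∈ wordP c ℓ, l < k := by
  induction ℓ with
  | zero => intro l hl; simp [wordP_zero] at hl
  | succ ℓ ih =>
    rw [lettersLt_succ, Bool.and_eq_true] at h
    intro l hl
    rw [wordP_succ] at hl
    rcases List.mem_cons.1 hl with rfl | hl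
    · exact Nat.le_of_ble_eq_true h.1
    · exact ih h.2 l hl

theorem rangeAll_succ (lo len : ℕ) (p : ℕ → Bool) :
    rangeAll lo (len + 1) p = (p (Nat.add lo len) && rangeAll lo len p) := rfl

theorem rangeAll_sound (lo len : ℕ) (p : ℕ → Bool) (h : rangeAll lo len p = true) :
    ∀ a, lo ≤ a → a < lo + len → p a = true := by
  induction len with
  | zero => intro a h1 h2; omega
  | succ len ih =>
    rw [rangeAll_succ, Bool.and_eq_true] at h
    intro a h1 h2
    by_cases ha : a = lo + len
    · rw [ha]; exact h.1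
    · exact ih h.2 a h1 (by omega)

/-- one Schreier relation `gen j * u_a = u_{a'} * w`, with `w` packed as `(c, ℓ)` -/
def stepF (tab : ℕ → ℕ → ℕ) (chk : List ℕ) (k' n : ℕ) (wc wl : ℕ → ℕ) (j a a' c ℓ : ℕ) : Bool :=
  Nat.blt a' n && lettersLt k' c ℓ &&
  chk.all (fun x => Nat.beq (tab j (actP tab (wc a) (wl a) x))
    (actP tab (wc a') (wl a') (actP tab c ℓ x)))

/-- the transversal as a list of words -/
def transv (n : ℕ) (wc wl : ℕ → ℕ) : List (List ℕ) :=
  (List.range n).map fun a => wordP (wc a) (wl a)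

theorem transv_length (n : ℕ) (wc wl : ℕ → ℕ) : (transv n wc wl).length = n := by
  simp [transv]

theorem transv_getD (n : ℕ) (wc wl : ℕ → ℕ) (a : ℕ) (ha : a < n) :
    (transv n wc wl).getD a [] = wordP (wc a) (wl a) := by
  unfold transv
  rw [List.getD_eq_getElem _ _ (by simpa using ha)]
  simp

variable {G : Type*} [Group G] {α : Type*} [MulAction G α]

/-- assembling a level certificate -/
theorem levelOK_fast (D : Data G α) (k k' b n : ℕ) (wc wl : ℕ → ℕ) (pos : ℕ → ℕ)
    (ea ec el : ℕ → ℕ → ℕ)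
    (hk : k ≤ D.m) (hb : b < D.N) (hle : k' ≤ k) (hn : 0 < n)
    (hfix : rangeAll 0 k' (fun j => Nat.beq (D.tab j b) b) = true)
    (hhead : wl 0 = 0)
    (hwords : rangeAll 0 n (fun a => lettersLt k (wc a) (wl a)) = true)
    (hinj : rangeAll 0 n (fun a => Nat.beq (pos (actP D.tab (wc a) (wl a) b)) a) = true)
    (hstep : ∀ j < k, ∀ a < n,
      stepF D.tab D.chk k' n wc wl j a (ea j a) (ec j a) (el j a) = true) :
    Data.LevelOK D k k' b (transv n wc wl) [] := by
  refine ⟨hk, hb, hle, ?_, ?_, ?_, ?_, ?_, ?_⟩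
  · intro j hj
    exact Nat.eq_of_beq_eq_true (rangeAll_sound 0 k' _ hfix j (Nat.zero_le j) (by omega))
  · rw [transv_getD n wc wl 0 hn, hhead, wordP_zero]
  · rw [transv_length]; exact hn
  · intro l hl c hc
    unfold transv at hl
    rw [List.mem_map] at hl
    obtain ⟨a, ha, rfl⟩ := hl
    have ha' : a < n := List.mem_range.1 ha
    exact lettersLt_sound k _ _ (rangeAll_sound 0 n _ hwords a (Nat.zero_le a) (by omega)) c hc
  · intro a ha a' ha' heq
    rw [transv_length] at ha ha'
    rw [transv_getD n wc wl a ha, transv_getD n wc wl a' ha', act_wordP, act_wordP] at heq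
    have h1 := Nat.eq_of_beq_eq_true (rangeAll_sound 0 n _ hinj a (Nat.zero_le a) (by omega))
    have h2 := Nat.eq_of_beq_eq_true (rangeAll_sound 0 n _ hinj a' (Nat.zero_le a') (by omega))
    rw [← h1, ← h2, heq]
  · intro j hj a ha
    rw [transv_length] at ha
    have hs := hstep j hj a ha
    unfold stepF at hs
    simp only [Bool.and_eq_true] at hs
    obtain ⟨⟨hs1, hs2⟩, hs3⟩ := hs
    have ha' : ea j a < n := Nat.le_of_ble_eq_true hs1
    refine ⟨ea j a, by rw [transv_length]; exact ha', wordP (ec j a) (el j a),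
      lettersLt_sound k' _ _ hs2, ?_⟩
    intro x hx
    have := Nat.eq_of_beq_eq_true (List.all_eq_true.1 hs3 x hx)
    rw [transv_getD n wc wl a ha, transv_getD n wc wl _ ha', act_cons, act_wordP, act_append,
      act_wordP, act_wordP]
    exact this

end Cfsg.Agent.Lib.Helper58.FastChain
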