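import Mathlib
import Cfsg.Prelude.Def_ChevG2

/-!
# Vectors of the adjoint module of `G₂(3)` coded by natural numbers

Two bits per coordinate; a matrix with coded entries applied to a coded vector is computed on the codes.
-/

set_option autoImplicit false

namespace Cfsg.Agent.Lib.Helper58.G2Vec

open Cfsg Cfsg.Lie

/-- coordinates -/
abbrev Ix : Type := chevG2.Idx

/-- vectors -/
abbrev V : Type := Ix → ZMod 3

/-- the ambient general linear group -/
abbrev GG : Type := GL Ix (ZMod 3)

/-- position of a coordinate, general form -/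
def idxNatG (a : ℕ) {b : ℕ} : Fin a ⊕ Fin b → ℕ
  | Sum.inl i => i.val
  | Sum.inr r => a + r.val

theorem sum_idxG {M : Type*} [AddCommMonoid M] (a b : ℕ) (f : ℕ → M) :
    ∑ i : Fin a ⊕ Fin b, f (idxNatG a i) = ∑ k ∈ Finset.range (a + b), f k := by
  rw [Fintype.sum_sum_type]
  have h1 : ∑ i : Fin a, f (idxNatG a (Sum.inl i : Fin a ⊕ Fin b)) = ∑ k ∈ Finset.range a, f k :=
    Fin.sum_univ_eq_sum_range f a
  have h2 : ∑ r : Fin b, f (idxNatG a (Sum.inr r : Fin a ⊕ Fin b)) = ∑ k ∈ Finset.range b, f (a + k) :=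
    Fin.sum_univ_eq_sum_range (fun k => f (a + k)) b
  rw [h1, h2]
  exact (Finset.sum_range_add f a b).symm

/-- position of a coordinate -/
def idxNat : Ix → ℕ := idxNatG chevG2.rank

theorem idxNat_lt (i : Ix) : idxNat i < 14 := by
  rcases i with i | r
  · have : i.val < 2 := i.isLt
    show i.val < 14
    omega
  · have : r.val < 12 := r.isLt
    show 2 + r.val < 14
    omega

/-- the `k`-th digit of a code -/
def dig (k c : ℕ) : ℕ := Nat.land (Nat.shiftRight c (Nat.mul 2 k)) 3

/-- the vector with a given code -/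
def vecOf (c : ℕ) : V := fun i => ((dig (idxNat i) c : ℕ) : ZMod 3)

theorem sum_idx {M : Type*} [AddCommMonoid M] (f : ℕ → M) :
    ∑ i : Ix, f (idxNat i) = ∑ k ∈ Finset.range 14, f k :=
  sum_idxG chevG2.rank chevG2.nroots f

theorem list_sum_range {M : Type*} [AddCommMonoid M] (f : ℕ → M) (n : ℕ) :
    ((List.range n).map f).sum = ∑ k ∈ Finset.range n, f k := by
  induction n with
  | zero => simp
  | succ n ih => rw [List.range_succ, List.map_append, List.sum_append, ih, Finset.sum_range_succ]; simp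

/-- the test that the matrix with entries `e i k` maps the vector coded `c` to the one coded `c'` -/
def mvCheck (e : ℕ → ℕ → ℕ) (c c' : ℕ) : Bool :=
  (List.range 14).all fun i =>
    Nat.beq (((List.range 14).map fun k => Nat.mul (e i k) (dig k c)).sum % 3) (dig i c' % 3)

theorem mulVec_of_check (M : Matrix Ix Ix (ZMod 3)) (e : ℕ → ℕ → ℕ)
    (hM : ∀ p : Ix × Ix, M p.1 p.2 = ((e (idxNat p.1) (idxNat p.2) : ℕ) : ZMod 3)) (c c' : ℕ)
    (h : mvCheck e c c' = true) : M.mulVec (vecOf c) = vecOf c' := by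
  funext i
  unfold mvCheck at h
  have hi := Nat.eq_of_beq_eq_true (List.all_eq_true.1 h (idxNat i) (List.mem_range.2 (idxNat_lt i)))
  rw [list_sum_range] at hi
  show ∑ k : Ix, M i k * vecOf c k = vecOf c' i
  have h1 : ∀ k : Ix, M i k * vecOf c k =
      (fun k' : ℕ => ((Nat.mul (e (idxNat i) k') (dig k' c) : ℕ) : ZMod 3)) (idxNat k) := by
    intro k
    show M i k * ((dig (idxNat k) c : ℕ) : ZMod 3) = ((e (idxNat i) (idxNat k) * dig (idxNat k) c : ℕ) : ZMod 3)
    rw [hM (i, k), Nat.cast_mul]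
  refine (Finset.sum_congr rfl (fun k _ => h1 k)).trans ?_
  refine (sum_idx (fun k' : ℕ => ((Nat.mul (e (idxNat i) k') (dig k' c) : ℕ) : ZMod 3))).trans ?_
  rw [← Nat.cast_sum]
  show _ = ((dig (idxNat i) c' : ℕ) : ZMod 3)
  rw [ZMod.natCast_eq_natCast_iff']
  exact hi

theorem idxNat_inj {i l : Ix} (h : idxNat i = idxNat l) : i = l := by
  rcases i with i | r <;> rcases l with l | u
  · have h' : i.val = l.val := h
    exact congrArg Sum.inl (Fin.ext h')
  · have h' : i.val = 2 + u.val := h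
    have : i.val < 2 := i.isLt
    omega
  · have h' : 2 + r.val = l.val := h
    have : l.val < 2 := l.isLt
    omega
  · have h' : 2 + r.val = 2 + u.val := h
    exact congrArg Sum.inr (Fin.ext (by omega))

/-- the test that the product of two coded matrices is the identity -/
def mmCheck (e e' : ℕ → ℕ → ℕ) : Bool :=
  (List.range 14).all fun i => (List.range 14).all fun l =>
    Nat.beq (((List.range 14).map fun k => Nat.mul (e i k) (e' k l)).sum % 3) (if i = l then 1 else 0)

theorem mul_eq_one_of_check (M M' : Matrix Ix Ix (ZMod 3)) (e e' : ℕ → ℕ → ℕ)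
    (hM : ∀ p : Ix × Ix, M p.1 p.2 = ((e (idxNat p.1) (idxNat p.2) : ℕ) : ZMod 3))
    (hM' : ∀ p : Ix × Ix, M' p.1 p.2 = ((e' (idxNat p.1) (idxNat p.2) : ℕ) : ZMod 3))
    (h : mmCheck e e' = true) : M * M' = 1 := by
  ext i l
  unfold mmCheck at h
  have hil := Nat.eq_of_beq_eq_true (List.all_eq_true.1
    (List.all_eq_true.1 h (idxNat i) (List.mem_range.2 (idxNat_lt i))) (idxNat l)
    (List.mem_range.2 (idxNat_lt l)))
  rw [list_sum_range] at hil
  rw [Matrix.mul_apply]
  have h1 : ∀ k : Ix, M i k * M' k l =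
      (fun k' : ℕ => ((Nat.mul (e (idxNat i) k') (e' k' (idxNat l)) : ℕ) : ZMod 3)) (idxNat k) := by
    intro k
    show M i k * M' k l = ((e (idxNat i) (idxNat k) * e' (idxNat k) (idxNat l) : ℕ) : ZMod 3)
    rw [hM (i, k), hM' (k, l), Nat.cast_mul]
  refine (Finset.sum_congr rfl (fun k _ => h1 k)).trans ?_
  refine (sum_idx (fun k' : ℕ => ((Nat.mul (e (idxNat i) k') (e' k' (idxNat l)) : ℕ) : ZMod 3))).trans ?_
  rw [← Nat.cast_sum, Matrix.one_apply]
  by_cases hil' : i = l
  · subst hil'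
    rw [if_pos rfl] at hil ⊢
    have : ((1 : ℕ) : ZMod 3) = 1 := Nat.cast_one
    rw [← this, ZMod.natCast_eq_natCast_iff']
    exact hil
  · have hne : idxNat i ≠ idxNat l := fun h0 => hil' (idxNat_inj h0)
    rw [if_neg hne] at hil
    rw [if_neg hil']
    have : ((0 : ℕ) : ZMod 3) = 0 := Nat.cast_zero
    rw [← this, ZMod.natCast_eq_natCast_iff']
    exact hil

/-- the base-3 value of a vector -/
def val3 (v : V) : ℕ := ∑ i : Ix, (v i).val * 3 ^ idxNat i

/-- the base-3 value computed on a code -/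
def code3 (c : ℕ) : ℕ := ((List.range 14).map fun k => Nat.mul (dig k c % 3) (Nat.pow 3 k)).sum

theorem val3_vecOf (c : ℕ) : val3 (vecOf c) = code3 c := by
  unfold val3 code3
  rw [list_sum_range]
  have h1 : ∀ i : Ix, (vecOf c i).val * 3 ^ idxNat i =
      (fun k : ℕ => Nat.mul (dig k c % 3) (Nat.pow 3 k)) (idxNat i) := by
    intro i
    show (((dig (idxNat i) c : ℕ) : ZMod 3)).val * 3 ^ idxNat i = dig (idxNat i) c % 3 * 3 ^ idxNat i
    rw [ZMod.val_natCast]
  refine (Finset.sum_congr rfl (fun i _ => h1 i)).trans ?_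
  exact sum_idx (fun k : ℕ => Nat.mul (dig k c % 3) (Nat.pow 3 k))

end Cfsg.Agent.Lib.Helper58.G2Vec
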