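import Mathlib
import Cfsg.Prelude.Def_ChevG2
import Cfsg.Agent.Lib.Helper14.SU32Data
import Cfsg.Agent.Lib.Helper58.G2Vec

/-!
# Vectors over the field with four elements coded by natural numbers

Two bits per coordinate; addition is `xor` of codes; a matrix is applied to a coded vector by adding the
coded multiples of its columns.
-/

set_option autoImplicit false

namespace Cfsg.Agent.Lib.Helper58.G24Vec

open Cfsg Cfsg.Lie Cfsg.Agent.Lib.Helper14.SU32

/-- the field -/
abbrev F : Type := F4c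

/-- coordinates of the adjoint module -/
abbrev Ix : Type := chevG2.Idx

/-- the element with a given code -/
def f4 : ℕ → F
  | 0 => 0
  | 1 => 1
  | 2 => F4c.w
  | _ => F4c.v

/-- the code of an element -/
def g4 : F → ℕ
  | F4c.o => 0
  | F4c.i => 1
  | F4c.w => 2
  | F4c.v => 3

/-- multiplication on codes -/
def mul4 (a b : ℕ) : ℕ := Nat.land (Nat.shiftRight 2625168384 (Nat.mul 2 (Nat.add (Nat.mul 4 a) b))) 3

theorem g4_f4 (d : ℕ) (hd : d < 4) : g4 (f4 d) = d := by
  interval_cases d <;> rfl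

theorem f4_mul4 (a b : ℕ) (ha : a < 4) (hb : b < 4) : f4 (mul4 a b) = f4 a * f4 b := by
  interval_cases a <;> interval_cases b <;> rfl

theorem mul4_lt (a b : ℕ) : mul4 a b < 4 := by
  unfold mul4
  exact Nat.lt_succ_of_le Nat.and_le_right

theorem f4_xor (a b : ℕ) (ha : a < 4) (hb : b < 4) : f4 (Nat.xor a b) = f4 a + f4 b := by
  interval_cases a <;> interval_cases b <;> rfl

theorem xor_lt4 (a b : ℕ) (ha : a < 4) (hb : b < 4) : Nat.xor a b < 4 := by
  interval_cases a <;> interval_cases b <;> decide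

/-- the `k`-th digit of a code -/
def dig (k c : ℕ) : ℕ := Nat.land (Nat.shiftRight c (Nat.mul 2 k)) 3

theorem dig_lt (k c : ℕ) : dig k c < 4 := by
  unfold dig
  exact Nat.lt_succ_of_le Nat.and_le_right

theorem dig_xor (k a b : ℕ) : dig k (Nat.xor a b) = Nat.xor (dig k a) (dig k b) := by
  show ((a ^^^ b) >>> (2 * k)) &&& 3 = ((a >>> (2 * k)) &&& 3) ^^^ ((b >>> (2 * k)) &&& 3)
  rw [Nat.shiftRight_xor_distrib, Nat.and_xor_distrib_right]

theorem dig_zero (k : ℕ) : dig k 0 = 0 := by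
  unfold dig
  show (0 >>> (2 * k)) &&& 3 = 0
  simp

/-- the `xor` of `f 0, …, f (n - 1)` -/
def xorR (f : ℕ → ℕ) (n : ℕ) : ℕ :=
  Nat.rec (motive := fun _ => ℕ) 0 (fun k r => Nat.xor (f k) r) n

theorem xorR_zero (f : ℕ → ℕ) : xorR f 0 = 0 := rfl

theorem xorR_succ (f : ℕ → ℕ) (n : ℕ) : xorR f (n + 1) = Nat.xor (f n) (xorR f n) := rfl

theorem dig_xorR (k : ℕ) (f : ℕ → ℕ) (n : ℕ) : dig k (xorR f n) = xorR (fun l => dig k (f l)) n := by
  induction n with
  | zero => exact dig_zero k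
  | succ n ih => rw [xorR_succ, xorR_succ, dig_xor, ih]

theorem xorR_congr (f g : ℕ → ℕ) (n : ℕ) (h : ∀ k < n, f k = g k) : xorR f n = xorR g n := by
  induction n with
  | zero => rfl
  | succ n ih =>
    rw [xorR_succ, xorR_succ, h n (Nat.lt_succ_self n), ih (fun k hk => h k (Nat.lt_succ_of_lt hk))]

theorem xorR_lt4 (f : ℕ → ℕ) (n : ℕ) (h : ∀ k, f k < 4) : xorR f n < 4 := by
  induction n with
  | zero => show 0 < 4; norm_num
  | succ n ih => rw [xorR_succ]; exact xor_lt4 _ _ (h n) ih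

theorem f4_xorR (f : ℕ → ℕ) (n : ℕ) (h : ∀ k, f k < 4) :
    f4 (xorR f n) = ∑ k ∈ Finset.range n, f4 (f k) := by
  induction n with
  | zero => simp [xorR_zero, f4]
  | succ n ih =>
    rw [xorR_succ, f4_xor _ _ (h n) (xorR_lt4 f n h), ih, Finset.sum_range_succ, add_comm]

/-- the image of the vector coded `c` under the matrix whose coded column multiples are `col k d` -/
def mvP (col : ℕ → ℕ → ℕ) (n c : ℕ) : ℕ := xorR (fun k => col k (dig k c)) n

/-- the test that `col k d` is the code of `d` times the `k`-th column of the matrix with coded entries `e` -/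
def colCheck (e : ℕ → ℕ → ℕ) (col : ℕ → ℕ → ℕ) (n : ℕ) : Bool :=
  (List.range n).all fun i => (List.range n).all fun k => Nat.blt (e i k) 4 &&
    (List.range 4).all fun d => Nat.beq (dig i (col k d)) (mul4 (e i k) d)

theorem colCheck_sound {e : ℕ → ℕ → ℕ} {col : ℕ → ℕ → ℕ} {n : ℕ} (h : colCheck e col n = true)
    (i : ℕ) (hi : i < n) (k : ℕ) (hk : k < n) :
    e i k < 4 ∧ ∀ d < 4, dig i (col k d) = mul4 (e i k) d := by
  have h1 := List.all_eq_true.1 (List.all_eq_true.1 h i (List.mem_range.2 hi)) k (List.mem_range.2 hk)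
  rw [Bool.and_eq_true] at h1
  refine ⟨Nat.le_of_ble_eq_true h1.1, fun d hd => ?_⟩
  exact Nat.eq_of_beq_eq_true (List.all_eq_true.1 h1.2 d (List.mem_range.2 hd))

section block

variable {ι : Type*} [Fintype ι] (pos : ι → ℕ) (n : ℕ)

/-- the vector with a given code -/
def vecA (c : ℕ) : ι → F := fun i => f4 (dig (pos i) c)

theorem mulVec_of_cols
    (hsum : ∀ f : ℕ → F, ∑ i : ι, f (pos i) = ∑ k ∈ Finset.range n, f k)
    (hpos : ∀ i, pos i < n)
    (M : Matrix ι ι F) (e : ℕ → ℕ → ℕ) (hM : ∀ i l, M i l = f4 (e (pos i) (pos l)))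
    (col : ℕ → ℕ → ℕ) (hcol : colCheck e col n = true) (c : ℕ) :
    M.mulVec (vecA pos c) = vecA pos (mvP col n c) := by
  funext i
  show ∑ l : ι, M i l * vecA pos c l = f4 (dig (pos i) (mvP col n c))
  have h1 : ∀ l : ι, M i l * vecA pos c l =
      (fun k : ℕ => f4 (e (pos i) k) * f4 (dig k c)) (pos l) := by
    intro l
    show M i l * f4 (dig (pos l) c) = _
    rw [hM i l]
  rw [Finset.sum_congr rfl (fun l _ => h1 l),
    hsum (fun k : ℕ => f4 (e (pos i) k) * f4 (dig k c))]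
  unfold mvP
  rw [dig_xorR]
  have h2 : xorR (fun l => dig (pos i) (col l (dig l c))) n =
      xorR (fun l => mul4 (e (pos i) l) (dig l c)) n := by
    apply xorR_congr
    intro k hk
    exact (colCheck_sound hcol (pos i) (hpos i) k hk).2 _ (dig_lt k c)
  rw [h2, f4_xorR _ _ (fun k => mul4_lt _ _)]
  apply Finset.sum_congr rfl
  intro k hk
  rw [Finset.mem_range] at hk
  exact (f4_mul4 _ _ (colCheck_sound hcol (pos i) (hpos i) k hk).1 (dig_lt k c)).symm

/-- the base-4 value of a vector -/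
def valA (v : ι → F) : ℕ := ∑ i : ι, g4 (v i) * 4 ^ pos i

/-- the base-4 value computed on a code -/
def codeA (c : ℕ) : ℕ := ((List.range n).map fun k => Nat.mul (dig k c) (Nat.pow 4 k)).sum

theorem valA_vecA
    (hsumN : ∀ f : ℕ → ℕ, ∑ i : ι, f (pos i) = ∑ k ∈ Finset.range n, f k) (c : ℕ) :
    valA pos (vecA pos c) = codeA n c := by
  unfold valA codeA
  rw [G2Vec.list_sum_range]
  have h1 : ∀ i : ι, g4 (vecA pos c i) * 4 ^ pos i =
      (fun k : ℕ => Nat.mul (dig k c) (Nat.pow 4 k)) (pos i) := by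
    intro i
    show g4 (f4 (dig (pos i) c)) * 4 ^ pos i = dig (pos i) c * 4 ^ pos i
    rw [g4_f4 _ (dig_lt _ _)]
  rw [Finset.sum_congr rfl (fun i _ => h1 i)]
  exact hsumN (fun k : ℕ => Nat.mul (dig k c) (Nat.pow 4 k))

end block

/-- position of a coordinate of the adjoint module -/
def pos14 : Ix → ℕ := G2Vec.idxNat

theorem pos14_lt (i : Ix) : pos14 i < 14 := G2Vec.idxNat_lt i

theorem sum14 {M : Type*} [AddCommMonoid M] (f : ℕ → M) :
    ∑ i : Ix, f (pos14 i) = ∑ k ∈ Finset.range 14, f k := G2Vec.sum_idx f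

/-- position of a coordinate of the six-dimensional module -/
def pos6 : Fin 6 → ℕ := fun i => i.val

theorem pos6_lt (i : Fin 6) : pos6 i < 6 := i.isLt

theorem sum6 {M : Type*} [AddCommMonoid M] (f : ℕ → M) :
    ∑ i : Fin 6, f (pos6 i) = ∑ k ∈ Finset.range 6, f k := Fin.sum_univ_eq_sum_range f 6

end Cfsg.Agent.Lib.Helper58.G24Vec
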