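import Mathlib
import Cfsg.Prelude.Def_ChevWords
import Cfsg.Agent.Lib.Helper58.G24Vec
import Cfsg.Agent.Lib.Helper58.G24Data
import Cfsg.Agent.Lib.Helper89.TableChain2

/-!
# The root elements of `G₂(4)` on the adjoint module and on the six-dimensional module
-/

set_option autoImplicit false
set_option maxRecDepth 100000

namespace Cfsg.Agent.Lib.Helper58.G24Gen

open Cfsg Cfsg.Lie Cfsg.Agent.Lib.Helper14.SU32
open Cfsg.Agent.Lib.Helper58.G24Vec Cfsg.Agent.Lib.Helper58.G24Data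

/-- vectors of the adjoint module -/
abbrev V14 : Type := Ix → F

/-- vectors of the six-dimensional module -/
abbrev V6 : Type := Fin 6 → F

/-- pairs of vectors -/
abbrev VV : Type := V14 × V6

/-- the ambient group -/
abbrev GG : Type := GL Ix F × GL (Fin 6) F

instance : MulAction GG VV where
  smul g v := ((g.1 : Matrix Ix Ix F).mulVec v.1, (g.2 : Matrix (Fin 6) (Fin 6) F).mulVec v.2)
  one_smul v := by
    show (((1 : GG).1 : Matrix Ix Ix F).mulVec v.1, ((1 : GG).2 : Matrix (Fin 6) (Fin 6) F).mulVec v.2) = v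
    simp
  mul_smul g h v := by
    show (((g * h).1 : Matrix Ix Ix F).mulVec v.1, ((g * h).2 : Matrix (Fin 6) (Fin 6) F).mulVec v.2) =
      ((g.1 : Matrix Ix Ix F).mulVec ((h.1 : Matrix Ix Ix F).mulVec v.1),
        (g.2 : Matrix (Fin 6) (Fin 6) F).mulVec ((h.2 : Matrix (Fin 6) (Fin 6) F).mulVec v.2))
    simp [Matrix.mulVec_mulVec]

theorem smul_def (g : GG) (v : VV) :
    g • v = ((g.1 : Matrix Ix Ix F).mulVec v.1, (g.2 : Matrix (Fin 6) (Fin 6) F).mulVec v.2) := rfl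

/-- the matrices `x_r(1)`, `x_r(ω)`, `x_r(ω²)` on the adjoint module -/
def xm (j : ℕ) : Matrix Ix Ix F := chevG2.x F (j / 3) (f4 (j % 3 + 1))

/-- the matrices on the six-dimensional module -/
def ym (j : ℕ) : Matrix (Fin 6) (Fin 6) F := fun i k => f4 (ent6 j i.val k.val)

theorem ent_okF : ∀ j : Fin 36, ∀ p : Ix × Ix,
    xm j.val p.1 p.2 = f4 (ent j.val (pos14 p.1) (pos14 p.2)) := by decide +kernel

theorem ent_ok (j : ℕ) (hj : j < 36) (i l : Ix) :
    xm j i l = f4 (ent j (pos14 i) (pos14 l)) := ent_okF ⟨j, hj⟩ (i, l)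

theorem ent6_ok (j : ℕ) (i l : Fin 6) : ym j i l = f4 (ent6 j (pos6 i) (pos6 l)) := rfl

theorem xm_sqF : ∀ j : Fin 36, xm j.val * xm j.val = 1 := by decide +kernel

theorem ym_sqF : ∀ j : Fin 36, ym j.val * ym j.val = 1 := by decide +kernel

/-- the 36 root elements as pairs -/
def gen0 (j : ℕ) : GG :=
  if hj : j < 36 then
    (⟨xm j, xm j, xm_sqF ⟨j, hj⟩, xm_sqF ⟨j, hj⟩⟩, ⟨ym j, ym j, ym_sqF ⟨j, hj⟩, ym_sqF ⟨j, hj⟩⟩)
  else 1

theorem gen0_fst (j : ℕ) (hj : j < 36) : (((gen0 j).1 : GL Ix F) : Matrix Ix Ix F) = xm j := by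
  unfold gen0
  rw [dif_pos hj]

theorem gen0_snd (j : ℕ) (hj : j < 36) :
    (((gen0 j).2 : GL (Fin 6) F) : Matrix (Fin 6) (Fin 6) F) = ym j := by
  unfold gen0
  rw [dif_pos hj]

/-- the code of the first component of a point -/
def cX (x : ℕ) : ℕ := Nat.land (Nat.shiftRight omegaBig (Nat.mul 28 x)) 268435455

/-- the code of the second component of a point -/
def cY (x : ℕ) : ℕ := Nat.sub x 4094

/-- the points -/
def pt (x : ℕ) : VV := (vecA pos14 (cX x), vecA pos6 (cY x))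

end Cfsg.Agent.Lib.Helper58.G24Gen
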