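import Mathlib
import Cfsg.Agent.Lib.Helper58.G24Gen
import Cfsg.Agent.Lib.Helper58.FastChain

/-!
# The table-driven action of eight root elements of `G₂(4)` on 8190 points
-/

set_option autoImplicit false
set_option maxRecDepth 100000

namespace Cfsg.Agent.Lib.Helper58.G24Act

open Cfsg Cfsg.Lie Cfsg.Agent.Lib.Helper89 Cfsg.Agent.Lib.Helper89.TableChain2
open Cfsg.Agent.Lib.Helper14.SU32
open Cfsg.Agent.Lib.Helper58.G24Vec Cfsg.Agent.Lib.Helper58.G24Data Cfsg.Agent.Lib.Helper58.G24Gen
open Cfsg.Agent.Lib.Helper58.FastChain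

/-- the root element index of a generator -/
def gi (j : ℕ) : ℕ := genL.getD j 0

theorem gi_lt (j : ℕ) (hj : j < 8) : gi j < 36 := by
  interval_cases j <;> decide

theorem colX_ok : (List.range 36).all (fun r => colCheck (ent r) (colX r) 14) = true := by
  decide +kernel

theorem colY_ok : (List.range 36).all (fun r => colCheck (ent6 r) (colY r) 6) = true := by
  decide +kernel

/-- the action of a root element on a pair of vectors, on the codes -/
theorem gen0_smul_code (r : ℕ) (hr : r < 36) (c c' : ℕ) :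
    gen0 r • ((vecA pos14 c, vecA pos6 c') : VV) =
      (vecA pos14 (mvP (colX r) 14 c), vecA pos6 (mvP (colY r) 6 c')) := by
  rw [smul_def, gen0_fst _ hr, gen0_snd _ hr]
  show ((xm r).mulVec (vecA pos14 c), (ym r).mulVec (vecA pos6 c')) = _
  congr 1
  · exact mulVec_of_cols pos14 14 (fun f => sum14 f) pos14_lt _ (ent r)
      (ent_ok r hr) (colX r) (List.all_eq_true.1 colX_ok r (List.mem_range.2 hr)) c
  · exact mulVec_of_cols pos6 6 (fun f => sum6 f) pos6_lt _ (ent6 r)
      (ent6_ok r) (colY r) (List.all_eq_true.1 colY_ok r (List.mem_range.2 hr)) c'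

/-- the table of a generator agrees with its matrices -/
def mvRow (j : ℕ) : Bool := rangeAll 0 8190 fun x =>
  Nat.beq (mvP (colX (gi j)) 14 (cX x)) (cX (tab0 j x)) &&
    Nat.beq (mvP (colY (gi j)) 6 (cY x)) (cY (tab0 j x))

theorem mv_ok0 : mvRow 0 = true := by decide +kernel
theorem mv_ok1 : mvRow 1 = true := by decide +kernel
theorem mv_ok2 : mvRow 2 = true := by decide +kernel
theorem mv_ok3 : mvRow 3 = true := by decide +kernel
theorem mv_ok4 : mvRow 4 = true := by decide +kernel
theorem mv_ok5 : mvRow 5 = true := by decide +kernel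
theorem mv_ok6 : mvRow 6 = true := by decide +kernel
theorem mv_ok7 : mvRow 7 = true := by decide +kernel

theorem mv_ok (j : ℕ) (hj : j < 8) : mvRow j = true := by
  interval_cases j
  · exact mv_ok0
  · exact mv_ok1
  · exact mv_ok2
  · exact mv_ok3
  · exact mv_ok4
  · exact mv_ok5
  · exact mv_ok6
  · exact mv_ok7

theorem gen_smul0 (j : ℕ) (hj : j < 8) (x : ℕ) (hx : x < 8190) :
    gen0 (gi j) • pt x = pt (tab0 j x) := by
  have hm := rangeAll_sound 0 8190 _ (mv_ok j hj) x (Nat.zero_le x) (by omega)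
  rw [Bool.and_eq_true] at hm
  have h1 := Nat.eq_of_beq_eq_true hm.1
  have h2 := Nat.eq_of_beq_eq_true hm.2
  show gen0 (gi j) • ((vecA pos14 (cX x), vecA pos6 (cY x)) : VV) =
    (vecA pos14 (cX (tab0 j x)), vecA pos6 (cY (tab0 j x)))
  rw [gen0_smul_code (gi j) (gi_lt j hj), h1, h2]

theorem tab0_ltB : rangeAll 0 8 (fun j => rangeAll 0 8190 fun x => Nat.blt (tab0 j x) 8190) = true := by
  decide +kernel

theorem tab0_lt (j : ℕ) (hj : j < 8) (x : ℕ) (hx : x < 8190) : tab0 j x < 8190 :=
  Nat.le_of_ble_eq_true (rangeAll_sound 0 8190 _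
    (rangeAll_sound 0 8 _ tab0_ltB j (Nat.zero_le j) (by omega)) x (Nat.zero_le x) (by omega))

/-- the key of a point -/
def key (x : ℕ) : ℕ := Nat.add (codeA 14 (cX x)) (Nat.mul 268435456 (codeA 6 (cY x)))

theorem monoB : rangeAll 0 8189 (fun x => Nat.blt (key x) (key (Nat.add x 1))) = true := by
  decide +kernel

theorem key_mono : ∀ y x : ℕ, x < y → y < 8190 → key x < key y := by
  intro y
  induction y with
  | zero => intro x hx; omega
  | succ y ih =>
    intro x hx hy
    have hstep : key y < key (y + 1) :=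
      Nat.le_of_ble_eq_true (rangeAll_sound 0 8189 _ monoB y (Nat.zero_le y) (by omega))
    rcases Nat.lt_succ_iff_lt_or_eq.1 hx with h | h
    · exact lt_trans (ih x h (by omega)) hstep
    · rw [h]; exact hstep

theorem pt_inj (x : ℕ) (hx : x < 8190) (y : ℕ) (hy : y < 8190) (h : pt x = pt y) : x = y := by
  have h1 : codeA 14 (cX x) = codeA 14 (cX y) := by
    rw [← valA_vecA pos14 14 (fun f => sum14 f), ← valA_vecA pos14 14 (fun f => sum14 f)]
    exact congrArg (fun v : VV => valA pos14 v.1) h
  have h2 : codeA 6 (cY x) = codeA 6 (cY y) := by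
    rw [← valA_vecA pos6 6 (fun f => sum6 f), ← valA_vecA pos6 6 (fun f => sum6 f)]
    exact congrArg (fun v : VV => valA pos6 v.2) h
  have hk : key x = key y := by
    unfold key
    rw [h1, h2]
  rcases Nat.lt_trichotomy x y with hlt | heq | hgt
  · exact absurd hk (ne_of_lt (key_mono y x hlt hy))
  · exact heq
  · exact absurd hk.symm (ne_of_lt (key_mono x y hgt hx))

theorem chk_ltB : chkL.all (fun x => Nat.blt x 8190) = true := by decide +kernel

theorem basis_ok : ∀ p : Ix × Ix,
    (∑ k : Fin 14, f4 (cinv k.val (pos14 p.1)) * vecA pos14 (cX (chkL.getD k.val 0)) p.2) =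
      if p.1 = p.2 then 1 else 0 := by decide +kernel

theorem unit_ok : ∀ p : Fin 6 × Fin 6,
    vecA pos6 (cY (chkL.getD (14 + p.1.val) 0)) p.2 = if p.1 = p.2 then 1 else 0 := by decide +kernel

theorem single_eq (i : Ix) :
    (Pi.single i 1 : V14) = ∑ k : Fin 14, f4 (cinv k.val (pos14 i)) • vecA pos14 (cX (chkL.getD k.val 0)) := by
  funext l
  rw [Finset.sum_apply]
  have := basis_ok (i, l)
  simp only [Pi.smul_apply, smul_eq_mul]
  rw [this, Pi.single_apply]
  by_cases h : i = l
  · rw [if_pos h, if_pos h.symm]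
  · rw [if_neg h, if_neg (fun h' => h h'.symm)]

theorem single6_eq (k : Fin 6) :
    (Pi.single k 1 : V6) = vecA pos6 (cY (chkL.getD (14 + k.val) 0)) := by
  funext l
  rw [unit_ok (k, l), Pi.single_apply]
  by_cases h : k = l
  · rw [if_pos h, if_pos h.symm]
  · rw [if_neg h, if_neg (fun h' => h h'.symm)]

theorem chk_len : chkL.length = 20 := by decide

theorem faithful (g g' : GG) (h : ∀ x ∈ chkL, g • pt x = g' • pt x) : g = g' := by
  have hmem : ∀ k : ℕ, k < 20 → chkL.getD k 0 ∈ chkL := by
    intro k hk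
    rw [List.getD_eq_getElem _ _ (by rw [chk_len]; exact hk)]
    exact List.getElem_mem _
  apply Prod.ext
  · apply Units.ext
    ext l i
    have hk : ∀ k : Fin 14, (g.1 : Matrix Ix Ix F).mulVec (vecA pos14 (cX (chkL.getD k.val 0))) =
        (g'.1 : Matrix Ix Ix F).mulVec (vecA pos14 (cX (chkL.getD k.val 0))) := by
      intro k
      have := h _ (hmem k.val (by have := k.isLt; omega))
      exact congrArg Prod.fst this
    have h1 : (g.1 : Matrix Ix Ix F).mulVec (Pi.single i 1) =
        (g'.1 : Matrix Ix Ix F).mulVec (Pi.single i 1) := by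
      rw [single_eq, Matrix.mulVec_sum, Matrix.mulVec_sum]
      apply Finset.sum_congr rfl
      intro k _
      rw [Matrix.mulVec_smul, Matrix.mulVec_smul, hk k]
    have h2 := congrFun h1 l
    rwa [Matrix.mulVec_single_one, Matrix.mulVec_single_one] at h2
  · apply Units.ext
    ext l i
    have hk : (g.2 : Matrix (Fin 6) (Fin 6) F).mulVec (vecA pos6 (cY (chkL.getD (14 + i.val) 0))) =
        (g'.2 : Matrix (Fin 6) (Fin 6) F).mulVec (vecA pos6 (cY (chkL.getD (14 + i.val) 0))) := by
      have := h _ (hmem (14 + i.val) (by have := i.isLt; omega))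
      exact congrArg Prod.snd this
    rw [← single6_eq] at hk
    have h2 := congrFun hk l
    rwa [Matrix.mulVec_single_one, Matrix.mulVec_single_one] at h2

/-- the table-driven data of the eight generators -/
def D0 : Data GG VV where
  m := 8
  N := 8190
  gen j := gen0 (gi j)
  pt := pt
  tab := tab0
  chk := chkL
  gen_smul := gen_smul0
  tab_lt := tab0_lt
  chk_lt x hx := Nat.le_of_ble_eq_true (List.all_eq_true.1 chk_ltB x hx)
  faithful := faithful
  pt_inj := pt_inj

end Cfsg.Agent.Lib.Helper58.G24Act
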