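import Mathlib
import Cfsg.Agent.Lib.Helper58.G24Act

/-!
# `G₂(4)`: the diagonal group of the eight generators contains all root elements
-/

set_option autoImplicit false
set_option maxRecDepth 100000

namespace Cfsg.Agent.Lib.Helper58.G24Chain

open Cfsg Cfsg.Lie Cfsg.Agent.Lib.Helper89 Cfsg.Agent.Lib.Helper89.TableChain2
open Cfsg.Agent.Lib.Helper14.SU32
open Cfsg.Agent.Lib.Helper58.G24Vec Cfsg.Agent.Lib.Helper58.G24Data Cfsg.Agent.Lib.Helper58.G24Gen
open Cfsg.Agent.Lib.Helper58.G24Act Cfsg.Agent.Lib.Helper58.FastChain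

/-- on the check points every root element acts as its word -/
def rootCheck : Bool := (List.range 36).all fun r =>
  (rootW.getD r []).all (fun c => Nat.blt c 8) &&
  chkL.all fun x =>
    Nat.beq (mvP (colX r) 14 (cX x)) (cX (act tab0 (rootW.getD r []) x)) &&
    Nat.beq (mvP (colY r) 6 (cY x)) (cY (act tab0 (rootW.getD r []) x))

theorem rootCheck_ok : rootCheck = true := by decide +kernel

theorem rootW_lt (r : ℕ) (hr : r < 36) : ∀ c ∈ rootW.getD r [], c < D0.m := by
  intro c hc
  have h := List.all_eq_true.1 rootCheck_ok r (List.mem_range.2 hr)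
  rw [Bool.and_eq_true] at h
  exact Nat.le_of_ble_eq_true (List.all_eq_true.1 h.1 c hc)

theorem gen0_eq (r : ℕ) (hr : r < 36) : gen0 r = D0.ev (rootW.getD r []) := by
  apply D0.faithful
  intro x hx
  have hxN : x < D0.N := D0.chk_lt x hx
  rw [D0.ev_smul _ (rootW_lt r hr) x hxN]
  show gen0 r • ((vecA pos14 (cX x), vecA pos6 (cY x)) : VV) =
    (vecA pos14 (cX (act tab0 (rootW.getD r []) x)), vecA pos6 (cY (act tab0 (rootW.getD r []) x)))
  have h := List.all_eq_true.1 rootCheck_ok r (List.mem_range.2 hr)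
  rw [Bool.and_eq_true] at h
  have h2 := List.all_eq_true.1 h.2 x hx
  rw [Bool.and_eq_true] at h2
  rw [gen0_smul_code r hr, Nat.eq_of_beq_eq_true h2.1, Nat.eq_of_beq_eq_true h2.2]

theorem gen0_mem_H (r : ℕ) (hr : r < 36) : gen0 r ∈ D0.H 8 := by
  rw [gen0_eq r hr]
  exact D0.ev_mem 8 _ (rootW_lt r hr)

/-! ### the first projection maps the group onto the Chevalley group -/

theorem xMat_zero : ∀ r : Fin chevG2.nroots, ∀ p : Ix × Ix,
    chevG2.xMat F r 0 p.1 p.2 = (1 : Matrix Ix Ix F) p.1 p.2 := by decide +kernel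

theorem xm_eq (r : Fin chevG2.nroots) (e : ℕ) (he : e < 3) :
    xm (3 * r.val + e) = chevG2.xMat F r (f4 (e + 1)) := by
  unfold xm ChevalleyDatum.x
  have h1 : (3 * r.val + e) / 3 = r.val := by omega
  have h2 : (3 * r.val + e) % 3 = e := by omega
  rw [h1, h2, dif_pos r.isLt]

/-- the first projection -/
def fstHom : GG →* GL Ix F := MonoidHom.fst (GL Ix F) (GL (Fin 6) F)

theorem fst_gen0_mem (r : ℕ) (hr : r < 36) : fstHom (gen0 r) ∈ chevG2.group F := by
  apply Subgroup.subset_closure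
  have hr' : r / 3 < chevG2.nroots := by
    show r / 3 < 12
    omega
  refine ⟨⟨r / 3, hr'⟩, f4 (r % 3 + 1), ?_⟩
  show (((gen0 r).1 : GL Ix F) : Matrix Ix Ix F) = _
  rw [gen0_fst r hr]
  unfold xm ChevalleyDatum.x
  rw [dif_pos hr']

theorem map_fst : (D0.H 8).map fstHom = chevG2.group F := by
  apply le_antisymm
  · rw [Subgroup.map_le_iff_le_comap]
    show Subgroup.closure (D0.S 8) ≤ _
    rw [Subgroup.closure_le]
    rintro g ⟨j, hj, rfl⟩
    exact fst_gen0_mem _ (gi_lt j hj)
  · unfold ChevalleyDatum.group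
    rw [Subgroup.closure_le]
    rintro g ⟨r, t, hg⟩
    have hr : r.val < 12 := r.isLt
    have key : ∀ t' : F, t' = 0 ∨ t' = f4 1 ∨ t' = f4 2 ∨ t' = f4 3 := by decide
    rcases key t with rfl | rfl | rfl | rfl
    · have : g = 1 := by
        apply Units.ext
        rw [hg]
        ext i l
        exact xMat_zero r (i, l)
      rw [this]
      exact Subgroup.one_mem _
    · refine ⟨gen0 (3 * r.val + 0), gen0_mem_H _ (by omega), ?_⟩
      apply Units.ext
      show (((gen0 (3 * r.val + 0)).1 : GL Ix F) : Matrix Ix Ix F) = _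
      rw [gen0_fst _ (by omega), xm_eq r 0 (by norm_num), hg]
    · refine ⟨gen0 (3 * r.val + 1), gen0_mem_H _ (by omega), ?_⟩
      apply Units.ext
      show (((gen0 (3 * r.val + 1)).1 : GL Ix F) : Matrix Ix Ix F) = _
      rw [gen0_fst _ (by omega), xm_eq r 1 (by norm_num), hg]
    · refine ⟨gen0 (3 * r.val + 2), gen0_mem_H _ (by omega), ?_⟩
      apply Units.ext
      show (((gen0 (3 * r.val + 2)).1 : GL Ix F) : Matrix Ix Ix F) = _
      rw [gen0_fst _ (by omega), xm_eq r 2 (by norm_num), hg]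

end Cfsg.Agent.Lib.Helper58.G24Chain
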