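import Mathlib
import Cfsg.Agent.Lib.Helper58.G24Act

/-!
# `G₂(4)`: the Schreier checks of the stabiliser chain, cut into chunks
-/

set_option autoImplicit false

namespace Cfsg.Agent.Lib.Helper58.G24LvDefs

open Cfsg.Agent.Lib.Helper89 Cfsg.Agent.Lib.Helper89.TableChain2
open Cfsg.Agent.Lib.Helper58.G24Data Cfsg.Agent.Lib.Helper58.FastChain

/-- a chunk of the Schreier checks of level 0 -/
def chunk0 (j lo len : ℕ) : Bool :=
  rangeAll lo len fun a => stepF tab0 chkL 7 4095 wc0 wl0 j a (ea0 j a) (ec0 j a) (el0 j a)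

/-- a chunk of the Schreier checks of level 1 -/
def chunk1 (j lo len : ℕ) : Bool :=
  rangeAll lo len fun a => stepF tab0 chkL 3 1024 wc1 wl1 j a (ea1 j a) (ec1 j a) (el1 j a)

/-- a chunk of the Schreier checks of level 2 -/
def chunk2 (j lo len : ℕ) : Bool :=
  rangeAll lo len fun a => stepF tab0 chkL 0 60 wc2 wl2 j a (ea2 j a) (ec2 j a) (el2 j a)

theorem chunk0_sound {j lo len : ℕ} (h : chunk0 j lo len = true) (a : ℕ) (h1 : lo ≤ a) (h2 : a < lo + len) :
    stepF tab0 chkL 7 4095 wc0 wl0 j a (ea0 j a) (ec0 j a) (el0 j a) = true :=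
  rangeAll_sound lo len _ h a h1 h2

theorem chunk1_sound {j lo len : ℕ} (h : chunk1 j lo len = true) (a : ℕ) (h1 : lo ≤ a) (h2 : a < lo + len) :
    stepF tab0 chkL 3 1024 wc1 wl1 j a (ea1 j a) (ec1 j a) (el1 j a) = true :=
  rangeAll_sound lo len _ h a h1 h2

theorem chunk2_sound {j lo len : ℕ} (h : chunk2 j lo len = true) (a : ℕ) (h1 : lo ≤ a) (h2 : a < lo + len) :
    stepF tab0 chkL 0 60 wc2 wl2 j a (ea2 j a) (ec2 j a) (el2 j a) = true :=
  rangeAll_sound lo len _ h a h1 h2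

end Cfsg.Agent.Lib.Helper58.G24LvDefs
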