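import Mathlib
import Cfsg.Agent.Lib.Helper58.G24LvDefs

/-!
# `G₂(4)`: the Schreier checks of level 0 for generator 3
-/

set_option autoImplicit false
set_option maxRecDepth 100000
set_option Elab.async false

namespace Cfsg.Agent.Lib.Helper58.G24Lv0g3

open Cfsg.Agent.Lib.Helper58.G24Data Cfsg.Agent.Lib.Helper58.FastChain Cfsg.Agent.Lib.Helper58.G24LvDefs

theorem c0 : chunk0 3 0 128 = true := by decide +kernel
theorem c128 : chunk0 3 128 128 = true := by decide +kernel
theorem c256 : chunk0 3 256 128 = true := by decide +kernel
theorem c384 : chunk0 3 384 128 = true := by decide +kernel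
theorem c512 : chunk0 3 512 128 = true := by decide +kernel
theorem c640 : chunk0 3 640 128 = true := by decide +kernel
theorem c768 : chunk0 3 768 128 = true := by decide +kernel
theorem c896 : chunk0 3 896 128 = true := by decide +kernel
theorem c1024 : chunk0 3 1024 128 = true := by decide +kernel
theorem c1152 : chunk0 3 1152 128 = true := by decide +kernel
theorem c1280 : chunk0 3 1280 128 = true := by decide +kernel
theorem c1408 : chunk0 3 1408 128 = true := by decide +kernel
theorem c1536 : chunk0 3 1536 128 = true := by decide +kernel
theorem c1664 : chunk0 3 1664 128 = true := by decide +kernel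
theorem c1792 : chunk0 3 1792 128 = true := by decide +kernel
theorem c1920 : chunk0 3 1920 128 = true := by decide +kernel
theorem c2048 : chunk0 3 2048 128 = true := by decide +kernel
theorem c2176 : chunk0 3 2176 128 = true := by decide +kernel
theorem c2304 : chunk0 3 2304 128 = true := by decide +kernel
theorem c2432 : chunk0 3 2432 128 = true := by decide +kernel
theorem c2560 : chunk0 3 2560 128 = true := by decide +kernel
theorem c2688 : chunk0 3 2688 128 = true := by decide +kernel
theorem c2816 : chunk0 3 2816 128 = true := by decide +kernel
theorem c2944 : chunk0 3 2944 128 = true := by decide +kernel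
theorem c3072 : chunk0 3 3072 128 = true := by decide +kernel
theorem c3200 : chunk0 3 3200 128 = true := by decide +kernel
theorem c3328 : chunk0 3 3328 128 = true := by decide +kernel
theorem c3456 : chunk0 3 3456 128 = true := by decide +kernel
theorem c3584 : chunk0 3 3584 128 = true := by decide +kernel
theorem c3712 : chunk0 3 3712 128 = true := by decide +kernel
theorem c3840 : chunk0 3 3840 128 = true := by decide +kernel
theorem c3968 : chunk0 3 3968 127 = true := by decide +kernel

theorem step (a : ℕ) (ha : a < 4095) :
    stepF tab0 chkL 7 4095 wc0 wl0 3 a (ea0 3 a) (ec0 3 a) (el0 3 a) = true := by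
  obtain ⟨q, hq⟩ : ∃ q, q = a / 128 := ⟨_, rfl⟩
  have hq' : q < 32 := by omega
  interval_cases q
  · exact chunk0_sound c0 a (by omega) (by omega)
  · exact chunk0_sound c128 a (by omega) (by omega)
  · exact chunk0_sound c256 a (by omega) (by omega)
  · exact chunk0_sound c384 a (by omega) (by omega)
  · exact chunk0_sound c512 a (by omega) (by omega)
  · exact chunk0_sound c640 a (by omega) (by omega)
  · exact chunk0_sound c768 a (by omega) (by omega)
  · exact chunk0_sound c896 a (by omega) (by omega)
  · exact chunk0_sound c1024 a (by omega) (by omega)
  · exact chunk0_sound c1152 a (by omega) (by omega)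
  · exact chunk0_sound c1280 a (by omega) (by omega)
  · exact chunk0_sound c1408 a (by omega) (by omega)
  · exact chunk0_sound c1536 a (by omega) (by omega)
  · exact chunk0_sound c1664 a (by omega) (by omega)
  · exact chunk0_sound c1792 a (by omega) (by omega)
  · exact chunk0_sound c1920 a (by omega) (by omega)
  · exact chunk0_sound c2048 a (by omega) (by omega)
  · exact chunk0_sound c2176 a (by omega) (by omega)
  · exact chunk0_sound c2304 a (by omega) (by omega)
  · exact chunk0_sound c2432 a (by omega) (by omega)
  · exact chunk0_sound c2560 a (by omega) (by omega)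
  · exact chunk0_sound c2688 a (by omega) (by omega)
  · exact chunk0_sound c2816 a (by omega) (by omega)
  · exact chunk0_sound c2944 a (by omega) (by omega)
  · exact chunk0_sound c3072 a (by omega) (by omega)
  · exact chunk0_sound c3200 a (by omega) (by omega)
  · exact chunk0_sound c3328 a (by omega) (by omega)
  · exact chunk0_sound c3456 a (by omega) (by omega)
  · exact chunk0_sound c3584 a (by omega) (by omega)
  · exact chunk0_sound c3712 a (by omega) (by omega)
  · exact chunk0_sound c3840 a (by omega) (by omega)
  · exact chunk0_sound c3968 a (by omega) (by omega)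

end Cfsg.Agent.Lib.Helper58.G24Lv0g3
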