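import Mathlib
import Cfsg.Agent.Lib.Helper58.G24LvDefs

/-!
# `G₂(4)`: the Schreier checks of levels 1 and 2
-/

set_option autoImplicit false
set_option maxRecDepth 100000
set_option Elab.async false

namespace Cfsg.Agent.Lib.Helper58.G24Lv12

open Cfsg.Agent.Lib.Helper58.G24Data Cfsg.Agent.Lib.Helper58.FastChain Cfsg.Agent.Lib.Helper58.G24LvDefs

theorem c1_0_0 : chunk1 0 0 256 = true := by decide +kernel
theorem c1_0_256 : chunk1 0 256 256 = true := by decide +kernel
theorem c1_0_512 : chunk1 0 512 256 = true := by decide +kernel
theorem c1_0_768 : chunk1 0 768 256 = true := by decide +kernel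
theorem c1_1_0 : chunk1 1 0 256 = true := by decide +kernel
theorem c1_1_256 : chunk1 1 256 256 = true := by decide +kernel
theorem c1_1_512 : chunk1 1 512 256 = true := by decide +kernel
theorem c1_1_768 : chunk1 1 768 256 = true := by decide +kernel
theorem c1_2_0 : chunk1 2 0 256 = true := by decide +kernel
theorem c1_2_256 : chunk1 2 256 256 = true := by decide +kernel
theorem c1_2_512 : chunk1 2 512 256 = true := by decide +kernel
theorem c1_2_768 : chunk1 2 768 256 = true := by decide +kernel
theorem c1_3_0 : chunk1 3 0 256 = true := by decide +kernel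
theorem c1_3_256 : chunk1 3 256 256 = true := by decide +kernel
theorem c1_3_512 : chunk1 3 512 256 = true := by decide +kernel
theorem c1_3_768 : chunk1 3 768 256 = true := by decide +kernel
theorem c1_4_0 : chunk1 4 0 256 = true := by decide +kernel
theorem c1_4_256 : chunk1 4 256 256 = true := by decide +kernel
theorem c1_4_512 : chunk1 4 512 256 = true := by decide +kernel
theorem c1_4_768 : chunk1 4 768 256 = true := by decide +kernel
theorem c1_5_0 : chunk1 5 0 256 = true := by decide +kernel
theorem c1_5_256 : chunk1 5 256 256 = true := by decide +kernel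
theorem c1_5_512 : chunk1 5 512 256 = true := by decide +kernel
theorem c1_5_768 : chunk1 5 768 256 = true := by decide +kernel
theorem c1_6_0 : chunk1 6 0 256 = true := by decide +kernel
theorem c1_6_256 : chunk1 6 256 256 = true := by decide +kernel
theorem c1_6_512 : chunk1 6 512 256 = true := by decide +kernel
theorem c1_6_768 : chunk1 6 768 256 = true := by decide +kernel
theorem c2_0 : chunk2 0 0 60 = true := by decide +kernel
theorem c2_1 : chunk2 1 0 60 = true := by decide +kernel
theorem c2_2 : chunk2 2 0 60 = true := by decide +kernel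

theorem step1 (j : ℕ) (hj : j < 7) (a : ℕ) (ha : a < 1024) :
    stepF tab0 chkL 3 1024 wc1 wl1 j a (ea1 j a) (ec1 j a) (el1 j a) = true := by
  obtain ⟨q, hq⟩ : ∃ q, q = a / 256 := ⟨_, rfl⟩
  have hq' : q < 4 := by omega
  interval_cases j <;> interval_cases q
  · exact chunk1_sound c1_0_0 a (by omega) (by omega)
  · exact chunk1_sound c1_0_256 a (by omega) (by omega)
  · exact chunk1_sound c1_0_512 a (by omega) (by omega)
  · exact chunk1_sound c1_0_768 a (by omega) (by omega)
  · exact chunk1_sound c1_1_0 a (by omega) (by omega)
  · exact chunk1_sound c1_1_256 a (by omega) (by omega)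
  · exact chunk1_sound c1_1_512 a (by omega) (by omega)
  · exact chunk1_sound c1_1_768 a (by omega) (by omega)
  · exact chunk1_sound c1_2_0 a (by omega) (by omega)
  · exact chunk1_sound c1_2_256 a (by omega) (by omega)
  · exact chunk1_sound c1_2_512 a (by omega) (by omega)
  · exact chunk1_sound c1_2_768 a (by omega) (by omega)
  · exact chunk1_sound c1_3_0 a (by omega) (by omega)
  · exact chunk1_sound c1_3_256 a (by omega) (by omega)
  · exact chunk1_sound c1_3_512 a (by omega) (by omega)
  · exact chunk1_sound c1_3_768 a (by omega) (by omega)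
  · exact chunk1_sound c1_4_0 a (by omega) (by omega)
  · exact chunk1_sound c1_4_256 a (by omega) (by omega)
  · exact chunk1_sound c1_4_512 a (by omega) (by omega)
  · exact chunk1_sound c1_4_768 a (by omega) (by omega)
  · exact chunk1_sound c1_5_0 a (by omega) (by omega)
  · exact chunk1_sound c1_5_256 a (by omega) (by omega)
  · exact chunk1_sound c1_5_512 a (by omega) (by omega)
  · exact chunk1_sound c1_5_768 a (by omega) (by omega)
  · exact chunk1_sound c1_6_0 a (by omega) (by omega)
  · exact chunk1_sound c1_6_256 a (by omega) (by omega)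
  · exact chunk1_sound c1_6_512 a (by omega) (by omega)
  · exact chunk1_sound c1_6_768 a (by omega) (by omega)

theorem step2 (j : ℕ) (hj : j < 3) (a : ℕ) (ha : a < 60) :
    stepF tab0 chkL 0 60 wc2 wl2 j a (ea2 j a) (ec2 j a) (el2 j a) = true := by
  interval_cases j
  · exact chunk2_sound c2_0 a (by omega) (by omega)
  · exact chunk2_sound c2_1 a (by omega) (by omega)
  · exact chunk2_sound c2_2 a (by omega) (by omega)

end Cfsg.Agent.Lib.Helper58.G24Lv12
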