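import Mathlib
import Cfsg.Agent.Lib.Helper58.G24Chain
import Cfsg.Agent.Lib.Helper58.G24Lv0g0
import Cfsg.Agent.Lib.Helper58.G24Lv0g1
import Cfsg.Agent.Lib.Helper58.G24Lv0g2
import Cfsg.Agent.Lib.Helper58.G24Lv0g3
import Cfsg.Agent.Lib.Helper58.G24Lv0g4
import Cfsg.Agent.Lib.Helper58.G24Lv0g5
import Cfsg.Agent.Lib.Helper58.G24Lv0g6
import Cfsg.Agent.Lib.Helper58.G24Lv0g7
import Cfsg.Agent.Lib.Helper58.G24Lv12

/-!
# `G₂(4)`: the stabiliser chain of the diagonal group, its order, and the isomorphism with the Chevalley group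
-/

set_option autoImplicit false
set_option maxRecDepth 100000
set_option Elab.async false

namespace Cfsg.Agent.Lib.Helper58.G24Levels

open Cfsg Cfsg.Lie Cfsg.Agent.Lib.Helper89 Cfsg.Agent.Lib.Helper89.TableChain2
open Cfsg.Agent.Lib.Helper14.SU32
open Cfsg.Agent.Lib.Helper58.G24Vec Cfsg.Agent.Lib.Helper58.G24Data Cfsg.Agent.Lib.Helper58.G24Gen
open Cfsg.Agent.Lib.Helper58.G24Act Cfsg.Agent.Lib.Helper58.FastChain Cfsg.Agent.Lib.Helper58.G24Chain

/-! ### level 0 -/

theorem fix0 : rangeAll 0 7 (fun j => Nat.beq (tab0 j 63) 63) = true := by decide +kernel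
theorem head0 : wl0 0 = 0 := by decide +kernel
theorem words0 : rangeAll 0 4095 (fun a => lettersLt 8 (wc0 a) (wl0 a)) = true := by decide +kernel
theorem inj0 : rangeAll 0 4095 (fun a => Nat.beq (pos0 (actP tab0 (wc0 a) (wl0 a) 63)) a) = true := by
  decide +kernel

theorem step0 (j : ℕ) (hj : j < 8) (a : ℕ) (ha : a < 4095) :
    stepF tab0 chkL 7 4095 wc0 wl0 j a (ea0 j a) (ec0 j a) (el0 j a) = true := by
  interval_cases j
  · exact G24Lv0g0.step a ha
  · exact G24Lv0g1.step a ha
  · exact G24Lv0g2.step a ha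
  · exact G24Lv0g3.step a ha
  · exact G24Lv0g4.step a ha
  · exact G24Lv0g5.step a ha
  · exact G24Lv0g6.step a ha
  · exact G24Lv0g7.step a ha

theorem ok0 : Data.LevelOK D0 8 7 63 (transv 4095 wc0 wl0) [] :=
  levelOK_fast D0 8 7 63 4095 wc0 wl0 pos0 ea0 ec0 el0 (le_refl 8) (by show 63 < 8190; norm_num)
    (by norm_num) (by norm_num) fix0 head0 words0 inj0 step0

/-! ### level 1 -/

theorem fix1 : rangeAll 0 3 (fun j => Nat.beq (tab0 j 15) 15) = true := by decide +kernel
theorem head1 : wl1 0 = 0 := by decide +kernel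
theorem words1 : rangeAll 0 1024 (fun a => lettersLt 7 (wc1 a) (wl1 a)) = true := by decide +kernel
theorem inj1 : rangeAll 0 1024 (fun a => Nat.beq (pos1 (actP tab0 (wc1 a) (wl1 a) 15)) a) = true := by
  decide +kernel

theorem ok1 : Data.LevelOK D0 7 3 15 (transv 1024 wc1 wl1) [] :=
  levelOK_fast D0 7 3 15 1024 wc1 wl1 pos1 ea1 ec1 el1 (by show 7 ≤ 8; norm_num)
    (by show 15 < 8190; norm_num) (by norm_num) (by norm_num) fix1 head1 words1 inj1 G24Lv12.step1

/-! ### level 2 -/

theorem fix2 : rangeAll 0 0 (fun j => Nat.beq (tab0 j 19) 19) = true := rfl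
theorem head2 : wl2 0 = 0 := by decide +kernel
theorem words2 : rangeAll 0 60 (fun a => lettersLt 3 (wc2 a) (wl2 a)) = true := by decide +kernel
theorem inj2 : rangeAll 0 60 (fun a => Nat.beq (pos2 (actP tab0 (wc2 a) (wl2 a) 19)) a) = true := by
  decide +kernel

theorem ok2 : Data.LevelOK D0 3 0 19 (transv 60 wc2 wl2) [] :=
  levelOK_fast D0 3 0 19 60 wc2 wl2 pos2 ea2 ec2 el2 (by show 3 ≤ 8; norm_num)
    (by show 19 < 8190; norm_num) (by norm_num) (by norm_num) fix2 head2 words2 inj2 G24Lv12.step2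

/-! ### the order and the trivial stabiliser -/

instance : Finite GG := inferInstance

theorem card_H : Nat.card (D0.H 8) = 251596800 := by
  rw [ok0.card, ok1.card, ok2.card, Data.card_H_zero, transv_length, transv_length, transv_length]

theorem eq_one_of_fix (g : GG) (hg : g ∈ D0.H 8) (h0 : g • D0.pt 63 = D0.pt 63)
    (h1 : g • D0.pt 15 = D0.pt 15) (h2 : g • D0.pt 19 = D0.pt 19) : g = 1 := by
  have e0 : g ∈ D0.H 7 := by
    rw [← ok0.inf_stabilizer]
    exact ⟨hg, h0⟩
  have e1 : g ∈ D0.H 3 := by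
    rw [← ok1.inf_stabilizer]
    exact ⟨e0, h1⟩
  have e2 : g ∈ D0.H 0 := by
    rw [← ok2.inf_stabilizer]
    exact ⟨e1, h2⟩
  rw [Data.H_zero, Subgroup.mem_bot] at e2
  exact e2

/-! ### the first projection is injective on the group -/

theorem cY_zero : rangeAll 0 4095 (fun x => Nat.beq (cY x) 0) = true := by decide +kernel

theorem vecA6_zero : vecA pos6 0 = (0 : V6) := by
  funext i
  show f4 (dig (pos6 i) 0) = 0
  rw [dig_zero]
  rfl

theorem fix_of_fst_eq_one (g : GG) (h : g.1 = 1) (x : ℕ) (hx : x < 4095) : g • D0.pt x = D0.pt x := by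
  have hc : cY x = 0 := Nat.eq_of_beq_eq_true (rangeAll_sound 0 4095 _ cY_zero x (Nat.zero_le x) (by omega))
  show g • G24Gen.pt x = G24Gen.pt x
  unfold G24Gen.pt
  rw [smul_def, hc, vecA6_zero, h]
  simp

theorem fst_injective (g : GG) (hg : g ∈ D0.H 8) (h : fstHom g = 1) : g = 1 :=
  eq_one_of_fix g hg (fix_of_fst_eq_one g h 63 (by norm_num)) (fix_of_fst_eq_one g h 15 (by norm_num))
    (fix_of_fst_eq_one g h 19 (by norm_num))

/-- the group -/
abbrev Ds : Subgroup GG := D0.H 8

/-- the isomorphism of the diagonal group with the Chevalley group over the concrete field -/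
noncomputable def toChev : ↥Ds ≃* ↥(chevG2.group F) :=
  (MonoidHom.ofInjective (f := fstHom.comp Ds.subtype) (by
    rw [injective_iff_map_eq_one]
    intro g hg
    apply Subtype.ext
    exact fst_injective g.1 g.2 hg)).trans
  (MulEquiv.subgroupCongr (by rw [MonoidHom.range_comp, Subgroup.range_subtype]; exact map_fst))

end Cfsg.Agent.Lib.Helper58.G24Levels
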