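import Mathlib
import Cfsg.Prelude.Def_ChevG2

/-!
# A Chevalley group over two isomorphic fields
-/

set_option autoImplicit false

namespace Cfsg.Agent.Lib.Helper58.G2Transfer

open Cfsg Cfsg.Lie

variable (D : ChevalleyDatum) {F₁ F₂ : Type*} [Field F₁] [Field F₂]

theorem xMat_map (f : F₁ →+* F₂) (r : Fin D.nroots) (t : F₁) :
    (D.xMat F₁ r t).map f = D.xMat F₂ r (f t) := by
  ext row col
  rcases row with i' | u <;> rcases col with i | s
  · simp only [ChevalleyDatum.xMat, Matrix.map_apply, Matrix.of_apply]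
    split_ifs <;> simp
  · simp only [ChevalleyDatum.xMat, Matrix.map_apply, Matrix.of_apply]
    split_ifs <;> simp
  · simp only [ChevalleyDatum.xMat, Matrix.map_apply, Matrix.of_apply]
    split_ifs <;> simp
  · simp only [ChevalleyDatum.xMat, Matrix.map_apply, Matrix.of_apply]
    split_ifs <;> simp [map_list_sum, List.map_map, Function.comp_def]

/-- the isomorphism of general linear groups -/
noncomputable def glEquiv (e : F₁ ≃+* F₂) : GL D.Idx F₁ ≃* GL D.Idx F₂ :=
  Units.mapEquiv (RingEquiv.mapMatrix e).toMulEquiv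

theorem coe_glEquiv (e : F₁ ≃+* F₂) (g : GL D.Idx F₁) :
    ((glEquiv D e g : GL D.Idx F₂) : Matrix D.Idx D.Idx F₂) =
      (g : Matrix D.Idx D.Idx F₁).map e := rfl

theorem coe_glEquiv_symm (e : F₁ ≃+* F₂) (g : GL D.Idx F₂) :
    (((glEquiv D e).symm g : GL D.Idx F₁) : Matrix D.Idx D.Idx F₁) =
      (g : Matrix D.Idx D.Idx F₂).map e.symm := rfl

theorem map_group (e : F₁ ≃+* F₂) :
    (D.group F₁).map (glEquiv D e).toMonoidHom = D.group F₂ := by
  unfold ChevalleyDatum.group
  rw [MonoidHom.map_closure]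
  congr 1
  ext g
  constructor
  · rintro ⟨h, ⟨r, t, ht⟩, rfl⟩
    refine ⟨r, e t, ?_⟩
    show ((glEquiv D e h : GL D.Idx F₂) : Matrix D.Idx D.Idx F₂) = _
    rw [coe_glEquiv, ht]
    exact xMat_map D (e : F₁ →+* F₂) r t
  · rintro ⟨r, t, ht⟩
    refine ⟨(glEquiv D e).symm g, ⟨r, e.symm t, ?_⟩, ?_⟩
    · rw [coe_glEquiv_symm, ht]
      exact xMat_map D (e.symm : F₂ →+* F₁) r t
    · show glEquiv D e ((glEquiv D e).symm g) = g
      exact (glEquiv D e).apply_symm_apply g

/-- the isomorphism of Chevalley groups -/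
noncomputable def groupEquiv (e : F₁ ≃+* F₂) : ↥(D.group F₁) ≃* ↥(D.group F₂) :=
  ((glEquiv D e).subgroupMap (D.group F₁)).trans (MulEquiv.subgroupCongr (map_group D e))

end Cfsg.Agent.Lib.Helper58.G2Transfer
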