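import Mathlib
import Cfsg.Agent.Lib.Helper60.PrimeGraphExt

/-!
# Prime graphs of split extensions by elementary abelian 2-groups, second form

As helper60's `primeGraph_semidirect`, but fixed-point-freeness is only asked of the elements of odd prime
order `r` such that the complement has no element of order `2 r`.  Also: subgroups of prime order `p`
are conjugate when `p ^ 2` does not divide the order of the group.
-/

set_option autoImplicit false

namespace Cfsg.Agent.Lib.Helper58.PGExt

open SemidirectProduct Subgroup
open scoped Pointwise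

theorem no_two_mul_odd' {L V : Type*} [Group L] [CommGroup V] (φ : L →* MulAut V)
    (h : V ⋊[φ] L) (r : ℕ) (hh : orderOf h = 2 * r) (hr : r.Prime)
    (hx : orderOf h.right = r) (hfpf : ∀ v : V, φ h.right v = v → v = 1) : False := by
  have hk1 : (h ^ r).right = 1 := by
    have : (h ^ r).right = h.right ^ r := map_pow (rightHom : V ⋊[φ] L →* L) h r
    rw [this, ← hx, pow_orderOf_eq_one]
  have hkne : h ^ r ≠ 1 := by
    intro e
    have := orderOf_dvd_of_pow_eq_one e
    rw [hh] at this
    have hpos := hr.pos
    have := Nat.le_of_dvd hpos this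
    omega
  have hw : (h ^ r).left ≠ 1 := by
    intro e
    apply hkne
    ext
    · simpa using e
    · simpa using hk1
  have hcomm : h * h ^ r = h ^ r * h := (pow_mul_comm' h r).symm ▸ rfl
  have hl := congrArg SemidirectProduct.left hcomm
  rw [mul_left, mul_left, hk1, map_one, MulAut.one_apply] at hl
  have hfix : φ h.right (h ^ r).left = (h ^ r).left := by
    have : h.left * φ h.right (h ^ r).left = h.left * (h ^ r).left := by
      rw [hl, mul_comm]
    exact mul_left_cancel this
  exact hw (hfpf _ hfix)

theorem primeGraph_semidirect' {L V : Type*} [Group L] [Finite L] [CommGroup V] [Finite V]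
    (φ : L →* MulAut V) (hV : ∀ v : V, v ^ 2 = 1) (h2 : 2 ∣ Nat.card L)
    (hfpf : ∀ (x : L) (r : ℕ), r.Prime → r ≠ 2 → orderOf x = r → (¬ ∃ g : L, orderOf g = 2 * r) →
      ∀ v : V, φ x v = v → v = 1) :
    Cfsg.Agent.Lib.Helper60.SamePrimeGraph L (V ⋊[φ] L) := by
  constructor
  · intro p hp
    rw [SemidirectProduct.card]
    constructor
    · intro h
      exact Dvd.dvd.mul_left h _
    · intro h
      have hpV : IsPGroup 2 V := by
        intro v
        exact ⟨1, by simpa using hV v⟩
      obtain ⟨n, hn⟩ := IsPGroup.iff_card.mp hpV
      rw [hn] at h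
      rcases (Nat.Prime.dvd_mul hp).mp h with h' | h'
      · have := (Nat.prime_dvd_prime_iff_eq hp Nat.prime_two).mp (hp.dvd_of_dvd_pow h')
        rw [this]
        exact h2
      · exact h'
  · intro p q hp hq hpq
    constructor
    · rintro ⟨g, hg⟩
      refine ⟨inr g, ?_⟩
      rw [orderOf_injective (inr : L →* V ⋊[φ] L) inr_injective g, hg]
    · rintro ⟨h, hh⟩
      by_contra hcon
      push Not at hcon
      have hd : orderOf h.right ∣ p * q := by
        apply orderOf_dvd_of_pow_eq_one
        have : (h ^ (p * q)).right = h.right ^ (p * q) := map_pow (rightHom : V ⋊[φ] L →* L) h (p * q)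
        rw [← this, ← hh, pow_orderOf_eq_one]
        rfl
      have hdne : orderOf h.right ≠ p * q := hcon h.right
      have h2d : p * q ∣ 2 * orderOf h.right := by
        rw [← hh]
        apply orderOf_dvd_of_pow_eq_one
        have hr1 : (h ^ orderOf h.right).right = 1 := by
          have : (h ^ orderOf h.right).right = h.right ^ orderOf h.right :=
            map_pow (rightHom : V ⋊[φ] L →* L) h _
          rw [this, pow_orderOf_eq_one]
        rw [mul_comm, pow_mul]
        ext
        · rw [pow_two, mul_left, hr1, map_one, MulAut.one_apply, ← pow_two, hV]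
          rfl
        · rw [pow_two, mul_right, hr1]
          simp
      have hp2 := hp.two_le
      have hq2 := hq.two_le
      rcases Nat.coprime_or_dvd_of_prime hp (orderOf h.right) with hc | hc
      · have hdq : orderOf h.right ∣ q := (Nat.Coprime.dvd_mul_left hc.symm).mp hd
        rcases (Nat.dvd_prime hq).mp hdq with h1 | h1
        · rw [h1] at h2d
          have := Nat.le_of_dvd (by norm_num) h2d
          have : p * q ≥ 2 * 3 ∨ p * q ≥ 3 * 2 := by
            rcases Nat.lt_or_ge 2 p with h3 | h3
            · right; exact Nat.mul_le_mul h3 hq2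
            · left
              have hp' : p = 2 := le_antisymm h3 hp2
              have : q ≠ 2 := fun e => hpq (hp'.trans e.symm)
              have : 3 ≤ q := by omega
              exact Nat.mul_le_mul hp2 this
          omega
        · rw [h1] at h2d
          have hp2' : p ∣ 2 := by
            have : p * q ∣ 2 * q := h2d
            exact Nat.dvd_of_mul_dvd_mul_right hq.pos this
          have hpe : p = 2 := (Nat.prime_dvd_prime_iff_eq hp Nat.prime_two).mp hp2'
          subst hpe
          exact no_two_mul_odd' φ h q hh hq h1
            (hfpf h.right q hq (fun e => hpq e.symm) h1 (by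
              rintro ⟨g, hg⟩
              exact hcon g hg))
      · obtain ⟨e, he⟩ := hc
        have heq : e ∣ q := by
          rw [he] at hd
          exact Nat.dvd_of_mul_dvd_mul_left hp.pos hd
        rcases (Nat.dvd_prime hq).mp heq with h1 | h1
        · rw [h1, mul_one] at he
          rw [he] at h2d
          have hq2' : q ∣ 2 := by
            have : q * p ∣ 2 * p := by rwa [mul_comm q p]
            exact Nat.dvd_of_mul_dvd_mul_right hp.pos this
          have hqe : q = 2 := (Nat.prime_dvd_prime_iff_eq hq Nat.prime_two).mp hq2'
          subst hqe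
          rw [mul_comm] at hh
          exact no_two_mul_odd' φ h p hh hp he
            (hfpf h.right p hp hpq he (by
              rintro ⟨g, hg⟩
              exact hcon g (by rw [hg, mul_comm])))
        · rw [h1] at he
          exact hdne he

/-- two elements of prime order `p`, when `p ^ 2` does not divide the order of the group: the first is
conjugate to a power of the second -/
theorem exists_conj_zpow {G : Type*} [Group G] [Finite G] (p : ℕ) [hp : Fact p.Prime] (s x : G)
    (hs : orderOf s = p) (hx : orderOf x = p) (hcard : ¬ p ^ 2 ∣ Nat.card G) :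
    ∃ g : G, ∃ i : ℤ, s = g * x ^ i * g⁻¹ := by
  have hGpos : Nat.card G ≠ 0 := Nat.card_pos.ne'
  have hdvd : p ^ 1 ∣ Nat.card G := by
    rw [pow_one, ← hs]
    exact orderOf_dvd_natCard s
  have hfac : (Nat.card G).factorization p = 1 := by
    have h1 : 1 ≤ (Nat.card G).factorization p := (hp.out.pow_dvd_iff_le_factorization hGpos).mp hdvd
    have h2 : ¬ 2 ≤ (Nat.card G).factorization p := fun h =>
      hcard ((hp.out.pow_dvd_iff_le_factorization hGpos).mpr h)
    omega
  let P : Sylow p G := Sylow.ofCard (zpowers x) (by rw [Nat.card_zpowers, hx, hfac, pow_one])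
  let Q : Sylow p G := Sylow.ofCard (zpowers s) (by rw [Nat.card_zpowers, hs, hfac, pow_one])
  have hP : (P : Subgroup G) = zpowers x := Sylow.coe_ofCard _ _
  have hQ : (Q : Subgroup G) = zpowers s := Sylow.coe_ofCard _ _
  obtain ⟨g, hg⟩ := MulAction.exists_smul_eq G P Q
  have hg' : (Q : Subgroup G) = MulAut.conj g • (P : Subgroup G) := by
    rw [← hg]
    exact Sylow.pointwise_smul_def
  have hsQ : s ∈ MulAut.conj g • (P : Subgroup G) := by
    rw [← hg', hQ]
    exact mem_zpowers s
  rw [Subgroup.mem_pointwise_smul_iff_inv_smul_mem, hP] at hsQ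
  obtain ⟨i, hi⟩ := mem_zpowers_iff.mp hsQ
  refine ⟨g, i, ?_⟩
  rw [hi]
  simp [MulAut.smul_def]
  group

end Cfsg.Agent.Lib.Helper58.PGExt
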