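import Mathlib
import Cfsg.Agent.Lib.Helper58.G24Levels
import Cfsg.Agent.Lib.Helper58.EvTools
import Cfsg.Agent.Lib.Helper58.PGExt

/-!
# `G₂(4)`: the split extensions by sums of the six-dimensional module have the prime graph of the group
-/

set_option autoImplicit false
set_option maxRecDepth 100000
set_option Elab.async false

namespace Cfsg.Agent.Lib.Helper58.G24Main

open Cfsg Cfsg.Lie Cfsg.Agent.Lib.Helper89 Cfsg.Agent.Lib.Helper89.TableChain2
open Cfsg.Agent.Lib.Helper14.SU32
open Cfsg.Agent.Lib.Helper58.G24Vec Cfsg.Agent.Lib.Helper58.G24Data Cfsg.Agent.Lib.Helper58.G24Gen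
open Cfsg.Agent.Lib.Helper58.G24Act Cfsg.Agent.Lib.Helper58.FastChain Cfsg.Agent.Lib.Helper58.G24Chain
open Cfsg.Agent.Lib.Helper58.G24Levels Cfsg.Agent.Lib.Helper58.EvTools

/-! ### element orders -/

theorem x6_lt : ∀ c ∈ x6W, c < D0.m := by
  show ∀ c ∈ x6W, c < 8
  decide

theorem x10_lt : ∀ c ∈ x10W, c < D0.m := by
  show ∀ c ∈ x10W, c < 8
  decide

theorem s7_lt : ∀ c ∈ s7W, c < D0.m := by
  show ∀ c ∈ s7W, c < 8
  decide

theorem s13_lt : ∀ c ∈ s13W, c < D0.m := by
  show ∀ c ∈ s13W, c < 8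
  decide

theorem x6_pow6 : D0.chk.all (fun x => Nat.beq (act D0.tab ((List.replicate 6 x6W).flatten) x) x) = true := by
  decide +kernel

theorem x6_pow3 : D0.chk.any (fun x => !(Nat.beq (act D0.tab ((List.replicate 3 x6W).flatten) x) x)) = true := by
  decide +kernel

theorem x6_pow2 : D0.chk.any (fun x => !(Nat.beq (act D0.tab ((List.replicate 2 x6W).flatten) x) x)) = true := by
  decide +kernel

theorem order_x6 : orderOf (D0.ev x6W) = 6 := by
  apply orderOf_eq_of_pow_and_pow_div_prime (by norm_num) (pow_eq_one D0 x6W 6 x6_lt x6_pow6)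
  intro p hp hpd
  have h23 : p = 2 ∨ p = 3 := by
    have : p ∣ 2 * 3 := hpd
    rcases (Nat.Prime.dvd_mul hp).1 this with h | h
    · left; exact (Nat.prime_dvd_prime_iff_eq hp Nat.prime_two).1 h
    · right; exact (Nat.prime_dvd_prime_iff_eq hp Nat.prime_three).1 h
  rcases h23 with rfl | rfl
  · exact pow_ne_one D0 x6W 3 x6_lt x6_pow3
  · exact pow_ne_one D0 x6W 2 x6_lt x6_pow2

theorem exists_six : ∃ x : ↥Ds, orderOf x = 2 * 3 :=
  ⟨⟨D0.ev x6W, D0.ev_mem 8 x6W x6_lt⟩, by rw [Subgroup.orderOf_mk]; exact order_x6⟩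

theorem x10_pow10 : D0.chk.all (fun x => Nat.beq (act D0.tab ((List.replicate 10 x10W).flatten) x) x) = true := by
  decide +kernel

theorem x10_pow5 : D0.chk.any (fun x => !(Nat.beq (act D0.tab ((List.replicate 5 x10W).flatten) x) x)) = true := by
  decide +kernel

theorem x10_pow2 : D0.chk.any (fun x => !(Nat.beq (act D0.tab ((List.replicate 2 x10W).flatten) x) x)) = true := by
  decide +kernel

theorem order_x10 : orderOf (D0.ev x10W) = 10 := by
  apply orderOf_eq_of_pow_and_pow_div_prime (by norm_num) (pow_eq_one D0 x10W 10 x10_lt x10_pow10)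
  intro p hp hpd
  have h25 : p = 2 ∨ p = 5 := by
    have : p ∣ 2 * 5 := hpd
    rcases (Nat.Prime.dvd_mul hp).1 this with h | h
    · left; exact (Nat.prime_dvd_prime_iff_eq hp Nat.prime_two).1 h
    · right; exact (Nat.prime_dvd_prime_iff_eq hp Nat.prime_five).1 h
  rcases h25 with rfl | rfl
  · exact pow_ne_one D0 x10W 5 x10_lt x10_pow5
  · exact pow_ne_one D0 x10W 2 x10_lt x10_pow2

theorem exists_ten : ∃ x : ↥Ds, orderOf x = 2 * 5 :=
  ⟨⟨D0.ev x10W, D0.ev_mem 8 x10W x10_lt⟩, by rw [Subgroup.orderOf_mk]; exact order_x10⟩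

theorem s7_pow : D0.chk.all (fun x => Nat.beq (act D0.tab ((List.replicate 7 s7W).flatten) x) x) = true := by
  decide +kernel

theorem s7_ne : D0.chk.any (fun x => !(Nat.beq (act D0.tab ((List.replicate 1 s7W).flatten) x) x)) = true := by
  decide +kernel

theorem order_s7 : orderOf (D0.ev s7W) = 7 := by
  have : Fact (Nat.Prime 7) := ⟨by norm_num⟩
  apply orderOf_eq_prime (pow_eq_one D0 s7W 7 s7_lt s7_pow)
  have := pow_ne_one D0 s7W 1 s7_lt s7_ne
  rwa [pow_one] at this

theorem s13_pow : D0.chk.all (fun x => Nat.beq (act D0.tab ((List.replicate 13 s13W).flatten) x) x) = true := by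
  decide +kernel

theorem s13_ne : D0.chk.any (fun x => !(Nat.beq (act D0.tab ((List.replicate 1 s13W).flatten) x) x)) = true := by
  decide +kernel

theorem order_s13 : orderOf (D0.ev s13W) = 13 := by
  have : Fact (Nat.Prime 13) := ⟨by norm_num⟩
  apply orderOf_eq_prime (pow_eq_one D0 s13W 13 s13_lt s13_pow)
  have := pow_ne_one D0 s13W 1 s13_lt s13_ne
  rwa [pow_one] at this

/-- the element of order 7 -/
def s7 : ↥Ds := ⟨D0.ev s7W, D0.ev_mem 8 s7W s7_lt⟩

/-- the element of order 13 -/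
def s13 : ↥Ds := ⟨D0.ev s13W, D0.ev_mem 8 s13W s13_lt⟩

theorem orderOf_s7 : orderOf s7 = 7 := by
  unfold s7
  rw [Subgroup.orderOf_mk]
  exact order_s7

theorem orderOf_s13 : orderOf s13 = 13 := by
  unfold s13
  rw [Subgroup.orderOf_mk]
  exact order_s13

/-! ### the nonzero vectors of the six-dimensional module are points -/

theorem cX_zeroB : rangeAll 4095 4095 (fun x => Nat.beq (cX x) 0) = true := by decide +kernel

theorem code_idB : rangeAll 0 4096 (fun c => Nat.beq (codeA 6 c) c) = true := by decide +kernel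

theorem vecA14_zero : vecA pos14 0 = (0 : V14) := by
  funext i
  show f4 (dig (pos14 i) 0) = 0
  rw [dig_zero]
  rfl

theorem vecA6_inj (c c' : ℕ) (hc : c < 4096) (hc' : c' < 4096) (h : vecA pos6 c = (vecA pos6 c' : V6)) :
    c = c' := by
  have h1 : codeA 6 c = c :=
    Nat.eq_of_beq_eq_true (rangeAll_sound 0 4096 _ code_idB c (Nat.zero_le c) (by omega))
  have h2 : codeA 6 c' = c' :=
    Nat.eq_of_beq_eq_true (rangeAll_sound 0 4096 _ code_idB c' (Nat.zero_le c') (by omega))
  rw [← h1, ← h2, ← valA_vecA pos6 6 (fun f => sum6 f), ← valA_vecA pos6 6 (fun f => sum6 f), h]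

theorem card_V6 : Fintype.card V6 = 4096 := by
  show Fintype.card (Fin 6 → F4c) = 4096
  rw [Fintype.card_fun, Fintype.card_fin, F4c.card_eq]
  norm_num

theorem vecA6_surj (v : V6) : ∃ c : ℕ, c < 4096 ∧ vecA pos6 c = v := by
  have hinj : Function.Injective (fun c : Fin 4096 => (vecA pos6 c.val : V6)) := by
    intro c c' h
    exact Fin.ext (vecA6_inj c.val c'.val c.isLt c'.isLt h)
  have hbij := (Fintype.bijective_iff_injective_and_card _).2 ⟨hinj, by rw [Fintype.card_fin, card_V6]⟩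
  obtain ⟨c, hc⟩ := hbij.2 v
  exact ⟨c.val, c.isLt, hc⟩

theorem exists_pt (v : V6) (hv : v ≠ 0) :
    ∃ x : ℕ, 4095 ≤ x ∧ x < 8190 ∧ D0.pt x = ((0 : V14), v) := by
  obtain ⟨c, hc, hcv⟩ := vecA6_surj v
  have hc0 : c ≠ 0 := by
    rintro rfl
    apply hv
    rw [← hcv]
    exact vecA6_zero
  refine ⟨c + 4094, by omega, by omega, ?_⟩
  have h1 : cX (c + 4094) = 0 :=
    Nat.eq_of_beq_eq_true (rangeAll_sound 4095 4095 _ cX_zeroB (c + 4094) (by omega) (by omega))
  have h2 : cY (c + 4094) = c := by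
    show c + 4094 - 4094 = c
    omega
  show G24Gen.pt (c + 4094) = _
  unfold G24Gen.pt
  rw [h1, h2, vecA14_zero, hcv]

/-- a word moving all points of the second part has no nonzero fixed vector on the six-dimensional module -/
theorem fpf_word (w : List ℕ) (hw : ∀ c ∈ w, c < D0.m)
    (hmove : rangeAll 4095 4095 (fun x => !(Nat.beq (act tab0 w x) x)) = true) (v : V6)
    (h : ((D0.ev w).2 : Matrix (Fin 6) (Fin 6) F).mulVec v = v) : v = 0 := by
  by_contra hv
  obtain ⟨x, hx1, hx2, hpt⟩ := exists_pt v hv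
  have hxN : x < D0.N := hx2
  have h1 := D0.ev_smul w hw x hxN
  have h2 : D0.ev w • D0.pt x = D0.pt x := by
    rw [hpt, smul_def]
    simp only [Matrix.mulVec_zero]
    rw [h]
  rw [h2] at h1
  have h3 := D0.pt_inj _ hxN _ (D0.act_lt w hw x hxN) h1
  have h4 := rangeAll_sound 4095 4095 _ hmove x hx1 (by omega)
  have h5 : act tab0 w x = x := h3.symm
  rw [h5] at h4
  simp at h4

theorem s7_move : rangeAll 4095 4095 (fun x => !(Nat.beq (act tab0 s7W x) x)) = true := by decide +kernel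

theorem s13_move : rangeAll 4095 4095 (fun x => !(Nat.beq (act tab0 s13W x) x)) = true := by decide +kernel

theorem s7_fix (u : V6) (h : (((s7 : ↥Ds) : GG).2 : Matrix (Fin 6) (Fin 6) F).mulVec u = u) : u = 0 :=
  fpf_word s7W s7_lt s7_move u h

theorem s13_fix (u : V6) (h : (((s13 : ↥Ds) : GG).2 : Matrix (Fin 6) (Fin 6) F).mulVec u = u) : u = 0 :=
  fpf_word s13W s13_lt s13_move u h

/-! ### the modules -/

/-- the sum of `N` copies of the six-dimensional module, written multiplicatively -/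
abbrev W (N : ℕ) : Type := Multiplicative (Fin N → V6)

theorem snd_inv_mul (g : GG) : (g⁻¹).2 * g.2 = 1 := by
  rw [← Prod.snd_mul, inv_mul_cancel]
  rfl

theorem snd_mul_inv (g : GG) : g.2 * (g⁻¹).2 = 1 := by
  rw [← Prod.snd_mul, mul_inv_cancel]
  rfl

/-- the action of an element on the module -/
def actAut (N : ℕ) (g : GG) : MulAut (W N) where
  toFun v := Multiplicative.ofAdd fun i =>
    (g.2 : Matrix (Fin 6) (Fin 6) F).mulVec (Multiplicative.toAdd v i)
  invFun v := Multiplicative.ofAdd fun i =>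
    ((g⁻¹).2 : Matrix (Fin 6) (Fin 6) F).mulVec (Multiplicative.toAdd v i)
  left_inv v := by
    apply Multiplicative.toAdd.injective
    funext i
    show ((g⁻¹).2 : Matrix (Fin 6) (Fin 6) F).mulVec
      ((g.2 : Matrix (Fin 6) (Fin 6) F).mulVec (Multiplicative.toAdd v i)) = Multiplicative.toAdd v i
    rw [Matrix.mulVec_mulVec, ← Units.val_mul, snd_inv_mul, Units.val_one, Matrix.one_mulVec]
  right_inv v := by
    apply Multiplicative.toAdd.injective
    funext i
    show (g.2 : Matrix (Fin 6) (Fin 6) F).mulVec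
      (((g⁻¹).2 : Matrix (Fin 6) (Fin 6) F).mulVec (Multiplicative.toAdd v i)) = Multiplicative.toAdd v i
    rw [Matrix.mulVec_mulVec, ← Units.val_mul, snd_mul_inv, Units.val_one, Matrix.one_mulVec]
  map_mul' v v' := by
    apply Multiplicative.toAdd.injective
    funext i
    show (g.2 : Matrix (Fin 6) (Fin 6) F).mulVec (Multiplicative.toAdd v i + Multiplicative.toAdd v' i) =
      (g.2 : Matrix (Fin 6) (Fin 6) F).mulVec (Multiplicative.toAdd v i) +
        (g.2 : Matrix (Fin 6) (Fin 6) F).mulVec (Multiplicative.toAdd v' i)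
    rw [Matrix.mulVec_add]

theorem actAut_apply (N : ℕ) (g : GG) (v : W N) (i : Fin N) :
    Multiplicative.toAdd (actAut N g v) i =
      (g.2 : Matrix (Fin 6) (Fin 6) F).mulVec (Multiplicative.toAdd v i) := rfl

/-- the action as a homomorphism -/
def actHom (N : ℕ) : GG →* MulAut (W N) where
  toFun := actAut N
  map_one' := by
    apply MulEquiv.ext
    intro v
    apply Multiplicative.toAdd.injective
    funext i
    rw [actAut_apply, MulAut.one_apply]
    show ((1 : GL (Fin 6) F) : Matrix (Fin 6) (Fin 6) F).mulVec (Multiplicative.toAdd v i) = _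
    rw [Units.val_one, Matrix.one_mulVec]
  map_mul' g h := by
    apply MulEquiv.ext
    intro v
    apply Multiplicative.toAdd.injective
    funext i
    rw [actAut_apply, MulAut.mul_apply, actAut_apply, actAut_apply, Matrix.mulVec_mulVec]
    rfl

/-- the action of the group -/
def phi (N : ℕ) : ↥Ds →* MulAut (W N) := (actHom N).comp Ds.subtype

theorem phi_apply (N : ℕ) (g : ↥Ds) (v : W N) (i : Fin N) :
    Multiplicative.toAdd (phi N g v) i =
      ((g : GG).2 : Matrix (Fin 6) (Fin 6) F).mulVec (Multiplicative.toAdd v i) := rfl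

theorem add_self4 : ∀ a : F, a + a = 0 := by decide

theorem W_sq (N : ℕ) (v : W N) : v ^ 2 = 1 := by
  apply Multiplicative.toAdd.injective
  rw [toAdd_pow, toAdd_one, two_nsmul]
  funext i k
  exact add_self4 _

instance (N : ℕ) : Finite (W N) := Finite.of_equiv (Fin N → V6) Multiplicative.ofAdd

theorem card_W (N : ℕ) : Nat.card (W N) = 4096 ^ N := by
  rw [Nat.card_congr (Multiplicative.toAdd : W N ≃ (Fin N → V6)), Nat.card_eq_fintype_card,
    Fintype.card_fun, Fintype.card_fin, card_V6]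

/-! ### arithmetic -/

theorem prime_dvd_card {r : ℕ} (hr : r.Prime) (h : r ∣ 251596800) :
    r = 2 ∨ r = 3 ∨ r = 5 ∨ r = 7 ∨ r = 13 := by
  have e : 251596800 = 2 ^ 12 * 3 ^ 3 * 5 ^ 2 * 7 * 13 := by norm_num
  rw [e] at h
  rcases (Nat.Prime.dvd_mul hr).1 h with h | h
  · rcases (Nat.Prime.dvd_mul hr).1 h with h | h
    · rcases (Nat.Prime.dvd_mul hr).1 h with h | h
      · rcases (Nat.Prime.dvd_mul hr).1 h with h | h
        · exact Or.inl ((Nat.prime_dvd_prime_iff_eq hr Nat.prime_two).1 (hr.dvd_of_dvd_pow h))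
        · exact Or.inr (Or.inl ((Nat.prime_dvd_prime_iff_eq hr Nat.prime_three).1 (hr.dvd_of_dvd_pow h)))
      · exact Or.inr (Or.inr (Or.inl ((Nat.prime_dvd_prime_iff_eq hr Nat.prime_five).1
          (hr.dvd_of_dvd_pow h))))
    · exact Or.inr (Or.inr (Or.inr (Or.inl ((Nat.prime_dvd_prime_iff_eq hr (by norm_num)).1 h))))
  · exact Or.inr (Or.inr (Or.inr (Or.inr ((Nat.prime_dvd_prime_iff_eq hr (by norm_num)).1 h))))

/-! ### fixed points -/

theorem fpf_of_elt (N : ℕ) (p : ℕ) [Fact p.Prime] (s : ↥Ds) (hs : orderOf s = p)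
    (hp2 : ¬ p ^ 2 ∣ 251596800)
    (hfix : ∀ u : V6, (((s : ↥Ds) : GG).2 : Matrix (Fin 6) (Fin 6) F).mulVec u = u → u = 0)
    (x : ↥Ds) (hx : orderOf x = p) (v : W N) (hv : phi N x v = v) : v = 1 := by
  obtain ⟨g, i, hg⟩ := PGExt.exists_conj_zpow p s x hs hx (by
    have : Nat.card ↥Ds = 251596800 := card_H
    rw [this]
    exact hp2)
  have hxi : phi N (x ^ i) v = v := by
    rw [map_zpow]
    have hmem : phi N x ∈ MulAction.stabilizer (MulAut (W N)) v := by
      rw [MulAction.mem_stabilizer_iff]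
      exact hv
    have h2 := (MulAction.stabilizer (MulAut (W N)) v).zpow_mem hmem i
    rw [MulAction.mem_stabilizer_iff] at h2
    exact h2
  have hsw : phi N s (phi N g v) = phi N g v := by
    rw [hg, map_mul, map_mul, map_inv, MulAut.mul_apply, MulAut.mul_apply, MulAut.inv_apply_self, hxi]
  have hw : phi N g v = 1 := by
    apply Multiplicative.toAdd.injective
    funext j
    apply hfix
    have := congrArg (fun w : W N => Multiplicative.toAdd w j) hsw
    exact this
  exact (EmbeddingLike.map_eq_one_iff (f := phi N g)).1 hw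

theorem fpf (N : ℕ) (x : ↥Ds) (r : ℕ) (hr : r.Prime) (hr2 : r ≠ 2) (hx : orderOf x = r)
    (hno : ¬ ∃ g : ↥Ds, orderOf g = 2 * r) (v : W N) (hv : phi N x v = v) : v = 1 := by
  have hdvd : r ∣ 251596800 := by
    have : Nat.card ↥Ds = 251596800 := card_H
    rw [← this, ← hx]
    exact orderOf_dvd_natCard x
  rcases prime_dvd_card hr hdvd with rfl | rfl | rfl | rfl | rfl
  · exact absurd rfl hr2
  · exact absurd exists_six hno
  · exact absurd exists_ten hno
  · have : Fact (Nat.Prime 7) := ⟨by norm_num⟩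
    exact fpf_of_elt N 7 s7 orderOf_s7 (by norm_num) s7_fix x hx v hv
  · have : Fact (Nat.Prime 13) := ⟨by norm_num⟩
    exact fpf_of_elt N 13 s13 orderOf_s13 (by norm_num) s13_fix x hx v hv

theorem two_dvd_card : 2 ∣ Nat.card ↥Ds := by
  have : Nat.card ↥Ds = 251596800 := card_H
  rw [this]
  norm_num

/-- the split extension has the prime graph of the group -/
theorem same_graph (N : ℕ) :
    Cfsg.Agent.Lib.Helper60.SamePrimeGraph ↥Ds (W N ⋊[phi N] ↥Ds) :=
  PGExt.primeGraph_semidirect' (phi N) (W_sq N) two_dvd_card (fpf N)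

theorem card_ext (N : ℕ) : N < Nat.card (W N ⋊[phi N] ↥Ds) := by
  rw [SemidirectProduct.card, card_W]
  have h1 : N < 2 ^ N := Nat.lt_two_pow_self
  have h2 : 2 ^ N ≤ 4096 ^ N := Nat.pow_le_pow_left (by norm_num) N
  have h3 : 0 < Nat.card ↥Ds := Nat.card_pos
  calc N < 4096 ^ N := lt_of_lt_of_le h1 h2
    _ ≤ 4096 ^ N * Nat.card ↥Ds := Nat.le_mul_of_pos_right _ h3

end Cfsg.Agent.Lib.Helper58.G24Main
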