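import Mathlib
import Cfsg.Agent.Lib.Helper58.G24Main
import Cfsg.Agent.Lib.Helper89.SafePres

/-!
# `G₂(4)`: generators given as words in the eight root involutions of `D0`, and checking of relators

Generic glue between the table-driven group `Ds = D0.H 8` (of order `251596800`) and the
safe-presentation pipeline of `Helper89`: for a list `tw` of words in the eight letters of `D0`,
`gG tw i = D0.ev (tw i)`; a word in the letters `2 i`, `2 i + 1` (for `t_i`, `t_i⁻¹`) is expanded to
a word in the letters of `D0` (the inverse of a word in involutions is the reversed word) and is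
tested on the twenty check points.
-/

set_option autoImplicit false
set_option maxRecDepth 100000

namespace Cfsg.Agent.Lib.Helper58.G24Pres

open Cfsg Cfsg.Agent.Lib.Helper89 Cfsg.Agent.Lib.Helper89.TableChain2
open Cfsg.Agent.Lib.Helper89.CosetCert Cfsg.Agent.Lib.Helper89.SafePres
open Cfsg.Agent.Lib.Helper58.G24Data Cfsg.Agent.Lib.Helper58.G24Gen
open Cfsg.Agent.Lib.Helper58.G24Act Cfsg.Agent.Lib.Helper58.G24Levels

/-! ### the letters of `D0` are involutions -/

theorem gen0_mul_self (j : ℕ) : gen0 j * gen0 j = 1 := by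
  unfold gen0
  split_ifs with hj
  · apply Prod.ext
    · apply Units.ext
      exact xm_sqF ⟨j, hj⟩
    · apply Units.ext
      exact ym_sqF ⟨j, hj⟩
  · exact one_mul 1

theorem gen_mul_self (j : ℕ) : D0.gen j * D0.gen j = 1 := gen0_mul_self _

theorem gen_inv (j : ℕ) : (D0.gen j)⁻¹ = D0.gen j :=
  inv_eq_of_mul_eq_one_left (gen_mul_self j)

theorem ev_reverse (l : List ℕ) : D0.ev l.reverse = (D0.ev l)⁻¹ := by
  induction l with
  | nil => simp [Data.ev]
  | cons j l ih =>
    rw [List.reverse_cons, Data.ev_append, ih, Data.ev_cons, Data.ev_cons, Data.ev_nil, mul_one,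
      mul_inv_rev, gen_inv]

/-! ### expansion of words -/

/-- the word of the letter `l` (`2 i ↦ tw i`, `2 i + 1 ↦` the reverse of `tw i`) -/
def expL (tw : List (List ℕ)) (l : ℕ) : List ℕ :=
  if l % 2 = 0 then tw.getD (l / 2) [] else (tw.getD (l / 2) []).reverse

/-- expansion of a word in the `t`-letters to a word in the letters of `D0` -/
def expand (tw : List (List ℕ)) (w : Word) : List ℕ := (w.map (expL tw)).flatten

/-- the generators in the ambient group -/
def gG (tw : List (List ℕ)) (i : ℕ) : GG := D0.ev (tw.getD i [])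

theorem lv_gG (tw : List (List ℕ)) (l : ℕ) : lv (gG tw) l = D0.ev (expL tw l) := by
  unfold lv expL gG
  split_ifs
  · rfl
  · rw [ev_reverse]

theorem ev_gG (tw : List (List ℕ)) (w : Word) : ev (gG tw) w = D0.ev (expand tw w) := by
  induction w with
  | nil => rfl
  | cons l w ih =>
    rw [CosetCert.ev_cons, ih, lv_gG]
    show _ = D0.ev (expL tw l ++ expand tw w)
    rw [Data.ev_append]

/-- all letters of all words are letters of `D0` -/
def twOK (tw : List (List ℕ)) : Bool := tw.all fun l => l.all fun c => Nat.blt c 8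

theorem tw_lt (tw : List (List ℕ)) (h : twOK tw = true) (i : ℕ) : ∀ c ∈ tw.getD i [], c < D0.m := by
  intro c hc
  by_cases hi : i < tw.length
  · rw [List.getD_eq_getElem _ _ hi] at hc
    unfold twOK at h
    rw [List.all_eq_true] at h
    have h1 := h _ (List.getElem_mem hi)
    rw [List.all_eq_true] at h1
    exact Nat.le_of_ble_eq_true (h1 c hc)
  · rw [List.getD_eq_default _ _ (by omega)] at hc
    simp at hc

theorem expL_lt (tw : List (List ℕ)) (h : twOK tw = true) (l : ℕ) : ∀ c ∈ expL tw l, c < D0.m := by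
  intro c hc
  unfold expL at hc
  split_ifs at hc
  · exact tw_lt tw h _ c hc
  · exact tw_lt tw h _ c (List.mem_reverse.1 hc)

theorem expand_lt (tw : List (List ℕ)) (h : twOK tw = true) (w : Word) :
    ∀ c ∈ expand tw w, c < D0.m := by
  intro c hc
  unfold expand at hc
  rw [List.mem_flatten] at hc
  obtain ⟨l', hl', hc'⟩ := hc
  rw [List.mem_map] at hl'
  obtain ⟨l, -, rfl⟩ := hl'
  exact expL_lt tw h l c hc'

theorem gG_mem (tw : List (List ℕ)) (h : twOK tw = true) (i : ℕ) : gG tw i ∈ Ds :=
  D0.ev_mem 8 _ (tw_lt tw h i)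

/-- the generators in the group `Ds` -/
def g (tw : List (List ℕ)) (h : twOK tw = true) (i : ℕ) : ↥Ds := ⟨gG tw i, gG_mem tw h i⟩

theorem coe_ev_g (tw : List (List ℕ)) (h : twOK tw = true) (w : Word) :
    ((ev (g tw h) w : ↥Ds) : GG) = D0.ev (expand tw w) := by
  rw [← ev_gG]
  exact ev_map_hom Ds.subtype (g tw h) w

/-! ### testing words on the check points -/

/-- the expanded word fixes the twenty check points -/
def wordOK (tw : List (List ℕ)) (r : Word) : Bool :=
  chkL.all fun x => Nat.beq (act tab0 (expand tw r) x) x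

/-- all words of the list are trivial -/
def relsOK (tw : List (List ℕ)) (rs : List Word) : Bool := rs.all (wordOK tw)

theorem ev_eq_one_of_wordOK (tw : List (List ℕ)) (h : twOK tw = true) (r : Word)
    (hr : wordOK tw r = true) : ev (g tw h) r = 1 := by
  apply Subtype.ext
  rw [coe_ev_g]
  show D0.ev (expand tw r) = 1
  rw [← D0.ev_nil]
  apply D0.ev_eq_of_act (expand_lt tw h r) (fun c hc => by simp at hc)
  intro x hx
  rw [act_nil]
  unfold wordOK at hr
  rw [List.all_eq_true] at hr
  exact Nat.eq_of_beq_eq_true (hr x hx)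

theorem relsOK_valid (tw : List (List ℕ)) (h : twOK tw = true) (rs : List Word)
    (hrs : relsOK tw rs = true) : ∀ r ∈ rs, ev (g tw h) r = 1 := by
  intro r hr
  unfold relsOK at hrs
  rw [List.all_eq_true] at hrs
  exact ev_eq_one_of_wordOK tw h r (hrs r hr)

/-- the expanded word moves one of the check points -/
def wordNE (tw : List (List ℕ)) (r : Word) : Bool :=
  chkL.any fun x => !(Nat.beq (act tab0 (expand tw r) x) x)

theorem ev_ne_one_of_wordNE (tw : List (List ℕ)) (h : twOK tw = true) (r : Word)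
    (hr : wordNE tw r = true) : ev (g tw h) r ≠ 1 := by
  intro h1
  have h2 : D0.ev (expand tw r) = 1 := by rw [← coe_ev_g tw h, h1]; rfl
  unfold wordNE at hr
  rw [List.any_eq_true] at hr
  obtain ⟨x, hx, hne⟩ := hr
  have hxN : x < D0.N := D0.chk_lt x hx
  have h3 := D0.ev_smul (expand tw r) (expand_lt tw h r) x hxN
  rw [h2, one_smul] at h3
  have h4 : x = act tab0 (expand tw r) x :=
    D0.pt_inj _ hxN _ (D0.act_lt _ (expand_lt tw h r) x hxN) h3
  rw [← h4] at hne
  simp at hne

/-! ### generation -/

/-- the expanded word acts on the check points as the letter `j` of `D0` -/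
def letterOK (tw : List (List ℕ)) (j : ℕ) (r : Word) : Bool :=
  chkL.all fun x => Nat.beq (act tab0 (expand tw r) x) (tab0 j x)

theorem gen_eq_of_letterOK (tw : List (List ℕ)) (h : twOK tw = true) (j : ℕ) (hj : j < 8) (r : Word)
    (hr : letterOK tw j r = true) : D0.gen j = ((ev (g tw h) r : ↥Ds) : GG) := by
  rw [coe_ev_g]
  have e : D0.gen j = D0.ev [j] := by rw [Data.ev_cons, Data.ev_nil, mul_one]
  rw [e]
  symm
  apply D0.ev_eq_of_act (expand_lt tw h r) (fun c hc => by
    rw [List.mem_singleton] at hc; rw [hc]; exact hj)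
  intro x hx
  unfold letterOK at hr
  rw [List.all_eq_true] at hr
  show act tab0 (expand tw r) x = act tab0 [j] x
  rw [Nat.eq_of_beq_eq_true (hr x hx)]
  rfl

/-- the generators generate `Ds` as soon as every letter of `D0` is a word in them -/
theorem closure_g (tw : List (List ℕ)) (h : twOK tw = true) (k : ℕ) (lw : List Word)
    (hlw : ∀ j < 8, letterOK tw j (lw.getD j []) = true)
    (hk : ∀ j < 8, ∀ c ∈ lw.getD j [], c < 2 * k) :
    Subgroup.closure {y | ∃ i < k, y = g tw h i} = ⊤ := by
  rw [eq_top_iff]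
  intro y _
  have hy : (y : GG) ∈ Subgroup.closure (D0.S 8) := y.2
  have key : ∀ x : GG, x ∈ Subgroup.closure (D0.S 8) → ∀ hx : x ∈ Ds,
      (⟨x, hx⟩ : ↥Ds) ∈ Subgroup.closure {y | ∃ i < k, y = g tw h i} := by
    intro x hx
    induction hx using Subgroup.closure_induction with
    | mem x hx =>
      intro hx'
      obtain ⟨j, hj, rfl⟩ := hx
      have e := gen_eq_of_letterOK tw h j hj _ (hlw j hj)
      have : (⟨D0.gen j, hx'⟩ : ↥Ds) = ev (g tw h) (lw.getD j []) := Subtype.ext e
      rw [this]
      exact ev_mem_of_letters (g tw h) (Subgroup.closure {y | ∃ i < k, y = g tw h i}) k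
        (fun i hi => Subgroup.subset_closure (show g tw h i ∈ {y | ∃ i < k, y = g tw h i} from
          ⟨i, hi, rfl⟩)) _ (hk j hj)
    | one =>
      intro _
      exact Subgroup.one_mem _
    | mul a b ha hb iha ihb =>
      intro hab
      have ha' : a ∈ Ds := ha
      have hb' : b ∈ Ds := hb
      have : (⟨a * b, hab⟩ : ↥Ds) = (⟨a, ha'⟩ : ↥Ds) * (⟨b, hb'⟩ : ↥Ds) := rfl
      rw [this]
      exact Subgroup.mul_mem _ (iha ha') (ihb hb')
    | inv a ha iha =>
      intro hai
      have ha' : a ∈ Ds := ha
      have : (⟨a⁻¹, hai⟩ : ↥Ds) = (⟨a, ha'⟩ : ↥Ds)⁻¹ := rfl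
      rw [this]
      exact Subgroup.inv_mem _ (iha ha')
  exact key y.1 hy y.2

theorem card_Ds : Nat.card ↥Ds = 251596800 := card_H

end Cfsg.Agent.Lib.Helper58.G24Pres
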