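import Mathlib
import Cfsg.Prelude.Def_ChevWords
import Cfsg.Agent.Lib.Helper58.G2Vec
import Cfsg.Agent.Lib.Helper58.G2Data
import Cfsg.Agent.Lib.Helper89.TableChain2

/-!
# The root elements of `G₂(3)` acting on the 728 long root vectors: the table-driven data
-/

set_option autoImplicit false
set_option maxRecDepth 100000

namespace Cfsg.Agent.Lib.Helper58.G2Gen

open Cfsg Cfsg.Lie Cfsg.Agent.Lib.Helper89 Cfsg.Agent.Lib.Helper89.TableChain2
open Cfsg.Agent.Lib.Helper58.G2Vec Cfsg.Agent.Lib.Helper58.G2Data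

/-- the matrices `x_r(1)`, `x_r(2)` -/
def xm (j : ℕ) : Matrix Ix Ix (ZMod 3) := chevG2.x (ZMod 3) (j / 2) ((j % 2 + 1 : ℕ) : ZMod 3)

theorem ent_okF : ∀ j : Fin 24, ∀ p : Ix × Ix,
    xm j.val p.1 p.2 = ((ent j.val (idxNat p.1) (idxNat p.2) : ℕ) : ZMod 3) := by decide +kernel

theorem ent_ok (j : ℕ) (hj : j < 24) (p : Ix × Ix) :
    xm j p.1 p.2 = ((ent j (idxNat p.1) (idxNat p.2) : ℕ) : ZMod 3) := ent_okF ⟨j, hj⟩ p

/-- index of the inverse generator -/
def invj (j : ℕ) : ℕ := if j % 2 = 0 then j + 1 else j - 1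

theorem invj_lt (j : ℕ) (hj : j < 24) : invj j < 24 := by
  unfold invj
  split_ifs <;> omega

theorem invj_invj (j : ℕ) : invj (invj j) = j := by
  unfold invj
  split_ifs <;> omega

theorem mm_all : (List.range 24).all (fun j => mmCheck (ent j) (ent (invj j))) = true := by
  decide +kernel

theorem xm_mul_inv (j : ℕ) (hj : j < 24) : xm j * xm (invj j) = 1 :=
  mul_eq_one_of_check _ _ (ent j) (ent (invj j)) (ent_ok j hj) (ent_ok _ (invj_lt j hj))
    (List.all_eq_true.1 mm_all j (List.mem_range.2 hj))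

theorem xm_inv_mul (j : ℕ) (hj : j < 24) : xm (invj j) * xm j = 1 := by
  have := xm_mul_inv (invj j) (invj_lt j hj)
  rwa [invj_invj] at this

/-- the 24 generators -/
def gen0 (j : ℕ) : GG :=
  if hj : j < 24 then ⟨xm j, xm (invj j), xm_mul_inv j hj, xm_inv_mul j hj⟩ else 1

theorem gen0_coe (j : ℕ) (hj : j < 24) : ((gen0 j : GG) : Matrix Ix Ix (ZMod 3)) = xm j := by
  unfold gen0
  rw [dif_pos hj]

/-- the points -/
def pt (x : ℕ) : V := vecOf (omg x)

/-- all matrix-vector products agree with the table -/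
def mvAll (j : ℕ) : Bool :=
  (List.range 728).all fun x => mvCheck (ent j) (omg x) (omg (tab0 j x))

end Cfsg.Agent.Lib.Helper58.G2Gen
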