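import Mathlib
import Cfsg.Agent.Lib.Helper58.G2Gen

/-!
# The table-driven action of four root elements of `G₂(3)` on the 728 long root vectors
-/

set_option autoImplicit false
set_option maxRecDepth 100000

namespace Cfsg.Agent.Lib.Helper58.G2Act

open Cfsg Cfsg.Lie Cfsg.Agent.Lib.Helper89 Cfsg.Agent.Lib.Helper89.TableChain2
open Cfsg.Agent.Lib.Helper58.G2Vec Cfsg.Agent.Lib.Helper58.G2Data Cfsg.Agent.Lib.Helper58.G2Gen

/-- matrix-vector checks for the basic generators on all points -/
def mvBasic (j : ℕ) : Bool :=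
  (List.range 728).all fun x => mvCheck (ent (basicL.getD j 0)) (omg x) (omg (tab0 j x))

theorem mvBasic_ok : (List.range 4).all mvBasic = true := by decide +kernel

theorem tab0_ltB : (List.range 4).all (fun j => (List.range 728).all fun x => Nat.blt (tab0 j x) 728) = true := by
  decide +kernel

theorem monoB : (List.range 727).all (fun x => Nat.blt (code3 (omg x)) (code3 (omg (x + 1)))) = true := by
  decide +kernel

theorem chk_ltB : chkL.all (fun x => Nat.blt x 728) = true := by decide +kernel

theorem basic_lt (j : ℕ) (hj : j < 4) : basicL.getD j 0 < 24 := by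
  interval_cases j <;> decide

theorem smul_eq (g : GG) (v : V) : g • v = (g : Matrix Ix Ix (ZMod 3)).mulVec v := rfl

theorem gen_smul0 (j : ℕ) (hj : j < 4) (x : ℕ) (hx : x < 728) :
    gen0 (basicL.getD j 0) • pt x = pt (tab0 j x) := by
  rw [smul_eq, gen0_coe _ (basic_lt j hj)]
  apply mulVec_of_check _ (ent (basicL.getD j 0)) (ent_ok _ (basic_lt j hj))
  exact List.all_eq_true.1 (List.all_eq_true.1 mvBasic_ok j (List.mem_range.2 hj)) x (List.mem_range.2 hx)

theorem tab0_lt (j : ℕ) (hj : j < 4) (x : ℕ) (hx : x < 728) : tab0 j x < 728 :=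
  Nat.le_of_ble_eq_true (List.all_eq_true.1 (List.all_eq_true.1 tab0_ltB j (List.mem_range.2 hj)) x
    (List.mem_range.2 hx))

theorem code_mono : ∀ y x : ℕ, x < y → y < 728 → code3 (omg x) < code3 (omg y) := by
  intro y
  induction y with
  | zero => intro x hx; omega
  | succ y ih =>
    intro x hx hy
    have hstep : code3 (omg y) < code3 (omg (y + 1)) :=
      Nat.le_of_ble_eq_true (List.all_eq_true.1 monoB y (List.mem_range.2 (by omega)))
    rcases Nat.lt_succ_iff_lt_or_eq.1 hx with h | h
    · exact lt_trans (ih x h (by omega)) hstep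
    · rw [h]; exact hstep

theorem pt_inj (x : ℕ) (hx : x < 728) (y : ℕ) (hy : y < 728) (h : pt x = pt y) : x = y := by
  have h1 : code3 (omg x) = code3 (omg y) := by
    rw [← val3_vecOf, ← val3_vecOf]
    exact congrArg val3 h
  rcases Nat.lt_trichotomy x y with hlt | heq | hgt
  · exact absurd h1 (ne_of_lt (code_mono y x hlt hy))
  · exact heq
  · exact absurd h1.symm (ne_of_lt (code_mono x y hgt hx))

theorem basis_ok : ∀ p : Ix × Ix,
    (∑ k : Fin 14, ((cinv k.val (idxNat p.1) : ℕ) : ZMod 3) * pt (chkL.getD k.val 0) p.2) =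
      if p.1 = p.2 then 1 else 0 := by decide +kernel

theorem single_eq (i : Ix) :
    (Pi.single i 1 : V) = ∑ k : Fin 14, ((cinv k.val (idxNat i) : ℕ) : ZMod 3) • pt (chkL.getD k.val 0) := by
  funext l
  rw [Finset.sum_apply]
  have := basis_ok (i, l)
  simp only [Pi.smul_apply, smul_eq_mul]
  rw [this, Pi.single_apply]
  by_cases h : i = l
  · rw [if_pos h, if_pos h.symm]
  · rw [if_neg h, if_neg (fun h' => h h'.symm)]

theorem faithful (g g' : GG) (h : ∀ x ∈ chkL, g • pt x = g' • pt x) : g = g' := by
  apply Units.ext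
  ext l i
  have hk : ∀ k : Fin 14, (g : Matrix Ix Ix (ZMod 3)).mulVec (pt (chkL.getD k.val 0)) =
      (g' : Matrix Ix Ix (ZMod 3)).mulVec (pt (chkL.getD k.val 0)) := by
    intro k
    have hm : chkL.getD k.val 0 ∈ chkL := by
      rw [List.getD_eq_getElem _ _ (by have := k.isLt; simpa [chkL] using this)]
      exact List.getElem_mem _
    exact h _ hm
  have h1 : (g : Matrix Ix Ix (ZMod 3)).mulVec (Pi.single i 1) =
      (g' : Matrix Ix Ix (ZMod 3)).mulVec (Pi.single i 1) := by
    rw [single_eq, Matrix.mulVec_sum, Matrix.mulVec_sum]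
    apply Finset.sum_congr rfl
    intro k _
    rw [Matrix.mulVec_smul, Matrix.mulVec_smul, hk k]
  have h2 := congrFun h1 l
  rwa [Matrix.mulVec_single_one, Matrix.mulVec_single_one] at h2

/-- the table-driven data of the four basic generators -/
def D0 : Data GG V where
  m := 4
  N := 728
  gen j := gen0 (basicL.getD j 0)
  pt := pt
  tab := tab0
  chk := chkL
  gen_smul := gen_smul0
  tab_lt := tab0_lt
  chk_lt x hx := Nat.le_of_ble_eq_true (List.all_eq_true.1 chk_ltB x hx)
  faithful := faithful
  pt_inj := pt_inj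

end Cfsg.Agent.Lib.Helper58.G2Act
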