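import Mathlib
import Cfsg.Agent.Lib.Helper89.TableChain2

/-!
# Changing the generators of a table-driven group to words in the old generators
-/

set_option autoImplicit false

namespace Cfsg.Agent.Lib.Helper58.Reword

open Cfsg.Agent.Lib.Helper89 Cfsg.Agent.Lib.Helper89.TableChain2

variable {G : Type*} [Group G] {α : Type*} [MulAction G α]

/-- the new tables are those of the words -/
def rewordCheck (tab0 : ℕ → ℕ → ℕ) (m0 N m' : ℕ) (flat : List (List ℕ)) (tab' : ℕ → ℕ → ℕ) : Bool :=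
  (List.range m').all fun j => (flat.getD j []).all (fun c => Nat.blt c m0) &&
    (List.range N).all fun x => Nat.beq (tab' j x) (act tab0 (flat.getD j []) x)

theorem rewordCheck_flat {tab0 : ℕ → ℕ → ℕ} {m0 N m' : ℕ} {flat : List (List ℕ)} {tab' : ℕ → ℕ → ℕ}
    (h : rewordCheck tab0 m0 N m' flat tab' = true) (j : ℕ) (hj : j < m') :
    ∀ c ∈ flat.getD j [], c < m0 := by
  intro c hc
  have h1 := List.all_eq_true.1 h j (List.mem_range.2 hj)
  rw [Bool.and_eq_true] at h1
  exact Nat.le_of_ble_eq_true (List.all_eq_true.1 h1.1 c hc)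

theorem rewordCheck_tab {tab0 : ℕ → ℕ → ℕ} {m0 N m' : ℕ} {flat : List (List ℕ)} {tab' : ℕ → ℕ → ℕ}
    (h : rewordCheck tab0 m0 N m' flat tab' = true) (j : ℕ) (hj : j < m') (x : ℕ) (hx : x < N) :
    tab' j x = act tab0 (flat.getD j []) x := by
  have h1 := List.all_eq_true.1 h j (List.mem_range.2 hj)
  rw [Bool.and_eq_true] at h1
  exact Nat.eq_of_beq_eq_true (List.all_eq_true.1 h1.2 x (List.mem_range.2 hx))

/-- the data with the new generators -/
def reword (D0 : Data G α) (m' : ℕ) (flat : List (List ℕ)) (tab' : ℕ → ℕ → ℕ)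
    (h : rewordCheck D0.tab D0.m D0.N m' flat tab' = true) : Data G α where
  m := m'
  N := D0.N
  gen j := D0.ev (flat.getD j [])
  pt := D0.pt
  tab := tab'
  chk := D0.chk
  gen_smul j hj x hx := by
    rw [D0.ev_smul _ (rewordCheck_flat h j hj) x hx, rewordCheck_tab h j hj x hx]
  tab_lt j hj x hx := by
    rw [rewordCheck_tab h j hj x hx]
    exact D0.act_lt _ (rewordCheck_flat h j hj) x hx
  chk_lt := D0.chk_lt
  faithful := D0.faithful
  pt_inj := D0.pt_inj

variable (D0 : Data G α) (m' : ℕ) (flat : List (List ℕ)) (tab' : ℕ → ℕ → ℕ)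
  (h : rewordCheck D0.tab D0.m D0.N m' flat tab' = true)

theorem reword_gen (j : ℕ) : (reword D0 m' flat tab' h).gen j = D0.ev (flat.getD j []) := rfl

theorem reword_H_le (k : ℕ) (hk : k ≤ m') : (reword D0 m' flat tab' h).H k ≤ D0.H D0.m := by
  unfold Data.H
  rw [Subgroup.closure_le]
  rintro g ⟨j, hj, rfl⟩
  rw [reword_gen]
  exact D0.ev_mem D0.m _ (rewordCheck_flat h j (lt_of_lt_of_le hj hk))

theorem reword_H_top (hpos : ∀ i < D0.m, ∃ j < m', flat.getD j [] = [i]) :
    (reword D0 m' flat tab' h).H m' = D0.H D0.m := by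
  apply le_antisymm (reword_H_le D0 m' flat tab' h m' le_rfl)
  show Subgroup.closure (D0.S D0.m) ≤ _
  rw [Subgroup.closure_le]
  rintro g ⟨i, hi, rfl⟩
  obtain ⟨j, hj, hf⟩ := hpos i hi
  have : D0.gen i = (reword D0 m' flat tab' h).gen j := by
    rw [reword_gen, hf, Data.ev_cons, Data.ev_nil, mul_one]
  rw [this]
  exact Data.gen_mem _ j hj

end Cfsg.Agent.Lib.Helper58.Reword
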