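import Mathlib
import Cfsg.Agent.Lib.Helper58.G2Act
import Cfsg.Agent.Lib.Helper58.Reword
import Cfsg.Agent.Lib.Helper58.CentSearch

/-!
# `G₂(3)`: the group generated by the four basic root elements, two stabiliser chains
-/

set_option autoImplicit false
set_option maxRecDepth 100000

namespace Cfsg.Agent.Lib.Helper58.G2Chain

open Cfsg Cfsg.Lie Cfsg.Agent.Lib.Helper89 Cfsg.Agent.Lib.Helper89.TableChain2
open Cfsg.Agent.Lib.Helper58.G2Vec Cfsg.Agent.Lib.Helper58.G2Data Cfsg.Agent.Lib.Helper58.G2Gen
open Cfsg.Agent.Lib.Helper58.G2Act Cfsg.Agent.Lib.Helper58.Reword Cfsg.Agent.Lib.Helper58.CentSearch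

/-! ### all root elements are words in the basic generators -/

/-- on the check points every root element acts as its word -/
def rootCheck : Bool := (List.range 24).all fun j =>
  (rootW.getD j []).all (fun c => Nat.blt c 4) &&
  chkL.all fun x => mvCheck (ent j) (omg x) (omg (act tab0 (rootW.getD j []) x))

theorem rootCheck_ok : rootCheck = true := by decide +kernel

theorem rootW_lt (j : ℕ) (hj : j < 24) : ∀ c ∈ rootW.getD j [], c < D0.m := by
  intro c hc
  have h := List.all_eq_true.1 rootCheck_ok j (List.mem_range.2 hj)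
  rw [Bool.and_eq_true] at h
  exact Nat.le_of_ble_eq_true (List.all_eq_true.1 h.1 c hc)

theorem gen0_eq (j : ℕ) (hj : j < 24) : gen0 j = D0.ev (rootW.getD j []) := by
  apply D0.faithful
  intro x hx
  have hxN : x < D0.N := D0.chk_lt x hx
  rw [D0.ev_smul _ (rootW_lt j hj) x hxN]
  show gen0 j • G2Gen.pt x = G2Gen.pt (act tab0 (rootW.getD j []) x)
  rw [smul_eq, gen0_coe j hj]
  apply mulVec_of_check _ (ent j) (ent_ok j hj)
  have h := List.all_eq_true.1 rootCheck_ok j (List.mem_range.2 hj)
  rw [Bool.and_eq_true] at h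
  exact List.all_eq_true.1 h.2 x hx

theorem gen0_mem_H (j : ℕ) (hj : j < 24) : gen0 j ∈ D0.H 4 := by
  rw [gen0_eq j hj]
  exact D0.ev_mem 4 _ (rootW_lt j hj)

/-! ### the Chevalley group is the group of the data -/

theorem xMat_zero : ∀ r : Fin chevG2.nroots, ∀ p : Ix × Ix,
    chevG2.xMat (ZMod 3) r 0 p.1 p.2 = (1 : Matrix Ix Ix (ZMod 3)) p.1 p.2 := by decide +kernel

theorem xm_eq (r : Fin chevG2.nroots) (e : ℕ) (he : e < 2) :
    xm (2 * r.val + e) = chevG2.xMat (ZMod 3) r ((e + 1 : ℕ) : ZMod 3) := by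
  unfold xm ChevalleyDatum.x
  have h1 : (2 * r.val + e) / 2 = r.val := by omega
  have h2 : (2 * r.val + e) % 2 = e := by omega
  rw [h1, h2, dif_pos r.isLt]

theorem gen0_mem_group (j : ℕ) (hj : j < 24) : gen0 j ∈ chevG2.group (ZMod 3) := by
  apply Subgroup.subset_closure
  have hr : j / 2 < chevG2.nroots := by
    show j / 2 < 12
    omega
  refine ⟨⟨j / 2, hr⟩, ((j % 2 + 1 : ℕ) : ZMod 3), ?_⟩
  rw [gen0_coe j hj]
  unfold xm ChevalleyDatum.x
  rw [dif_pos hr]

theorem group_eq : chevG2.group (ZMod 3) = D0.H 4 := by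
  apply le_antisymm
  · unfold ChevalleyDatum.group
    rw [Subgroup.closure_le]
    rintro g ⟨r, t, hg⟩
    have key : ∀ t' : ZMod 3, t' = 0 ∨ t' = 1 ∨ t' = 2 := by decide
    have ht := key t
    have hr : r.val < 12 := r.isLt
    rcases ht with rfl | rfl | rfl
    · have : g = 1 := by
        apply Units.ext
        rw [hg]
        ext i l
        exact xMat_zero r (i, l)
      rw [this]
      exact Subgroup.one_mem _
    · have : g = gen0 (2 * r.val + 0) := by
        apply Units.ext
        rw [hg, gen0_coe _ (by omega), xm_eq r 0 (by norm_num)]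
        norm_num
      rw [this]
      exact gen0_mem_H _ (by omega)
    · have : g = gen0 (2 * r.val + 1) := by
        apply Units.ext
        rw [hg, gen0_coe _ (by omega), xm_eq r 1 (by norm_num)]
        norm_num
      rw [this]
      exact gen0_mem_H _ (by omega)
  · show Subgroup.closure (D0.S 4) ≤ _
    rw [Subgroup.closure_le]
    rintro g ⟨j, hj, rfl⟩
    exact gen0_mem_group _ (basic_lt j hj)

end Cfsg.Agent.Lib.Helper58.G2Chain
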