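import Mathlib
import Cfsg.Agent.Lib.Helper58.G2Chain

/-!
# `G₂(3)`: the stabiliser chain adapted to an element of order 7 and its centraliser
-/

set_option autoImplicit false
set_option maxRecDepth 100000

namespace Cfsg.Agent.Lib.Helper58.G2ChainA

open Cfsg Cfsg.Lie Cfsg.Agent.Lib.Helper89 Cfsg.Agent.Lib.Helper89.TableChain2
open Cfsg.Agent.Lib.Helper58.G2Vec Cfsg.Agent.Lib.Helper58.G2Data Cfsg.Agent.Lib.Helper58.G2Gen
open Cfsg.Agent.Lib.Helper58.G2Act Cfsg.Agent.Lib.Helper58.Reword Cfsg.Agent.Lib.Helper58.CentSearch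
open Cfsg.Agent.Lib.Helper58.G2Chain

theorem rwA : rewordCheck D0.tab D0.m D0.N 8 flatA tabA = true := by decide +kernel

/-- the data with the strong generators of the chain -/
def DA : Data GG V := reword D0 8 flatA tabA rwA

theorem H_top : DA.H 8 = D0.H 4 := by
  apply reword_H_top D0 8 flatA tabA rwA
  intro i hi
  have hi' : i < 4 := hi
  refine ⟨posA.getD i 0, ?_, ?_⟩
  · interval_cases i <;> decide
  · interval_cases i <;> decide

theorem lv0 : levelCheck DA.tab 8 6 26 DA.chk TA0 EA0 = true := by decide +kernel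

theorem lv1 : levelCheck DA.tab 6 2 212 DA.chk TA1 EA1 = true := by decide +kernel

theorem lv2 : levelCheck DA.tab 2 0 582 DA.chk TA2 EA2 = true := by decide +kernel

theorem ok0 : Data.LevelOK DA 8 6 26 TA0 EA0 :=
  Data.levelOK_of_check (Nat.le_refl 8) (by show 26 < 728; norm_num) lv0

theorem ok1 : Data.LevelOK DA 6 2 212 TA1 EA1 :=
  Data.levelOK_of_check (by show 6 ≤ 8; norm_num) (by show 212 < 728; norm_num) lv1

theorem ok2 : Data.LevelOK DA 2 0 582 TA2 EA2 :=
  Data.levelOK_of_check (by show 2 ≤ 8; norm_num) (by show 582 < 728; norm_num) lv2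

theorem len0 : TA0.length = 728 := by decide +kernel
theorem len1 : TA1.length = 243 := by decide +kernel
theorem len2 : TA2.length = 24 := by decide +kernel

theorem card_H : Nat.card (DA.H 8) = 4245696 := by
  rw [ok0.card, ok1.card, ok2.card, Data.card_H_zero, len0, len1, len2]

/-- the levels of the chain -/
def lvls : List Lvl := [(8, 6, 26, TA0), (6, 2, 212, TA1), (2, 0, 582, TA2)]

/-- the powers of the element -/
def Z : List (List ℕ) := (List.range 7).map fun k => (List.replicate k sWA).flatten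

theorem searchOK : search DA.tab sWA DA.chk Z 8 lvls [] [] = true := by decide +kernel

theorem sW_lt : ∀ c ∈ sWA, c < DA.m := by
  show ∀ c ∈ sWA, c < 8
  decide

theorem Z_lt : ∀ z ∈ Z, ∀ c ∈ z, c < DA.m := by
  show ∀ z ∈ Z, ∀ c ∈ z, c < 8
  decide

theorem cent (g : GG) (hg : g ∈ DA.H 8) (hc : Commute g (DA.ev sWA)) :
    ∃ z ∈ Z, g = DA.ev z := by
  have h := search_sound DA sWA sW_lt Z Z_lt lvls 8 [] []
    (by
      intro L hL
      simp only [lvls, List.mem_cons, List.not_mem_nil, or_false] at hL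
      rcases hL with rfl | rfl | rfl
      · exact ⟨_, ok0⟩
      · exact ⟨_, ok1⟩
      · exact ⟨_, ok2⟩)
    (by simp) (by simp) searchOK g hg (by simp)
  simp only [Data.ev_nil, one_mul] at h
  exact h hc

end Cfsg.Agent.Lib.Helper58.G2ChainA
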