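import Mathlib
import Cfsg.Agent.Lib.Helper58.G2Chain

/-!
# `G₂(3)`: the stabiliser chain adapted to an element of order 13 and its centraliser
-/

set_option autoImplicit false
set_option maxRecDepth 100000

namespace Cfsg.Agent.Lib.Helper58.G2ChainB

open Cfsg Cfsg.Lie Cfsg.Agent.Lib.Helper89 Cfsg.Agent.Lib.Helper89.TableChain2
open Cfsg.Agent.Lib.Helper58.G2Vec Cfsg.Agent.Lib.Helper58.G2Data Cfsg.Agent.Lib.Helper58.G2Gen
open Cfsg.Agent.Lib.Helper58.G2Act Cfsg.Agent.Lib.Helper58.Reword Cfsg.Agent.Lib.Helper58.CentSearch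
open Cfsg.Agent.Lib.Helper58.G2Chain

theorem rwB : rewordCheck D0.tab D0.m D0.N 8 flatB tabB = true := by decide +kernel

/-- the data with the strong generators of the chain -/
def DB : Data GG V := reword D0 8 flatB tabB rwB

theorem H_top : DB.H 8 = D0.H 4 := by
  apply reword_H_top D0 8 flatB tabB rwB
  intro i hi
  have hi' : i < 4 := hi
  refine ⟨posB.getD i 0, ?_, ?_⟩
  · interval_cases i <;> decide
  · interval_cases i <;> decide

theorem lv0 : levelCheck DB.tab 8 6 26 DB.chk TB0 EB0 = true := by decide +kernel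

theorem lv1 : levelCheck DB.tab 6 2 330 DB.chk TB1 EB1 = true := by decide +kernel

theorem lv2 : levelCheck DB.tab 2 0 321 DB.chk TB2 EB2 = true := by decide +kernel

theorem ok0 : Data.LevelOK DB 8 6 26 TB0 EB0 :=
  Data.levelOK_of_check (Nat.le_refl 8) (by show 26 < 728; norm_num) lv0

theorem ok1 : Data.LevelOK DB 6 2 330 TB1 EB1 :=
  Data.levelOK_of_check (by show 6 ≤ 8; norm_num) (by show 330 < 728; norm_num) lv1

theorem ok2 : Data.LevelOK DB 2 0 321 TB2 EB2 :=
  Data.levelOK_of_check (by show 2 ≤ 8; norm_num) (by show 321 < 728; norm_num) lv2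

theorem len0 : TB0.length = 728 := by decide +kernel
theorem len1 : TB1.length = 243 := by decide +kernel
theorem len2 : TB2.length = 24 := by decide +kernel

theorem card_H : Nat.card (DB.H 8) = 4245696 := by
  rw [ok0.card, ok1.card, ok2.card, Data.card_H_zero, len0, len1, len2]

/-- the levels of the chain -/
def lvls : List Lvl := [(8, 6, 26, TB0), (6, 2, 330, TB1), (2, 0, 321, TB2)]

/-- the powers of the element -/
def Z : List (List ℕ) := (List.range 13).map fun k => (List.replicate k sWB).flatten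

theorem searchOK : search DB.tab sWB DB.chk Z 8 lvls [] [] = true := by decide +kernel

theorem sW_lt : ∀ c ∈ sWB, c < DB.m := by
  show ∀ c ∈ sWB, c < 8
  decide

theorem Z_lt : ∀ z ∈ Z, ∀ c ∈ z, c < DB.m := by
  show ∀ z ∈ Z, ∀ c ∈ z, c < 8
  decide

theorem cent (g : GG) (hg : g ∈ DB.H 8) (hc : Commute g (DB.ev sWB)) :
    ∃ z ∈ Z, g = DB.ev z := by
  have h := search_sound DB sWB sW_lt Z Z_lt lvls 8 [] []
    (by
      intro L hL
      simp only [lvls, List.mem_cons, List.not_mem_nil, or_false] at hL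
      rcases hL with rfl | rfl | rfl
      · exact ⟨_, ok0⟩
      · exact ⟨_, ok1⟩
      · exact ⟨_, ok2⟩)
    (by simp) (by simp) searchOK g hg (by simp)
  simp only [Data.ev_nil, one_mul] at h
  exact h hc

end Cfsg.Agent.Lib.Helper58.G2ChainB
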