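import Mathlib

/-!
# No elements of order `p k` when a Sylow `p`-subgroup of prime order is self-centralising
-/

set_option autoImplicit false

namespace Cfsg.Agent.Lib.Helper58.NoOrder

open Subgroup
open scoped Pointwise

variable {G : Type*} [Group G]

theorem no_order_mul [Finite G] (p : ℕ) [hp : Fact p.Prime] (s : G) (hs : orderOf s = p)
    (hcard : ¬ p ^ 2 ∣ Nat.card G) (hC : ∀ g : G, Commute g s → g ∈ zpowers s)
    (x : G) (k : ℕ) (hk : k.Prime) (hkp : k ≠ p) : orderOf x ≠ p * k := by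
  intro ho
  have hp0 : p ≠ 0 := hp.out.ne_zero
  have hk0 : k ≠ 0 := hk.ne_zero
  -- the two parts
  have hy : orderOf (x ^ k) = p := by
    rw [orderOf_pow_of_dvd hk0 (by rw [ho]; exact dvd_mul_left k p), ho, Nat.mul_div_cancel _ hk.pos]
  have hz : orderOf (x ^ p) = k := by
    rw [orderOf_pow_of_dvd hp0 (by rw [ho]; exact dvd_mul_right p k), ho, Nat.mul_div_cancel_left _ hp.out.pos]
  have hyz : Commute (x ^ p) (x ^ k) := (Commute.refl x).pow_pow p k
  -- Sylow subgroups
  have hGpos : Nat.card G ≠ 0 := Nat.card_pos.ne'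
  have hdvd : p ^ 1 ∣ Nat.card G := by
    rw [pow_one, ← hs]
    exact orderOf_dvd_natCard s
  have hfac : (Nat.card G).factorization p = 1 := by
    have h1 : 1 ≤ (Nat.card G).factorization p := (hp.out.pow_dvd_iff_le_factorization hGpos).mp hdvd
    have h2 : ¬ 2 ≤ (Nat.card G).factorization p := fun h =>
      hcard ((hp.out.pow_dvd_iff_le_factorization hGpos).mpr h)
    omega
  let P : Sylow p G := Sylow.ofCard (zpowers (x ^ k)) (by rw [Nat.card_zpowers, hy, hfac, pow_one])
  let Q : Sylow p G := Sylow.ofCard (zpowers s) (by rw [Nat.card_zpowers, hs, hfac, pow_one])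
  have hP : (P : Subgroup G) = zpowers (x ^ k) := Sylow.coe_ofCard _ _
  have hQ : (Q : Subgroup G) = zpowers s := Sylow.coe_ofCard _ _
  obtain ⟨g, hg⟩ := MulAction.exists_smul_eq G P Q
  have hg' : (Q : Subgroup G) = MulAut.conj g • (P : Subgroup G) := by
    rw [← hg]
    exact Sylow.pointwise_smul_def
  -- `s` is conjugate to a power of `x ^ k`
  have hsQ : s ∈ MulAut.conj g • (P : Subgroup G) := by
    rw [← hg', hQ]
    exact mem_zpowers s
  rw [Subgroup.mem_pointwise_smul_iff_inv_smul_mem, hP] at hsQ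
  obtain ⟨i, hi⟩ := mem_zpowers_iff.mp hsQ
  -- the conjugate of `x ^ p` commutes with `s`
  have hcomm : Commute (g * x ^ p * g⁻¹) s := by
    have h1 : s = g * (x ^ k) ^ i * g⁻¹ := by
      rw [hi]
      simp [MulAut.smul_def]
      group
    have h2 : Commute (x ^ p) ((x ^ k) ^ i) := hyz.zpow_right i
    rw [h1]
    unfold Commute SemiconjBy at h2 ⊢
    calc g * x ^ p * g⁻¹ * (g * (x ^ k) ^ i * g⁻¹) = g * (x ^ p * (x ^ k) ^ i) * g⁻¹ := by group
      _ = g * ((x ^ k) ^ i * x ^ p) * g⁻¹ := by rw [h2]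
      _ = g * (x ^ k) ^ i * g⁻¹ * (g * x ^ p * g⁻¹) := by group
  have hmem := hC _ hcomm
  have hord : orderOf (g * x ^ p * g⁻¹) = k := by
    have : g * x ^ p * g⁻¹ = MulAut.conj g (x ^ p) := rfl
    rw [this, MulEquiv.orderOf_eq, hz]
  have h3 : orderOf (g * x ^ p * g⁻¹) ∣ p := by
    have := orderOf_dvd_natCard (⟨g * x ^ p * g⁻¹, hmem⟩ : zpowers s)
    rw [Nat.card_zpowers, hs] at this
    have h4 : orderOf (⟨g * x ^ p * g⁻¹, hmem⟩ : zpowers s) = orderOf (g * x ^ p * g⁻¹) :=
      Subgroup.orderOf_mk _ _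
    rwa [h4] at this
  rw [hord] at h3
  rcases (Nat.dvd_prime hp.out).1 h3 with h | h
  · exact hk.one_lt.ne' h
  · exact hkp h

end Cfsg.Agent.Lib.Helper58.NoOrder
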