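import Mathlib
import Cfsg.Agent.Lib.Helper58.G2ChainA
import Cfsg.Agent.Lib.Helper58.G2ChainB
import Cfsg.Agent.Lib.Helper58.NoOrder
import Cfsg.Agent.Lib.Helper58.EvTools

/-!
# `G₂(3)`: the products of two primes that are element orders
-/

set_option autoImplicit false
set_option maxRecDepth 100000

namespace Cfsg.Agent.Lib.Helper58.G2Main

open Cfsg Cfsg.Lie Cfsg.Agent.Lib.Helper89 Cfsg.Agent.Lib.Helper89.TableChain2
open Cfsg.Agent.Lib.Helper58.G2Vec Cfsg.Agent.Lib.Helper58.G2Data Cfsg.Agent.Lib.Helper58.G2Gen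
open Cfsg.Agent.Lib.Helper58.G2Act Cfsg.Agent.Lib.Helper58.G2Chain Cfsg.Agent.Lib.Helper58.EvTools

/-- the group -/
abbrev Gs : Subgroup GG := D0.H 4

theorem card_Gs : Nat.card Gs = 4245696 := by
  have := G2ChainA.card_H
  rwa [G2ChainA.H_top] at this

theorem no_order_of_chain (D : Data GG V) (hm : D.m = 8) (hH : D.H 8 = D0.H 4) (sw : List ℕ)
    (hsw : ∀ c ∈ sw, c < D.m) (p : ℕ) [hp : Fact p.Prime] (Z : List (List ℕ))
    (hZ : Z = (List.range p).map fun k => (List.replicate k sw).flatten)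
    (hcent : ∀ g ∈ D.H 8, Commute g (D.ev sw) → ∃ z ∈ Z, g = D.ev z)
    (hord : orderOf (D.ev sw) = p) (hp2 : ¬ p ^ 2 ∣ 4245696) :
    ∀ x : Gs, ∀ k : ℕ, k.Prime → k ≠ p → orderOf x ≠ p * k := by
  have hsm : D.ev sw ∈ Gs := by
    show D.ev sw ∈ D0.H 4
    rw [← hH]
    exact D.ev_mem 8 sw (by intro c hc; rw [← hm]; exact hsw c hc)
  intro x k hk hkp
  apply NoOrder.no_order_mul p (⟨D.ev sw, hsm⟩ : Gs) (by rw [Subgroup.orderOf_mk]; exact hord)
    (by rw [card_Gs]; exact hp2) _ x k hk hkp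
  intro g hg
  have hg' : Commute (g : GG) (D.ev sw) := by
    have := congrArg Subtype.val hg.eq
    exact this
  obtain ⟨z, hz, hgz⟩ := hcent g (by rw [hH]; exact g.2) hg'
  rw [hZ, List.mem_map] at hz
  obtain ⟨n, -, rfl⟩ := hz
  rw [ev_pow] at hgz
  rw [Subgroup.mem_zpowers_iff]
  refine ⟨(n : ℤ), ?_⟩
  rw [zpow_natCast]
  apply Subtype.ext
  rw [Subgroup.coe_pow]
  exact hgz.symm

/-! ### the element of order 7 -/

theorem sA_pow : G2ChainA.DA.chk.all (fun x => Nat.beq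
    (act G2ChainA.DA.tab ((List.replicate 7 sWA).flatten) x) x) = true := by decide +kernel

theorem sA_ne : G2ChainA.DA.chk.any (fun x => !(Nat.beq
    (act G2ChainA.DA.tab ((List.replicate 1 sWA).flatten) x) x)) = true := by decide +kernel

theorem order_sA : orderOf (G2ChainA.DA.ev sWA) = 7 := by
  have : Fact (Nat.Prime 7) := ⟨by norm_num⟩
  apply orderOf_eq_prime (pow_eq_one _ sWA 7 G2ChainA.sW_lt sA_pow)
  have := pow_ne_one _ sWA 1 G2ChainA.sW_lt sA_ne
  rwa [pow_one] at this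

theorem no7 : ∀ x : Gs, ∀ k : ℕ, k.Prime → k ≠ 7 → orderOf x ≠ 7 * k := by
  have : Fact (Nat.Prime 7) := ⟨by norm_num⟩
  exact no_order_of_chain G2ChainA.DA rfl G2ChainA.H_top sWA G2ChainA.sW_lt 7 G2ChainA.Z rfl
    G2ChainA.cent order_sA (by norm_num)

/-! ### the element of order 13 -/

theorem sB_pow : G2ChainB.DB.chk.all (fun x => Nat.beq
    (act G2ChainB.DB.tab ((List.replicate 13 sWB).flatten) x) x) = true := by decide +kernel

theorem sB_ne : G2ChainB.DB.chk.any (fun x => !(Nat.beq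
    (act G2ChainB.DB.tab ((List.replicate 1 sWB).flatten) x) x)) = true := by decide +kernel

theorem order_sB : orderOf (G2ChainB.DB.ev sWB) = 13 := by
  have : Fact (Nat.Prime 13) := ⟨by norm_num⟩
  apply orderOf_eq_prime (pow_eq_one _ sWB 13 G2ChainB.sW_lt sB_pow)
  have := pow_ne_one _ sWB 1 G2ChainB.sW_lt sB_ne
  rwa [pow_one] at this

theorem no13 : ∀ x : Gs, ∀ k : ℕ, k.Prime → k ≠ 13 → orderOf x ≠ 13 * k := by
  have : Fact (Nat.Prime 13) := ⟨by norm_num⟩
  exact no_order_of_chain G2ChainB.DB rfl G2ChainB.H_top sWB G2ChainB.sW_lt 13 G2ChainB.Z rfl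
    G2ChainB.cent order_sB (by norm_num)

/-! ### an element of order 6 -/

theorem x6_lt : ∀ c ∈ x6W, c < D0.m := by
  show ∀ c ∈ x6W, c < 4
  decide

theorem x6_pow6 : D0.chk.all (fun x => Nat.beq (act D0.tab ((List.replicate 6 x6W).flatten) x) x) = true := by
  decide +kernel

theorem x6_pow3 : D0.chk.any (fun x => !(Nat.beq (act D0.tab ((List.replicate 3 x6W).flatten) x) x)) = true := by
  decide +kernel

theorem x6_pow2 : D0.chk.any (fun x => !(Nat.beq (act D0.tab ((List.replicate 2 x6W).flatten) x) x)) = true := by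
  decide +kernel

theorem order_x6 : orderOf (D0.ev x6W) = 6 := by
  apply orderOf_eq_of_pow_and_pow_div_prime (by norm_num) (pow_eq_one D0 x6W 6 x6_lt x6_pow6)
  intro p hp hpd
  have h23 : p = 2 ∨ p = 3 := by
    have : p ∣ 2 * 3 := hpd
    rcases (Nat.Prime.dvd_mul hp).1 this with h | h
    · left; exact (Nat.prime_dvd_prime_iff_eq hp Nat.prime_two).1 h
    · right; exact (Nat.prime_dvd_prime_iff_eq hp Nat.prime_three).1 h
  rcases h23 with rfl | rfl
  · exact pow_ne_one D0 x6W 3 x6_lt x6_pow3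
  · exact pow_ne_one D0 x6W 2 x6_lt x6_pow2

theorem exists_six : ∃ x : Gs, orderOf x = 6 :=
  ⟨⟨D0.ev x6W, D0.ev_mem 4 x6W x6_lt⟩, by rw [Subgroup.orderOf_mk]; exact order_x6⟩

/-! ### arithmetic -/

theorem prime_dvd_big {r : ℕ} (hr : r.Prime) (h : r ∣ 4245696) : r = 2 ∨ r = 3 ∨ r = 7 ∨ r = 13 := by
  have e : 4245696 = 2 ^ 6 * 3 ^ 6 * 7 * 13 := by norm_num
  rw [e] at h
  rcases (Nat.Prime.dvd_mul hr).1 h with h | h
  · rcases (Nat.Prime.dvd_mul hr).1 h with h | h
    · rcases (Nat.Prime.dvd_mul hr).1 h with h | h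
      · exact Or.inl ((Nat.prime_dvd_prime_iff_eq hr Nat.prime_two).1 (hr.dvd_of_dvd_pow h))
      · exact Or.inr (Or.inl ((Nat.prime_dvd_prime_iff_eq hr Nat.prime_three).1 (hr.dvd_of_dvd_pow h)))
    · exact Or.inr (Or.inr (Or.inl ((Nat.prime_dvd_prime_iff_eq hr (by norm_num)).1 h)))
  · exact Or.inr (Or.inr (Or.inr ((Nat.prime_dvd_prime_iff_eq hr (by norm_num)).1 h)))

theorem prime_dvd_small {r : ℕ} (hr : r.Prime) (h : r ∣ 1092) : r = 2 ∨ r = 3 ∨ r = 7 ∨ r = 13 := by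
  have e : 1092 = 2 ^ 2 * 3 * 7 * 13 := by norm_num
  rw [e] at h
  rcases (Nat.Prime.dvd_mul hr).1 h with h | h
  · rcases (Nat.Prime.dvd_mul hr).1 h with h | h
    · rcases (Nat.Prime.dvd_mul hr).1 h with h | h
      · exact Or.inl ((Nat.prime_dvd_prime_iff_eq hr Nat.prime_two).1 (hr.dvd_of_dvd_pow h))
      · exact Or.inr (Or.inl ((Nat.prime_dvd_prime_iff_eq hr Nat.prime_three).1 h))
    · exact Or.inr (Or.inr (Or.inl ((Nat.prime_dvd_prime_iff_eq hr (by norm_num)).1 h)))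
  · exact Or.inr (Or.inr (Or.inr ((Nat.prime_dvd_prime_iff_eq hr (by norm_num)).1 h)))

/-- the products of two distinct primes that are element orders of `G₂(3)` -/
theorem g2_orders (r s : ℕ) (hr : r.Prime) (hs : s.Prime) (hrs : r ≠ s) :
    (∃ x : Gs, orderOf x = r * s) ↔ (r = 2 ∧ s = 3 ∨ r = 3 ∧ s = 2) := by
  constructor
  · rintro ⟨x, hx⟩
    have hd : r * s ∣ 4245696 := by
      rw [← hx, ← card_Gs]
      exact orderOf_dvd_natCard x
    have hr' := prime_dvd_big hr (dvd_trans (dvd_mul_right r s) hd)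
    have hs' := prime_dvd_big hs (dvd_trans (dvd_mul_left s r) hd)
    have n7 := no7 x
    have n13 := no13 x
    rcases hr' with rfl | rfl | rfl | rfl
    · rcases hs' with rfl | rfl | rfl | rfl
      · exact absurd rfl hrs
      · exact Or.inl ⟨rfl, rfl⟩
      · exact absurd (by rw [hx, mul_comm]) (n7 2 hr (by norm_num))
      · exact absurd (by rw [hx, mul_comm]) (n13 2 hr (by norm_num))
    · rcases hs' with rfl | rfl | rfl | rfl
      · exact Or.inr ⟨rfl, rfl⟩
      · exact absurd rfl hrs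
      · exact absurd (by rw [hx, mul_comm]) (n7 3 hr (by norm_num))
      · exact absurd (by rw [hx, mul_comm]) (n13 3 hr (by norm_num))
    · exact absurd hx (n7 s hs (fun h => hrs h.symm))
    · exact absurd hx (n13 s hs (fun h => hrs h.symm))
  · rintro (⟨rfl, rfl⟩ | ⟨rfl, rfl⟩)
    · exact exists_six
    · exact exists_six

end Cfsg.Agent.Lib.Helper58.G2Main
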