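import Mathlib

/-!
# Crossed homomorphisms on a subgroup: generic lemmas

`IsCoc N F` says that `F : G → V` satisfies the crossed homomorphism identity on the subgroup `N`.
A crossed homomorphism agreeing with a principal one on a generating set of `N` is principal on `N`,
and the value of a crossed homomorphism at a word in given elements is computed by an affine
recursion.
-/

set_option autoImplicit false

namespace Cfsg.Agent.Lib.Helper58.H1Gen

variable {G : Type*} [Group G] {V : Type*} [AddCommGroup V] [DistribMulAction G V]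

/-- `F` is a crossed homomorphism on the subgroup `N`. -/
def IsCoc (N : Subgroup G) (F : G → V) : Prop :=
  ∀ g ∈ N, ∀ h ∈ N, F (g * h) = F g + g • F h

theorem IsCoc.map_one {N : Subgroup G} {F : G → V} (hF : IsCoc N F) : F 1 = 0 := by
  have h := hF 1 N.one_mem 1 N.one_mem
  rw [mul_one, one_smul] at h
  have h2 : F 1 + 0 = F 1 + F 1 := by rw [add_zero]; exact h
  exact (add_left_cancel h2).symm

theorem IsCoc.eq_on_closure {N : Subgroup G} {F : G → V} (hF : IsCoc N F) (S : Set G)
    (hS : N = Subgroup.closure S) (v : V) (hv : ∀ s ∈ S, F s = s • v - v) :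
    ∀ g ∈ N, F g = g • v - v := by
  intro g hg
  rw [hS] at hg
  induction hg using Subgroup.closure_induction with
  | mem x hx => exact hv x hx
  | one => rw [hF.map_one, one_smul, sub_self]
  | mul x y hx hy ihx ihy =>
    have hx' : x ∈ N := by rw [hS]; exact hx
    have hy' : y ∈ N := by rw [hS]; exact hy
    rw [hF x hx' y hy', ihx, ihy, mul_smul, smul_sub]
    abel
  | inv x hx ih =>
    have hx' : x ∈ N := by rw [hS]; exact hx
    have h0 := hF x⁻¹ (N.inv_mem hx') x hx'
    rw [inv_mul_cancel, hF.map_one, ih, smul_sub, inv_smul_smul] at h0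
    have : F x⁻¹ = -(v - x⁻¹ • v) := eq_neg_of_add_eq_zero_left h0.symm
    rw [this]
    abel

/-- the affine recursion computing the value of a crossed homomorphism at a word -/
def affV (gen : ℕ → G) (c : ℕ → V) : List ℕ → V
  | [] => 0
  | j :: l => c j + gen j • affV gen c l

theorem IsCoc.map_word {N : Subgroup G} {F : G → V} (hF : IsCoc N F) (gen : ℕ → G) (l : List ℕ)
    (hl : ∀ j ∈ l, gen j ∈ N) :
    (l.map gen).prod ∈ N ∧ F (l.map gen).prod = affV gen (fun j => F (gen j)) l := by
  induction l with
  | nil => exact ⟨N.one_mem, by simpa [affV] using hF.map_one⟩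
  | cons j l ih =>
    have hj : gen j ∈ N := hl j (by simp)
    obtain ⟨h1, h2⟩ := ih (fun c hc => hl c (by simp [hc]))
    refine ⟨by simpa using N.mul_mem hj h1, ?_⟩
    rw [List.map_cons, List.prod_cons, hF _ hj _ h1, h2]
    rfl

end Cfsg.Agent.Lib.Helper58.H1Gen
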