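import Mathlib
import Cfsg.Prelude.Def_Classical
import Cfsg.Agent.Lib.Helper89.TableChain2
import Cfsg.Agent.Lib.Helper43.OrthCardMinus
import Cfsg.Agent.Lib.Helper58.H1Gen

/-!
# Vanishing of `H¹` on the natural module of `Ω` for the form `Cfsg.quadFormMinus 2 (ZMod 2) 1 1`

Generated certificate: `Ω` (the commutator subgroup of the isometry group) is generated by two explicit
commutators (a verified stabiliser chain shows that they generate a subgroup of index `2`), and a few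
explicit relations between them cut the space of crossed homomorphisms down to the principal ones
(checked by exhausting the `2^12` possible values on the two generators).
-/

set_option autoImplicit false
set_option maxRecDepth 1000000

namespace Cfsg.Agent.Lib.Helper58.H1O6

open Cfsg.Agent.Lib.Helper89 Cfsg.Agent.Lib.Helper58.H1Gen
open Matrix
open scoped commutatorElement

abbrev II := (Fin 2 ⊕ Fin 2) ⊕ Fin 2
abbrev VV := II → ZMod 2
abbrev QQ : VV → ZMod 2 := Cfsg.quadFormMinus 2 (ZMod 2) 1 1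
abbrev OO := ↥(Cfsg.isometryGroup (ZMod 2) QQ)

/-- the matrix of an isometry -/
def toM (g : OO) : Matrix II II (ZMod 2) :=
  ((g.1 : Matrix.GeneralLinearGroup II (ZMod 2)) : Matrix II II (ZMod 2))

theorem toM_one : toM 1 = 1 := rfl

theorem toM_mul (g h : OO) : toM (g * h) = toM g * toM h := rfl

theorem toM_injective : Function.Injective toM := by
  intro g h hgh
  apply Subtype.ext
  apply Units.ext
  exact hgh

instance actO : DistribMulAction OO VV where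
  smul g v := toM g *ᵥ v
  one_smul v := by
    show toM 1 *ᵥ v = v
    rw [toM_one, Matrix.one_mulVec]
  mul_smul g h v := by
    show toM (g * h) *ᵥ v = toM g *ᵥ (toM h *ᵥ v)
    rw [toM_mul, Matrix.mulVec_mulVec]
  smul_zero g := Matrix.mulVec_zero _
  smul_add g u v := Matrix.mulVec_add _ u v

theorem smul_def (g : OO) (v : VV) : g • v = toM g *ᵥ v := rfl

/-- position of an index -/
def idxI : II → ℕ
  | Sum.inl (Sum.inl i) => i.val
  | Sum.inl (Sum.inr i) => 2 + i.val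
  | Sum.inr i => 4 + i.val

/-- a matrix over `ZMod 2` from its code -/
def matO (c : ℕ) : Matrix II II (ZMod 2) :=
  Matrix.of fun r s => (((c >>> (6 * idxI r + idxI s)) &&& 1 : ℕ) : ZMod 2)

/-- the vectors -/
def vecO (n : ℕ) : VV := fun i => (((n >>> idxI i) &&& 1 : ℕ) : ZMod 2)

/-- index of a vector -/
def idxO (v : VV) : ℕ :=
  (v (Sum.inl (Sum.inl 0))).val * 1 + (v (Sum.inl (Sum.inl 1))).val * 2 + (v (Sum.inl (Sum.inr 0))).val * 4 + (v (Sum.inl (Sum.inr 1))).val * 8 + (v (Sum.inr 0)).val * 16 + (v (Sum.inr 1)).val * 32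

def codeA (j : ℕ) : ℕ := [21003989121, 54303242090].getD j 0
def codeAI (j : ℕ) : ℕ := [21003989121, 27755582442].getD j 0
def codeB (j : ℕ) : ℕ := [55036440705, 36283736257].getD j 0
def codeBI (j : ℕ) : ℕ := [55036440705, 36283736257].getD j 0
def codeX (j : ℕ) : ℕ := [55355207809, 15777523559, 21222092929, 12421222141].getD j 0

def tabC : List ℕ := [12146775836609642943938209283636482945973017856081009624327544325205477277510712894100979797402945065866395722444608, 35047522283366095761857852058236682656974180333793242977409658628052125409470020223755080338863569783140062640918720, 28955342785331994118809338814387178102267446245380298539218483334572591072432363473432034957971293335822361565260608, 21626364080360559574965041832269301641030713242477631741448230987210927200240056551223744708632066358125675720125120]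

def tab2C : List ℕ := [29385220040646928311500619475037817299832710567038982649822607818648310850657995171832161343846312689026729530630208, 29385220040646888318228156834052423678748020286667094213035254331904051231680540046345684583948202954828821111251008, 19382025050749832059203792272602122410350580103642997941463579608882026278911308792993353016420261748500160505094208, 13775002950910868453062714905301470919347069257422964318863010076252868490203585310708677735801342910743022813229120, 12146775836609642943938209283636482945973017856081009624327544325205477277510712894100979797402945065866395722444608, 35047522283366095761857852058236682656974180333793242977409658628052125409470020223755080338863569783140062640918720, 28955342785331994118809338814387178102267446245380298539218483334572591072432363473432034957971293335822361565260608, 21626364080360559574965041832269301641030713242477631741448230987210927200240056551223744708632066358125675720125120]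

def tab (j x : ℕ) : ℕ := ((tabC.getD j 0) >>> (6 * x)) &&& 63

def tab2 (j x : ℕ) : ℕ := ((tab2C.getD j 0) >>> (6 * x)) &&& 63

def WB (j : ℕ) : List ℕ := [[1, 0, 3, 2, 1, 2, 1, 0, 3, 3], [1, 2, 3, 0, 1, 0, 3], [1, 1, 2, 3, 2, 3, 0], [3, 0, 1], [0], [1], [2], [3]].getD j []

def rels : List (List ℕ) := [[0, 0, 0], [1, 1, 1, 1, 1]]

def LT0 : List (List ℕ) := [
  [],
  [4],
  [5],
  [6],
  [7],
  [2, 4],
  [5, 4],
  [7, 4],
  [3, 5],
  [5, 5],
  [0, 6],
  [1, 6],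
  [2, 6],
  [5, 6],
  [7, 6],
  [4, 7],
  [6, 7],
  [0, 2, 4],
  [3, 2, 4],
  [3, 5, 4],
  [5, 5, 4],
  [7, 7, 4],
  [0, 3, 5],
  [1, 3, 5],
  [4, 3, 5],
  [5, 0, 6],
  [1, 2, 6]
]

def LE0 : List (List (ℕ × List ℕ)) := [
  [(0, [0]), (3, [0, 0]), (2, [1, 3, 0, 2, 0, 1, 0]), (10, []), (13, [2, 0, 0, 3, 2, 0, 1, 0]), (17, []), (5, [0, 0, 3, 1, 2, 1]), (7, [2, 1, 3, 0, 2, 0, 0, 1, 0, 0]), (22, []), (19, [2, 3, 0, 2, 0, 0]), (1, [0]), (11, [0, 1, 0, 0]), (16, [1, 2, 3, 1, 2, 0, 1, 0]), (15, [3, 2, 1, 3, 0, 2, 0, 0, 1, 0]), (14, [2, 1, 3, 0, 2, 0, 1, 0, 0]), (4, [2, 1, 3, 2, 0]), (26, [1, 0, 2, 3, 2, 0, 0, 1, 0, 0]), (6, [0, 3, 1, 2, 0, 1]), (9, [2, 3, 2, 1, 3, 1, 2, 0, 0, 1, 0, 0]), (18, [2, 1, 3, 2, 1]), (8, [1, 2, 3, 0, 2]), (21, [1, 0, 2, 3, 0, 1, 0]), (20, [2, 0, 0, 3, 0, 0, 2, 0, 1]), (23, [0, 2, 3]), (24, [2, 0, 0, 3, 0, 0, 2, 0, 0, 1]), (25, [1, 3, 2, 0, 1]), (12, [0, 0, 2, 1, 0, 0])],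
  [(0, [1]), (3, [0, 1, 0]), (2, [0, 0, 3, 0]), (11, []), (7, [0, 1, 0]), (16, [1, 2, 3, 2]), (12, [1, 3, 1, 2]), (15, [0, 2, 0, 1, 0]), (23, []), (21, [0, 3, 0, 2, 0, 1]), (10, [0, 0, 1]), (1, [1]), (26, []), (13, [3]), (14, [1]), (4, [0, 2, 1]), (17, [0, 3, 2, 0, 1]), (5, [2, 0]), (9, [3, 2, 0, 0, 3, 1, 2, 0, 0, 1, 0, 0]), (19, [1, 3, 2, 0, 1]), (8, [1, 2, 3, 1, 2]), (18, [2, 3, 2, 1, 3, 2, 0, 1, 0]), (22, [1, 3, 0, 2, 0, 1, 0]), (20, [0, 3, 0, 2, 0, 1]), (24, [3]), (25, [0, 3, 0, 0]), (6, [0, 3, 1, 2, 0, 0, 1, 0])],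
  [(0, [2]), (5, []), (4, [1, 0, 2, 3, 2, 0, 0]), (12, []), (7, [1, 2, 3, 0, 2, 0, 0]), (11, [0, 0, 2, 0]), (16, [0, 0, 3, 2, 1, 0]), (15, [2, 1, 3, 2]), (23, [0, 2, 3, 1, 2, 1]), (21, [0, 2, 3, 1, 0]), (3, [0, 0, 2, 1, 0, 0]), (6, [0, 3, 2, 0]), (26, [0, 1, 0, 0]), (2, [1, 0, 2, 3]), (8, [0, 3, 0, 0, 2, 0, 0, 1, 0, 0]), (13, [3, 2, 0, 0, 3, 0, 2, 0, 1, 0, 0]), (1, [0, 0, 3, 0, 0, 2, 0, 1]), (10, [0, 0]), (19, [1, 3, 1, 2, 0, 1, 0]), (24, [3, 2, 0, 0, 3, 1, 0, 0]), (22, [0, 3, 2, 0, 0, 3, 0, 2]), (18, [0, 2, 3, 0, 2, 0, 1, 0, 0]), (14, [1, 2, 3, 2, 0, 1, 0]), (20, [0, 3, 1, 2, 0, 1]), (9, [0, 2, 3, 1, 0]), (25, [1, 0, 2, 3, 1, 2, 0, 0, 1, 0, 0]), (17, [2, 0, 0])],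
  [(0, [3]), (1, [0, 0, 3, 0]), (8, []), (11, [3]), (7, []), (18, []), (19, []), (14, []), (23, [0, 0, 3, 0]), (17, [3, 2, 1, 3, 0, 0, 2]), (10, [3]), (25, [3, 2, 0, 0, 3, 0, 2, 0, 1, 0, 0]), (12, [0, 3, 0, 2, 0, 0]), (13, [3, 2, 0, 0, 1, 0]), (4, []), (15, [1]), (5, [2, 0, 0, 3, 0, 2, 0, 1, 0, 0]), (21, [3, 2, 1, 3, 0, 0, 1, 0]), (16, [2, 3, 2, 1, 0]), (26, [0, 3, 2, 0, 0, 3, 1, 0, 0]), (20, [0, 2, 0, 1]), (9, [1, 2, 3, 1, 0, 0]), (22, [0, 0, 3, 0]), (2, [1, 3, 0, 1, 0]), (24, [0, 0, 3, 0]), (3, [2, 1, 3, 0, 0, 2, 0, 1, 0, 0]), (6, [0, 3, 2, 0, 0, 3, 1, 0, 0])],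
  [(1, []), (3, []), (2, [3]), (0, []), (15, []), (17, [2, 0, 1, 0]), (6, [0, 0, 3, 0]), (5, [2, 0, 0, 3, 2, 0, 0, 1, 0]), (24, []), (14, [3, 1, 0, 2, 3, 0, 0, 2, 0, 0]), (10, [0, 0]), (11, [0, 1, 0]), (26, [0, 0, 2, 0, 1, 0]), (12, [0, 2, 3, 1, 2, 0, 1, 0]), (18, [2, 0, 0, 3, 2, 0]), (16, []), (4, []), (7, [2, 3, 1, 0, 0]), (9, [2, 0, 0, 3, 0, 0, 2, 0, 0, 1, 0, 0]), (19, [1, 2, 0, 1]), (8, [2, 1, 3, 0, 2, 1]), (21, [0, 2, 0, 1]), (22, [0, 2, 3, 0, 2]), (23, [1, 3, 1]), (20, [1, 0, 2, 3, 0, 2, 0]), (25, [3]), (13, [0, 3, 1, 2, 0, 0, 1, 0, 0])],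
  [(2, []), (6, []), (9, []), (13, []), (0, []), (4, [2, 3, 2, 1, 3, 2, 1]), (20, []), (1, []), (14, [3, 1, 0, 2, 3, 0, 0, 2, 0, 0]), (5, [2, 3, 2, 1, 3, 2, 1]), (25, []), (12, [1, 2, 3, 0, 0, 1, 0, 0]), (23, [1, 3, 0, 0, 2, 1]), (19, [2, 3, 2, 1, 0]), (3, []), (11, [0, 2, 1]), (16, [1, 2, 3, 1, 2]), (17, [2, 1, 3, 1, 2]), (15, [2, 3, 2, 1, 3, 2, 1]), (8, [2, 1, 3, 0, 2, 1]), (21, []), (7, []), (10, [0, 2, 3, 1, 2, 0, 1, 0]), (18, [0, 3, 2, 0, 0, 3, 0, 0, 2, 1, 0]), (22, [2, 3, 2, 1, 3, 1, 0, 0]), (26, [3, 2, 1, 3, 2, 0, 0, 1, 0, 0]), (24, [1, 3, 0, 0, 2, 1])],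
  [(3, []), (0, []), (2, [1, 3, 1]), (1, []), (16, []), (7, [2, 3, 2]), (6, [1, 3, 0, 1, 0]), (17, [0, 3, 0, 2, 0, 1, 0, 0]), (20, [1, 0, 2, 3, 0, 2, 0]), (18, [1, 2, 3, 0, 2, 1, 0]), (10, [0]), (11, [1]), (13, [0, 3, 0, 0, 2, 0, 0, 1]), (26, [1, 3, 1, 2, 1]), (9, [2, 3, 2, 1, 3, 0, 0, 2, 1]), (4, []), (15, []), (5, [0, 2, 0, 1, 0, 0]), (14, [2, 1, 3, 0, 0, 2, 1, 0]), (19, [0, 0, 2, 0, 0, 1, 0, 0]), (24, [2, 1, 3, 0, 2, 1]), (21, [0, 0, 2, 0, 1, 0]), (22, [2, 0, 0, 3, 0, 0, 2, 0, 0, 1]), (23, [3]), (8, []), (25, [1, 3, 1]), (12, [0, 2, 0, 1])],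
  [(4, []), (7, []), (0, []), (14, []), (5, [2, 3, 2, 1, 3, 2, 1]), (9, [2, 3, 2, 1, 3, 2, 1]), (1, []), (21, []), (19, [1, 0, 2, 3, 0, 2, 0]), (2, []), (22, [0, 3, 0, 0, 2, 0, 0, 1]), (15, [0, 2, 1]), (11, [0, 3, 2, 0, 0, 1, 0, 0]), (3, []), (8, [2, 3, 2, 1, 3, 0, 0, 2, 1]), (18, [2, 3, 2, 1, 3, 2, 1]), (16, [0, 3, 0, 2, 0, 1]), (17, [0, 3, 0, 2, 1, 0, 0]), (23, [3, 1, 0, 2, 3, 0, 0]), (13, [2, 0, 0, 3, 0, 2, 0, 1, 0, 0]), (6, []), (20, []), (24, [0, 3, 2, 0, 0, 3, 2, 0, 0, 1, 0]), (12, [1, 0, 2, 3, 0]), (26, [1, 0, 2, 3, 0]), (10, []), (25, [2, 3, 2, 1, 3, 0, 0])]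
]

-- level 0: k=8 k'=4 b=1 len=27

def LT1 : List (List ℕ) := [
  [],
  [3],
  [0, 3],
  [1, 3],
  [2, 3],
  [0, 0, 3],
  [2, 1, 3],
  [0, 2, 3],
  [1, 2, 3],
  [2, 0, 0, 3],
  [3, 2, 1, 3],
  [1, 0, 2, 3],
  [3, 2, 0, 0, 3],
  [2, 3, 2, 1, 3],
  [3, 1, 0, 2, 3],
  [0, 3, 2, 0, 0, 3]
]

def LE1 : List (List (ℕ × List ℕ)) := [
  [(0, [0]), (2, []), (5, []), (3, [0, 0]), (7, []), (1, []), (9, [1, 2, 0, 0, 1]), (8, [1, 2, 0, 0, 1, 0]), (4, [1, 2, 0, 0, 1, 0]), (11, [0, 0]), (12, [0, 0, 2, 0, 1, 0]), (6, [1, 2, 0, 0, 1, 0]), (15, []), (13, [1, 2, 0, 1]), (14, [0, 2, 0, 0, 1]), (10, [0, 2, 0, 1])],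
  [(0, [1]), (3, []), (2, [0]), (5, [0]), (8, []), (1, [0, 0]), (4, [1, 2, 0, 0, 1, 0]), (11, []), (6, [1, 2, 0, 0, 1, 0]), (7, [1, 2, 0, 0, 1]), (10, [0, 2, 0, 0, 1]), (9, [1, 2, 0, 0, 1]), (15, [0, 0, 2, 0, 0, 1, 0, 0]), (13, [1, 0, 0]), (12, [0, 0, 2, 0, 0, 1]), (14, [0, 2, 0, 0, 1, 0, 0])],
  [(0, [2]), (4, []), (1, [1, 2, 0, 0, 1, 0]), (6, []), (8, [0, 0]), (9, []), (7, [1, 2, 0, 0, 1, 0, 0]), (5, []), (11, [1, 2, 0, 0, 1]), (3, [1, 2, 0, 0, 1, 0, 0]), (13, []), (2, [0]), (10, [0, 0, 2, 0, 0, 1, 0, 0]), (15, [0, 2, 1]), (12, [0, 0, 1, 0, 0]), (14, [1, 2, 0, 0, 1, 0])],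
  [(1, []), (3, [1]), (2, [1]), (0, [0, 1, 0]), (4, [0, 2, 0, 0, 1]), (5, [0, 0, 1]), (10, []), (9, [0, 0, 2, 0, 0, 1]), (6, [0, 0, 1, 0, 0]), (12, []), (8, [0, 0, 1, 0, 0]), (14, []), (7, [1, 2, 1, 0, 0]), (13, [0, 0]), (15, [1, 0, 0]), (11, [0, 0, 1, 0])]
]

-- level 1: k=4 k'=3 b=4 len=16

def LT2 : List (List ℕ) := [
  [],
  [2],
  [0, 2],
  [1, 2],
  [0, 0, 2]
]

def LE2 : List (List (ℕ × List ℕ)) := [
  [(0, [0]), (2, []), (4, []), (3, [1]), (1, [])],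
  [(0, [1]), (3, []), (2, [0, 1, 0]), (4, [0, 1, 0]), (1, [1])],
  [(1, []), (3, [1, 0, 0]), (0, [0, 0]), (4, [0, 1]), (2, [0, 0, 1, 0, 0])]
]

-- level 2: k=3 k'=2 b=2 len=5

def LT3 : List (List ℕ) := [
  [],
  [1],
  [0, 1],
  [0, 0, 1]
]

def LE3 : List (List (ℕ × List ℕ)) := [
  [(0, [0]), (2, []), (3, []), (1, [])],
  [(1, []), (2, [0]), (0, [0, 0]), (3, [0, 0])]
]

-- level 3: k=2 k'=1 b=8 len=4

def LT4 : List (List ℕ) := [
  [],
  [0],
  [0, 0]
]

def LE4 : List (List (ℕ × List ℕ)) := [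
  [(1, []), (2, []), (0, [])]
]

-- level 4: k=1 k'=0 b=16 len=3


theorem ab_inv : ∀ j : Fin 2, matO (codeA j.val) * matO (codeAI j.val) = 1 ∧
    matO (codeAI j.val) * matO (codeA j.val) = 1 ∧ matO (codeB j.val) * matO (codeBI j.val) = 1 ∧
    matO (codeBI j.val) * matO (codeB j.val) = 1 := by decide +kernel

theorem ab_iso : ∀ j : Fin 2, ∀ u : VV, QQ (matO (codeA j.val) *ᵥ u) = QQ u ∧
    QQ (matO (codeB j.val) *ᵥ u) = QQ u := by decide +kernel

/-- the isometries `a_j` -/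
def aO (j : ℕ) : OO :=
  if h : j < 2 then
    ⟨⟨matO (codeA j), matO (codeAI j), (ab_inv ⟨j, h⟩).1, (ab_inv ⟨j, h⟩).2.1⟩,
      fun u _ => (ab_iso ⟨j, h⟩ u).1⟩
  else 1

/-- the isometries `b_j` -/
def bO (j : ℕ) : OO :=
  if h : j < 2 then
    ⟨⟨matO (codeB j), matO (codeBI j), (ab_inv ⟨j, h⟩).2.2.1, (ab_inv ⟨j, h⟩).2.2.2⟩,
      fun u _ => (ab_iso ⟨j, h⟩ u).2⟩
  else 1

theorem toM_aO (j : ℕ) (h : j < 2) : toM (aO j) = matO (codeA j) := by
  rw [aO, dif_pos h]; rfl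

theorem toM_aO_inv (j : ℕ) (h : j < 2) : toM (aO j)⁻¹ = matO (codeAI j) := by
  rw [aO, dif_pos h]; rfl

theorem toM_bO (j : ℕ) (h : j < 2) : toM (bO j) = matO (codeB j) := by
  rw [bO, dif_pos h]; rfl

theorem toM_bO_inv (j : ℕ) (h : j < 2) : toM (bO j)⁻¹ = matO (codeBI j) := by
  rw [bO, dif_pos h]; rfl

/-- the generators: two commutators and their inverses -/
def xO (j : ℕ) : OO := if j < 2 then ⁅aO j, bO j⁆ else ⁅bO (j - 2), aO (j - 2)⁆

theorem x_code : ∀ j : Fin 2,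
    matO (codeA j.val) * matO (codeB j.val) * matO (codeAI j.val) * matO (codeBI j.val) =
      matO (codeX j.val) ∧
    matO (codeB j.val) * matO (codeA j.val) * matO (codeBI j.val) * matO (codeAI j.val) =
      matO (codeX (j.val + 2)) := by decide +kernel

theorem toM_xO (j : ℕ) (h : j < 4) : toM (xO j) = matO (codeX j) := by
  unfold xO
  by_cases h2 : j < 2
  · rw [if_pos h2, commutatorElement_def, toM_mul, toM_mul, toM_mul, toM_aO j h2, toM_bO j h2,
      toM_aO_inv j h2, toM_bO_inv j h2]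
    exact (x_code ⟨j, h2⟩).1
  · have h3 : j - 2 < 2 := by omega
    have h4 : j - 2 + 2 = j := by omega
    rw [if_neg h2, commutatorElement_def, toM_mul, toM_mul, toM_mul, toM_aO _ h3, toM_bO _ h3,
      toM_aO_inv _ h3, toM_bO_inv _ h3]
    have := (x_code ⟨j - 2, h3⟩).2
    simp only [h4] at this
    exact this

theorem xO_inv (j : ℕ) (h : j < 2) : xO (j + 2) = (xO j)⁻¹ := by
  unfold xO
  rw [if_pos h, if_neg (by omega), commutatorElement_inv]
  simp

theorem xO_mem (j : ℕ) : xO j ∈ Cfsg.Omega (ZMod 2) QQ := by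
  unfold xO
  split
  · exact Subgroup.commutator_mem_commutator (Subgroup.mem_top _) (Subgroup.mem_top _)
  · exact Subgroup.commutator_mem_commutator (Subgroup.mem_top _) (Subgroup.mem_top _)

/-- check points: the standard basis -/
def chk : List ℕ := [1, 2, 4, 8, 16, 32]

theorem tab_ok : (List.range 4).all (fun j => (List.range 64).all (fun x =>
    Nat.blt (tab j x) 64)) = true := by decide +kernel

theorem tab_lt (j : ℕ) (hj : j < 4) (x : ℕ) (hx : x < 64) : tab j x < 64 := by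
  have := List.all_eq_true.1 (List.all_eq_true.1 tab_ok j (List.mem_range.2 hj)) x
    (List.mem_range.2 hx)
  exact Nat.le_of_ble_eq_true this

theorem x_smul : ∀ j : Fin 4, ∀ n : Fin 64,
    matO (codeX j.val) *ᵥ vecO n.val = vecO (tab j.val n.val) := by
  decide +kernel

theorem gen_smul (j : ℕ) (hj : j < 4) (x : ℕ) (hx : x < 64) : xO j • vecO x = vecO (tab j x) := by
  rw [smul_def, toM_xO j hj]
  exact x_smul ⟨j, hj⟩ ⟨x, hx⟩

theorem idxO_vecO : ∀ n : Fin 64, idxO (vecO n.val) = n.val := by decide +kernel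

theorem vecO_idxO : ∀ u : VV, vecO (idxO u) = u ∧ idxO u < 64 := by decide +kernel

theorem pt_inj (x : ℕ) (hx : x < 64) (y : ℕ) (hy : y < 64) (hxy : vecO x = vecO y) : x = y := by
  have h := congrArg idxO hxy
  rwa [idxO_vecO ⟨x, hx⟩, idxO_vecO ⟨y, hy⟩] at h

theorem chk_lt : ∀ x ∈ chk, x < 64 := by decide

theorem vec_basis : ∀ k : II, vecO (2 ^ idxI k) = Pi.single k 1 := by decide

theorem basis_mem : ∀ k : II, 2 ^ idxI k ∈ chk := by decide

theorem faithful (g g' : OO) (h : ∀ x ∈ chk, g • vecO x = g' • vecO x) : g = g' := by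
  apply toM_injective
  ext i k
  have := h _ (basis_mem k)
  rw [smul_def, smul_def, vec_basis, Matrix.mulVec_single_one, Matrix.mulVec_single_one] at this
  exact congrFun this i

/-- chain data for the two commutators and their inverses -/
def D1 : TableChain2.Data OO VV where
  m := 4
  N := 64
  gen := xO
  pt := vecO
  tab := tab
  chk := chk
  gen_smul := gen_smul
  tab_lt := tab_lt
  chk_lt := chk_lt
  faithful := faithful
  pt_inj := pt_inj

theorem WB_lt : ∀ j < 8, ∀ c ∈ WB j, c < 4 := by decide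

theorem tab2_ok : (List.range 8).all (fun j => (List.range 64).all (fun x =>
    Nat.beq (tab2 j x) (TableChain2.act tab (WB j) x))) = true := by decide +kernel

theorem tab2_eq (j : ℕ) (hj : j < 8) (x : ℕ) (hx : x < 64) :
    tab2 j x = TableChain2.act tab (WB j) x := by
  have := List.all_eq_true.1 (List.all_eq_true.1 tab2_ok j (List.mem_range.2 hj)) x
    (List.mem_range.2 hx)
  exact Nat.eq_of_beq_eq_true this

/-- chain data for the strong generating sequence -/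
def D2 : TableChain2.Data OO VV where
  m := 8
  N := 64
  gen := fun j => D1.ev (WB j)
  pt := vecO
  tab := tab2
  chk := chk
  gen_smul := fun j hj x hx => by
    rw [tab2_eq j hj x hx]
    exact D1.ev_smul (WB j) (WB_lt j hj) x hx
  tab_lt := fun j hj x hx => by
    rw [tab2_eq j hj x hx]
    exact D1.act_lt (WB j) (WB_lt j hj) x hx
  chk_lt := chk_lt
  faithful := faithful
  pt_inj := pt_inj

theorem level0 : TableChain2.levelCheck tab2 8 4 1 chk LT0 LE0 = true := by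
  decide +kernel

theorem lvl0 : TableChain2.Data.LevelOK D2 8 4 1 LT0 LE0 :=
  TableChain2.Data.levelOK_of_check (D := D2) (by decide) (by decide) level0

theorem level1 : TableChain2.levelCheck tab2 4 3 4 chk LT1 LE1 = true := by
  decide +kernel

theorem lvl1 : TableChain2.Data.LevelOK D2 4 3 4 LT1 LE1 :=
  TableChain2.Data.levelOK_of_check (D := D2) (by decide) (by decide) level1

theorem level2 : TableChain2.levelCheck tab2 3 2 2 chk LT2 LE2 = true := by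
  decide +kernel

theorem lvl2 : TableChain2.Data.LevelOK D2 3 2 2 LT2 LE2 :=
  TableChain2.Data.levelOK_of_check (D := D2) (by decide) (by decide) level2

theorem level3 : TableChain2.levelCheck tab2 2 1 8 chk LT3 LE3 = true := by
  decide +kernel

theorem lvl3 : TableChain2.Data.LevelOK D2 2 1 8 LT3 LE3 :=
  TableChain2.Data.levelOK_of_check (D := D2) (by decide) (by decide) level3

theorem level4 : TableChain2.levelCheck tab2 1 0 16 chk LT4 LE4 = true := by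
  decide +kernel

theorem lvl4 : TableChain2.Data.LevelOK D2 1 0 16 LT4 LE4 :=
  TableChain2.Data.levelOK_of_check (D := D2) (by decide) (by decide) level4

instance finOO : Finite OO := inferInstance

theorem card_H : Nat.card (D2.H 8) = 25920 := by
  rw [lvl0.card, lvl1.card, lvl2.card, lvl3.card, lvl4.card, D2.card_H_zero]
  decide

theorem card_OO : Nat.card OO = 51840 := by
  rw [Cfsg.Agent.Lib.Helper43.card_isometryGroup_minus 2 (ZMod 2) 1 1 (by decide), ZMod.card]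
  decide

theorem H2_le_H1 : D2.H 8 ≤ D1.H 4 := by
  unfold TableChain2.Data.H
  rw [Subgroup.closure_le]
  rintro g ⟨j, hj, rfl⟩
  exact D1.ev_mem 4 (WB j) (WB_lt j hj)

theorem H1_le_Omega : D1.H 4 ≤ Cfsg.Omega (ZMod 2) QQ := by
  unfold TableChain2.Data.H
  rw [Subgroup.closure_le]
  rintro g ⟨j, _, rfl⟩
  exact xO_mem j

theorem index_H : (D2.H 8).index = 2 := by
  have h := (D2.H 8).card_mul_index
  rw [card_H, card_OO] at h
  omega

theorem Omega_le_H2 : Cfsg.Omega (ZMod 2) QQ ≤ D2.H 8 := by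
  haveI : (D2.H 8).Normal := Subgroup.normal_of_index_eq_two index_H
  have hc : Nat.card (OO ⧸ D2.H 8) = 2 := index_H
  haveI : Fact (Nat.Prime 2) := ⟨Nat.prime_two⟩
  haveI : IsCyclic (OO ⧸ D2.H 8) := isCyclic_of_prime_card hc
  letI : CommGroup (OO ⧸ D2.H 8) := IsCyclic.commGroup
  have := Abelianization.commutator_subset_ker (QuotientGroup.mk' (D2.H 8))
  rwa [QuotientGroup.ker_mk'] at this

theorem Omega_eq : Cfsg.Omega (ZMod 2) QQ = D1.H 4 :=
  le_antisymm (Omega_le_H2.trans H2_le_H1) H1_le_Omega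

theorem Omega_eq_closure : Cfsg.Omega (ZMod 2) QQ = Subgroup.closure {xO 0, xO 1} := by
  rw [Omega_eq]
  apply le_antisymm
  · unfold TableChain2.Data.H
    rw [Subgroup.closure_le]
    rintro g ⟨j, hj, rfl⟩
    show xO j ∈ Subgroup.closure {xO 0, xO 1}
    have h0 : xO 0 ∈ Subgroup.closure {xO 0, xO 1} := Subgroup.subset_closure (by simp)
    have h1 : xO 1 ∈ Subgroup.closure {xO 0, xO 1} := Subgroup.subset_closure (by simp)
    have : j = 0 ∨ j = 1 ∨ j = 2 ∨ j = 3 := by omega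
    rcases this with rfl | rfl | rfl | rfl
    · exact h0
    · exact h1
    · rw [xO_inv 0 (by norm_num)]; exact Subgroup.inv_mem _ h0
    · rw [xO_inv 1 (by norm_num)]; exact Subgroup.inv_mem _ h1
  · rw [Subgroup.closure_le]
    rintro g hg
    rcases hg with rfl | rfl
    · exact D1.gen_mem 0 (by norm_num)
    · exact D1.gen_mem 1 (by norm_num)

/-! ### The cohomology computation -/

/-- affine recursion on vector indices -/
def affN (a : ℕ → ℕ) : List ℕ → ℕ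
  | [] => 0
  | j :: l => a j ^^^ tab j (affN a l)

/-- the values on the four generators determined by the values on the first two -/
def aOf (a0 a1 : ℕ) (j : ℕ) : ℕ := [a0, a1, tab 2 a0, tab 3 a1].getD j 0

/-- the exhaustive check: a pair of values compatible with the relations is principal -/
def cocCheck : Bool :=
  (List.range 64).all fun a0 => (List.range 64).all fun a1 =>
    (!(rels.all fun r => Nat.beq (affN (aOf a0 a1) r) 0)) ||
      (List.range 64).any fun v => Nat.beq a0 (tab 0 v ^^^ v) && Nat.beq a1 (tab 1 v ^^^ v)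

theorem cocCheck_true : cocCheck = true := by decide +kernel

theorem rels_lt : ∀ r ∈ rels, ∀ c ∈ r, c < 4 := by decide

theorem rels_one : rels.all (fun r => chk.all fun x => Nat.beq (TableChain2.act tab r x) x) = true := by
  decide +kernel

theorem rel_ev (r : List ℕ) (hr : r ∈ rels) : D1.ev r = 1 := by
  have h := List.all_eq_true.1 rels_one r hr
  have := D1.ev_eq_of_act (l := r) (l' := []) (rels_lt r hr) (by simp) (by
    intro x hx
    exact Nat.eq_of_beq_eq_true (List.all_eq_true.1 h x hx))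
  rw [this, TableChain2.Data.ev_nil]

theorem vec_xor' (a b : ℕ) : vecO (a ^^^ b) = vecO a + vecO b := by
  funext i
  show (((a ^^^ b) >>> idxI i &&& 1 : ℕ) : ZMod 2) =
    ((a >>> idxI i &&& 1 : ℕ) : ZMod 2) + ((b >>> idxI i &&& 1 : ℕ) : ZMod 2)
  rw [Nat.shiftRight_xor_distrib, Nat.and_xor_distrib_right, Nat.and_one_is_mod,
    Nat.and_one_is_mod]
  have ha := Nat.mod_two_eq_zero_or_one (a >>> idxI i)
  have hb := Nat.mod_two_eq_zero_or_one (b >>> idxI i)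
  rcases ha with h | h <;> rcases hb with h' | h' <;> rw [h, h'] <;> decide

theorem vec_xor (a b : Fin 64) : vecO (a.val ^^^ b.val) = vecO a.val + vecO b.val :=
  vec_xor' _ _

theorem xor_lt (a b : Fin 64) : a.val ^^^ b.val < 64 :=
  Nat.xor_lt_two_pow (n := 6) a.isLt b.isLt

theorem vecO_zero : vecO 0 = 0 := by decide

theorem neg_vec (u : VV) : -u = u := by
  funext i
  have : ∀ a : ZMod 2, -a = a := by decide
  exact this _


section main

variable (F : OO → VV) (hF : IsCoc (Cfsg.Omega (ZMod 2) QQ) F)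
include hF

theorem F_inv (j : ℕ) (hj : j < 2) : F (xO (j + 2)) = xO (j + 2) • F (xO j) := by
  have h := hF (xO (j + 2)) (xO_mem _) (xO j) (xO_mem _)
  rw [xO_inv j hj, inv_mul_cancel, hF.map_one] at h
  rw [xO_inv j hj]
  have h2 := eq_neg_of_add_eq_zero_left h.symm
  rw [neg_vec] at h2
  exact h2

theorem aff_eq (l : List ℕ) (hl : ∀ c ∈ l, c < 4) :
    affN (aOf (idxO (F (xO 0))) (idxO (F (xO 1)))) l < 64 ∧
    affV xO (fun j => F (xO j)) l =
      vecO (affN (aOf (idxO (F (xO 0))) (idxO (F (xO 1)))) l) := by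
  have ha : ∀ j < 4, aOf (idxO (F (xO 0))) (idxO (F (xO 1))) j < 64 ∧
      F (xO j) = vecO (aOf (idxO (F (xO 0))) (idxO (F (xO 1))) j) := by
    intro j hj
    have h0 := vecO_idxO (F (xO 0))
    have h1 := vecO_idxO (F (xO 1))
    have : j = 0 ∨ j = 1 ∨ j = 2 ∨ j = 3 := by omega
    rcases this with rfl | rfl | rfl | rfl
    · exact ⟨h0.2, h0.1.symm⟩
    · exact ⟨h1.2, h1.1.symm⟩
    · refine ⟨tab_lt 2 (by norm_num) _ h0.2, ?_⟩
      show F (xO (0 + 2)) = vecO (tab 2 (idxO (F (xO 0))))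
      rw [F_inv F hF 0 (by norm_num), ← gen_smul 2 (by norm_num) _ h0.2, h0.1]
    · refine ⟨tab_lt 3 (by norm_num) _ h1.2, ?_⟩
      show F (xO (1 + 2)) = vecO (tab 3 (idxO (F (xO 1))))
      rw [F_inv F hF 1 (by norm_num), ← gen_smul 3 (by norm_num) _ h1.2, h1.1]
  induction l with
  | nil => exact ⟨by norm_num [affN], by simp [affV, affN, vecO_zero]⟩
  | cons j l ih =>
    have hj : j < 4 := hl j (by simp)
    obtain ⟨i1, i2⟩ := ih (fun c hc => hl c (by simp [hc]))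
    obtain ⟨a1, a2⟩ := ha j hj
    have ht := tab_lt j hj _ i1
    refine ⟨xor_lt ⟨_, a1⟩ ⟨_, ht⟩, ?_⟩
    show F (xO j) + xO j • affV xO (fun j => F (xO j)) l = _
    rw [i2, gen_smul j hj _ i1, a2]
    exact (vec_xor ⟨_, a1⟩ ⟨_, ht⟩).symm

theorem exists_vec : ∃ v : VV, ∀ g ∈ Cfsg.Omega (ZMod 2) QQ, F g = g • v - v := by
  have h0 := vecO_idxO (F (xO 0))
  have h1 := vecO_idxO (F (xO 1))
  have hrel : rels.all (fun r => Nat.beq (affN (aOf (idxO (F (xO 0))) (idxO (F (xO 1)))) r) 0) = true := by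
    rw [List.all_eq_true]
    intro r hr
    have hw := hF.map_word xO r (fun j _ => xO_mem j)
    have he : (r.map xO).prod = 1 := rel_ev r hr
    rw [he, hF.map_one] at hw
    obtain ⟨e1, e2⟩ := aff_eq F hF r (rels_lt r hr)
    rw [e2] at hw
    have := pt_inj _ e1 0 (by norm_num) (by rw [vecO_zero]; exact hw.2.symm)
    rw [this]
    rfl
  have hc := cocCheck_true
  unfold cocCheck at hc
  have hc2 := List.all_eq_true.1 (List.all_eq_true.1 hc _ (List.mem_range.2 h0.2)) _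
    (List.mem_range.2 h1.2)
  rw [hrel] at hc2
  simp only [Bool.not_true, Bool.false_or, List.any_eq_true, List.mem_range, Bool.and_eq_true] at hc2
  obtain ⟨v, hv, e0, e1⟩ := hc2
  have e0' := Nat.eq_of_beq_eq_true e0
  have e1' := Nat.eq_of_beq_eq_true e1
  refine ⟨vecO v, ?_⟩
  apply hF.eq_on_closure {xO 0, xO 1} Omega_eq_closure
  intro s hs
  rcases hs with rfl | rfl
  · rw [gen_smul 0 (by norm_num) v hv, sub_eq_add_neg, neg_vec, ← h0.1, e0']
    exact vec_xor ⟨_, tab_lt 0 (by norm_num) v hv⟩ ⟨v, hv⟩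
  · rw [gen_smul 1 (by norm_num) v hv, sub_eq_add_neg, neg_vec, ← h1.1, e1']
    exact vec_xor ⟨_, tab_lt 1 (by norm_num) v hv⟩ ⟨v, hv⟩

end main

/-- every crossed homomorphism of `Ω` into the natural module is principal -/
theorem main (f : ↥(Cfsg.Omega (ZMod 2) QQ) → VV)
    (hf : ∀ g h : ↥(Cfsg.Omega (ZMod 2) QQ), f (g * h) = f g +
      Matrix.mulVec (((g : OO) : GL II (ZMod 2)) : Matrix II II (ZMod 2)) (f h)) :
    ∃ v : VV, ∀ g : ↥(Cfsg.Omega (ZMod 2) QQ), f g =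
      Matrix.mulVec (((g : OO) : GL II (ZMod 2)) : Matrix II II (ZMod 2)) v - v := by
  classical
  let F : OO → VV := fun g => if h : g ∈ Cfsg.Omega (ZMod 2) QQ then f ⟨g, h⟩ else 0
  have hF : IsCoc (Cfsg.Omega (ZMod 2) QQ) F := by
    intro g hg h hh
    have hgh := (Cfsg.Omega (ZMod 2) QQ).mul_mem hg hh
    show (if h' : g * h ∈ Cfsg.Omega (ZMod 2) QQ then f ⟨g * h, h'⟩ else 0) =
      (if h' : g ∈ Cfsg.Omega (ZMod 2) QQ then f ⟨g, h'⟩ else 0) +
        g • (if h' : h ∈ Cfsg.Omega (ZMod 2) QQ then f ⟨h, h'⟩ else 0)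
    rw [dif_pos hgh, dif_pos hg, dif_pos hh]
    exact hf ⟨g, hg⟩ ⟨h, hh⟩
  obtain ⟨v, hv⟩ := exists_vec F hF
  refine ⟨v, fun g => ?_⟩
  have := hv g.1 g.2
  show f g = _
  have h2 : F g.1 = f g := by
    show (if h' : g.1 ∈ Cfsg.Omega (ZMod 2) QQ then f ⟨g.1, h'⟩ else 0) = f g
    rw [dif_pos g.2]
  rw [← h2, this]
  rfl

end Cfsg.Agent.Lib.Helper58.H1O6
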