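import Mathlib
import Cfsg.Prelude.Def_Classical
import Cfsg.Agent.Lib.Helper89.TableChain2
import Cfsg.Agent.Lib.Helper43.OrthCardForms
import Cfsg.Agent.Lib.Helper58.H1Gen

/-!
# Vanishing of `H¹` on the natural module of `Ω` for the form `Cfsg.quadFormPlus 4 (ZMod 2)`

Generated certificate: `Ω` (the commutator subgroup of the isometry group) is generated by two explicit
commutators (a verified stabiliser chain shows that they generate a subgroup of index `2`), and a few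
explicit relations between them cut the space of crossed homomorphisms down to the principal ones
(checked by exhausting the `2^16` possible values on the two generators).
-/

set_option autoImplicit false
set_option maxRecDepth 1000000

namespace Cfsg.Agent.Lib.Helper58.H1O8

open Cfsg.Agent.Lib.Helper89 Cfsg.Agent.Lib.Helper58.H1Gen
open Matrix
open scoped commutatorElement

abbrev II := Fin 4 ⊕ Fin 4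
abbrev VV := II → ZMod 2
abbrev QQ : VV → ZMod 2 := Cfsg.quadFormPlus 4 (ZMod 2)
abbrev OO := ↥(Cfsg.isometryGroup (ZMod 2) QQ)

/-- the matrix of an isometry -/
def toM (g : OO) : Matrix II II (ZMod 2) :=
  ((g.1 : Matrix.GeneralLinearGroup II (ZMod 2)) : Matrix II II (ZMod 2))

theorem toM_one : toM 1 = 1 := rfl

theorem toM_mul (g h : OO) : toM (g * h) = toM g * toM h := rfl

theorem toM_injective : Function.Injective toM := by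
  intro g h hgh
  apply Subtype.ext
  apply Units.ext
  exact hgh

instance actO : DistribMulAction OO VV where
  smul g v := toM g *ᵥ v
  one_smul v := by
    show toM 1 *ᵥ v = v
    rw [toM_one, Matrix.one_mulVec]
  mul_smul g h v := by
    show toM (g * h) *ᵥ v = toM g *ᵥ (toM h *ᵥ v)
    rw [toM_mul, Matrix.mulVec_mulVec]
  smul_zero g := Matrix.mulVec_zero _
  smul_add g u v := Matrix.mulVec_add _ u v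

theorem smul_def (g : OO) (v : VV) : g • v = toM g *ᵥ v := rfl

/-- position of an index -/
def idxI : II → ℕ
  | Sum.inl i => i.val
  | Sum.inr i => 4 + i.val

/-- a matrix over `ZMod 2` from its code -/
def matO (c : ℕ) : Matrix II II (ZMod 2) :=
  Matrix.of fun r s => (((c >>> (8 * idxI r + idxI s)) &&& 1 : ℕ) : ZMod 2)

/-- the vectors -/
def vecO (n : ℕ) : VV := fun i => (((n >>> idxI i) &&& 1 : ℕ) : ZMod 2)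

/-- index of a vector -/
def idxO (v : VV) : ℕ :=
  (v (Sum.inl 0)).val * 1 + (v (Sum.inl 1)).val * 2 + (v (Sum.inl 2)).val * 4 + (v (Sum.inl 3)).val * 8 + (v (Sum.inr 0)).val * 16 + (v (Sum.inr 1)).val * 32 + (v (Sum.inr 2)).val * 64 + (v (Sum.inr 3)).val * 128

def codeA (j : ℕ) : ℕ := [16045034257686110442, 2703321261897476609].getD j 0
def codeAI (j : ℕ) : ℕ := [15999561077010118472, 16216653675347700225].getD j 0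
def codeB (j : ℕ) : ℕ := [9718908830913707271, 876203085542727681].getD j 0
def codeBI (j : ℕ) : ℕ := [2376099262527480993, 867508147085043201].getD j 0
def codeX (j : ℕ) : ℕ := [9537895121566780394, 12558614774778864897, 8506579405810061829, 14927260917506042369].getD j 0

def tabC : List ℕ := [8228801528919647860640866315601238235250381086430122037978003492556848009665313421968333791678715973217035637362641690189445661454733271675937235252040979501917915436610694738525923539156472653083742798331253073096195008940979222565435337171956065129688646782765611338020044963923727729925489688387413407488097375492584791656745892983750010493529680503285410790357480340476065989948167137904667926469128254214114456788886775270171189276787948223551157815876265155451712052294807553710837215619102164292837024051155085859577794126423154544917729899598396427141305696204606139998307257628899160767300075166101959831040,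 28479753626949071757067920762771063330169943425812871342229844559205340763553058810446913322970348678563720969162232955420322454122527077481281313446471053042872540347785554538778012123116532723564865639114716291056819330357852063500123197139591990633816111184547799378913447688034487067825388839620703477792306705821391106794399683783239203450878372091466008127991531866495296371076424504480912132342829521304129281356450666964834659433743708895419079247032266316994866981292888187605891065547918183928845842032860152792130373556700171315049335204748693643105288220139504380264849014206282808098233553243504302652160, 31651997752653039642894473622888793187398824001918075338506741915947466765540855778421121815520317796091487122469918706911756003162856091592831351198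508460808540994720480938815566382048715440232351863355241056181636369815356804368312130587644328995449901273531152370958333301665830418825524295840917807749023483397853540429821281470419797695465539782347074434422287531476292431126196898306072098440338768548253310359318905964488761385748372273128714515429475390255339675405525735898150599164949783666114389737094265555244227713351966382466727480279543344801533958813901258778005492914354110846616764783144991100125440, 454934515195986291159153061543437236074743315409660322475179642327784699045674744841890656005907565762417925306970806728372582119451596763180487717553150394706956791747936112706552834286489269425130534132682029447688686167096116509403341340344606566975551491953317482466559741209729365322911306083055921891858697812950413749562855386711012653272912798077515318840983518646583714828537639974089811724785738421751792769932505535920733475369060069446654518695368823168692047382290112123426651270048102581034684450542304049701021882345676227083702553019202101667309700014885641455181712443145956073600599894874909743360]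

def tab2C : List ℕ := [14573839078054190423892419328408556354519629510621037617776549609040492640724213796079142723760077099111318746885580770410732262686262800430823681789083215790788815933863341828124608216571775736515723937364514813913965203116890138768314214506867184837935377359744577948461458977011695627143345882680236056129488809406830866666928677466289049072926352662058839449506038491152755110532735333621310040239845245532673646946938532347208944618153564563345069553422980418747465974439653554970443995311067654127373041490703345240212316113028371408649778233721602957354550622666679187192680130396873200333772520459965229564160, 15587705935193359280275511402748813260753136198287663096036953691895939139537501565460396632196440001648590104965189186197652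253377838271699811651459092717384917131997535424051608927714717406030594267081115667164616551675015918383647385278111851507430105481957228902162948248766085409667197924292073829832817430516211822440950111302553503498315241507660330260267094215131122775442836190713980923311610193719098089238067604942336296948936139475108687098248033932257381511659118148234611430970735218363459888790934294328389074099850213039917991381319795276199931091773826176703160408614611552865844416703802778962755840, 23191707361730621885027652745257543003326448243831737988775398444324735353234211234115794415398488594268519023668437724423649865428018894765842484285100646045100394097581071239254314943104807172422899812049038888804072978187079412640055101569395292062231572376215510329228370881056255778866272696262484205188230570243427935789150497819760353937495966040153362706813473852740733405989762130110868074294018769974924208082293486089362155427153835601949820854243850647032067254336039449441456194326521618233108378828262138403351640848385702505925989443219205266193228038311890818533293339904144963952501309157305370149120,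 6969837649215351710025329410011212569018519178394998690929382722121936644919806933240845542510455150435893502855930890771016111509922616133864651874118361412805335242983762832546154960871463588078848254059909299252392977076234220549325676523252806790058770406071152132490650239539050331567441247128768462171097959819954211322637007526679746471176566421777650148031782844357031405905354525942497774399282424482546064962925850954482467917858979142132452803418408195599029556943137036120637744563174844258784069431582093213762583361461660564610679767514320635098199042595449441661603500927115073308887528371860224999680, 747682135846913034086457461464985587825971573847566920075432497687942859678008609849406549486954816170432045994175733442027271298857446340043973315528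2399280387975872455996190918700125349407327353849118082229734796775241266232687402150648644226071965440859537405564301060482653133361575030913697158691208043862478757045525371393848778763915919379955226352098095426238375427912618700545054609397567106966431404922621457357070213007545596899176747580197684929950528443924085015416912347124794721449700704639509692749155628246279901352612946643556923265418297561595600988804239240926130823412343486476595095871041306880, 32316313779484749911555584415081052461683139642885427455202596990344954356661561464041007581521368550362263509443979455507052275861610015892555087018191448410184584107642790584381581728766270399198152688621868096038392425347117328704933475937323347512052275824706045748980902385372459123872116977613852943699875673010672535032664766873441555221431890720116851653586352383808787631373303034046753742295649167098057518257400133487696821217720764841525677797285126097087036678535088676059374805786608239340266133001124086295479419515910312343893089271603780905627869926087799466378951925474396311138771853895523256172800,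 8228801528919647860640866315601238235250381086430122037978003492556848009665313421968333791678715973217035637362641690189445661454733271675937235252040979501917915436610694738525923539156472653083742798331253073096195008940979222565435337171956065129688646782765611338020044963923727729925489688387413407488097375492584791656745892983750010493529680503285410790357480340476065989948167137904667926469128254214114456788886775270171189276787948223551157815876265155451712052294807553710837215619102164292837024051155085859577794126423154544917729899598396427141305696204606139998307257628899160767300075166101959831040, 284797536269490717570679207627710633301699434258128713422298445592053407635530588104469133229703486785637209691622329554203224541225270774812813134464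71053042872540347785554538778012123116532723564865639114716291056819330357852063500123197139591990633816111184547799378913447688034487067825388839620703477792306705821391106794399683783239203450878372091466008127991531866495296371076424504480912132342829521304129281356450666964834659433743708895419079247032266316994866981292888187605891065547918183928845842032860152792130373556700171315049335204748693643105288220139504380264849014206282808098233553243504302652160, 31651997752653039642894473622888793187398824001918075338506741915947466765540855778421121815520317796091487122469918706911756003162856091592831351198508460808540994720480938815566382048715440232351863355241056181636369815356804368312130587644328995449901273531152370958333301665830418825524295840917807749023483397853540429821281470419797695465539782347074434422287531476292431126196898306072098440338768548253310359318905964488761385748372273128714515429475390255339675405525735898150599164949783666114389737094265555244227713351966382466727480279543344801533958813901258778005492914354110846616764783144991100125440,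 454934515195986291159153061543437236074743315409660322475179642327784699045674744841890656005907565762417925306970806728372582119451596763180487717553150394706956791747936112706552834286489269425130534132682029447688686167096116509403341340344606566975551491953317482466559741209729365322911306083055921891858697812950413749562855386711012653272912798077515318840983518646583714828537639974089811724785738421751792769932505535920733475369060069446654518695368823168692047382290112123426651270048102581034684450542304049701021882345676227083702553019202101667309700014885641455181712443145956073600599894874909743360]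

def tab (j x : ℕ) : ℕ := ((tabC.getD j 0) >>> (8 * x)) &&& 255

def tab2 (j x : ℕ) : ℕ := ((tab2C.getD j 0) >>> (8 * x)) &&& 255

def WB (j : ℕ) : List ℕ := [[3, 2, 1, 0, 0, 1, 2, 2, 3, 2, 2, 1, 2, 3, 2, 3, 0], [0, 0, 3, 3, 0, 1, 0, 3, 3, 2, 2, 3, 2, 1, 2, 3, 0, 3, 2, 2], [3, 2, 3, 3, 2, 2, 3, 3, 0, 0, 1, 1, 0, 1], [3, 0, 0, 1, 0, 3, 3, 2, 3, 2, 2, 1], [3, 2, 2, 3, 3, 0, 0, 1], [2, 3, 3, 0], [0], [1], [2], [3]].getD j []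

def rels : List (List ℕ) := [[3, 3, 3, 3], [0, 0, 0, 0, 0], [2, 3, 2, 2, 1, 0, 3, 2, 3, 0, 1, 2, 1, 0, 0, 1]]

def LT0 : List (List ℕ) := [
  [],
  [6],
  [7],
  [8],
  [9],
  [0, 6],
  [1, 6],
  [2, 6],
  [3, 6],
  [4, 6],
  [5, 6],
  [6, 6],
  [7, 6],
  [0, 7],
  [1, 7],
  [3, 7],
  [5, 7],
  [6, 7],
  [7, 7],
  [8, 7],
  [0, 8],
  [1, 8],
  [2, 8],
  [4, 8],
  [5, 8],
  [7, 8],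
  [1, 9],
  [2, 9],
  [4, 9],
  [5, 9],
  [6, 9],
  [1, 0, 6],
  [3, 0, 6],
  [5, 0, 6],
  [6, 0, 6],
  [7, 0, 6],
  [9, 0, 6],
  [3, 1, 6],
  [4, 1, 6],
  [6, 1, 6],
  [7, 1, 6],
  [9, 1, 6],
  [1, 2, 6],
  [4, 2, 6],
  [5, 2, 6],
  [7, 2, 6],
  [8, 2, 6],
  [9, 2, 6],
  [0, 3, 6],
  [2, 3, 6],
  [4, 3, 6],
  [5, 3, 6],
  [6, 3, 6],
  [7, 3, 6],
  [8, 3, 6],
  [9, 3, 6],
  [0, 4, 6],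
  [3, 4, 6],
  [5, 4, 6],
  [7, 4, 6],
  [9, 4, 6],
  [0, 5, 6],
  [2, 5, 6],
  [3, 5, 6],
  [7, 5, 6],
  [8, 5, 6],
  [3, 6, 6],
  [4, 6, 6],
  [5, 6, 6],
  [9, 6, 6],
  [5, 7, 6],
  [6, 7, 6],
  [1, 0, 7],
  [6, 0, 7],
  [8, 0, 7],
  [9, 0, 7],
  [2, 1, 7],
  [7, 1, 7],
  [9, 1, 7],
  [2, 3, 7],
  [4, 3, 7],
  [7, 3, 7],
  [0, 5, 7],
  [4, 5, 7],
  [6, 5, 7],
  [8, 5, 7],
  [2, 6, 7],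
  [3, 6, 7],
  [9, 6, 7],
  [6, 7, 7],
  [7, 8, 7],
  [9, 8, 7],
  [7, 0, 8],
  [2, 1, 8],
  [4, 1, 8],
  [7, 1, 8],
  [8, 1, 8],
  [0, 2, 8],
  [5, 4, 8],
  [9, 4, 8],
  [2, 5, 8],
  [8, 5, 8],
  [9, 5, 8],
  [6, 1, 9],
  [0, 2, 9],
  [5, 2, 9],
  [8, 2, 9],
  [5, 4, 9],
  [1, 5, 9],
  [3, 5, 9],
  [6, 5, 9],
  [0, 6, 9],
  [5, 6, 9],
  [8, 3, 0, 6],
  [2, 5, 0, 6],
  [3, 6, 0, 6],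
  [3, 7, 0, 6],
  [7, 7, 0, 6],
  [6, 9, 0, 6],
  [6, 3, 1, 6],
  [9, 3, 1, 6],
  [3, 4, 1, 6],
  [6, 1, 2, 6],
  [3, 4, 2, 6],
  [1, 5, 2, 6],
  [7, 5, 2, 6],
  [4, 2, 3, 6],
  [9, 8, 3, 6],
  [2, 5, 4, 6],
  [8, 3, 5, 6],
  [2, 8, 5, 6],
  [7, 4, 6, 6],
  [9, 5, 7, 6],
  [5, 2, 3, 7],
  [1, 7, 3, 7]
]

def LE0 : List (List (ℕ × List ℕ)) := [
  [(0, [0]), (5, []), (13, []), (20, []), (4, [3, 0, 4, 3, 0, 4, 0, 3, 1, 3, 0, 2]), (1, []), (31, []), (7, [2, 1, 5, 4, 1, 5, 3, 1, 0, 4, 0, 3, 1, 0, 3, 1, 2, 1, 0]), (48, []), (56, []), (61, []), (35, [3, 1, 5, 4, 1, 4, 1, 0, 4, 3, 2, 0]), (34, [1, 4, 3, 1, 5, 2, 3, 4, 1, 0, 4, 3, 2, 1, 3, 2, 1, 0, 2, 0]), (2, []), (72, []), (76, [1, 3, 2, 1, 4, 3, 2, 3, 1, 3, 1, 0]), (82, []), (17, [1, 5, 1, 2]), (75, [3, 0, 4, 3, 0,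 4, 0, 3, 1, 3, 0, 2, 0]), (79, [1, 0, 5, 4, 1, 5, 2, 3, 4, 1, 0, 4, 0, 2, 1, 2]), (3, []), (51, [0, 5, 4, 1, 5, 3, 2, 1, 4, 2, 3, 1, 3, 2, 1, 0, 2, 1, 0]), (97, []), (63, [4, 3, 5, 1, 3, 2, 1, 3, 0, 2]), (24, [0, 4, 2, 1, 3, 1, 0, 2]), (25, [3, 5, 1, 0, 4, 1, 0, 3, 1, 0, 2, 1, 0]), (26, [3, 0, 4, 3, 0, 4, 0, 3, 1, 3, 0, 2]), (104, []), (28, [4, 1, 4, 3, 2, 1, 3, 1, 2]), (52, [3, 1, 3, 5, 1, 4, 1, 0, 4, 0, 3, 2]), (111, []), (6, []), (110, [5, 4, 1, 5, 3, 2, 1, 4, 3, 1, 0, 3, 0, 2, 1, 2, 0]), (62, [2, 1, 5, 4, 1, 5, 3, 1, 0, 4, 0, 3, 1, 0, 3, 1, 2, 1, 0]), (12, [3, 1, 3, 5, 1, 3, 2, 1, 4, 2, 1, 2]), (11, [1, 4, 1, 5, 0, 3, 4, 1, 0, 4, 3, 2, 1, 3, 2, 1, 2]), (49, [0, 5, 1, 3, 2, 1, 4, 3, 0, 2, 1, 0, 2, 0]), (37, [1, 3, 4, 1, 5, 1, 4, 0, 3, 1, 0, 3, 1, 0, 2, 1,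 0]), (88, [4, 2, 3, 1, 5, 2, 0, 4, 3, 1, 3, 2, 1, 0, 2, 1, 0]), (39, [0, 2, 1, 0, 2, 1, 0]), (103, [3, 5, 3, 1, 5, 0, 4, 3, 0, 3, 2, 1, 0, 2, 1]), (115, [4, 3, 4, 5, 1, 5, 1, 0, 3, 2, 1, 2, 1]), (42, [2, 1, 5, 4, 1, 5, 3, 1, 0, 4, 0, 3, 1, 0, 3, 1, 2, 1, 0]), (43, [1, 3, 4, 1, 5, 1, 4, 0, 3, 1, 0]), (114, []), (106, [5, 4, 3, 1, 5, 1, 0, 4, 3, 2, 1, 3, 1, 0]), (73, [1, 3, 4, 1, 5, 3, 4, 1, 0, 4, 0, 3, 0, 2]), (105, [5, 1, 5, 4, 2, 3, 1, 3, 1, 0, 2, 1, 0]), (8, []), (36, [4, 3, 0, 3, 1, 5, 1, 3, 2, 3, 4, 3, 2, 3, 1, 3, 2, 1, 0, 2, 1]), (69, [4, 1, 4, 1, 5, 3, 1, 5, 2, 3, 4, 1, 0, 4, 3, 0, 3, 1, 3, 0, 2, 1, 0, 2, 1]), (21, [1, 4, 5, 1, 5, 3, 2, 3, 4, 2, 1, 3, 0, 2, 1, 2, 0]), (29, [4, 3, 5, 3, 2, 3, 4, 3, 2, 3, 1, 3, 0, 2]), (53, [4, 3, 0, 3, 1, 5, 4, 1, 4, 3,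 1, 0, 2]), (85, [2, 1, 5, 4, 1, 5, 3, 0, 4, 3, 2, 3, 1, 3, 0, 2, 1, 0]), (86, [1, 3, 5, 1, 3, 2, 3, 4, 3, 2, 3, 1, 3, 0, 2, 1, 0, 2, 1, 0]), (9, []), (118, [1, 3, 4, 1, 5, 3, 1, 4, 1, 0, 4, 3, 0, 3, 1, 3, 0, 2, 1, 0, 2, 0]), (113, [3, 1, 3, 5, 3, 4, 2, 1, 4, 3, 2, 1, 3, 1, 2, 1, 0]), (107, [0, 4, 3, 5, 1, 0, 4, 3, 1, 3, 1]), (83, [0, 5, 4, 1, 5, 0, 3, 4, 1, 0, 4, 3, 0, 3, 1, 0, 2, 1]), (10, []), (33, [2, 1, 5, 4, 1, 5, 3, 1, 0, 4, 0, 3, 1, 0, 3, 1, 2, 1, 0]), (23, [3, 2, 3, 1, 0, 5, 4, 1, 4, 1, 0, 4, 0, 3, 1, 0, 3, 0, 2, 1, 0, 2]), (77, [0, 4, 3, 5, 1, 5, 4, 3, 2, 1, 4, 0, 3, 1, 0, 3, 2, 1, 0, 2, 1]), (124, [1, 3, 5, 3, 2, 1, 4, 2, 3, 1, 3]), (66, [3, 4, 1, 5, 3, 4, 3, 1, 3, 2, 1, 2, 1, 0]), (70, [5, 3, 1, 0, 5, 4, 3, 2, 3, 1, 3, 2, 1, 2, 0]), (68, [3, 4, 1,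 5, 3, 0, 4, 3, 0, 4, 3, 1, 3]), (50, [5, 1, 5, 3, 4, 2, 1, 4, 0, 3, 1, 0, 3, 0, 2, 1, 2, 1, 0]), (67, [1, 4, 5, 1, 5, 0, 3, 4, 2, 1, 4, 0, 3, 0, 2, 1, 0, 2, 0]), (94, [2, 3, 1, 0, 5, 2, 0, 4, 2, 3, 1, 3, 2, 1]), (14, []), (46, [4, 3, 1, 5, 1, 4, 1, 4, 0, 3, 1, 3, 2, 1, 2, 0]), (96, [2, 5, 1, 5, 2, 1, 4, 3, 0, 2, 1, 0]), (18, [2, 3, 4, 1, 0, 4, 3, 0, 3, 2, 1, 2, 1]), (15, [3, 1, 0, 4, 3, 2, 3, 1, 3, 1, 0, 2, 1]), (64, [5, 4, 3, 1, 5, 3, 0, 4, 3, 0, 4, 3, 1, 0, 3, 0, 2, 1, 2, 1, 0]), (78, [3, 2, 3, 1, 3, 1, 2, 0]), (19, [2, 1, 5, 4, 1, 5, 4, 3, 0, 4, 0, 3, 1, 0, 3, 1]), (129, [0, 4, 2, 1, 4, 3, 0, 2, 1, 2, 1]), (125, [1, 3, 5, 1, 3, 2, 3, 4, 0, 3, 0]), (16, []), (60, [0, 5, 1, 5, 0, 4, 3, 0, 3]), (84, [0, 4, 3, 5, 1, 5, 3, 1, 0, 4, 2, 3, 1, 3, 2, 0]), (54, [5,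 3, 1, 5, 3, 0, 4, 3, 0, 4, 1, 3, 0]), (55, [5, 1, 3, 2, 3, 4, 3, 2, 3, 1, 3, 2, 1]), (87, [5, 0, 2]), (38, [3, 2, 3, 1, 5, 0, 4, 2, 1, 4, 3, 2, 1, 3, 2, 1, 2, 0]), (89, [3, 2, 3, 1, 5, 1, 0, 4, 3, 0, 3, 2, 0]), (90, [0, 3, 1, 5, 0, 4, 2, 1, 3, 0]), (91, [2, 1, 4, 1, 4, 1, 2, 0]), (134, [3, 0, 5, 4, 1, 5, 2, 0, 4, 0, 3, 0, 2]), (93, [3, 4, 1, 5, 0, 4, 2, 1, 4, 3]), (71, [1, 5, 0, 4, 0, 3, 1, 0, 3, 0, 2, 1, 2]), (128, [4, 3, 5, 1, 4, 1, 4, 1, 3, 2, 1, 3, 2, 1]), (74, [5, 4, 3, 5, 1, 5, 3, 1, 3, 0, 2, 1, 0, 2, 1]), (22, []), (100, [3, 0, 4, 0, 3, 0, 2, 1, 0, 2, 1, 0]), (99, [3, 0, 4, 3, 0, 4, 3, 0, 3, 2]), (98, [0, 4, 2, 1, 0, 2, 1, 0]), (127, [4, 2, 3, 1, 5, 0, 4, 3, 0, 4, 0, 3, 1, 0, 3, 2, 1, 2, 1, 0]), (126, [1, 0, 5, 4, 1, 5, 4, 3, 0, 4, 0, 3, 1, 0, 3, 0, 2,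 1, 0, 2, 0]), (40, [3, 5, 1, 0, 5, 0, 4, 0, 2, 1, 2, 1, 0]), (27, []), (47, [0, 5, 1, 5, 2, 3, 4, 1, 3, 1, 0, 2, 1]), (45, [4, 3, 5, 1, 5, 4, 1, 0, 4, 1, 3, 0, 2, 1, 0, 2, 1]), (59, [3, 1, 5, 0, 4, 2, 1, 4, 1, 0, 3, 0, 2]), (117, [3, 5, 1, 4, 3, 1, 5, 3, 4, 2, 1, 4, 2, 1, 3, 0, 2]), (109, [4, 3, 1, 0, 4, 1, 0, 3, 2, 1, 2, 1, 0]), (32, [0, 3, 5, 1, 5, 3, 4, 1, 0, 4, 1, 0, 3, 1, 0, 2]), (30, []), (112, [1, 0, 5, 2, 0, 4, 0, 2, 1, 0]), (58, [4, 3, 0, 3, 1, 5, 3, 1, 0, 4, 3, 2, 1, 2, 1, 0]), (44, []), (41, [2, 5, 3, 1, 5, 2, 0, 4, 2, 1, 3, 0, 2, 1, 0, 2, 1, 0]), (116, [5, 2, 0, 4, 0, 2]), (108, [5, 1, 4, 3, 1, 5, 1, 4, 1, 4, 0]), (57, [3, 0, 3, 1, 5, 4, 1, 4, 0, 3, 2, 1]), (119, [0, 2, 1, 0, 2, 1, 0]), (133, [3, 1, 0, 5, 4, 3, 2, 1, 4, 1, 0, 3, 2]), (131, [4, 3,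 0, 3, 1, 5, 4, 2, 1, 4, 0, 3, 0, 2, 1, 2]), (122, [1, 4, 3, 1, 5, 3, 0, 4, 2, 3, 1, 3, 0, 2, 1]), (123, [1, 0, 4, 3, 5, 3, 0, 4, 1, 0]), (65, [0, 3, 1, 5, 2, 1, 4, 3, 2, 1, 3, 0, 2, 1, 0, 2, 1, 0]), (81, [3, 1, 5, 1, 3, 2, 3, 4, 1, 3, 2, 1, 3, 1, 2, 1]), (102, [2, 1, 5, 4, 1, 5, 3, 2, 3, 4, 0, 3, 1, 3, 1, 2]), (101, [3, 1, 5, 0, 4, 2, 1, 4, 3, 2, 1, 2, 1]), (95, [1, 4, 3, 5, 1, 4, 1, 4, 0, 3, 1, 0, 3, 2, 1]), (80, [1, 4, 1, 0, 4, 0, 3, 2, 1]), (130, [0, 2, 0]), (121, [2, 3, 1, 0, 5, 3, 4, 2, 1, 4, 3, 1, 0, 3, 0, 2, 1, 2, 1]), (132, [5, 1, 0, 5, 1]), (120, [3, 5, 2, 3, 4, 1, 0, 4, 0, 3, 1, 0, 3, 2, 1, 0]), (92, [2, 5, 1, 5, 2, 1, 4, 2, 1, 0, 2])],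
  [(0, [1]), (6, []), (14, []), (21, []), (26, []), (31, []), (1, []), (42, []), (8, [3, 5, 1, 0, 5, 0, 4, 3, 0, 4, 0, 3, 1, 3, 0, 2]), (45, [5, 1, 4, 3, 1, 5, 2, 3, 4, 1, 0, 3, 2]), (10, [1, 4, 5, 1, 5, 4, 1]), (46, [0, 3, 1, 5, 2, 0, 4, 2, 1, 3, 0, 2, 1, 0, 2, 0]), (34, [2, 3, 1, 5, 2, 0, 4, 1, 3, 2, 1, 3, 0, 2, 1, 2, 1]), (72, []), (2, []), (15, [3, 2, 3, 1, 3, 1, 2]), (16, [5, 4, 1, 5, 2, 1, 4, 0, 2, 1, 2]), (17, [0, 5, 1, 0, 5, 2, 1, 0, 2, 0]), (54, [0, 4, 3, 0, 4, 0, 3, 2, 1]), (79, [1, 4, 5, 1, 5, 1, 3, 1, 0, 4, 3, 0, 3, 2, 1, 2]), (51, [0, 5, 4, 1, 5, 3, 2, 1, 4, 2, 3, 1, 3, 2, 1, 0, 2, 1, 0]), (3, []), (97, [5, 4, 1, 5, 3, 2, 3, 4, 0, 3, 1, 0, 3, 0, 2, 0]), (23, [3, 5, 3, 1, 5, 2, 3, 1, 3, 1, 2, 1, 0]), (24, [3, 4, 1, 5, 3, 1, 5, 3, 0, 4, 1, 3, 0, 2,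 1, 0, 2, 1, 0]), (25, [4, 1, 4, 1, 5, 3, 1, 5, 3, 4, 1, 0, 4, 2, 1, 2, 0]), (4, []), (80, [0, 3, 4, 2, 1, 4, 3, 0, 3, 1, 3, 2, 1, 2, 0]), (28, [0, 2, 1, 2, 0]), (108, []), (55, [3, 2, 3, 1, 0, 5, 4, 3, 0, 3, 0, 2, 0]), (5, []), (110, [0, 3, 1, 5, 3, 4, 3, 2, 3, 1, 3, 2, 1]), (62, [5, 3, 1, 5, 0, 4, 3, 0, 4, 3, 1, 0, 3, 2, 1, 0, 2]), (12, [3, 1, 3, 5, 4, 2, 1, 3, 0, 2, 1, 0, 2]), (73, [1, 4, 1, 5, 3, 1, 5, 1, 3, 1, 0, 4, 1, 3, 2, 1, 2, 0]), (100, [3, 1, 3, 5, 1, 3, 2, 3, 4, 3, 0, 2, 1, 0, 2, 1, 0]), (37, [3, 5, 1, 0, 5, 0, 4, 3, 0, 4, 0, 3, 1, 3, 0, 2]), (38, [2, 1, 5, 4, 1, 5, 3, 0, 4, 3, 0, 4, 3, 2, 1, 3, 1, 0, 2, 0]), (91, [0, 3, 1, 5, 3, 0, 4, 3, 0, 4, 3, 0, 3, 0, 2, 1, 2, 0]), (103, [4, 3, 4, 5, 1, 5, 4, 3, 0, 4, 1, 2, 1]), (115, [4, 3, 4, 5, 1, 5, 3, 1,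 4, 1, 0, 4, 0, 3, 1, 0, 3, 2, 1, 2, 0]), (7, []), (43, [1, 4, 5, 1, 5, 4, 2, 3, 1, 3, 1, 2, 1]), (124, []), (9, [0, 3, 5, 1, 0, 5, 4, 2, 1, 4, 3, 0, 3, 1, 2, 1, 0]), (11, [3, 1, 0, 5, 1, 0, 4, 0, 3, 0, 2, 1, 0, 2, 0]), (47, [3, 2, 5, 3, 1, 5, 4, 1, 0, 4, 2, 1, 3, 2, 1, 0, 2, 0]), (48, [3, 5, 1, 0, 5, 0, 4, 3, 0, 4, 0, 3, 1, 3, 0, 2]), (98, [3, 1, 5, 2, 1, 4, 0, 2, 1, 0, 2, 0]), (69, [5, 1, 0, 5, 0, 4, 3, 0, 4, 3, 2, 3, 1, 3, 1, 2]), (20, [1, 4, 5, 1, 5, 3, 2, 3, 4, 2, 1, 3, 0, 2, 1, 2, 0]), (117, [3, 5, 2, 1, 4, 1, 4, 1, 0, 3, 0, 2, 1, 0, 2, 0]), (116, [1, 0, 5, 4, 1, 5, 1, 4, 1, 0, 4, 3, 1, 3, 2, 1, 0, 2, 0]), (18, [0, 4, 3, 0, 4, 0, 3, 2, 1]), (30, [0, 5, 3, 2, 1, 4, 3, 2, 1, 3, 0, 2, 1, 0, 2]), (106, [3, 2, 3, 1, 0, 5, 3, 0, 4, 3, 2, 1, 3, 2, 1, 0]), (126,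 [4, 3, 4, 5, 1, 5, 1, 4, 1, 0, 4, 3, 0, 2, 1, 0, 2, 1, 0]), (113, [3, 1, 3, 5, 4, 1, 4, 1, 0, 4, 1, 0, 3, 0, 2, 1, 2, 0]), (120, [3, 2, 5, 3, 1, 5, 1, 4, 1, 4, 2, 1, 3, 0, 2, 1]), (83, [0, 5, 4, 1, 5, 0, 3, 4, 1, 0, 4, 2, 3, 1, 3, 0, 2, 1, 2, 1, 0]), (61, [1, 4, 5, 1, 5, 4, 1]), (33, [2, 1, 5, 4, 1, 5, 4, 3, 1, 2, 0]), (63, [2, 5, 1, 5, 4, 2, 1, 4, 2, 1, 0, 2]), (127, [1, 5, 3, 1, 5, 1, 3, 1, 0, 4, 2, 3, 1, 3, 2, 1, 0]), (114, [1, 3, 5, 3, 2, 1, 4, 2, 3, 1, 3]), (66, [3, 5, 1, 0, 5, 2, 1, 3, 0, 2]), (67, [2, 1, 5, 4, 1, 5, 2, 3, 4, 1, 0, 4, 0, 3, 0, 2, 1, 0]), (99, [3, 2, 3, 1, 0, 5, 3, 0, 4, 3, 1, 0, 3, 1, 0, 2, 1, 0]), (50, [5, 1, 5, 4, 2, 1, 4, 3, 0, 3, 1, 3, 2, 1, 2, 1, 0]), (70, [3, 5, 3, 1, 5, 4, 1, 0, 4, 1, 0]), (74, [3, 1, 3, 5, 2, 1, 4, 1, 4, 3, 1, 3,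 2, 1, 2, 1, 0]), (13, []), (35, [4, 1, 5, 3, 1, 5, 2, 1, 4, 1, 4, 3, 0, 3, 1, 3, 1, 0, 2, 0]), (71, [3, 4, 1, 5, 4, 1, 3, 2, 1, 3, 1, 0]), (85, [2, 1, 5, 4, 1, 5, 4, 1, 0, 4, 1, 3, 0, 2, 1, 0, 2, 1]), (76, [4, 1, 4]), (101, [3, 1, 5, 4, 1, 0, 4, 0, 3, 1, 3, 0, 2, 1, 2, 0]), (78, [1]), (19, [2, 1, 5, 4, 1, 5, 3, 1, 4, 1, 0, 4, 3, 0, 3, 1, 3, 0, 2, 1, 0, 2]), (27, [0, 4, 3, 0, 4, 0, 3, 1, 3, 0, 2, 1, 2]), (134, []), (82, [5, 4, 1, 5, 2, 1, 4, 0, 2, 1, 2]), (60, [5, 1, 5, 1, 4, 0, 3, 1, 3, 2, 1, 2, 1]), (84, [4, 3, 0, 4, 1, 3, 2, 1, 0]), (75, [5, 4, 3, 1, 5, 3, 2, 1, 4, 1, 3, 0, 2, 0]), (111, [0, 5, 4, 1, 5, 2, 0, 4, 1, 0, 2]), (87, [3, 2, 5, 3, 1, 5, 0, 3, 1, 2, 1]), (88, [3, 2, 5, 3, 1, 5, 4, 1, 0, 4, 0, 3, 1, 2]), (89, [4, 1, 4, 1, 5, 3, 1, 5, 3, 4, 1, 0, 4,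 3, 0, 3, 0, 2, 1, 2, 0]), (112, [1, 5, 3, 1, 5, 0, 4, 2, 3, 1, 3, 0, 2]), (39, [1, 0, 4, 3, 5, 1, 0, 4, 3, 1, 0, 3, 1, 2, 0]), (125, [5, 1, 0, 5, 4, 3, 0, 4, 3, 0, 3, 1, 3, 1, 2, 1]), (93, [5, 1, 5, 0, 3, 1, 0, 3, 0]), (96, [3, 1, 5, 3, 0, 4, 2, 3, 1, 3, 1]), (95, [4, 1, 4, 1, 5, 3, 1, 5, 3, 4, 1, 0, 4, 2, 1, 2, 0]), (94, [1, 4, 3, 1, 5, 1, 0, 3, 0, 2]), (22, [5, 4, 1, 5, 3, 2, 3, 4, 0, 3, 1, 0, 3, 0, 2, 0]), (49, [5, 0, 4, 1, 3, 0, 2]), (68, [1, 0, 4, 3, 5, 4, 2, 1, 4, 3, 1, 0, 3, 0, 2, 1, 0, 2, 1, 0]), (36, [3, 2, 3, 1, 0, 5, 1, 3, 2, 3, 4, 2, 3, 1, 3, 2, 1, 0]), (77, [0, 3, 1, 5, 0, 3, 4, 2, 1, 4, 2, 3, 1, 3, 0, 2, 1, 0]), (118, [1, 5, 4, 1, 5, 4, 3, 0, 4, 1, 3, 2, 1, 3, 0, 2, 1]), (40, [4, 1, 5, 3, 1, 5, 3, 2, 3, 4, 1, 0, 3, 2, 1, 0, 2, 1]), (129, [3, 4,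 1, 3, 2, 1, 3, 0, 2, 1, 2, 1, 0]), (105, [1, 4, 5, 1, 5, 1, 0, 4, 0, 2, 1, 0, 2, 1, 0]), (56, [1, 4, 3, 1, 5, 2, 1, 4, 3, 1, 0, 3, 0, 2, 1, 0, 2, 0]), (133, [2, 1, 5, 4, 1, 5, 3, 0, 4, 3, 0, 4, 1, 0]), (29, []), (109, [2, 5, 3, 1, 5, 1, 3, 0, 2, 0]), (32, [4, 3, 0, 3, 1, 5, 4, 3, 1, 0, 4, 0, 3, 2, 1, 2, 1]), (86, [2, 5, 1, 5, 3, 4, 3, 0, 2, 1, 2, 0]), (90, [3, 2, 5, 3, 1, 5, 1, 3, 2, 3, 4, 3, 0, 2, 1, 0, 2, 1]), (58, [4, 3, 0, 3, 1, 5, 4, 3, 1, 0, 4, 3, 0, 3, 1, 3, 1, 2, 1]), (65, [0, 3, 1, 5, 2, 1, 4, 3, 2, 1, 3, 0, 2, 1, 0, 2, 1, 0]), (41, [2, 5, 3, 1, 5, 3, 0, 4, 3, 0, 4, 3, 0, 2, 1, 0, 2, 0]), (53, [3, 4, 5, 1, 5, 4, 3, 2, 1, 4, 3, 1, 3, 2, 0]), (52, [0, 4, 3, 5, 2, 3, 4, 2, 1, 3, 1, 2, 1]), (102, [4, 1, 5, 3, 1, 5, 1, 3, 2, 1, 4, 3, 2, 3, 1, 3, 1, 2, 1,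 0]), (119, [0, 5, 1, 0, 5, 0]), (59, [3, 4, 5, 1, 5, 1, 3, 2, 3, 4, 0, 3, 1, 0, 3, 0, 2, 1, 0, 2, 0]), (121, [3, 0, 4, 3, 0, 4, 3, 1, 3, 1, 0, 2]), (122, [3, 2, 5, 3, 1, 5, 4, 1, 0, 4, 0, 3, 1, 2, 1, 0]), (123, [1, 4, 5, 1, 5, 4, 2, 1, 2, 1]), (44, []), (92, [2, 5, 3, 1, 5, 1, 4, 1, 4, 3, 0, 3, 1, 3, 0, 2, 1]), (57, [3, 5, 1, 5, 0, 4, 3, 0, 4, 0, 3, 1, 3, 0, 2]), (64, [5, 4, 3, 1, 5, 4, 3, 2, 1, 4, 0, 3, 1, 3, 1, 2, 1]), (128, [1, 4, 1, 0, 4, 2, 3, 1, 3, 0, 2, 1, 2, 1, 0]), (104, [3, 2, 1, 4, 3, 2, 1, 0, 2]), (130, [1, 3, 2, 1, 3, 0, 2, 1, 0, 2, 0]), (131, [2, 3, 4, 1, 0, 4, 3, 2]), (132, [5, 1, 0, 5, 0, 4, 3, 0, 4, 1, 3, 2]), (107, [0, 4, 3, 5, 1, 5, 4, 3, 2, 1, 4, 0, 3, 0, 2, 1, 0, 2, 1]), (81, [])],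
  [(0, [2]), (7, []), (2, [4, 1, 4, 3, 2, 1, 3, 1, 2]), (22, []), (27, []), (5, [2, 1, 5, 4, 1, 5, 3, 1, 0, 4, 0, 3, 1, 0, 3, 1, 2, 1, 0]), (31, [3, 2, 3, 1, 5, 1, 3, 1, 0, 4, 2, 1, 3, 2]), (1, []), (49, []), (43, []), (62, []), (35, [5, 3, 1, 0, 5, 4, 1, 0, 4, 1, 3, 0, 2]), (67, [1, 4, 5, 1, 5, 4, 2, 1, 4, 1, 0, 3, 0, 2, 1, 2, 0]), (28, [0, 4, 2]), (76, []), (79, []), (59, [3, 1, 5, 2, 0, 4, 3, 0, 3, 1, 0, 2, 1]), (86, []), (18, [2, 0, 4, 0, 2, 0]), (72, [4, 3, 5, 1, 5, 4, 1, 0, 4, 2, 1, 3, 1, 0, 2, 0]), (23, [0, 4, 2, 1, 0, 2, 1, 0]), (93, []), (3, []), (20, [3, 0, 4, 0, 3, 0, 2, 1, 0, 2, 1, 0]), (100, []), (25, [4, 3, 5, 2, 1, 4, 1, 4, 3, 0, 3, 0, 2, 1, 0, 2, 1]), (26, [4, 3, 2, 1, 2, 1, 0]), (4, []), (13, [4, 2, 0]), (47, [0, 5, 1, 5, 4, 3, 0, 4, 1, 3, 2,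 1, 2, 1]), (70, [0, 3, 1, 5, 4, 3, 2, 1, 0, 2, 0]), (6, [1, 3, 4, 1, 5, 4, 3, 1, 0, 4, 3, 2, 3, 1, 3, 1]), (48, [2, 1, 5, 4, 1, 5, 3, 1, 0, 4, 0, 3, 1, 0, 3, 1, 2, 1, 0]), (114, []), (111, [0, 3, 5, 1, 0, 5, 0, 4, 3, 0, 2, 1, 0, 2, 1, 0]), (11, [2, 5, 3, 1, 5, 4, 1, 0, 4, 1, 0, 3, 0]), (110, [1, 0, 5, 4, 1, 5, 3, 1, 3, 0, 2, 1, 0, 2, 1]), (37, [3, 2, 3, 1, 5, 1, 0, 3, 0, 2, 1, 2, 1, 0]), (103, [1, 4, 5, 1, 5, 0, 3, 4, 1, 0, 4, 0, 3, 1, 3, 1]), (39, [3, 1, 5, 1, 0, 3, 1, 0, 2, 1, 0]), (45, [3, 0, 5, 4, 1, 4, 1, 0, 4, 0, 3, 1, 3, 2, 1, 2, 0]), (82, [4, 2, 3, 1, 5, 3, 4, 2, 1, 4, 0, 3, 1, 2, 1, 0]), (42, [3, 0, 5, 2, 1, 4, 2, 1, 3, 0, 2]), (9, []), (61, [2, 1, 5, 4, 1, 5, 3, 1, 0, 4, 0, 3, 1, 0, 3, 1, 2, 1, 0]), (40, [1, 3, 4, 1, 5, 4, 3, 1, 0, 4, 1, 3, 0, 2, 1,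 0, 2, 1, 0]), (53, [1, 5, 4, 1, 5, 0, 3, 4, 1, 0, 4, 3, 1, 0, 3, 2, 1, 2, 1]), (29, [3, 5, 1, 4, 3, 1, 5, 3, 4, 1, 0, 4, 3, 2, 3, 1, 3, 2, 1, 2]), (32, [2, 1, 5, 4, 1, 5, 3, 1, 0, 4, 0, 3, 1, 0, 3, 1, 2, 1, 0]), (8, []), (126, []), (51, [2, 5, 1, 5, 0, 3, 1, 0, 3, 0, 2, 1, 0, 2, 1, 0]), (83, [0, 4, 3, 5, 4, 3, 2, 3, 1, 3, 0, 2]), (46, [1, 4, 5, 1, 5, 1, 3, 2, 1, 4, 3, 2, 1, 3, 1, 0, 2, 0]), (85, [2, 1, 5, 4, 1, 5, 3, 2, 1, 4, 0, 3, 1, 3, 2]), (55, [3, 4, 1, 5, 3, 4, 2, 1, 4, 1, 3, 2, 1, 3, 0, 2, 1, 0, 2, 1, 0]), (56, [1, 3, 4, 1, 5, 1, 4, 0, 3, 1, 0]), (123, [1, 5, 3, 1, 5, 4, 1, 0, 4, 1, 3, 2, 1, 0]), (128, []), (16, [3, 5, 2, 3, 4, 3, 2, 1, 3, 2, 1, 2, 1, 0]), (105, [0, 5, 1, 0, 5, 0, 4, 3, 0, 4, 1, 3]), (44, [2, 1, 5, 4, 1, 5, 3, 1, 0, 4, 0, 3, 1, 0, 3, 1,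 2, 1, 0]), (10, []), (97, [1, 4, 3, 1, 5, 3, 4, 1, 0, 3, 1, 0, 2]), (64, [1, 3, 2, 1, 4, 1, 0, 3, 2, 1, 2, 0]), (130, []), (66, [3, 4, 2, 1, 4, 1, 3, 0, 2, 1, 0, 2, 1, 0]), (12, [5, 3, 1, 0, 5, 4, 1, 4, 1, 0, 4, 0, 3, 1, 3, 1]), (68, [3, 1, 3, 5, 2, 1, 4, 0, 3, 1, 3, 0, 2, 1, 0, 2, 0]), (121, [5, 4, 1, 5, 0, 4, 3, 0, 4, 3, 1, 3, 0, 2, 1, 2, 1]), (30, [1, 5, 2, 3, 4, 0, 3, 1, 3, 0, 2, 0]), (71, [2, 3, 4, 3, 2, 1, 3, 1, 2, 0]), (19, [2, 1, 5, 4, 1, 5, 4, 3, 2, 1, 4, 3, 2, 3, 1, 3, 2, 1, 0, 2, 1, 0]), (73, [0, 5, 1, 5, 1]), (96, [2, 5, 1, 5, 3, 4, 2, 1, 4, 3, 0, 3, 1, 3, 2, 1]), (112, [3, 0, 5, 4, 1, 5, 3, 2, 3, 4, 1, 2, 0]), (14, []), (119, [4, 3, 0, 3, 1, 5, 2, 3, 4, 1, 0, 4, 3, 2, 1, 3, 1, 0]), (78, [3, 0, 3, 1, 3, 1, 0, 2]), (15, []), (129, [1, 3, 2, 1, 4, 2,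 1, 3, 1, 0, 2, 0]), (81, [1, 0, 4, 1, 0]), (41, [4, 1, 5, 4, 1, 4, 3, 1, 3, 2, 1, 2, 0]), (52, [3, 1, 3, 5, 2, 1, 4, 1, 4, 3, 2, 1, 2, 1]), (84, [0, 5, 1, 5, 1]), (54, [5, 3, 1, 5, 3, 0, 4, 3, 0, 4, 3, 1, 3, 0, 2, 0]), (17, []), (133, [3, 1, 5, 3, 4, 1, 0, 3, 2, 1, 2, 1, 0]), (106, [0, 5, 1, 5, 1, 3, 2, 1, 4, 3, 2, 3, 1, 3, 2, 1, 0, 2]), (89, [3, 5, 1, 4, 3, 1, 5, 3, 0, 3, 0, 2, 1, 0, 2, 1]), (90, [2, 3, 1, 5, 2, 1, 4, 0, 3, 2, 1, 2, 1]), (94, [5, 3, 1, 0, 5, 3, 0, 4, 3, 1, 2, 0]), (134, [0, 5, 1, 0, 5, 0, 2, 0]), (21, []), (91, [1, 4, 1, 5, 3, 1, 5, 4, 1, 4, 1, 0, 4, 3, 2, 1, 2, 0]), (127, [0, 3, 5, 1, 5, 0, 4, 2, 1, 4, 0, 3, 1, 3, 0, 2, 1, 0, 2]), (74, [4, 1, 4, 1, 5, 3, 1, 5, 0, 4, 0, 3, 1, 3, 0, 2, 0]), (63, [4, 3, 5, 3, 4, 2, 3, 1, 3, 2, 1, 0, 2]), (98,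 [1, 0, 3, 2, 1, 2]), (125, [5, 4, 1, 5, 0, 4, 3, 0, 4, 3, 2, 1, 0]), (24, []), (113, [2, 1, 5, 4, 1, 5, 2, 3, 4, 1, 0, 4, 3, 0, 3, 1, 3, 2, 1, 2]), (131, [4, 3, 4, 5, 1, 5, 2, 0, 4, 3, 1, 0, 2, 1, 0]), (38, [1, 4, 5, 1, 5, 3, 0, 4, 2, 1, 3, 0, 2, 1, 2]), (104, [3, 0, 4, 3, 0, 4, 0, 3, 1, 3, 0, 2]), (60, [0, 5, 1, 5, 4, 2, 1, 4, 3, 2, 1, 3, 1, 0, 2, 0]), (88, [3, 4, 1, 5, 3, 1, 5, 1, 4, 1, 4, 1, 3, 1, 0]), (115, [2, 3, 1, 0, 5, 4, 3, 0, 4, 0, 3, 1, 0, 2]), (108, [4, 3, 2, 1, 2, 1, 0]), (117, [3, 1, 5, 1, 4, 3, 2, 3, 1, 3, 2]), (36, [3, 4, 5, 1, 5, 3, 1, 0, 4, 3, 2, 1, 3, 1, 2]), (34, [0, 5, 1, 5, 2, 0, 4, 3, 0, 3, 2, 0]), (75, [3, 5, 1, 4, 3, 1, 5, 3, 1, 0, 4, 3, 0, 3, 0, 2, 1, 0]), (101, [1, 4, 1, 5, 3, 1, 5, 0, 4, 3, 0, 4, 3, 1, 0, 3, 0, 2, 1, 2, 0]), (33, []),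 (107, [1, 0, 4, 3, 5, 4, 3, 1, 3, 0]), (116, [3, 4, 1, 0, 4, 3, 0, 3, 1, 0, 2, 1]), (109, [0, 4, 3, 5, 1, 3, 2, 3, 4, 1, 0, 2, 1]), (118, [3, 5, 3, 1, 5, 2, 3, 1, 3, 2, 1, 2, 0]), (77, [3, 1, 5, 3, 4, 1, 0, 4, 2, 3, 1, 3, 1, 0, 2, 1, 0]), (120, [4, 1, 4, 1, 0, 4, 1, 0, 2, 0]), (69, [3, 4, 1, 5, 3, 1, 5, 4, 2, 1, 4, 3, 1, 3, 0, 2, 1, 0]), (122, [2, 1, 4, 1, 2]), (57, [1, 5, 3, 1, 5, 4, 1, 0, 4, 1, 3, 2, 1, 0]), (124, [3, 0, 5, 2, 1, 4, 2, 1, 3, 0, 2]), (99, [1, 0, 5, 4, 1, 5, 2, 3, 4, 1, 0, 4, 3, 0, 3, 1, 0, 2, 1, 0]), (50, []), (95, [2, 5, 1, 5, 0, 4, 2, 1, 4, 0, 3, 1, 0, 2, 0]), (58, []), (80, [4, 1, 0, 3, 0, 2, 1, 2, 0]), (65, []), (102, [5, 3, 1, 0, 5, 2, 1, 4, 1, 4, 3, 2, 1, 2, 1, 0]), (132, [1, 5, 2, 1, 4, 2, 1, 0, 2, 1, 0]), (87, [1, 0, 4, 3, 5, 2, 3, 4,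 1, 0, 4, 3, 2, 3, 1, 3, 0, 2, 1, 0, 2, 1, 0]), (92, [2, 5, 1, 5, 1, 2, 1, 0])],
  [(0, [3]), (8, []), (15, []), (3, [3, 4, 1, 5, 1, 4, 2, 3, 1, 3, 1, 2, 0]), (4, [4, 3, 0, 4, 0, 3, 1, 0, 2, 0]), (32, []), (37, []), (36, [0, 3, 5, 1, 5, 4, 3, 2, 1, 4, 2, 1, 0, 2, 1, 0]), (1, []), (57, []), (63, []), (66, []), (12, [5, 4, 3, 5, 1, 5, 0, 3, 4, 1, 0, 4, 0, 3, 1, 0, 3, 0, 2, 1, 0, 2, 1, 0]), (19, [2, 1, 5, 4, 1, 5, 4, 3, 1, 0, 4, 0, 3, 1, 0, 3, 2, 1, 2, 1]), (28, [3, 1, 4, 1, 0, 4, 3, 0, 3, 1, 3, 0, 2, 1, 2]), (2, []), (16, [0, 3, 1, 5, 1, 0, 3, 1, 0, 2, 1]), (87, []), (79, [2, 3, 4, 1, 3, 2, 1, 2, 1]), (13, [0, 3, 5, 1, 5, 3, 4, 1, 3, 2, 1, 3, 1, 0, 2, 0]), (44, [4, 3, 5, 2, 3, 4, 0, 3, 1, 0, 3, 0, 2, 1, 0, 2]), (65, [5, 4, 3, 5, 1, 5, 4, 1, 4, 1, 0, 4, 1, 3, 2,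 1, 3, 1, 2]), (33, [4, 3, 5, 2, 3, 4, 0, 3, 1, 0, 3, 0, 2, 1, 0, 2]), (23, [3, 1, 0, 5, 1, 3, 2, 1, 3, 1, 2]), (49, [4, 3, 5, 1, 5, 3, 0, 4, 0, 3, 1, 0, 3, 0, 2, 1, 0, 2, 1, 0]), (85, [0, 3, 5, 1, 5, 1, 3, 2, 1, 4, 0, 3, 1, 3, 0, 2, 1, 0]), (68, [3, 5, 1, 5, 2, 3, 4, 2, 3, 1, 3, 0, 2, 1, 0, 2, 0]), (27, [3, 1, 3, 0, 2, 1, 0, 2, 0]), (14, [4, 3, 0, 4, 3, 0, 3, 0, 2, 1, 0]), (109, []), (59, [3, 2, 3, 1, 5, 2, 3, 4, 1, 0, 4, 3, 1, 3]), (42, [0, 5, 0, 3, 1, 0, 2, 1, 0]), (5, []), (22, [3, 2, 3, 1, 5, 1, 4, 1, 4, 3, 1, 3, 2, 1, 2]), (115, []), (116, []), (7, [4, 3, 4, 5, 1, 5, 1, 3, 2, 3, 4, 2, 1, 0]), (6, []), (121, []), (74, [4, 1, 5, 3, 1, 5, 0, 3, 4, 1, 0, 4, 3, 0, 3, 1, 0, 2, 1]), (50, [3, 4, 5, 1, 5, 1, 4, 1, 4, 3, 2, 3, 1, 3, 0, 2, 1, 2, 1, 0]), (41, [3, 0,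 3, 1, 5, 3, 1, 0, 4, 3, 0, 3, 1, 3, 1, 0, 2]), (31, [3, 0, 5, 1, 2, 1, 0]), (123, []), (20, [3, 2, 3, 1, 5, 1, 4, 1, 4, 3, 1, 3, 2, 1, 2]), (45, [1, 4, 3, 5, 3, 4, 1, 0, 4, 0, 2, 0]), (47, [3, 2, 3, 1, 5, 3, 2, 1, 4, 2, 1, 3, 0, 2, 1, 0, 2, 0]), (46, [1, 3, 5, 0, 4, 1, 3, 2, 1, 3, 0, 2, 1, 2]), (98, [3, 5, 1, 5, 0, 4, 1, 3, 2, 0]), (24, [5, 3, 1, 5, 2, 1, 4, 1, 4, 0, 3, 2, 0]), (40, [5, 1, 4, 3, 1, 5, 1, 3, 1, 0, 4, 1, 0, 2, 0]), (124, [1, 4, 5, 1, 5, 4, 1, 0, 4, 1, 3, 1, 2]), (53, [4, 2, 3, 1, 5, 2, 1, 4, 3, 1, 2, 0]), (52, [3, 2, 3, 1, 0, 5, 1, 3, 1, 0, 4, 2, 3, 1, 3, 0, 2, 1, 2]), (90, [2, 1, 5, 4, 1, 5, 1, 3, 1, 0, 4, 3, 1, 3, 2, 1, 2, 1, 0]), (120, [1, 5, 3, 1, 5, 4, 1, 0, 4, 3, 2, 1, 3, 2, 1, 2, 1, 0]), (118, [1, 4, 5, 1, 5, 2, 1, 4, 3, 1, 0, 3, 1, 0, 2]),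 (9, []), (71, [2, 3, 1, 0, 5, 3, 1, 4, 1, 0, 4, 3, 0, 3, 1, 3, 0, 2]), (30, [3, 1, 0, 5, 0, 3, 4, 1, 0, 4, 3, 1, 0, 3, 2, 1, 0, 2, 1]), (73, [3, 4, 1, 5, 3, 1, 5, 1, 4, 3, 1, 3, 1]), (61, [5, 1, 5, 0, 3, 1, 0, 3, 1]), (62, [5, 1, 5, 0, 3, 1, 0, 3, 1]), (10, []), (128, [3, 1, 3, 5, 4, 3, 1, 0, 3, 1, 0]), (21, [2, 5, 1, 5, 3, 1, 0, 4, 2, 3, 1, 3, 0, 2, 0]), (11, []), (82, [5, 4, 3, 1, 5, 1, 3, 1, 0, 4, 2, 1, 3, 1, 0, 2, 0]), (26, [1, 4, 5, 1, 5, 4, 1, 4, 2, 1, 3, 0, 2, 1, 0]), (69, [4, 2, 3, 1, 5, 3, 4, 1, 0, 4, 1, 3, 2, 1, 3, 2, 1, 2, 1]), (70, [2, 5, 1, 5, 0, 3, 1, 0, 3, 1, 2]), (58, [3, 1, 3, 5, 4, 1, 0, 4, 1, 3, 2, 1, 3, 2]), (112, [3, 0, 5, 4, 1, 5, 4, 1, 4, 1, 0, 4, 3, 0, 3, 1, 3, 2, 1, 2]), (60, [1, 4, 5, 1, 5, 3, 4, 0, 3, 0, 2]), (39, [0, 5, 4, 1, 5, 3,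 0, 4, 3, 0, 4, 1, 2]), (76, [1, 4, 1, 4, 1, 3, 2, 1, 3, 1, 2, 1, 0]), (75, [4, 1, 0, 4, 3, 1, 3, 0, 2, 1, 0, 2]), (113, [1, 3, 4, 1, 5, 2, 3, 4, 1, 0, 4, 1, 3, 2, 1, 3, 2, 1, 0, 2, 1]), (78, [3]), (18, [2, 3, 4, 2, 1, 3, 2, 1, 2, 1]), (80, [1, 2, 1]), (81, [2, 3, 4, 1, 0, 4, 3, 2, 3, 1, 3, 1]), (67, [0, 5, 4, 1, 5, 1, 3, 1, 0, 4, 0, 3, 0, 2, 1, 0, 2, 1, 0]), (117, [3, 1, 5, 1, 3, 2, 3, 4, 3, 0, 3, 1, 3, 2]), (84, [1, 3, 4, 1, 5, 1, 4, 0, 3, 1, 0]), (25, [0, 4, 3, 5, 1, 5, 3, 2, 1, 4, 2, 1, 3, 0, 2, 1, 0, 2]), (133, [4, 1, 5, 3, 1, 5, 2, 1, 4, 1, 4, 1, 3, 2, 1, 3, 1, 2, 1, 0]), (17, []), (88, [1, 0, 5, 0, 2, 1, 0]), (96, [3, 2, 3, 1, 5, 3, 0, 4, 3, 0, 4, 2, 1, 2, 0]), (54, [4, 3, 5, 1, 5, 3, 1, 0, 4, 0, 3, 1, 0, 3, 1, 0, 2, 1]), (101, [1, 5, 4, 1, 5, 1, 4, 0,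 3, 1, 0, 3, 1]), (92, [4, 1, 4, 1, 5, 3, 1, 5, 3, 4, 1, 0, 4, 0, 3, 0, 2, 1, 2, 0]), (130, [0, 4, 3, 5, 1, 5, 0, 4, 2, 1, 4, 1, 3, 2, 1, 3, 0, 2, 1, 0, 2, 1, 0]), (95, [4, 3, 5, 1, 4, 1, 4, 2, 3, 1, 3, 1, 2, 1, 0]), (94, [4, 3, 1, 5, 3, 4, 2, 1, 4, 0, 3, 1, 3, 0]), (89, [1, 0, 4, 3, 5, 3, 1, 4, 1, 0, 4, 3, 1, 0, 3, 2, 1, 0, 2, 1, 0]), (97, [3, 4, 1, 5, 1, 4, 2, 3, 1, 3, 1, 2, 0]), (48, [4, 3, 5, 1, 5, 2, 1, 3, 0, 2, 1, 0, 2, 1, 0]), (99, [4, 3, 0, 3, 1, 5, 4, 1, 4, 3, 1, 0, 2]), (110, [2, 1, 5, 4, 1, 5, 0, 4, 1, 3, 2, 1, 3, 0, 2, 1, 0]), (91, [1, 5, 4, 1, 5, 1, 3, 1, 0, 4, 2, 3, 1, 3, 2, 1, 0]), (106, [1, 3, 5, 1, 4, 1, 0, 4, 2, 1, 3, 2, 1, 2, 1]), (103, [0, 4, 3, 0, 4, 0, 3, 2]), (104, [4, 3, 0, 4, 0, 3, 1, 0, 2, 0]), (108, [0, 4, 3, 5, 1, 5, 0, 3, 4, 2, 1,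 4, 0, 3, 1, 0, 3, 1, 2, 0]), (102, [4, 2, 3, 1, 5, 1, 0, 4, 1, 0, 3, 1, 0, 2, 0]), (107, [2, 3, 1, 5, 2, 0, 4, 2, 1, 3, 0, 2, 1, 0, 2, 1]), (105, [2, 5, 3, 1, 5, 1, 0, 4, 0, 3, 1, 3, 1, 0, 2, 0]), (29, []), (100, [3, 4, 1, 5, 3, 1, 5, 3, 0, 4, 3, 0, 4, 3, 1, 3, 0, 2, 1, 0, 2, 1]), (111, [5, 1, 0, 5, 1]), (72, [2, 5, 1, 5, 3, 4, 1, 3, 2, 1, 3, 2, 1, 2, 1]), (77, [3, 2, 3, 1, 5, 3, 0, 4, 3, 0, 4, 3, 0, 3, 1, 3, 2, 1, 0]), (114, [3, 1, 3, 5, 3, 2, 1, 4, 0, 3, 0, 2, 1, 0, 2, 1, 0]), (34, []), (35, []), (83, [3, 0, 5, 1, 3, 2, 3, 4, 2, 3, 1, 3, 2, 1, 0, 2, 0]), (56, [5, 1, 4, 3, 1, 5, 4, 1, 4, 1, 0, 4, 3, 0]), (127, [1, 3, 4, 1, 5, 3, 4, 2, 3, 1, 3, 1, 0]), (55, [1, 5, 3, 1, 5, 4, 1, 0, 4, 3, 2, 1, 3, 2, 1, 2, 1, 0]), (38, []), (122, [5, 0, 4, 2]), (43, []), (51,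 [5, 4, 3, 1, 5, 4, 1, 0, 4, 3, 1, 0, 3, 0, 2]), (125, [2, 3, 4, 1, 0, 4, 3, 0, 3, 2, 1, 2, 1, 0]), (126, [0, 4, 3, 5, 1, 5, 2, 3, 4, 1, 0, 4, 0, 3, 1, 3, 2, 1, 2, 1]), (119, [4, 3, 0, 3, 1, 5, 3, 0, 4, 3, 0, 4, 0, 3, 1, 0, 3, 1]), (64, [3, 2, 3, 1, 5, 3, 2, 1, 4, 3, 1, 0, 3, 0, 2, 1, 0, 2, 1]), (134, [0, 4, 3, 0, 4, 3, 2, 3, 1, 3, 0]), (93, [2, 5, 1, 5, 3, 1, 0, 4, 0, 3, 1, 3, 0, 2, 1, 0, 2, 1, 0]), (131, [1, 0, 5, 2, 1]), (132, [4, 3, 0, 3, 1, 5, 1, 3, 2, 1, 4, 1, 0, 3, 2, 1, 2, 1]), (86, [3, 0, 5, 4, 1, 5, 1, 3, 1, 0, 4, 1, 0, 3, 2]), (129, [1, 4, 1, 0, 4, 1, 3, 2, 1, 3, 0, 2, 1, 2, 1])],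
  [(0, [4]), (9, []), (2, [3, 1, 0, 4, 1, 0, 3, 1, 0, 2, 1, 0]), (23, []), (28, []), (5, [3, 0, 5, 0, 3]), (38, []), (43, []), (50, []), (1, []), (10, [3, 0, 5, 0, 3]), (67, []), (35, [1, 3, 4, 1, 5, 4, 3, 0, 4, 2, 3, 1, 3, 2, 1, 2, 0]), (27, [0, 4, 2]), (19, [2, 1, 5, 4, 1, 5, 4, 3, 0, 4, 3, 1, 3, 2, 1]), (80, []), (83, []), (53, [5, 1, 4, 3, 1, 5, 3, 1, 4, 1, 0, 4, 3, 0, 3, 0]), (68, [3, 5, 1, 5, 2, 1, 4, 1, 4, 3, 0, 3, 2, 1, 0, 2, 1]), (14, [4, 3, 5, 1, 5, 3, 0, 4, 3, 0, 4, 3, 2, 0]), (22, [0, 4, 2, 1, 0, 2, 1, 0]), (94, []), (20, [3, 0, 4, 0, 3, 0, 2, 1, 0, 2, 1, 0]), (3, []), (100, [1, 0, 3, 2, 1, 2]), (25, [4, 3, 5, 1, 4, 2, 1, 3, 2, 0]), (26, [3, 2, 1, 3, 2, 1, 0, 2, 0]), (13, [4, 2, 0]), (4, []), (107, [4, 3, 2, 1, 4, 1, 0, 3, 1, 0, 2, 1, 0]), (34, [0,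 5, 1, 5, 3, 1, 0, 4, 1, 0, 3, 0, 2, 1, 0, 2, 1, 0]), (103, [0, 4, 3, 5, 1, 5, 3, 1, 0, 4, 1, 3, 2, 1, 3, 1, 0, 2, 0]), (32, [3, 5, 3, 1, 5, 2, 3, 1, 3, 0, 2, 1, 2, 1]), (95, [1, 3, 5, 1, 4, 1, 4, 1, 3, 2, 1, 3, 0]), (30, [4, 1, 5, 3, 1, 5, 3, 1, 0, 4, 0, 3, 2, 1, 2, 0]), (12, [1, 3, 4, 1, 5, 4, 3, 0, 4, 2, 3, 1, 3, 2, 1, 2, 0]), (102, [1, 0, 5, 4, 1, 5, 3, 0, 4, 1, 3, 2, 1, 3, 0, 2, 1, 0, 2, 1, 0]), (118, [1, 3, 5, 4, 2, 3, 1, 3]), (6, []), (39, [5, 4, 1, 5, 1, 3, 2, 1, 4, 0, 3, 1, 0, 2, 1]), (106, [5, 4, 3, 1, 5, 4, 3, 1, 0, 4, 3, 0, 3, 1, 3, 1, 0, 2]), (41, [1, 3, 2, 3, 4, 3, 0, 3, 1, 0, 2, 0]), (42, [3, 0, 3, 1, 5, 1, 3, 2, 3, 4, 0]), (7, []), (101, [5, 1, 5, 1, 3, 2, 1, 4, 2, 3, 1, 3, 0]), (88, [1, 4, 3, 1, 5, 0, 3, 4, 1, 0, 4, 3, 2, 1, 3, 0, 2, 1, 2, 1]),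 (86, [4, 3, 0, 3, 1, 5, 3, 4, 2, 1, 3, 1, 2, 1]), (115, [4, 1, 5, 3, 1, 5, 0, 4, 0, 3, 2, 1, 2, 1, 0]), (48, [3, 0, 5, 2, 3, 4]), (126, []), (8, []), (51, [3, 0, 5, 2, 3, 4]), (59, [3, 1, 3, 5, 1, 4, 1, 4, 1, 3, 2, 1, 3, 1, 0, 2, 0]), (17, [2, 5, 1, 5, 4, 1, 0, 4, 3, 2, 3, 1, 3, 0, 2, 1, 0]), (54, [2, 0, 4, 0, 2]), (55, [2, 1, 5, 4, 1, 5, 1, 3, 1, 0, 4, 3, 2, 1]), (56, [3, 0, 5, 0, 3]), (123, [1, 3, 4, 1, 5, 4, 3, 1, 0, 4, 3, 2, 3, 1, 3, 1]), (58, [3, 0, 5, 0, 3]), (52, [1, 0, 4, 3, 5, 2, 0, 4, 3, 2, 1, 3, 2, 1, 0, 2]), (60, [5, 2, 0, 4, 0, 2]), (113, [3, 1, 3, 5, 3, 4, 2, 1, 4, 3, 2, 1, 3, 1, 2, 1, 0]), (62, [3, 0, 5, 0, 3]), (96, [3, 0, 5, 4, 1, 5, 2, 1, 4, 1, 4, 3, 1, 3, 2, 1, 2]), (78, [1, 4, 5, 1, 5, 3, 2, 3, 4, 2, 3, 1, 3, 0, 2, 1, 0, 2, 1]), (130, [3,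 1, 0, 4, 1, 0, 3, 1, 0, 2, 1]), (120, [0, 5, 1, 0, 5, 2, 1, 4, 1, 4, 1, 0, 3, 0, 2, 1, 0, 2, 1, 0]), (11, []), (18, [2, 5, 3, 1, 5, 3, 1, 4, 1, 0, 4, 2, 3, 1, 3, 0, 2]), (69, [0, 4, 3, 5, 3, 0, 4, 1, 0, 2, 1, 0]), (111, [4, 1, 5, 4, 2, 1, 4, 0, 3, 1, 3, 1, 0]), (71, [2, 3, 4, 1, 0, 2, 1]), (76, [1, 0, 4, 3, 0, 3, 0, 2, 1, 0]), (73, [0, 5, 2]), (97, [3, 1, 0, 4, 3, 0, 2, 1, 0, 2, 1]), (112, [3, 0, 5, 4, 1, 5, 2, 0, 4, 1, 2, 0]), (72, [1, 3, 2, 1, 4, 2, 1, 3, 0, 2, 1]), (119, [4, 3, 0, 3, 1, 5, 3, 0, 4, 3, 0, 3, 0, 2]), (64, [5, 4, 3, 1, 5, 3, 1, 4, 1, 0, 4, 3, 0, 2, 1, 0, 2, 0]), (129, [1, 3, 2, 1, 4, 2, 1, 3, 1, 0, 2, 0]), (15, []), (90, [2, 1, 5, 4, 1, 5, 4, 2, 3, 1, 3, 0, 2, 1, 0, 2, 0]), (82, [3, 1, 0, 4, 1, 0, 3, 1, 0, 2, 1, 0]), (16, []), (98, [0, 5, 4,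 1, 5, 4, 1, 4, 3, 1, 3, 1, 2, 0]), (85, [2, 3, 1, 5, 3, 0, 3, 1, 3, 2]), (46, [4, 3, 1, 5, 4, 3, 0, 4, 3, 2, 3, 1, 3, 0, 2, 1, 2, 0]), (133, [3, 2, 5, 3, 1, 5, 3, 2, 3, 4, 1, 3, 2, 1, 3, 2]), (45, [3, 2, 3, 1, 0, 5, 1, 4, 1, 4, 3, 2, 1, 3, 0, 2, 1, 2, 0]), (124, [2, 1, 5, 4, 1, 5, 1, 0, 4, 3, 0, 3, 1]), (81, [0, 5, 1, 0, 5, 3, 4, 1, 0, 4, 3, 1, 3]), (93, [5, 3, 1, 0, 5, 3, 0, 4, 3, 1, 2, 0]), (92, [4, 3, 5, 1, 4, 2, 1, 3, 2, 0]), (91, [1, 4, 1, 5, 3, 1, 5, 4, 1, 4, 1, 0, 4, 3, 2, 1, 2, 0]), (21, []), (33, [0, 4, 3, 5, 3, 1, 4, 1, 0, 4, 2, 3, 1, 3, 0, 2, 1, 2]), (63, [2, 5, 1, 5, 1, 4, 0, 3, 1, 3, 1, 2, 1]), (74, [2, 0, 4, 0, 3, 1, 3, 0, 2]), (84, [3, 5, 3, 1, 5, 1, 3, 1, 0, 4, 0, 3, 0, 2, 1, 0, 2, 0]), (125, [4, 2, 3, 1, 5, 0, 3, 4, 2, 1, 4, 3, 0, 2, 1, 2, 0]),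 (24, [1, 0, 3, 2, 1, 2]), (44, [4, 1, 5, 3, 1, 5, 0, 4, 2, 3, 1, 3, 1, 0, 2, 1, 0]), (36, [3, 5, 1, 5, 4, 1, 0, 4, 1, 3, 2, 1, 3, 2, 1, 2]), (31, [2, 1, 5, 4, 1, 5, 3, 4, 1, 0, 4, 1, 3, 2, 1, 3, 2, 1, 0, 2, 0]), (104, [4, 3, 2, 1, 4, 1, 0, 3, 1, 0, 2, 1, 0]), (105, [4, 3, 2, 1, 4, 1, 0, 3, 1, 0, 2, 1, 0]), (40, [4, 3, 5, 1, 5, 0, 4, 3, 0, 4, 3, 0, 3, 2, 1, 2, 0]), (29, [4, 3, 2, 1, 4, 1, 0, 3, 1, 0, 2, 1, 0]), (132, [3, 5, 1, 4, 3, 1, 5, 3, 4, 2, 1, 4, 1, 2]), (117, [5, 3, 1, 0, 5, 4, 3, 1, 0, 4, 1, 3, 0, 2, 1, 0, 2, 0]), (131, [1, 5, 3, 1, 5, 0, 3, 4, 1, 0, 4, 3, 1, 0, 3, 0, 2, 1]), (70, [0, 3, 1, 5, 4, 3, 0, 4, 0, 2, 1]), (75, [0, 5, 1, 0, 5, 3, 0, 4, 2, 3, 1, 3, 1, 0, 2, 1, 0]), (61, [4, 3, 0, 3, 1, 5, 3, 1, 0, 4, 3, 2, 1, 2, 1, 0]), (127, [1, 0, 4, 3, 5,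 4, 3, 2, 1, 4, 3, 1, 3, 2]), (47, [5, 3, 1, 0, 5, 3, 4, 0, 2, 1, 2]), (116, [1, 4, 3, 5, 1, 4, 1, 0, 4, 3, 1, 0, 2, 0]), (109, [5, 4, 1, 5, 3, 0, 4, 3, 1, 2, 1, 0]), (37, [0, 5, 4, 0, 3, 1, 0, 3, 1, 2, 0]), (77, [4, 3, 5, 1, 3, 2, 1, 4, 3, 1, 3, 1, 2, 1, 0]), (66, [0, 5, 1, 5, 3, 1, 4, 1, 0, 4, 0, 3, 0, 2, 0]), (121, [1, 4, 5, 1, 5, 1, 0, 4, 2, 3, 1, 3, 0, 2, 1, 2, 1, 0]), (122, [2, 1, 4, 2, 1, 2]), (57, [3, 2, 3, 1, 5, 1, 3, 1, 0, 4, 2, 1, 3, 2]), (89, [5, 3, 1, 5, 2, 0, 4, 3, 1, 3, 0, 2, 1, 2]), (99, [1, 3, 5, 2, 1, 4, 1, 4, 1, 3, 1, 2, 1, 0]), (49, []), (114, [1, 3, 5, 3, 0, 4, 3, 0, 3, 1, 3, 1, 0, 2, 1, 0]), (128, [3, 0, 5, 0, 3]), (79, [4, 1, 0, 3, 0, 2, 1, 2, 0]), (65, [3, 1, 0, 4, 1, 0, 3, 1, 0, 2, 1]), (110, [1, 5, 4, 1, 5, 0, 4, 2, 1, 4, 3, 0, 3, 1,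 3, 1, 2, 1, 0]), (108, [5, 1, 4, 3, 1, 5, 4, 3, 0, 4, 2, 1, 0, 2, 1]), (87, [3, 0, 5, 4, 1, 5, 2, 1, 4, 1, 4, 3, 1, 3, 0, 2, 1, 0, 2, 0]), (134, [0, 4, 2, 1, 4, 2, 1])],
  [(0, [5]), (10, []), (16, []), (24, []), (29, []), (33, []), (6, [1, 3, 4, 1, 5, 1, 4, 3, 1]), (44, []), (51, []), (58, []), (1, []), (68, []), (70, []), (41, [4, 1, 5, 1, 4, 1, 0, 4, 0, 3, 1, 3, 1, 2, 1, 0]), (14, [3, 2, 3, 1, 5, 3, 2, 3, 4, 3, 2, 3, 1, 3, 2, 1, 0, 2, 1]), (19, [1, 4, 5, 1, 5, 4, 3, 2, 1, 4, 3, 1, 3, 0, 2, 1, 2, 1]), (2, []), (17, [4]), (34, [3, 5, 1, 5, 4, 1, 0, 4, 1, 3, 2, 1, 3, 2, 1, 2]), (15, [1, 0, 5, 4, 1, 5, 2, 3, 4, 1, 3, 2, 1]), (20, [0, 4, 2, 1, 3, 1, 0, 2]), (32, [2, 3, 1, 0, 5, 0, 4, 2, 1, 4, 3, 2, 3, 1, 3, 2]), (63, [4, 3, 5, 2, 3, 4, 2, 3, 1, 3, 2, 1, 0, 2]),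 (98, []), (3, []), (25, [3, 5, 3, 0, 3, 1, 0, 2, 1]), (26, [1, 3, 4, 1, 5, 4, 3, 0, 4, 2, 3, 1, 3, 2, 1, 2, 0]), (105, []), (107, []), (4, []), (112, []), (78, [5, 3, 1, 5, 1, 3, 1, 0, 4, 1, 3, 0, 2, 1, 2]), (21, [0, 4, 3, 5, 0, 3, 4, 1, 0, 4, 3, 2, 3, 1, 3, 0]), (5, []), (18, [1, 0, 5, 4, 1, 5, 3, 0, 4, 1, 3, 2, 1, 3, 0, 2, 1, 0, 2, 1, 0]), (35, [5, 1, 0, 5, 1]), (93, [3, 1, 3, 5, 3, 4, 1, 0, 4, 1, 3, 1, 2, 1, 0]), (37, [5, 4, 3, 1, 5, 1, 3, 1, 0, 4, 2, 3, 1, 3, 0, 2, 1, 0, 2]), (40, [0, 4, 3, 5, 1, 5, 4, 2, 1, 4, 1, 3, 2, 1, 3, 0, 2, 1, 0, 2]), (39, [1, 3, 2, 3, 4, 3, 0, 3, 1, 0, 2, 0]), (38, [0, 5, 1, 0, 5, 4, 1, 0, 4, 3, 2, 1, 3, 2, 1, 2, 1, 0]), (13, [4, 2, 3, 1, 5, 3, 4, 1, 0, 3, 1, 2, 1]), (42, [1, 3, 4, 1, 5, 1, 4, 3, 1]), (101, [0, 3, 5, 1, 0, 5, 1,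 3, 2, 1, 4, 0, 2, 1, 2, 0]), (7, []), (119, [4, 3, 1, 5, 2, 3, 4, 0, 3, 1, 0, 3, 0, 2, 1, 0, 2, 1, 0]), (73, [3, 0, 3, 1, 5, 3, 4, 2, 1, 3, 0, 2, 1, 2, 1, 0]), (60, [1, 0, 5, 1, 3, 2, 1, 4, 1, 0, 3, 0, 2, 1, 0, 2, 1, 0]), (110, [1, 0, 5, 0, 4, 2, 1, 0]), (49, [2, 5, 1, 5, 0, 3, 1, 0, 3, 0, 2, 1, 0, 2, 1, 0]), (71, [2, 3, 1, 0, 5, 1, 4, 1, 0, 4, 1, 3, 2, 1, 3, 1, 2]), (8, []), (52, [2, 1, 5, 4, 1, 5, 1, 3, 1, 0, 4, 3, 2, 1]), (53, [4, 3, 0, 3, 1, 5, 1, 3, 2, 1, 4, 1, 0, 3, 2, 1, 2, 1]), (122, [3, 5, 1, 5, 1, 3, 1, 0, 4, 0, 2, 1, 2, 0]), (86, [1, 3, 5, 0, 3, 4, 1, 0, 4, 2, 3, 1, 3, 1, 0]), (95, [1, 3, 5, 1, 4, 1, 4, 1, 3, 2, 1, 3, 0]), (118, [0, 5, 4, 1, 5, 4, 2, 1, 4, 3, 2, 1, 3, 1, 0, 2]), (9, []), (59, [4, 3, 5, 3, 0, 4, 3, 1, 0, 2, 1]), (47, [1, 3, 4, 1, 5,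 3, 1, 0, 4, 3, 1, 3, 1, 2, 1, 0]), (62, [2, 1, 5, 4, 1, 5, 3, 1, 0, 4, 0, 3, 1, 0, 3, 1, 2, 1, 0]), (61, [2, 1, 5, 4, 1, 5, 3, 1, 0, 4, 0, 3, 1, 0, 3, 1, 2, 1, 0]), (22, [3, 2, 3, 1, 0, 5, 3, 0, 4, 3, 0, 4, 2, 1, 3, 2, 1, 2]), (88, [4, 3, 1, 5, 4, 3, 2, 1, 4, 3, 1, 0, 3, 1, 2]), (124, [3, 0, 4, 2, 1, 3, 0, 2, 0]), (129, [5, 4, 1, 5, 2, 1, 4, 1, 4, 2, 3, 1, 3, 1, 2, 1]), (75, [5, 4, 3, 1, 5, 2, 1, 4, 0, 3, 0, 2]), (11, []), (131, [0, 5, 1, 0, 5, 1, 0, 4, 1, 3, 0, 2, 0]), (12, []), (50, [1, 0, 4, 3, 5, 2, 0, 4, 3, 1, 3, 0, 2, 1, 2]), (87, [3, 0, 5, 4, 1, 5, 2, 1, 4, 1, 4, 1, 3, 2, 1, 3, 2]), (46, [4, 2, 3, 1, 5, 4, 3, 2, 1, 4, 0, 3, 1, 3]), (84, [3, 5, 3, 1, 5, 3, 1, 4, 1, 0, 4, 0, 3, 1, 0, 3, 2, 1, 0, 2]), (67, [3, 5, 1, 5, 1, 4, 0, 3, 2, 1, 2, 1, 0]), (120, [4,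 1, 5, 3, 2, 1, 4, 0, 3, 1, 0, 2, 1]), (103, [3, 0, 5, 4, 1, 5, 1, 3, 2, 1, 4, 3, 2, 1, 0, 2, 1]), (31, [1, 4, 1, 5, 3, 1, 5, 4, 1, 4, 1, 0, 4, 3, 0, 3, 1, 3, 1, 2, 0]), (133, []), (80, [0, 3, 1, 5, 3, 0, 3, 1, 3, 0]), (125, [3, 4, 1, 5, 3, 1, 5, 0, 3, 4, 1, 0, 4, 1, 3, 2, 1, 3, 2, 1, 2, 1, 0]), (115, [2, 3, 1, 0, 5, 4, 1, 4, 1, 0, 4, 1, 3, 2, 1, 3, 0, 2]), (104, [0, 4, 2]), (74, [0, 3, 5, 1, 5, 0, 3, 4, 2, 1, 4, 3, 1, 0, 3, 1, 0]), (85, [3, 1, 3, 5, 3, 1, 0, 3]), (55, [2, 3, 1, 5, 0, 4, 3, 0, 4, 3, 2, 1, 0, 2, 0]), (72, [2, 5, 1, 5, 3, 2, 3, 4, 3, 2, 3, 1, 3, 0, 2, 1, 0, 2]), (64, [3, 1, 0, 5, 1, 3, 1, 0, 4, 2, 3, 1, 3, 1, 0]), (89, [3, 1, 0, 4, 1, 0, 3, 1, 0, 2, 1, 0]), (90, [0, 3, 1, 5, 3, 2, 1, 4, 0, 3, 1, 3, 0, 2, 1, 0, 2]), (102, [1, 4, 1, 4, 3, 1, 3, 1,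 0, 2, 1]), (116, [3, 2, 3, 1, 0, 5, 3, 1, 0, 4, 3, 0, 2, 1, 2, 0]), (36, [0, 4, 3, 5, 0, 3, 4, 1, 0, 4, 3, 1, 3, 0, 2, 1, 2]), (121, [0, 5, 1, 0, 5, 3, 0, 4, 3, 0, 4, 3, 0, 2, 1, 0, 2, 0]), (56, [0, 4, 3, 5, 3, 1, 4, 1, 0, 4, 2, 3, 1, 3, 0, 2, 1, 2]), (96, [4, 3, 0, 3, 1, 5, 1, 3, 2, 1, 4, 1, 3, 0, 2, 0]), (100, [0, 4, 2, 1, 3, 1, 0, 2]), (23, []), (99, [3, 0, 4, 3, 2, 0]), (97, [0, 4, 2, 1, 3, 1, 0, 2]), (43, [4, 1, 5, 3, 1, 5, 3, 2, 1, 3]), (91, [2, 3, 4, 1, 0, 4, 0, 3, 2, 1, 0, 2, 1]), (77, [5, 4, 3, 1, 5, 1, 3, 1, 0, 4, 3, 2, 3, 1, 3, 0, 2, 1, 0]), (83, [4, 2, 0]), (27, []), (106, [3, 1, 4, 1, 0, 4, 3, 0, 2, 1, 0, 2, 1, 0]), (28, []), (117, [3, 4, 5, 1, 5, 4, 3, 0, 3, 1, 0, 2, 1, 0]), (109, [1, 4, 1, 0, 4, 1, 2]), (48, [1, 0, 5, 0, 4, 2, 1, 0]), (111, [1,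 0, 5, 2, 0, 4, 0, 2, 1, 0]), (30, []), (128, [1, 4, 3, 1, 5, 2, 0, 4, 3, 1, 0, 3, 2, 1, 2, 1, 0]), (114, [2, 1, 5, 4, 1, 5, 3, 1, 0, 4, 0, 3, 1, 0, 3, 1, 2, 1, 0]), (82, [1, 4, 1, 5, 2, 0, 4, 3, 0, 3, 1, 3, 2, 1, 0, 2]), (92, [2, 3, 1, 0, 5, 4, 3, 0, 3, 1, 3, 0, 2, 1, 2]), (108, [1, 5, 3, 1, 5, 4, 1, 0, 4, 0, 3, 1, 3, 0, 2, 1]), (57, [5, 1, 0, 5, 3, 1, 4, 1, 0, 4, 2, 3, 1, 3, 0, 2]), (45, [3, 1, 3, 5, 3, 4, 2, 1, 4, 3, 2, 3, 1, 3, 0, 2, 1]), (76, [2, 3, 1, 5, 0, 4, 2, 1, 4, 1, 3, 1, 2, 0]), (94, [4, 1, 4, 1, 5, 3, 1, 5, 4, 1, 0, 4, 3, 1, 0, 3, 0, 2, 1, 2]), (54, [1, 5, 4, 1, 5, 4, 1, 4, 0, 3, 1, 3, 0, 2, 1, 0, 2, 0]), (123, [3, 1, 0, 4, 1, 0, 3, 1, 0, 2, 1, 0]), (65, [4, 2, 3, 1, 3, 1, 0, 2, 1, 0]), (81, [1, 4, 1, 5, 3, 1, 5, 0, 3, 4, 1, 0, 4, 1, 3, 2, 1, 0,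 2, 1, 0]), (126, [3, 1, 3, 5, 0, 4, 2, 3, 1, 3]), (127, [1, 3, 4, 1, 5, 1, 4, 0, 3, 1, 0]), (113, [3, 1, 0, 5, 0, 4, 2, 1, 4, 3, 2, 1, 3, 2, 1, 0, 2, 1, 0]), (66, [3, 5, 1, 0, 5, 1, 3, 1, 0, 4, 3, 1, 3, 2, 1, 2, 0]), (130, [0, 3, 1, 5, 1, 0, 3, 0, 2, 0]), (69, [5, 3, 1, 5, 2, 1, 4, 2, 1, 3, 2, 0]), (132, [3, 0, 5, 4, 1, 5, 4, 1, 0, 4, 2, 1, 3, 1, 0, 2, 1, 0]), (79, []), (134, [4, 3, 5, 3, 0, 4, 1, 2, 1, 0])],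
  [(1, []), (11, []), (17, []), (0, []), (30, []), (34, []), (39, []), (9, [2, 3, 1, 5, 1, 0, 4, 3, 2, 0]), (52, []), (6, [0, 5, 1, 0, 5, 3, 1, 0, 4, 3, 1, 3, 2, 1, 0, 2, 1]), (49, [0, 3, 1, 5, 4, 3, 0, 4, 3, 1, 0, 3, 0, 2, 1, 2, 1, 0]), (14, [1, 3, 5, 1, 0, 4, 0, 3, 1, 3, 0, 2, 1, 2]), (71, []), (73, []), (3, [3, 1, 5, 3, 2, 1, 4, 1, 0, 3, 1, 0]), (4, [1, 4, 5, 1, 5, 4, 3, 2, 1, 4, 3, 1, 3, 0, 2, 1, 2, 1]), (84, []), (38, [5, 1, 0, 5, 0, 3, 4, 1, 0, 4, 1, 3, 0, 2, 0]), (89, []), (2, []), (25, [2, 5, 1, 5, 3, 4, 2, 1, 4, 1, 3, 2, 1, 3, 0, 2, 1, 0, 2, 1, 0]), (88, [5, 3, 1, 4, 1, 0, 4, 3, 2, 3, 1, 3, 2, 1, 2]), (22, [2, 5, 1, 5, 4, 2, 3, 1, 3, 0, 2, 1, 0, 2, 0]), (19, [2, 1, 5, 4, 1, 5, 1, 3, 1, 0, 4, 2, 3, 1, 3, 2, 1, 0, 2, 1, 0]), (18, []), (12, [4, 3, 1, 5,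 4, 3, 2, 1, 4, 3, 1, 0, 3, 2, 1, 0, 2, 0]), (103, []), (5, [1, 3, 4, 1, 5, 1, 3, 2, 1, 4, 3, 1, 0, 3, 2, 1, 0, 2, 1, 0]), (106, [4, 3, 5, 4, 2, 1, 4, 3, 2, 3, 1, 3, 2, 1, 0, 2]), (110, []), (97, [3, 1, 3, 5, 4, 1, 0, 4, 3, 1, 0, 3, 1, 2]), (26, [0, 4, 3, 5, 1, 5, 3, 2, 3, 4, 0, 3, 1, 3, 1, 0]), (82, [5, 1, 0, 5, 2, 3, 4, 2, 3, 1, 3, 0, 2, 1, 0, 2, 1, 0]), (69, [3, 0, 5, 1, 4, 1, 4, 3, 2, 3, 1, 3, 0, 2, 1]), (28, [4, 3, 5, 4, 3, 2, 1, 4, 0, 3, 1, 3, 1, 2, 1]), (20, [1, 0, 5, 2, 3, 4, 1, 0, 4, 1, 0, 3, 2, 1, 0, 2, 1, 0]), (118, []), (119, []), (23, [3, 5, 3, 1, 5, 2, 3, 4, 2, 1, 3, 1, 0, 2, 0]), (46, [5, 1, 0, 5, 3, 2, 1, 4, 0, 3, 1, 0, 3, 0, 2, 1, 2, 1]), (74, [2, 3, 1, 5, 2, 3, 4, 1, 3, 1, 2, 1, 0]), (100, [1, 0, 5, 4, 1, 5, 4, 1, 4, 1, 0, 3, 1, 0, 2, 1, 0]),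 (122, []), (86, [3, 1, 0, 5, 3, 0, 4, 3, 0, 4, 1, 3, 2, 1, 3, 0, 2]), (109, [3, 1, 3, 5, 3, 0, 4, 3, 1, 3, 1, 2, 1, 0]), (94, [1, 4, 3, 5, 4, 1, 0, 4, 2, 0]), (7, []), (37, [5, 1, 5, 1, 0, 4, 0, 3, 1, 0, 3, 1, 2, 1]), (48, [4, 1, 5, 1, 3, 2]), (108, [4, 5, 1, 5, 1, 3, 1, 0, 4, 1, 3, 2, 1, 3, 1]), (36, [5, 4, 3, 1, 5, 0, 3, 4, 2, 1, 4, 3, 1, 0, 3, 2, 1]), (31, [2, 5, 1, 5, 1, 0, 4, 1, 3, 1, 2, 0]), (115, [1, 0, 5, 1, 0, 4, 0, 3, 0, 2, 0]), (67, [1, 4, 5, 1, 5, 3, 0, 4, 2, 3, 1, 3, 0]), (8, []), (55, [1, 4, 3, 5, 2, 1, 4, 0, 3, 1, 3, 2, 1, 2, 0]), (40, [1, 5, 4, 1, 4, 3, 0, 3, 0]), (127, [0, 5, 0, 4, 2, 1, 4, 0, 3, 1, 3, 1, 0]), (29, [1, 4, 1, 5, 3, 1, 5, 3, 1, 4, 1, 0, 4, 1, 3, 0]), (50, [1, 0, 4, 3, 5, 2, 0, 4, 3, 1, 3, 0, 2, 1, 2]), (57, [2, 5, 1, 5, 1, 4, 1,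 0, 4, 3, 0, 3, 1]), (60, [3, 1, 5, 4, 1, 4, 1, 0, 4, 1, 3, 2, 1, 3, 1, 0, 2, 0]), (59, [5, 1, 0, 5, 1, 3, 2, 3, 4, 3, 2, 1, 0, 2, 0]), (96, [1, 5, 4, 1, 5, 3, 2, 1, 4, 2, 1, 3, 0, 2]), (114, [1, 4, 5, 1, 5, 4, 2, 3, 1, 3, 1, 0, 2, 1, 0]), (10, []), (54, [3, 1, 0, 5, 1, 0, 4, 0, 3, 1, 0, 3, 2, 1, 0, 2, 0]), (104, [1, 0, 4, 3, 5, 0, 3, 4, 1, 0, 4, 2, 3, 1, 3, 1, 0, 2, 1, 0]), (33, [5, 3, 1, 5, 1, 4, 1, 0, 4, 2, 1, 3, 2, 1, 2, 1]), (105, [5, 1, 0, 5, 1, 3, 2, 3, 4, 0, 3, 1, 2, 1, 0]), (93, [2, 3, 1, 0, 5, 0, 4, 3, 2, 3, 1, 3, 1, 0]), (35, [1, 3, 4, 1, 5, 3, 4, 3, 0, 3, 1, 3, 1, 0, 2, 0]), (72, [2, 5, 1, 5, 1, 3, 2, 1, 4, 3, 0, 3, 1, 3, 0, 2, 1, 0, 2, 1, 0]), (56, [5, 4, 1, 5, 1, 3, 2, 3, 4, 0, 3, 1, 0, 3, 2, 1, 2]), (13, []), (65, [3, 5, 1, 0, 5, 0, 4, 3, 0, 4,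 2, 3, 1, 3]), (51, [1, 4, 1, 0, 3, 1, 2, 0]), (128, [3, 5, 1, 4, 3, 1, 5, 4, 1, 4, 3, 2, 1, 3, 2, 1, 0, 2, 1, 0]), (64, [3, 5, 3, 1, 5, 3, 1, 0, 4, 3, 2, 1, 3, 0, 2, 1, 2, 1]), (91, [2, 5, 1, 5, 3, 0, 4, 3, 2, 3, 1, 3, 1, 0, 2]), (15, [2, 1, 5, 4, 1, 5, 1, 4, 1, 4, 1, 3, 1, 0, 2, 0]), (78, [1, 5, 3, 1, 5, 4, 3, 0, 4, 0, 3, 1, 0, 3, 0]), (133, [4, 3, 5, 4, 2, 1, 4, 3, 0, 3, 1, 3, 2]), (132, [5, 0, 4, 3, 0, 4, 2, 1, 3, 2, 1, 2, 1]), (130, [5, 1, 4, 3, 1, 5, 1, 3, 1, 0, 4, 0, 3, 1, 3, 2, 1]), (16, []), (53, [5, 1, 0, 5, 2, 1, 4, 1, 4, 1, 0]), (61, [4, 2, 3, 1, 5, 1, 4, 1, 4, 1, 3, 2, 1, 3, 1, 2, 1, 0]), (129, [1, 5, 3, 1, 5, 4, 2, 1, 4, 3, 2, 1, 0, 2, 0]), (124, [2, 5, 1, 5, 3, 1, 3, 2, 1, 2, 0]), (113, [3, 2, 3, 1, 5, 2, 3, 4, 1, 0, 4, 3, 2, 1, 3, 0]), (42, [0,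 4, 3, 5, 3, 4, 2, 1, 4, 3, 1, 0, 3, 2, 1, 2, 1, 0]), (47, [1, 3, 5, 1, 0, 4, 1, 3, 2, 1, 3, 2, 1, 0, 2]), (116, [5, 4, 3, 5, 1, 5, 3, 4, 2, 1, 4, 3, 2, 3, 1, 3, 2, 1, 0, 2, 1]), (70, [0, 4, 3, 0, 4, 2, 3, 1, 3, 0, 2, 1, 2, 0]), (41, [0, 5, 1, 5, 1, 4, 3, 2, 1, 3, 0, 2, 1, 2]), (21, []), (80, [3, 0, 4, 3, 0, 4, 2, 3, 1, 3, 0, 2, 1, 0]), (58, [5, 4, 3, 1, 5, 4, 1, 0, 4, 0, 3, 2, 0]), (92, [4, 3, 5, 1, 5, 3, 1, 0, 4, 3, 1, 0, 3, 0, 2, 1, 0, 2, 1]), (44, [1, 3, 5, 2, 1, 4, 1, 4, 1, 3, 2, 1, 3, 0, 2, 1, 0, 2, 0]), (24, []), (120, [5, 1, 0, 5, 3, 2, 3, 4, 2, 3, 1, 3, 1, 0]), (76, [4, 3, 5, 0, 3, 1, 3, 2, 1, 0, 2]), (43, [1, 3, 4, 1, 5, 3, 4, 1, 0, 4, 0, 3, 2, 1]), (117, [1, 3, 4, 1, 5, 1, 3, 2, 1, 4, 3, 1, 0, 3, 2, 1, 0, 2, 1, 0]), (27, []), (83, [0, 5, 3, 1, 0, 4,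 0, 3, 1, 3, 0, 2, 1, 0, 2, 1]), (75, [4, 3, 0, 3, 1, 5, 1, 4, 1, 0, 4, 3, 0, 2, 0]), (95, [4, 1, 5, 3, 1, 5, 3, 4, 2, 1, 4, 2, 3, 1, 3, 0, 2]), (126, [0, 5, 2, 0, 4, 0, 3, 1, 0, 3, 2, 1, 0, 2, 1]), (79, [3, 4, 1, 5, 4, 1, 0, 4, 3, 1, 3, 0, 2, 1, 2, 0]), (85, [3, 5, 3, 1, 5, 4, 1, 4, 1, 0, 4, 1, 3, 2, 1, 3, 0, 2, 1, 0, 2, 0]), (32, []), (123, [3, 1, 5, 4, 3, 0, 4, 1, 3, 0, 2, 1, 0]), (66, [4, 5, 1, 5, 4, 3, 1, 0, 2, 1]), (45, [1, 0, 5, 3, 4, 2, 1, 4, 0, 3, 1, 0, 3, 0, 2, 1, 0, 2]), (68, [4, 1, 5, 3, 1, 5, 4, 3, 0, 4, 3, 0, 3, 2, 1, 2, 1]), (62, [5, 1, 4, 3, 1, 5, 4, 3, 2, 1, 4, 3, 0, 3, 1, 3, 1, 0, 2]), (99, [5, 4, 3, 5, 1, 5, 4, 1, 4, 1, 0, 4, 1, 0, 3, 0, 2, 1, 0, 2, 1, 0]), (125, [2, 5, 3, 1, 5, 3, 4, 1, 0, 4, 2, 1, 3, 0, 2, 1, 0, 2, 1, 0]), (121, [3, 2, 5,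 3, 1, 5, 1, 4, 1, 3, 2, 1, 3, 1, 2, 1]), (111, [0, 5, 1, 5, 4, 1, 4, 1, 0, 4, 0, 3, 1, 3, 1, 0, 2, 0]), (81, [4, 5, 1, 5, 0, 4, 2, 1, 4, 1, 3, 1, 2, 1]), (101, [3, 5, 1, 5, 0, 3, 1, 0, 3, 2, 1, 0, 2, 0]), (77, [3, 0, 5, 4, 1, 5, 3, 2, 3, 4, 3, 0, 3, 2]), (98, [1, 5, 2, 1, 4, 3, 2, 1, 3, 0]), (87, []), (102, [5, 1, 4, 3, 1, 5, 2, 1, 4, 3, 0, 3, 1]), (63, []), (112, [2, 3, 4, 1, 0, 4, 0, 3, 2, 1, 2, 1, 0]), (107, [0, 5, 4, 1, 4, 1, 3, 0, 2, 1, 2, 0]), (134, [2, 5, 3, 1, 5, 0, 4, 0, 3, 2, 1, 0, 2, 1]), (90, [2, 5, 1, 5, 3, 0, 4, 3, 2, 3, 1, 3, 1, 0, 2]), (131, [0, 3, 1, 5, 3, 4, 2, 1, 4, 3, 1, 0, 3, 0, 2, 1])],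
  [(2, []), (12, []), (18, []), (25, []), (0, []), (35, []), (40, []), (45, []), (53, []), (59, []), (64, []), (34, [1, 3, 4, 1, 5, 0, 3, 4, 2, 1, 4, 2, 1, 2, 0]), (1, [5]), (68, [3, 5, 1, 5, 1, 4, 0, 3, 0, 2, 1, 0, 2, 1, 0]), (77, []), (81, []), (38, [4, 1, 5, 3, 1, 0, 4, 3, 0, 2, 1, 2, 0]), (82, [2, 5, 1, 5, 3, 4, 2, 1, 4, 3, 1, 0, 3, 2, 1, 0, 2, 0]), (4, []), (90, []), (92, []), (95, []), (61, [5, 4, 3, 5, 1, 5, 2, 1, 4, 1, 4, 1, 3, 0, 2, 1, 0, 2, 1, 0]), (94, [4, 3, 5, 4, 2, 1, 4, 0, 3, 1, 3, 0]), (32, [1, 0, 5, 4, 1, 5, 2, 1, 4, 0, 3, 1, 3, 0, 2, 1]), (3, [0, 4, 3, 5, 3, 0, 4, 1, 0, 2, 1, 0]), (10, [5, 4, 3, 1, 5, 4, 1, 4, 1, 0, 4, 3, 2, 3, 1, 3, 1, 0, 2]), (27, [0, 4, 3, 0, 3, 2, 0]), (65, []), (41, [4, 3, 1, 5, 0, 4, 3, 2, 1, 2]), (105, [3, 5, 1, 0, 5,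 2, 3, 4, 1, 0, 4, 3, 0]), (100, [1, 4, 1, 5, 3, 1, 5, 1, 3, 2, 1, 4, 1, 0, 3, 0]), (86, [4, 5, 1, 5, 4, 1, 4, 1, 0, 4, 1, 3, 2, 1, 3, 1, 0, 2]), (78, [0, 3, 1, 5, 4, 1, 0, 4, 3, 2, 3, 1, 3, 1, 0, 2, 1, 0]), (49, [1, 0, 5, 3, 0, 4, 3, 0, 4, 3, 1, 0, 3, 1, 2]), (117, []), (5, []), (42, [1, 4, 3, 5, 2, 3, 4, 1, 0, 3, 2]), (16, [2, 3, 1, 0, 5, 1, 0, 4, 3, 2, 3, 1, 3, 0, 2]), (112, [3, 4, 2, 1, 4, 3, 1, 0, 3, 0, 2, 1]), (29, [3, 0, 5, 4, 1, 4, 1, 0, 4, 2, 3, 1, 3, 1, 2, 1, 0]), (6, []), (57, [3, 4, 5, 1, 5, 1, 4, 1, 4, 3, 2, 3, 1, 3, 0, 2, 1, 2, 1, 0]), (121, [5, 1, 4, 3, 1, 5, 3, 0, 4, 1, 3, 2, 1, 2, 1]), (125, []), (56, [5, 0, 3, 1, 0, 2, 1]), (103, [1, 4, 1, 5, 2, 1, 4, 2, 1, 3, 2, 1, 2, 0]), (7, []), (83, [4, 3, 0, 3, 1, 5, 0, 3, 4, 1, 0, 4, 1, 3, 2, 1, 3, 1,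 0]), (69, [4, 1, 5, 0, 4, 3, 0, 4, 2, 3, 1, 3, 1, 0, 2, 0]), (108, [3, 4, 1, 5, 3, 4, 1, 0, 4, 0, 3, 1, 3, 1, 2]), (44, [3, 2, 3, 1, 5, 2]), (73, [1, 5, 3, 1, 5, 4, 3, 0, 4, 3, 1, 0, 2]), (111, [5, 1, 4, 3, 1, 5, 0, 4, 1, 3, 2, 1, 3, 0, 2, 1]), (62, [5, 4, 3, 1, 5, 2, 3, 4, 3, 2, 1, 3, 2, 1, 2, 1]), (8, []), (47, [3, 0, 5, 3, 0, 3, 1, 2, 1]), (120, [3, 2, 5, 3, 1, 5, 4, 1, 4, 3, 1]), (91, [0, 5, 0, 3, 4, 2, 1, 4, 0, 3, 1, 0, 3, 0, 2]), (109, [4, 1, 5, 3, 1, 5, 4, 3, 1, 0, 3, 1, 2, 0]), (9, []), (96, [3, 5, 1, 5, 0, 3, 4, 2, 1, 4, 2, 1]), (63, [2, 3, 1, 0, 5, 0, 4, 1, 0, 3, 0, 2, 1]), (127, [3, 5, 3, 1, 5, 1, 0, 4, 1, 3, 1, 2, 0]), (101, [3, 5, 1, 5, 1, 0, 4, 3, 2, 1, 2, 1, 0]), (89, [5, 3, 1, 0, 5, 1, 3, 2, 1, 4, 0, 3, 1, 0, 3, 1]), (116, [1, 4, 1, 5, 3, 1, 5,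 0, 3, 4, 1, 0, 4, 3, 0, 3, 0, 2, 1, 0, 2]), (131, []), (130, [2, 5, 3, 1, 5, 1, 4, 3, 1, 0, 3, 2, 1, 0]), (11, []), (43, [4, 1, 5, 3, 1, 5, 3, 1, 0, 4, 0, 3, 0, 2, 1, 0, 2, 1, 0]), (97, [3, 5, 1, 0, 5, 3, 0, 4, 1, 3, 2, 1, 3, 1, 0, 2, 0]), (22, [2, 5, 1, 5, 1, 4, 1, 0, 4, 0, 3, 1, 0, 3, 2, 1, 0, 2, 1, 0]), (31, [3, 4, 2, 1, 4, 3, 2, 1, 0]), (99, [5, 4, 3, 2, 1, 4, 3, 0, 2, 1, 0, 2, 1]), (13, []), (129, [3, 0, 4, 3, 0, 4, 3, 2, 1, 3, 0, 2, 1, 2, 1, 0]), (33, [1, 3, 5, 0, 4, 3, 0, 4, 1, 3, 2, 1, 3, 2, 1, 2, 1]), (14, []), (79, [1, 0, 4, 3, 0, 3, 1, 0, 2]), (51, [5, 3, 1, 5, 2, 3, 4, 1, 0, 4, 3, 1, 0, 3, 1, 2, 1]), (15, [4, 3, 0, 4, 0, 3, 1, 0, 2, 0]), (84, [4, 1, 4, 1, 5, 3, 1, 5, 3, 1, 0, 4, 3, 2, 1, 3]), (126, [4, 3, 1, 5, 2, 0, 4, 0, 2, 1, 2]), (88, []), (71,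 [4, 5, 1, 5, 3, 4, 1, 0, 4, 0, 3, 1, 0, 3, 0, 2]), (102, [1, 5, 3, 1, 5, 2, 3, 4, 1, 0, 4, 3, 1, 3, 2, 1, 2, 1, 0]), (87, [3, 5, 3, 1, 5, 1, 3, 2, 3, 4, 3, 0, 3, 0]), (17, []), (104, [3, 5, 1, 0, 5, 4, 1, 4, 1, 0, 4, 3, 1, 0, 2, 1, 0]), (58, [3, 1, 3, 5, 4, 1, 0, 4, 3, 2, 1, 3, 1, 0]), (19, []), (20, [3, 5, 4, 3, 2, 0]), (85, [1, 4, 1, 5, 3, 1, 5, 4, 1, 4, 1, 0, 4, 3, 2, 1, 2, 0]), (74, [5, 1, 0, 5, 1, 3, 2, 3, 4, 0, 3, 1, 0, 3, 1, 0, 2, 1, 0]), (21, [4, 3, 0, 3, 1, 5, 1, 3, 2, 1, 4, 1, 3, 0, 2, 0]), (72, [1, 5, 4, 1, 5, 3, 2, 3, 4, 0, 3, 1, 0, 3, 2, 1, 2]), (93, [4, 3, 5, 4, 3, 1, 0, 4, 3, 1, 0, 3, 1, 0, 2, 1]), (115, [1, 5, 4, 1, 5, 1, 4, 3, 1, 0, 3, 1, 0, 2, 1, 0]), (23, []), (52, [3, 0, 3, 1, 5, 4, 3, 1, 0, 3, 1, 0, 2]), (26, [3, 1, 5, 4, 2, 1, 4, 3, 1, 0,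 3, 2]), (24, []), (46, [1, 4, 5, 1, 5, 2, 3, 4, 1, 0, 4, 3, 1, 3, 1, 0, 2, 1, 0]), (28, [2, 3, 4, 1, 0, 4, 0, 3, 1, 0, 2, 1]), (110, [5, 3, 1, 0, 5, 4, 3, 2, 1, 4, 2, 1, 3, 2, 1, 2, 1]), (48, [1, 0, 5, 4, 1, 5, 3, 1, 0, 4, 3, 1, 0, 3, 2, 1, 0, 2, 0]), (30, [5, 4, 3, 1, 5, 4, 3, 0, 4, 3, 2, 3, 1, 3]), (50, [5, 4, 1, 5, 2, 0, 4, 3, 2, 3, 1, 3, 0, 2, 1, 2]), (60, [0, 5, 1, 0, 5, 3, 2, 1, 4, 3, 0, 3, 2, 1, 0, 2]), (107, [3, 5, 1, 0, 5, 1, 3, 1, 0, 4, 0, 3, 1, 0, 3, 1, 0]), (55, [0, 3, 5, 1, 5, 3, 1, 0, 4, 0, 3, 1, 0, 2]), (39, [1, 3, 4, 1, 5, 4, 1, 4, 3, 2, 1, 3, 2, 1, 0]), (113, [1, 5, 1, 4, 1, 4, 2, 3, 1, 3, 1, 2]), (76, [1, 4, 3, 1, 5, 0, 3, 4, 1, 0, 4, 1, 0, 3, 0, 2, 1, 2]), (98, [5, 3, 1, 0, 5, 1, 3, 2, 1, 4, 3, 2, 3, 1, 3, 1, 0, 2, 1, 0]), (133, [3, 5, 4, 3,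 0, 4, 1, 0, 3, 0, 2, 1, 2]), (36, []), (66, [4, 1, 5, 3, 1, 5, 1, 4, 1, 0, 4, 0, 3, 1, 0, 2, 1, 0]), (134, [2, 3, 1, 0, 5, 4, 1, 4, 1, 0, 4, 2, 3, 1, 3, 2, 1, 0, 2]), (37, []), (132, [4, 1, 4, 1, 5, 3, 1, 5, 0, 4, 3, 0, 4, 1, 3, 1, 0, 2, 1, 0]), (122, [1, 4, 5, 1, 5, 4, 3, 0, 3, 1]), (123, [4, 3, 4, 5, 1, 5, 3, 4, 1, 0, 4, 3, 1, 3, 2, 1, 2, 1]), (124, [4, 3, 0, 3, 1, 5, 0, 3, 4, 1, 0, 4, 0, 3, 1, 3, 2, 1, 0, 2, 0]), (80, [1, 3, 4, 1, 5, 4, 3, 2, 1, 4, 0, 3, 1, 0, 3, 0, 2, 1, 2, 1, 0]), (106, [5, 4, 3, 5, 1, 5, 0, 4, 3, 0, 4, 3, 2, 1, 3, 0, 2, 1, 0, 2]), (54, []), (114, [3, 1, 5, 0, 4, 3, 0, 4, 1, 0, 3, 1, 0, 2]), (128, [5, 4, 3, 1, 5, 2, 3, 4, 3, 2, 1, 3, 2, 1, 2, 1]), (75, [2, 3, 4, 1, 0, 4, 0, 3, 1, 0, 2, 1]), (67, [5, 4, 3, 5, 1, 5, 1, 0, 4, 3, 1, 0, 2, 1,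 0]), (70, []), (118, [3, 5, 1, 5, 3, 2, 3, 4, 3, 2, 1, 0, 2, 1]), (119, [4, 3, 0, 3, 1, 5, 2, 0, 4, 3, 2, 1, 3, 2, 1, 0, 2, 1, 0])],
  [(3, []), (0, []), (19, []), (14, [1, 3, 5, 1, 0, 4, 0, 3, 1, 3, 0, 2, 1, 2]), (15, [1, 0, 5, 4, 1, 5, 2, 3, 4, 1, 3, 2, 1]), (27, [4, 3, 0, 3, 1, 5, 1, 4, 1, 4, 3, 2, 1, 3, 1, 0]), (9, [1, 5, 4, 1, 5, 4, 1, 4, 1, 0, 4, 3, 1, 3, 0, 2, 1, 0, 2, 0]), (46, []), (54, []), (7, [3, 1, 5, 1, 0, 4, 3, 0, 2, 0]), (65, []), (1, []), (25, [3, 1, 5, 1, 3, 1, 0, 4, 0, 3, 2]), (74, []), (11, [3, 1, 5, 3, 2, 1, 4, 1, 0, 3, 1, 0]), (80, [1, 0, 5, 4, 1, 5, 0, 4, 3, 1]), (85, []), (2, []), (24, []), (23, [3, 0, 5, 4, 1, 5, 3, 1, 0, 4, 3, 1, 0, 3, 1, 0]), (35, [3, 5, 4, 1, 0, 4, 1, 0, 3, 1, 2, 0]), (96, []), (22, [0, 5, 1, 0, 5, 1, 0, 4, 3, 2, 1,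 3, 0, 2, 1, 0, 2, 1, 0]), (38, [0, 5, 1, 0, 5, 1, 0, 4, 3, 2, 1, 3, 1, 2, 1]), (101, []), (20, [4, 1, 4, 1, 5, 3, 1, 5, 2, 3, 4, 1, 0, 4, 3, 2, 1, 3, 1, 2, 1, 0]), (31, [1, 5, 4, 1, 5, 1, 3, 2, 1, 4, 3, 2, 3, 1, 3, 0]), (106, []), (34, [3, 1, 5, 3, 0, 4, 3, 0, 3, 1, 3, 2, 1]), (58, [2, 5, 1, 5, 1, 3, 2, 1, 4, 1, 0, 3, 0, 2, 1, 0, 2]), (4, []), (51, [3, 5, 1, 0, 5, 4, 1, 4, 1, 0, 4, 3, 0, 3, 1, 3, 2, 1, 0, 2, 1, 0]), (113, []), (68, [0, 3, 5, 1, 0, 5, 4, 1, 4, 1, 0, 3, 2, 1, 2, 1, 0]), (5, []), (71, [0, 4, 3, 5, 1, 4, 1, 0, 4, 1, 0, 3, 1, 0, 2]), (50, [0, 3, 5, 1, 5, 3, 0, 4, 3, 0, 4, 3, 1, 3, 0, 2, 1, 0, 2, 1, 0]), (47, [0, 3, 5, 1, 0, 5, 1, 0, 4, 3, 2, 1, 3, 0]), (17, [0, 3, 5, 1, 5, 0, 4, 2, 1, 4, 3, 0, 3, 2, 1, 2, 1, 0]), (6, []), (56, [4, 1, 5, 0, 3, 4, 2,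 1, 4, 3, 0, 3, 0, 2, 1, 2, 0]), (95, [4, 1, 5, 3, 1, 5, 1, 4, 1, 4, 0, 3, 1, 0]), (91, [1, 3, 4, 1, 5, 3, 4, 1, 0, 4, 3, 2, 1, 3, 1, 0, 2, 1, 0]), (104, [4, 3, 0, 3, 1, 5, 1, 4, 1, 4, 3, 2, 1, 3, 1]), (100, [4, 2, 3, 1, 5, 0, 4, 3, 0, 4, 1, 3, 1, 2]), (116, [4, 1, 5, 2, 3, 4, 1, 3, 0, 2, 1]), (39, [1, 0, 5, 4, 1, 5, 2, 1, 4, 1, 4, 0, 3, 1, 3, 0, 2, 1, 0, 2]), (92, [3, 2, 3, 1, 0, 5, 3, 2, 1, 4, 1, 3, 2, 1, 3, 1, 2]), (48, [2, 3, 1, 5, 1, 4]), (10, [4, 1, 5, 0, 4, 3, 0, 4, 2, 3, 1, 3, 1, 0, 2, 0]), (59, [2, 3, 1, 0, 5, 1, 4, 1, 0, 4, 1, 3, 2, 1, 3, 1, 2]), (76, [1, 3, 1, 0, 4, 2, 1, 3, 1, 0, 2, 1, 0]), (8, []), (86, [2, 5, 1, 5, 1, 4, 1, 0, 4, 0, 2, 1, 2, 1, 0]), (66, [3, 1, 0, 5, 2, 3, 4, 0, 3, 1, 0, 3, 1, 0, 2, 1, 0]), (55, [3, 2, 3, 1, 0, 5, 3, 4, 3, 0, 3,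 0, 2, 1, 2, 0]), (73, [2, 5, 1, 5, 3, 1, 0, 4, 3, 1, 0, 3, 1, 0, 2, 1]), (60, [4, 5, 1, 5, 1, 3, 2, 3, 4, 3, 1, 0, 2, 0]), (98, [0, 5, 1, 5, 2, 3, 4, 1, 0, 4, 3, 2, 1, 2, 1, 0]), (62, [1, 5, 3, 1, 5, 1, 3, 2, 3, 4, 3, 0, 3, 0, 2, 1, 2, 1, 0]), (61, [1, 0, 4, 3, 5, 0, 4, 1, 0, 3, 1, 0]), (87, [4, 3, 5, 4, 1, 4, 1, 0, 4, 3, 1, 0, 3, 0, 2, 1, 2, 1, 0]), (118, [5, 1, 0, 5, 1, 3, 2, 1, 4, 0, 3, 1, 0, 2, 1, 0]), (129, []), (78, [1, 4, 5, 1, 5, 4, 2, 1, 4, 0, 3, 1, 3, 0]), (75, [5, 3, 1, 5, 4, 1, 0, 4, 3, 2, 0]), (115, [2, 5, 3, 1, 5, 4, 1, 0, 4, 2, 1, 2]), (53, [0, 3, 5, 1, 0, 5, 4, 1, 4, 0]), (117, [3, 2, 5, 3, 1, 5, 4, 2, 1, 4, 3, 1, 2]), (33, [1, 3, 4, 1, 5, 0, 3, 4, 2, 1, 4, 2, 1, 2, 0]), (94, [3, 0, 4, 3, 0, 4, 3, 0, 3, 1, 3, 1, 2, 1]), (12, []), (72, [4, 3, 5,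 1, 5, 0, 3, 4, 1, 0, 4, 2, 1, 0, 2, 1]), (13, []), (40, [3, 5, 2, 0, 4, 3, 2, 3, 1, 3, 2, 1]), (108, [0, 4, 3, 5, 3, 4, 2, 1, 4, 3, 0, 3, 0, 2, 1, 0, 2, 0]), (103, [1, 3, 5, 4, 1, 4, 1, 0, 4, 0, 3, 1, 0, 3, 0, 2, 1, 0]), (125, [4, 3, 5, 1, 5, 1, 4, 0, 2, 1, 0, 2, 1]), (81, [0, 3, 5, 1, 5, 2, 1, 4, 1, 4, 3, 1, 0, 2, 0]), (111, [0, 3, 1, 5, 1, 3, 1, 0, 4, 1, 0, 3, 2, 1, 0, 2]), (97, [0, 3, 4, 1, 0, 4, 0, 3, 1, 3, 1, 0, 2, 0]), (123, [3, 2, 5, 3, 1, 5, 1, 4, 1, 4, 1, 0, 2, 0]), (32, [5, 4, 1, 5, 4, 1, 4, 3, 2, 1, 3, 2, 1, 0]), (107, [3, 1, 5, 4, 0, 3, 1, 3, 0, 2, 1, 0, 2, 1, 0]), (16, []), (112, [3, 5, 3, 1, 5, 4, 1, 4, 1, 0, 4, 1, 3, 2, 1, 3, 0, 2, 1]), (43, [4, 3, 0, 3, 1, 5, 0, 4, 3, 0, 4, 3, 2, 1, 3, 1, 0, 2, 0]), (127, []), (21, [3, 1, 5, 4, 1, 0, 4, 3, 2,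 3, 1, 3, 2, 1, 0]), (18, []), (133, [3, 4, 5, 1, 5, 4, 2, 1, 4, 0, 3, 1, 0, 3, 0, 2, 1, 0]), (79, [3, 4, 5, 1, 5, 4, 2, 1, 4, 0, 3, 1, 0, 3, 0, 2, 1, 0]), (99, [5, 4, 1, 5, 4, 1, 0, 4, 0, 3, 1, 3, 0, 2, 1, 2, 1]), (70, [2, 3, 1, 5, 2, 3, 4, 1, 3, 2, 1, 3, 0, 2, 1, 0, 2, 1]), (45, [1, 5, 4, 3, 0, 4, 3, 0, 3, 1, 0]), (109, [3, 5, 1, 4, 3, 1, 5, 3, 0, 4, 3, 0, 4, 0, 3, 1, 0, 3, 1, 2, 1, 0]), (63, [0, 3, 5, 1, 0, 5, 1, 4, 1, 0, 4, 1, 3, 2, 1, 2]), (30, [3, 1, 5, 2, 3, 4, 1, 0, 4, 3, 1, 0, 3, 2, 1, 0, 2, 0]), (126, [1, 0, 5, 1, 0, 4, 3, 2, 1, 3, 1, 2, 1, 0]), (119, [5, 3, 1, 0, 5, 3, 0, 4, 0, 2, 0]), (41, [2, 5, 1, 5, 3, 1, 0, 4, 1, 3, 0, 2]), (124, [2, 5, 1, 5, 3, 1, 3, 2, 1, 2, 0]), (128, [5, 1, 5, 0, 4, 3, 2, 1, 3, 2, 1, 0]), (26, []), (67, [3, 1, 5, 3, 4, 1, 0,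 4, 3, 2, 1, 3, 1, 0]), (69, [0, 5, 1, 0, 5, 4, 1, 4, 1, 0, 4, 1, 3, 1, 0, 2]), (28, [0, 5, 1, 4, 3, 0, 3, 0, 2, 1, 0, 2, 0]), (131, [1, 0, 4, 3, 5, 0, 3, 4, 1, 0, 4, 1, 3, 0, 2]), (49, [4, 1, 5, 3, 1, 5, 0, 3, 4, 2, 1, 4, 2, 3, 1, 3, 1, 2, 1]), (44, [4, 2, 3, 1, 5, 1, 3, 2, 3, 4, 1, 3, 2, 1]), (29, []), (122, [2, 5, 1, 5, 4, 3, 1, 3, 2, 1, 0, 2, 0]), (130, [4, 3, 0, 4, 2, 1, 3, 1, 0, 2, 1]), (90, [0, 3, 1, 5, 0, 3, 4, 2, 1, 4, 0, 3, 1, 0, 3, 2, 1, 0, 2, 1]), (64, [0, 5, 1, 5, 4, 2, 1, 4, 3, 2, 1, 3, 1, 2, 1, 0]), (52, [2, 3, 1, 5, 2, 0, 4, 0, 2, 1, 2, 0]), (93, [4, 3, 4, 5, 1, 5, 1, 4, 3, 2, 3, 1, 3]), (105, [4, 3, 0, 3, 1, 5, 1, 4, 1, 4, 3, 2, 1, 3, 1, 0]), (36, []), (37, []), (102, [0, 3, 5, 1, 0, 5, 2, 0, 4, 1, 3, 2, 1, 3, 2, 1, 0]), (121, [5, 3, 1, 0, 5,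 0, 4, 0, 3, 1, 3, 0, 2, 1, 0, 2]), (42, []), (114, [4, 3, 0, 3, 1, 5, 3, 1, 0, 4, 3, 1, 0, 2, 1, 0]), (89, [3, 5, 1, 5, 0, 3, 1, 0, 3, 2, 1, 0, 2, 0]), (120, [4, 1, 4, 1, 5, 3, 1, 5, 4, 1, 4, 1, 0, 4, 1, 0, 3, 1, 0, 2, 1]), (110, [3, 5, 3, 1, 0, 4, 0, 3, 1, 0, 3, 2, 1, 0]), (57, [3, 4, 1, 5, 0, 4, 3, 1, 3, 2, 1, 2, 1, 0]), (77, [1, 4, 5, 1, 5, 4, 3, 2, 1, 4, 3, 0, 3, 1, 3, 0, 2, 1, 0, 2]), (88, [3, 4, 1, 5, 3, 1, 5, 0, 3, 4, 2, 1, 4, 0, 3, 1, 3, 1, 0, 2, 1, 0]), (84, [3, 5, 3, 1, 5, 1, 0, 4, 3, 0, 3, 1, 0, 2]), (134, [4, 3, 1, 5, 4, 3, 1, 3, 0, 2, 1, 0, 2, 0]), (83, [5, 0, 3, 4, 1, 0, 4, 0, 3, 0, 2, 1, 0, 2, 1]), (82, [3, 1, 0, 5, 1, 4, 3, 0, 3, 0, 2, 1, 0, 2, 0]), (132, [3, 5, 1, 0, 5, 2, 0, 4, 3, 1, 0, 2, 1, 0])],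
  [(4, []), (12, [5]), (0, []), (25, [0, 4, 3, 5, 3, 0, 4, 1, 0, 2, 1, 0]), (18, []), (36, []), (41, []), (47, []), (55, []), (60, []), (26, [5, 3, 1, 5, 3, 0, 4, 2, 3, 1, 3, 2, 1, 0, 2]), (69, []), (1, []), (75, []), (78, []), (81, [4, 3, 0, 4, 0, 3, 1, 0, 2, 0]), (38, [1, 0, 5, 3, 1, 0, 4, 2, 3, 1, 3, 2, 1, 0, 2, 1]), (88, []), (2, []), (91, []), (92, [3, 5, 4, 3, 2, 0]), (95, [4, 3, 0, 3, 1, 5, 1, 3, 2, 1, 4, 1, 3, 0, 2, 0]), (72, [5, 3, 1, 0, 5, 1, 4, 1, 4, 3, 2, 1, 3, 2, 1, 0, 2, 1]), (99, []), (102, []), (3, []), (101, [3, 1, 5, 4, 1, 0, 4, 0, 3, 1, 3, 0, 2, 1, 2, 1, 0]), (27, [3, 1, 0, 4, 2, 1, 3, 2]), (104, [4, 1, 0, 4, 3, 2, 1, 3, 1]), (40, [4, 3, 1, 5, 0, 4, 3, 2, 1, 2]), (107, [3, 5, 1, 0, 5, 1, 3, 1, 0, 4, 0, 3, 1, 0, 3, 1, 0]), (73, [4, 2, 1, 4,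 3, 1, 3, 0, 2, 1, 0, 2, 1, 0]), (24, [4, 1, 5, 3, 1, 5, 3, 0, 4, 3, 0, 4, 1, 3, 0, 2, 0]), (77, [0, 3, 1, 5, 4, 1, 0, 4, 3, 2, 3, 1, 3, 1, 0, 2, 1, 0]), (11, [3, 0, 5, 1, 4, 1, 4, 3, 2, 3, 1, 3, 0, 2, 1]), (5, []), (117, []), (120, []), (16, [2, 3, 1, 0, 5, 1, 3, 1, 0, 4, 3, 1, 0, 3, 2, 1, 0, 2, 0]), (112, [4, 3, 1, 5, 1, 4, 1, 4, 3, 2, 1, 3, 0, 2, 1]), (6, []), (29, [3, 0, 5, 4, 1, 4, 1, 0, 4, 2, 3, 1, 3, 1, 2, 1, 0]), (37, [5, 1, 4, 1, 0, 4, 1, 3, 0, 2, 1, 0, 2, 1]), (70, [5, 1, 0, 5, 1, 3, 2, 1, 4, 1, 0, 3, 0, 2, 1, 0, 2, 1, 0]), (51, [0, 5, 1, 3, 2, 1, 0, 2, 1]), (7, []), (103, [5, 4, 1, 5, 1, 3, 2, 3, 4, 0, 3, 1, 0, 3, 1, 0, 2, 1]), (56, [5, 0, 3, 1, 0, 2, 1]), (106, [1, 0, 5, 4, 1, 5, 3, 4, 1, 0, 4, 0, 3, 1, 0, 3, 0, 2, 1, 0, 2, 0]), (34, [4, 3, 0, 3, 1,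 5, 0, 3, 4, 2, 1, 4, 3, 0, 3, 0, 2, 1, 2]), (108, [0, 5, 1, 0, 5, 1, 3, 1, 0, 4, 2, 3, 1, 3, 2]), (80, [2, 5, 3, 1, 5, 2, 3, 4, 1, 0, 4, 1, 3, 2, 1, 3, 0, 2, 1, 2, 1]), (100, [3, 2, 3, 1, 5, 3, 2, 3, 4, 1, 3, 0, 2, 1]), (8, []), (127, []), (111, [5, 1, 4, 3, 1, 5, 0, 4, 1, 3, 2, 1, 3, 0, 2, 1]), (45, [3, 0, 5, 3, 0, 3, 1, 2, 1]), (42, [5, 1, 4, 3, 1, 5, 1, 3, 1, 0, 4, 1, 0, 2, 0]), (90, [0, 5, 0, 3, 4, 2, 1, 4, 0, 3, 1, 0, 3, 0, 2]), (9, []), (109, [4, 1, 5, 3, 1, 5, 4, 3, 1, 0, 3, 1, 2, 0]), (22, [5, 4, 3, 1, 5, 3, 4, 0, 3, 2, 1, 2, 1]), (54, [5, 1, 5, 4, 3, 2, 1, 4, 0, 3, 1, 0, 3, 2, 1, 2]), (62, [3, 0, 3, 1, 5, 3, 2, 3, 4, 3, 2, 3, 1, 3, 2, 1, 0, 2]), (10, []), (28, []), (118, [5, 3, 1, 5, 2, 0, 4, 1, 0, 3, 2, 1, 0, 2]), (131, [5, 4, 3, 5, 1, 5, 1, 0, 4, 3,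 1, 0, 2, 1, 0]), (13, [5, 4, 3, 1, 5, 1, 0, 3, 0, 2, 1, 0, 2, 1, 0]), (49, [0, 3, 1, 5, 4, 3, 0, 4, 3, 1, 0, 3, 0, 2, 1, 2, 1, 0]), (132, []), (85, [3, 0, 5, 4, 1, 5, 1, 0, 4, 3, 1, 3, 0, 2, 1, 0, 2, 1, 0]), (96, [2, 1, 5, 4, 1, 5, 2, 3, 4, 1, 0, 4, 0, 3, 2, 1, 2]), (52, [3, 5, 1, 0, 5, 4, 3, 2, 1, 4, 2, 3, 1, 3, 0, 2, 1, 0, 2]), (94, [5, 3, 1, 0, 5, 4, 1, 4, 1, 0, 4, 3, 0, 3, 2, 1, 2, 0]), (130, [4, 1, 0, 4, 3, 2, 1, 3, 1]), (114, [1, 3, 5, 1, 4, 1, 0, 4, 3, 0, 3, 1, 3, 2, 1, 0]), (14, []), (33, [1, 3, 5, 0, 4, 3, 0, 4, 1, 3, 2, 1, 3, 2, 1, 2, 1]), (79, [1, 3, 2, 1, 4, 0, 2, 1, 0, 2, 1]), (125, [1, 3, 5, 3, 0, 4, 3, 0, 4, 1, 3, 1, 0]), (15, []), (17, [4, 1, 4, 1, 5, 3, 1, 5, 3, 1, 0, 4, 3, 2, 1, 3]), (48, [3, 1, 5, 3, 4, 1, 0, 4, 3, 2, 3, 1, 3, 1, 2, 1]), (82,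 [2, 5, 1, 5, 3, 4, 2, 1, 4, 3, 1, 0, 3, 2, 1, 0, 2, 0]), (93, [5, 3, 1, 0, 5, 3, 0, 4, 3, 1, 2, 0]), (32, [3, 5, 1, 5, 0, 3, 4, 2, 1, 4, 3, 2, 1, 3, 2, 1, 0]), (87, [1, 4, 5, 1, 5, 0, 3, 4, 2, 1, 4, 1, 3, 0, 2, 1, 2, 1, 0]), (84, []), (65, [1, 4, 1, 5, 3, 1, 5, 0, 4, 0, 3, 0, 2, 1]), (19, []), (58, [3, 1, 3, 5, 4, 1, 0, 4, 3, 2, 1, 3, 1, 0]), (20, []), (97, [3, 1, 5, 4, 3, 0, 4, 3, 0, 3, 1, 3, 2, 1]), (23, [3, 1, 5, 1, 4, 3, 2, 3, 1, 3, 2, 1, 2, 1]), (21, []), (61, [3, 2, 5, 3, 1, 5, 2, 3, 4, 1, 0, 4, 3, 2, 1, 0, 2, 1, 0]), (71, [1, 0, 5, 4, 1, 5, 4, 3, 1, 0, 4, 0, 3, 1, 0, 3, 0, 2, 1, 0, 2, 1, 0]), (115, [1, 0, 5, 4, 1, 5, 1, 3, 2, 3, 4, 3, 2, 1, 3, 1, 0, 2, 1, 0]), (74, [2, 3, 1, 5, 0, 4, 3, 0, 4, 3, 0, 2, 1, 0, 2, 1]), (31, [4, 3, 5, 1, 5, 1, 4, 3, 2, 3, 1,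 3, 2, 1, 0, 2, 1]), (64, [5, 3, 1, 5, 2, 1, 4, 0, 3, 0, 2]), (86, [3, 5, 3, 1, 5, 1, 4, 1, 0, 4, 1, 3, 2, 1, 3, 0, 2, 1, 2, 1]), (46, [3, 0, 5, 1, 4, 1, 0, 4, 1, 3, 2, 1, 3, 0, 2, 1, 2, 1, 0]), (89, [5, 3, 1, 0, 5, 1, 4, 3, 2, 1, 2, 1, 0]), (30, [5, 3, 1, 0, 5, 4, 3, 2, 1, 4, 2, 1, 3, 2, 1, 2, 1]), (126, [1, 0, 5, 4, 1, 5, 2, 3, 4, 1, 0, 4, 1, 0, 3, 1, 0]), (110, [5, 4, 3, 1, 5, 4, 3, 0, 4, 3, 2, 3, 1, 3]), (50, [4, 2, 3, 1, 5, 1, 3, 1, 0, 4, 2, 3, 1, 3, 2, 1, 0]), (59, [0, 5, 1, 0, 5, 3, 2, 1, 4, 3, 0, 3, 2, 1, 0, 2]), (105, [3, 5, 1, 0, 5, 2, 3, 4, 1, 0, 4, 3, 0]), (53, [0, 3, 5, 1, 5, 3, 1, 0, 4, 0, 3, 1, 0, 2]), (39, [4, 3, 1, 0, 4, 3, 1, 3, 2, 1, 2, 1]), (113, [4, 3, 0, 3, 1, 5, 4, 2, 1, 4, 3, 2, 1, 3, 2]), (128, [1, 5, 3, 1, 4, 1, 0, 4, 2, 1, 3, 1, 0, 2]),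 (98, [4, 3, 4, 5, 1, 5, 1, 3, 2, 1, 4, 1]), (66, [1, 0, 5, 4, 1, 5, 3, 0, 4, 3, 0, 4, 3, 0, 3, 1, 2, 1, 0]), (35, []), (133, [4, 3, 5, 1, 5, 1, 0, 4, 1, 0, 3, 1, 2, 1, 0]), (134, [3, 2, 3, 1, 5, 4, 3, 0, 4, 2, 1, 3, 2, 1]), (57, [2, 1, 5, 4, 1, 5, 1, 4, 1, 0, 4, 1, 3, 2, 1, 3, 0, 2, 1, 2, 1]), (43, [1, 0, 5, 4, 1, 5, 1, 3, 1, 0, 4, 1, 3, 2, 1, 2, 0]), (122, [5, 3, 1, 5, 4, 1, 0, 4, 3, 0, 3, 1, 3, 0]), (123, [5, 4, 3, 5, 1, 5, 1, 3, 1, 0, 4, 3, 1, 3, 0]), (124, [3, 2, 3, 1, 0, 5, 4, 3, 0, 4, 1, 3, 2, 1, 3, 1, 0, 2, 1]), (44, []), (83, [1, 5, 1, 4, 1, 4, 2, 1, 3, 0, 2, 1, 0, 2, 1, 0]), (63, [5, 4, 3, 1, 5, 0, 4, 3, 0, 3, 1, 3, 0, 2, 1, 0]), (129, [5, 1, 5, 4, 3, 2, 1, 4, 0, 3, 1, 0, 3, 2, 1, 2]), (76, [0, 4, 3, 0, 4, 2, 1, 3, 1, 0, 2, 0]), (68, [3, 5, 1, 5, 3,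 2, 1, 4, 3, 1, 0, 3, 1, 0]), (67, []), (121, [5, 4, 3, 5, 1, 5, 3, 4, 1, 0, 4, 1, 3, 2]), (116, [1, 4, 1, 5, 4, 3, 2, 1, 4, 1, 3, 2, 1, 3, 1, 2, 1]), (119, [4, 3, 0, 3, 1, 5, 1, 3, 2, 3, 4, 0, 3, 1, 0, 3, 0, 2, 1])]
]

-- level 0: k=10 k'=6 b=1 len=135

def LT1 : List (List ℕ) := [
  [],
  [5],
  [0, 5],
  [1, 5],
  [3, 5],
  [1, 0, 5],
  [3, 0, 5],
  [3, 1, 5],
  [4, 1, 5],
  [5, 1, 5],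
  [1, 3, 5],
  [4, 3, 5],
  [3, 1, 0, 5],
  [5, 1, 0, 5],
  [0, 3, 1, 5],
  [2, 3, 1, 5],
  [4, 3, 1, 5],
  [5, 3, 1, 5],
  [1, 4, 1, 5],
  [3, 4, 1, 5],
  [5, 4, 1, 5],
  [0, 5, 1, 5],
  [2, 5, 1, 5],
  [3, 5, 1, 5],
  [4, 5, 1, 5],
  [3, 1, 3, 5],
  [0, 4, 3, 5],
  [1, 4, 3, 5],
  [2, 3, 1, 0, 5],
  [5, 3, 1, 0, 5],
  [0, 5, 1, 0, 5],
  [3, 5, 1, 0, 5],
  [3, 0, 3, 1, 5],
  [3, 2, 3, 1, 5],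
  [4, 2, 3, 1, 5],
  [1, 4, 3, 1, 5],
  [5, 4, 3, 1, 5],
  [1, 5, 3, 1, 5],
  [2, 5, 3, 1, 5],
  [3, 5, 3, 1, 5],
  [1, 3, 4, 1, 5],
  [0, 5, 4, 1, 5],
  [1, 5, 4, 1, 5],
  [0, 3, 5, 1, 5],
  [4, 3, 5, 1, 5],
  [1, 4, 5, 1, 5],
  [3, 4, 5, 1, 5],
  [1, 0, 4, 3, 5],
  [3, 2, 3, 1, 0, 5],
  [0, 3, 5, 1, 0, 5],
  [4, 3, 0, 3, 1, 5],
  [5, 1, 4, 3, 1, 5],
  [4, 1, 5, 3, 1, 5],
  [3, 2, 5, 3, 1, 5],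
  [1, 0, 5, 4, 1, 5],
  [3, 0, 5, 4, 1, 5],
  [2, 1, 5, 4, 1, 5],
  [0, 4, 3, 5, 1, 5],
  [5, 4, 3, 5, 1, 5],
  [4, 3, 4, 5, 1, 5],
  [3, 5, 1, 4, 3, 1, 5],
  [1, 4, 1, 5, 3, 1, 5],
  [3, 4, 1, 5, 3, 1, 5],
  [4, 1, 4, 1, 5, 3, 1, 5]
]

def LE1 : List (List (ℕ × List ℕ)) := [
  [(0, [0]), (2, []), (1, []), (5, []), (4, [3, 0, 3]), (3, []), (6, [3, 0, 3]), (14, []), (8, [2, 0, 4, 0, 2]), (21, []), (10, [3, 0, 3]), (26, []), (15, [1, 2, 1]), (30, []), (7, []), (12, [1, 2, 1]), (34, [2, 1, 4, 0, 2, 1, 2]), (29, [0, 3, 1, 0, 2, 1]), (18, [2, 0, 4, 0, 2]), (19, [0, 3, 4, 1, 0, 4, 3, 0, 3, 1, 0, 2, 1, 0]), (41, []), (9, []), (24, [1, 0, 4, 0, 2, 1, 0]), (43, []), (22, [2, 0, 4, 0, 2, 1, 2, 1]), (28, [3, 1, 0, 2, 1, 0]), (11, []), (47, []), (25, [3, 1, 0, 2, 1, 0]),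 (17, [0, 3, 1, 0, 2, 1]), (13, []), (49, []), (33, [1, 2, 1]), (32, [1, 2, 1]), (16, [0, 4, 2, 1, 2, 1]), (50, [3, 1, 4, 1, 0, 4, 3, 2, 1, 2, 1, 0]), (36, [0, 4, 3, 2, 1, 2, 1]), (46, [1, 0, 4, 1, 3, 2, 1, 3, 0, 2, 1, 0, 2, 0]), (38, [0, 3, 0]), (45, [1, 0, 4]), (40, [0, 3, 4, 1, 0, 4, 3, 0, 3, 1, 0, 2, 1, 0]), (20, []), (54, []), (23, []), (57, []), (39, [4, 1, 0]), (37, [1, 3, 2, 3, 4, 3, 2, 1, 3, 2, 1, 0, 2, 1]), (27, []), (48, [1, 2, 1]), (31, []), (35, [4, 3, 2, 1, 4, 2, 1, 3]), (58, [4, 1, 4, 1, 3, 0, 2, 0]), (59, [4, 1, 4, 3, 2, 1, 3, 0, 2, 1, 0, 2, 0]), (53, [1, 2, 1]), (42, []), (55, [0, 3, 4, 1, 0, 4, 3, 0, 3, 1, 0, 2, 1, 0]), (56, [2, 1, 4, 1, 4, 1, 2, 0]), (44, []), (51, [4, 3, 2, 1, 4, 1, 3, 2, 0]), (52, [1, 4, 1, 4, 3, 2, 1, 3, 0, 2, 1, 0, 2, 1,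 0]), (61, [2, 0, 4, 1, 0, 3, 0, 2, 1, 0, 2, 1]), (60, [3, 2, 1, 4, 1, 3, 1]), (62, [3, 1, 4, 1, 0, 4, 3, 0, 2, 1, 0, 2, 1, 0]), (63, [0, 4, 3, 2, 1, 2, 1])],
  [(0, [1]), (3, []), (5, []), (1, []), (10, []), (2, []), (6, [0, 3, 1, 0, 3, 0]), (14, [0, 3, 1, 3, 0]), (18, []), (21, [1, 0]), (4, []), (27, []), (12, [0, 3, 1, 0, 3, 0]), (13, [1]), (7, [0, 3, 1, 3, 0]), (15, [0, 3, 1, 3, 0, 2, 1, 0, 2, 1]), (35, []), (37, []), (8, []), (40, []), (42, []), (9, [1, 0]), (39, [0, 2, 1, 0]), (43, [3, 2, 3, 1, 3, 1, 2]), (45, []), (32, [0, 3, 1, 3, 0]), (47, []), (11, []), (33, [2, 3, 1, 3, 0, 2, 0]), (46, [1, 0, 4, 3, 0, 3, 1, 3, 2, 1, 0, 2, 1, 0]), (30, [1]), (31, [3, 2, 3, 1, 3, 1, 2]), (25, [0, 3, 1, 3, 0]), (28, [0, 3, 1, 0, 3, 0, 2, 1, 0, 2, 1]), (50, [4, 3, 2, 1,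 4, 1, 0, 3, 2, 1, 0, 2, 1, 0]), (16, []), (36, [4, 3, 2, 1, 4, 0, 3, 1, 0, 2, 1, 0]), (17, []), (38, [1, 3, 2, 1, 3, 1, 2, 1]), (22, [1, 0, 2, 0]), (19, []), (54, []), (20, []), (23, [3, 2, 3, 1, 3, 1, 2]), (44, [4, 1, 4, 3, 2, 1, 3, 2, 1, 0, 2, 0]), (24, []), (29, [4, 1, 4, 1, 0, 4, 2, 3, 1, 3, 2, 1, 2, 1, 0]), (26, []), (48, [2, 3, 1, 3, 2, 1, 2, 1]), (49, [3, 2, 3, 1, 3, 1, 2]), (34, [2, 3, 4, 1, 0, 4, 1, 3, 0]), (58, [3, 2, 3, 4, 3, 2, 1, 3]), (61, []), (53, [2, 3, 1, 3, 2]), (41, []), (56, [4, 1, 4, 1, 0, 4, 1, 3, 1, 0, 2, 1]), (55, [1, 3, 2, 3, 4, 3, 0, 3, 1, 3, 1, 0, 2, 1]), (57, [4, 1, 4, 3, 2, 1, 3, 2, 1, 0, 2, 0]), (51, [0, 4, 0, 3, 1, 3, 2, 1, 2, 1, 0]), (60, [4, 3, 2, 1, 4, 3, 0, 3, 1, 0]), (59, [2, 3, 4, 1, 0, 4, 1, 0, 3, 2, 1, 0, 2]), (52, []),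 (62, [3, 0, 3, 1, 3, 1, 0]), (63, [4, 3, 0, 4, 1, 3, 2, 0])],
  [(0, [2]), (2, [2, 0]), (1, [0, 2]), (3, [1, 2, 1]), (4, [3, 0, 3, 2, 0]), (10, [3, 1, 2, 1, 0]), (6, [3, 0, 3, 0, 2]), (15, []), (8, [1, 2, 1]), (22, []), (5, [3, 0, 3, 1, 2, 1]), (11, [3, 0, 3, 2, 0]), (28, []), (21, [1, 2, 1]), (25, [3, 1, 2, 1, 0]), (7, []), (34, []), (38, []), (26, [0, 4, 0, 3, 2, 1, 0, 2, 1, 0]), (19, [1, 3, 2, 3, 4, 3, 0, 3, 0, 2, 1]), (41, [1, 0, 4, 0, 2, 1, 0]), (13, [1, 2, 1]), (9, []), (37, [1, 3, 2, 1, 3, 0, 2]), (30, [1, 0, 4, 2, 1, 0]), (14, [3, 0, 3, 1, 2, 1]), (18, [1, 0, 4, 1, 3, 0, 2]), (47, [0, 4, 3, 0, 3, 0, 2, 0]), (12, []), (29, [0, 3, 0]), (24, [1, 0, 4, 2, 1, 0]), (43, [1, 2, 1]), (48, []), (33, [1, 2, 1]), (16, []), (35, [2, 3, 4, 1, 0, 4, 3, 0, 3, 2, 1,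 2, 1, 0]), (36, [2, 1, 4, 2, 1, 3, 0, 2, 1, 0, 2, 1]), (23, [3, 2, 1, 3, 0, 2, 1]), (17, []), (53, [0, 3, 1, 0, 2, 1]), (50, [2, 3, 4, 2, 1, 3, 1, 0, 2, 1]), (20, [2, 0, 4, 0, 2, 1, 2, 1]), (56, []), (31, [1, 2, 1]), (52, [1, 3, 2, 1, 3, 0, 2]), (45, [4, 2, 1, 4, 0, 2, 1, 0, 2, 0]), (49, [1, 0, 4, 2, 1, 0]), (27, [3, 2, 1, 4, 2, 1, 3, 0, 2]), (32, []), (46, [1, 0, 4, 2, 1, 0]), (40, [1, 0, 4, 3, 2, 1, 3, 1, 2, 0]), (59, [4, 3, 0, 4, 3, 1, 2, 1, 0]), (44, [3, 2, 1, 3, 0, 2, 1]), (39, [0, 3, 1, 0, 2, 1]), (54, [2, 1, 4, 1, 4, 1, 2, 0]), (55, [1, 3, 2, 3, 4, 3, 0, 3, 0, 2, 1]), (42, []), (58, [4, 1, 4, 1, 0, 4, 1, 2]), (57, [4, 1, 4, 1, 0, 4, 1, 2]), (51, [2, 3, 4, 1, 0, 4, 0, 2, 1, 2, 0]), (62, [4, 3, 1, 0, 4, 3, 0, 3, 1, 3, 1, 0]), (61, [1, 4, 1, 4, 1, 0, 2, 0]),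 (60, [4, 2, 1, 4, 0, 3, 1, 0, 2, 0]), (63, [1, 4, 1, 4, 1, 0, 2, 0])],
  [(0, [3]), (4, []), (6, []), (7, []), (1, []), (12, []), (2, []), (3, []), (19, []), (23, []), (25, []), (11, [0, 4, 0, 3, 0, 2, 1, 0, 2, 1, 0]), (5, []), (31, []), (32, []), (33, []), (27, [0, 4, 0, 3, 1, 2, 1, 0]), (39, []), (18, [1, 0, 4, 1, 3, 1, 2, 1]), (8, []), (36, [4, 1, 4, 1, 0, 4, 1, 2]), (21, [0, 3, 2, 1, 2, 1]), (22, [0, 3, 2, 1, 2, 1]), (9, []), (46, []), (10, []), (26, [3, 2, 1, 4, 1, 0, 3, 0, 2, 1, 2, 1, 0]), (16, [2, 1, 4, 1, 3, 0, 2]), (48, []), (45, [1, 0, 4]), (30, [0, 3, 0, 2, 1, 0, 2, 1]), (13, []), (14, []), (15, []), (34, [1, 3, 2, 3, 4, 3, 0, 3, 1, 0, 2, 0]), (35, [2, 1, 4, 1, 3, 2, 1, 0, 2, 1]), (20, [4, 1, 4, 1, 0, 4, 1, 2]), (37, [2, 1, 3, 0, 2, 1, 2, 0]), (53,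 []), (17, []), (40, [1, 0, 4, 1, 3, 1, 2, 1]), (55, []), (44, [0, 4, 2, 1, 4, 1, 2]), (43, [0, 3, 2, 1, 2, 1]), (42, [2, 1, 4, 1, 4, 2, 0]), (29, [4, 1, 0]), (24, []), (47, [1, 3, 2, 3, 4, 3, 0, 3, 1, 0, 2, 0]), (28, []), (49, [0, 3, 0, 2, 1, 0, 2, 1]), (50, [2, 1, 4, 2, 1, 2]), (60, []), (62, []), (38, []), (58, [4, 1, 4, 1, 0, 4, 0, 2, 1, 0, 2, 1, 0]), (41, []), (59, [4, 1, 4, 2, 1, 0, 2]), (61, [4, 1, 4, 1, 0, 4, 0, 2, 1, 0, 2]), (54, [4, 1, 4, 1, 0, 4, 2, 1, 2, 1]), (56, [4, 1, 4, 2, 1, 0, 2]), (51, []), (57, [4, 1, 4, 1, 0, 4, 0, 2, 1, 2, 0]), (52, []), (63, [1, 2, 1])],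
  [(0, [4]), (1, [0, 4, 0]), (2, [4]), (8, []), (11, []), (10, [2, 0, 4, 3, 0, 2, 1, 2, 1, 0]), (6, [2, 3, 4, 3, 2]), (16, []), (3, []), (24, []), (5, [1, 0, 4, 1, 3]), (4, []), (25, [0, 4, 0, 3, 0, 2, 1, 2, 1, 0]), (20, [2, 0, 4, 0, 2]), (28, [2, 3, 4, 3, 0]), (34, []), (7, []), (38, [2, 1, 4, 2, 1, 3, 0, 2, 1, 0, 2, 1]), (26, [3, 1, 0, 4, 1, 0]), (19, [2, 1, 0, 2, 1]), (13, [2, 0, 4, 0, 2]), (41, []), (30, [1, 0, 4, 2, 1, 0]), (44, []), (9, []), (12, [2, 3, 4, 0, 3, 1, 0, 2, 1]), (18, [1, 0, 4, 1, 0, 3]), (27, [4, 3, 1, 0, 4, 1, 0, 3, 2, 1, 2, 1, 0]), (14, [2, 1, 4, 2, 1, 0, 2, 0]), (36, [0, 4, 2]), (22, [1, 0, 4, 2, 1, 0]), (31, [4, 1, 4, 1, 0, 4, 0, 2, 1]), (50, []), (33, [1, 3, 2, 3, 4, 3, 0, 3, 0, 2, 1]), (15, []), (35, [4, 3, 1, 0, 4, 1, 3, 2, 1, 3, 0,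 2, 1, 0, 2, 1]), (29, [4, 2, 0]), (52, []), (17, [2, 1, 4, 2, 1, 3, 0, 2, 1, 0, 2, 1]), (42, [4, 1, 4, 2, 1]), (48, [2, 3, 4, 2, 1, 3, 1, 0, 2, 1]), (21, []), (39, [0, 4, 2, 1, 4, 2, 1, 0, 2]), (43, [4, 1, 4, 1, 0, 4, 0, 2, 1]), (23, []), (45, [0, 4, 2, 1, 4, 0, 2, 1, 0, 2, 1, 0]), (59, []), (47, [4, 3, 1, 0, 4, 2, 1, 3, 2, 0]), (40, [1, 0, 4, 3, 2, 1, 3, 1, 2, 0]), (51, [4, 3, 2, 1, 4, 1, 3, 0, 2]), (32, []), (49, [0, 4, 2, 1, 4, 1, 3, 0, 2, 0]), (37, []), (56, [4, 1, 4, 1, 0, 3, 0]), (54, [0, 4, 2, 1, 4, 0, 2, 1, 0, 2, 1, 0]), (55, [0, 2, 1, 2, 1]), (53, [4, 3, 2, 1, 4, 1, 3, 2, 1, 2, 1, 0]), (57, [4, 1, 4, 1, 0, 4, 0, 2, 1]), (58, [4, 1, 4, 1, 0, 4, 0, 2, 1]), (46, []), (62, [0, 3, 4, 1, 0, 4, 0, 3, 1, 0, 3, 0, 2, 1, 2]), (63, []), (60, [4, 3, 2, 1, 4, 0,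 3, 1, 0, 2, 0]), (61, [])],
  [(1, []), (0, []), (2, [0]), (9, []), (4, [1, 0, 2, 1, 0]), (13, []), (6, [1, 0, 2, 1, 0]), (17, []), (20, []), (3, []), (24, [1, 0, 4, 1, 0, 3]), (26, [3, 0, 3, 1, 0, 2, 1, 0]), (29, []), (5, []), (15, [0, 3, 0]), (14, [0, 3, 0]), (36, []), (7, []), (18, [1, 4, 2, 1]), (19, [2, 1, 4, 1, 4, 1, 2, 0]), (8, []), (30, []), (22, [1, 2, 1]), (31, [0, 2]), (10, [3, 1, 0, 4, 1, 0]), (38, [3, 1, 0, 2, 1]), (11, [0, 3, 1, 2, 1]), (27, [1, 3, 2, 1, 4, 3, 1, 0, 3, 0, 2, 1, 0, 2, 0]), (28, [0, 3, 0]), (12, []), (21, []), (23, [2, 0]), (43, [0, 3, 2, 1, 2, 1]), (49, [0, 3, 0, 2, 0]), (34, [2, 1, 4, 2, 1, 3, 0, 2, 1, 0, 2, 1]), (51, []), (16, []), (48, [1, 3, 2, 1, 3, 2, 0]), (25, [0, 3, 1, 0, 2, 1, 0]), (45, [1, 0, 4, 0, 2]), (52, [4, 3, 1, 0,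 4, 0, 3, 1, 3, 2, 1, 2]), (41, [2, 0, 4, 0, 2]), (54, [2, 0, 4, 0, 2, 1, 0, 2, 1, 0]), (32, [0, 3, 2, 1, 2, 1]), (58, []), (39, [2, 0, 4, 1, 0]), (46, [0, 4, 3, 0, 4, 0, 3, 1, 0, 2, 1]), (55, [4, 3, 1, 0, 4, 3, 1, 3, 1]), (37, [3, 1, 3, 2, 1, 2, 0]), (33, [0, 3, 2]), (57, [0, 3, 2, 1, 2, 1]), (35, []), (40, [4, 3, 1, 0, 4, 3, 2, 1, 2, 0]), (53, [2, 1, 0, 2, 1]), (42, [1, 4, 0, 2, 1]), (47, [3, 4, 2, 1, 4, 0, 3, 1, 0, 2, 1]), (56, [4, 1, 0, 4, 1, 2, 1]), (50, [0, 3, 2, 1, 2, 1]), (44, []), (59, [4, 3, 0, 4, 0, 3, 1, 0, 2, 0]), (61, [1, 3, 2]), (60, [0, 3, 0, 2, 1]), (62, [4, 3, 1, 0, 4, 2, 1, 3, 2, 0]), (63, [2, 0, 4, 0, 3, 2, 1, 2, 1])]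
]

-- level 1: k=6 k'=5 b=16 len=64

def LT2 : List (List ℕ) := [
  [],
  [4],
  [0, 4],
  [1, 4],
  [3, 4],
  [1, 0, 4],
  [2, 0, 4],
  [3, 0, 4],
  [2, 1, 4],
  [4, 1, 4],
  [2, 3, 4],
  [3, 1, 0, 4],
  [4, 1, 0, 4],
  [4, 3, 0, 4],
  [3, 2, 1, 4],
  [4, 2, 1, 4],
  [1, 4, 1, 4],
  [3, 2, 3, 4],
  [1, 3, 1, 0, 4],
  [4, 3, 1, 0, 4],
  [1, 4, 1, 0, 4],
  [3, 4, 1, 0, 4],
  [0, 4, 3, 0, 4],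
  [1, 3, 2, 1, 4],
  [4, 3, 2, 1, 4],
  [0, 4, 2, 1, 4],
  [3, 4, 2, 1, 4],
  [2, 1, 4, 1, 4],
  [1, 3, 2, 3, 4],
  [3, 1, 4, 1, 0, 4],
  [4, 1, 4, 1, 0, 4],
  [0, 3, 4, 1, 0, 4],
  [2, 3, 4, 1, 0, 4],
  [3, 0, 4, 3, 0, 4],
  [0, 3, 4, 2, 1, 4]
]

def LE2 : List (List (ℕ × List ℕ)) := [
  [(0, [0]), (2, []), (1, []), (5, []), (8, [2, 1, 3, 2, 0]), (3, []), (6, [2]), (10, [2]), (4, [3, 0, 2, 1, 2]), (12, [0]), (7, [2]), (11, [1, 3, 1, 0, 2, 0]), (9, [0]), (22, []), (17, [0, 3, 2, 1, 0, 2]), (25, []), (20, [0]), (14, [2, 1, 3, 0, 2, 0]), (18, [1, 3, 1, 0, 2, 0]), (19, [1, 3, 1]), (16, [0]), (31, []), (13, []), (28, [0, 3, 2, 1, 0, 2]), (29, [0, 3, 2, 1, 2, 0]), (15, []), (34, []), (27, [1, 0, 2, 1, 0]), (23, [2, 1, 3, 0, 2, 0]), (24, [1, 3, 2, 1, 2, 1]), (30, [0]),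 (21, []), (33, [0, 3, 2, 1, 0, 2]), (32, [2, 1, 3, 0, 2, 0]), (26, [])],
  [(0, [1]), (3, []), (5, []), (1, []), (4, [3, 2, 1, 3, 0, 2]), (2, []), (6, [0, 2, 1, 0, 2, 0]), (10, [3, 1, 3, 2]), (8, [0, 2, 1, 0, 2, 0]), (16, []), (7, [2, 3, 1, 3]), (18, []), (20, []), (13, [0, 3, 1, 0, 3, 2, 1, 2, 1]), (23, []), (25, [2, 1, 0, 2]), (9, []), (28, []), (11, []), (19, [3, 0, 3, 1, 3, 1, 0]), (12, []), (29, [3, 0, 3, 1, 3, 2, 1, 0, 2, 1, 0]), (22, [0, 3, 1, 0, 3, 2, 1, 2, 1]), (14, []), (31, [1, 3, 2, 1, 3, 0, 2, 1, 2, 1, 0]), (15, [2, 1, 0, 2]), (34, [1, 3, 2, 1, 3, 1, 2, 1]), (27, [0, 2, 1, 2, 0]), (17, []), (21, [3, 0, 3, 1, 3, 2, 1, 0, 2, 1, 0]), (30, [1, 0]), (24, [3, 2, 3, 1, 3, 1]), (32, [1, 3, 2, 1, 3, 1, 2, 1]), (33, [3, 0, 3, 1, 3, 1, 0]), (26, [1, 3, 2, 1,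 3, 1, 2, 1])],
  [(0, [2]), (1, [2]), (6, []), (8, []), (10, []), (7, [0, 3, 2, 1, 0, 2]), (2, []), (5, [2, 1, 3, 0, 2, 0]), (3, []), (15, []), (4, []), (14, [1, 3, 1, 0, 2, 0]), (13, [0, 3, 2, 1, 0, 2]), (12, [2, 1, 3, 0, 2, 0]), (11, [1, 3, 1, 0, 2, 0]), (9, []), (27, []), (17, [2]), (18, [2, 1, 3, 1, 2, 0]), (24, [1, 3, 1, 0, 2, 0]), (20, [1, 2, 1]), (32, []), (25, [2, 1, 3, 2, 1, 2, 1]), (28, [0, 2, 1, 2, 0]), (19, [1, 3, 1, 0, 2, 0]), (22, [0, 3, 2, 1, 0, 2, 0]), (31, [0]), (16, []), (23, [0, 2, 1, 2, 0]), (29, [0, 3, 0]), (30, [1, 2, 1]), (26, [0]), (21, []), (34, [2, 1, 3, 2, 1, 2, 1]), (33, [0, 3, 2, 1, 0, 2, 0])],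
  [(0, [3]), (4, []), (7, []), (6, [3, 0, 2, 1, 2]), (1, []), (11, []), (3, [2, 1, 3, 2, 0]), (2, []), (14, []), (9, [2, 1, 3, 2, 1, 0, 2, 0]), (17, []), (5, []), (21, []), (13, [0, 3, 2, 1, 2, 1]), (8, []), (26, []), (24, [1, 2, 0]), (10, []), (28, [3, 1, 3, 2]), (27, [2, 1, 0]), (29, []), (12, []), (33, []), (30, [3, 1, 0, 3, 2, 1, 0, 2, 1]), (16, [0, 2, 1]), (25, [2, 1, 3, 2, 1, 0, 2, 0]), (15, []), (19, [1, 0, 2]), (18, [2, 3, 1, 3]), (20, []), (23, [3, 0, 3, 1, 3, 0, 2, 1, 0, 2, 1, 0]), (31, [2, 1, 3, 0, 2, 1, 2, 0]), (32, [2, 1, 3, 0, 2, 1, 2, 0]), (22, []), (34, [2, 1, 3, 2, 1, 0, 2, 0])],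
  [(1, []), (0, []), (6, [0, 2, 0]), (9, []), (4, [2, 1, 2, 1, 0]), (12, []), (2, [0, 2, 0]), (13, []), (15, []), (3, []), (10, [2, 1, 2, 1, 0]), (19, []), (5, []), (7, []), (24, []), (8, []), (27, [1, 2, 1]), (17, [3, 0, 3, 0, 2]), (18, [2, 1, 3, 1, 2]), (11, []), (30, []), (26, [2]), (22, [2, 1, 0, 2, 1]), (33, [3, 0, 3, 1, 3, 2, 1, 0, 2, 1]), (14, []), (25, [0]), (21, [2]), (16, [1, 2, 1]), (34, [1, 3, 2, 1, 3, 0, 2, 1, 0, 2]), (29, [2, 1, 0, 2, 1]), (20, []), (32, [2, 0]), (31, [0, 2]), (23, [1, 3, 2, 1, 3, 0, 2, 1, 0]), (28, [3, 0, 3, 1, 3, 0, 2, 1, 2, 1, 0])]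
]

-- level 2: k=5 k'=4 b=2 len=35

def LT3 : List (List ℕ) := [
  [],
  [3],
  [0, 3],
  [1, 3],
  [1, 0, 3],
  [3, 0, 3],
  [2, 1, 3],
  [3, 1, 3],
  [3, 1, 0, 3],
  [3, 2, 1, 3],
  [0, 3, 1, 3],
  [2, 3, 1, 3],
  [0, 3, 1, 0, 3],
  [1, 3, 2, 1, 3],
  [3, 0, 3, 1, 3],
  [3, 2, 3, 1, 3]
]

def LE3 : List (List (ℕ × List ℕ)) := [
  [(0, [0]), (2, []), (1, []), (4, []), (3, []), (5, [0]), (6, [1, 0, 2, 1, 0]), (10, []), (12, []), (11, [1, 0, 2, 1, 0]), (7, []), (9, [1, 0, 2, 1, 0]), (8, []), (14, [2, 1]), (13, [1, 2]), (15, [1, 0, 2, 1, 0])],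
  [(0, [1]), (3, []), (4, []), (1, []), (2, []), (6, [1, 2, 1, 0]), (5, [1, 0, 2, 1]), (7, [1]), (12, [1, 0]), (13, []), (10, [1]), (14, [0, 2, 1]), (8, [1, 0]), (9, []), (11, [1, 2, 0]), (15, [0, 2, 1, 2, 0])],
  [(0, [2]), (2, [0, 2]), (1, [2, 0]), (6, []), (4, [1, 0, 2, 1, 0]), (5, [0, 2, 0]), (3, []), (11, []), (10, [1, 0, 2, 1, 0]), (12, []), (8, [1, 0, 2, 1, 0]), (7, []), (9, []), (15, [2, 1]), (14, [1, 0, 2, 1, 0]), (13, [1, 2])],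
  [(1, []), (0, []), (5, []), (7, []), (8, []), (2, []), (9, []), (3, []), (4, []), (6, []), (14, []), (15, []), (13, [1, 2]), (12, [2, 1]), (10, []), (11, [])]
]

-- level 3: k=4 k'=3 b=32 len=16

def LT4 : List (List ℕ) := [
  [],
  [2],
  [0, 2],
  [1, 2],
  [1, 0, 2],
  [2, 1, 2],
  [2, 1, 0, 2],
  [0, 2, 1, 2],
  [0, 2, 1, 0, 2]
]

def LE4 : List (List (ℕ × List ℕ)) := [
  [(0, [0]), (2, []), (1, []), (4, []), (3, []), (7, []), (8, []), (5, []), (6, [])],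
  [(0, [1]), (3, []), (4, []), (1, []), (2, []), (7, [1, 0]), (6, [1]), (5, [1, 0]), (8, [1])],
  [(1, []), (0, []), (2, [0]), (5, []), (6, []), (3, []), (4, []), (8, []), (7, [])]
]

-- level 4: k=3 k'=2 b=4 len=9

def LT5 : List (List ℕ) := [
  [],
  [0],
  [1],
  [1, 0]
]

def LE5 : List (List (ℕ × List ℕ)) := [
  [(1, []), (0, []), (3, []), (2, [])],
  [(2, []), (3, []), (0, []), (1, [])]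
]

-- level 5: k=2 k'=0 b=64 len=4


theorem ab_inv : ∀ j : Fin 2, matO (codeA j.val) * matO (codeAI j.val) = 1 ∧
    matO (codeAI j.val) * matO (codeA j.val) = 1 ∧ matO (codeB j.val) * matO (codeBI j.val) = 1 ∧
    matO (codeBI j.val) * matO (codeB j.val) = 1 := by decide +kernel

theorem ab_iso : ∀ j : Fin 2, ∀ u : VV, QQ (matO (codeA j.val) *ᵥ u) = QQ u ∧
    QQ (matO (codeB j.val) *ᵥ u) = QQ u := by decide +kernel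

/-- the isometries `a_j` -/
def aO (j : ℕ) : OO :=
  if h : j < 2 then
    ⟨⟨matO (codeA j), matO (codeAI j), (ab_inv ⟨j, h⟩).1, (ab_inv ⟨j, h⟩).2.1⟩,
      fun u _ => (ab_iso ⟨j, h⟩ u).1⟩
  else 1

/-- the isometries `b_j` -/
def bO (j : ℕ) : OO :=
  if h : j < 2 then
    ⟨⟨matO (codeB j), matO (codeBI j), (ab_inv ⟨j, h⟩).2.2.1, (ab_inv ⟨j, h⟩).2.2.2⟩,
      fun u _ => (ab_iso ⟨j, h⟩ u).2⟩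
  else 1

theorem toM_aO (j : ℕ) (h : j < 2) : toM (aO j) = matO (codeA j) := by
  rw [aO, dif_pos h]; rfl

theorem toM_aO_inv (j : ℕ) (h : j < 2) : toM (aO j)⁻¹ = matO (codeAI j) := by
  rw [aO, dif_pos h]; rfl

theorem toM_bO (j : ℕ) (h : j < 2) : toM (bO j) = matO (codeB j) := by
  rw [bO, dif_pos h]; rfl

theorem toM_bO_inv (j : ℕ) (h : j < 2) : toM (bO j)⁻¹ = matO (codeBI j) := by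
  rw [bO, dif_pos h]; rfl

/-- the generators: two commutators and their inverses -/
def xO (j : ℕ) : OO := if j < 2 then ⁅aO j, bO j⁆ else ⁅bO (j - 2), aO (j - 2)⁆

theorem x_code : ∀ j : Fin 2,
    matO (codeA j.val) * matO (codeB j.val) * matO (codeAI j.val) * matO (codeBI j.val) =
      matO (codeX j.val) ∧
    matO (codeB j.val) * matO (codeA j.val) * matO (codeBI j.val) * matO (codeAI j.val) =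
      matO (codeX (j.val + 2)) := by decide +kernel

theorem toM_xO (j : ℕ) (h : j < 4) : toM (xO j) = matO (codeX j) := by
  unfold xO
  by_cases h2 : j < 2
  · rw [if_pos h2, commutatorElement_def, toM_mul, toM_mul, toM_mul, toM_aO j h2, toM_bO j h2,
      toM_aO_inv j h2, toM_bO_inv j h2]
    exact (x_code ⟨j, h2⟩).1
  · have h3 : j - 2 < 2 := by omega
    have h4 : j - 2 + 2 = j := by omega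
    rw [if_neg h2, commutatorElement_def, toM_mul, toM_mul, toM_mul, toM_aO _ h3, toM_bO _ h3,
      toM_aO_inv _ h3, toM_bO_inv _ h3]
    have := (x_code ⟨j - 2, h3⟩).2
    simp only [h4] at this
    exact this

theorem xO_inv (j : ℕ) (h : j < 2) : xO (j + 2) = (xO j)⁻¹ := by
  unfold xO
  rw [if_pos h, if_neg (by omega), commutatorElement_inv]
  simp

theorem xO_mem (j : ℕ) : xO j ∈ Cfsg.Omega (ZMod 2) QQ := by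
  unfold xO
  split
  · exact Subgroup.commutator_mem_commutator (Subgroup.mem_top _) (Subgroup.mem_top _)
  · exact Subgroup.commutator_mem_commutator (Subgroup.mem_top _) (Subgroup.mem_top _)

/-- check points: the standard basis -/
def chk : List ℕ := [1, 2, 4, 8, 16, 32, 64, 128]

theorem tab_ok : (List.range 4).all (fun j => (List.range 256).all (fun x =>
    Nat.blt (tab j x) 256)) = true := by decide +kernel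

theorem tab_lt (j : ℕ) (hj : j < 4) (x : ℕ) (hx : x < 256) : tab j x < 256 := by
  have := List.all_eq_true.1 (List.all_eq_true.1 tab_ok j (List.mem_range.2 hj)) x
    (List.mem_range.2 hx)
  exact Nat.le_of_ble_eq_true this

theorem x_smul : ∀ j : Fin 4, ∀ n : Fin 256,
    matO (codeX j.val) *ᵥ vecO n.val = vecO (tab j.val n.val) := by
  decide +kernel

theorem gen_smul (j : ℕ) (hj : j < 4) (x : ℕ) (hx : x < 256) : xO j • vecO x = vecO (tab j x) := by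
  rw [smul_def, toM_xO j hj]
  exact x_smul ⟨j, hj⟩ ⟨x, hx⟩

theorem idxO_vecO : ∀ n : Fin 256, idxO (vecO n.val) = n.val := by decide +kernel

theorem vecO_idxO : ∀ u : VV, vecO (idxO u) = u ∧ idxO u < 256 := by decide +kernel

theorem pt_inj (x : ℕ) (hx : x < 256) (y : ℕ) (hy : y < 256) (hxy : vecO x = vecO y) : x = y := by
  have h := congrArg idxO hxy
  rwa [idxO_vecO ⟨x, hx⟩, idxO_vecO ⟨y, hy⟩] at h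

theorem chk_lt : ∀ x ∈ chk, x < 256 := by decide

theorem vec_basis : ∀ k : II, vecO (2 ^ idxI k) = Pi.single k 1 := by decide

theorem basis_mem : ∀ k : II, 2 ^ idxI k ∈ chk := by decide

theorem faithful (g g' : OO) (h : ∀ x ∈ chk, g • vecO x = g' • vecO x) : g = g' := by
  apply toM_injective
  ext i k
  have := h _ (basis_mem k)
  rw [smul_def, smul_def, vec_basis, Matrix.mulVec_single_one, Matrix.mulVec_single_one] at this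
  exact congrFun this i

/-- chain data for the two commutators and their inverses -/
def D1 : TableChain2.Data OO VV where
  m := 4
  N := 256
  gen := xO
  pt := vecO
  tab := tab
  chk := chk
  gen_smul := gen_smul
  tab_lt := tab_lt
  chk_lt := chk_lt
  faithful := faithful
  pt_inj := pt_inj

theorem WB_lt : ∀ j < 10, ∀ c ∈ WB j, c < 4 := by decide

theorem tab2_ok : (List.range 10).all (fun j => (List.range 256).all (fun x =>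
    Nat.beq (tab2 j x) (TableChain2.act tab (WB j) x))) = true := by decide +kernel

theorem tab2_eq (j : ℕ) (hj : j < 10) (x : ℕ) (hx : x < 256) :
    tab2 j x = TableChain2.act tab (WB j) x := by
  have := List.all_eq_true.1 (List.all_eq_true.1 tab2_ok j (List.mem_range.2 hj)) x
    (List.mem_range.2 hx)
  exact Nat.eq_of_beq_eq_true this

/-- chain data for the strong generating sequence -/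
def D2 : TableChain2.Data OO VV where
  m := 10
  N := 256
  gen := fun j => D1.ev (WB j)
  pt := vecO
  tab := tab2
  chk := chk
  gen_smul := fun j hj x hx => by
    rw [tab2_eq j hj x hx]
    exact D1.ev_smul (WB j) (WB_lt j hj) x hx
  tab_lt := fun j hj x hx => by
    rw [tab2_eq j hj x hx]
    exact D1.act_lt (WB j) (WB_lt j hj) x hx
  chk_lt := chk_lt
  faithful := faithful
  pt_inj := pt_inj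

theorem level0 : TableChain2.levelCheck tab2 10 6 1 chk LT0 LE0 = true := by
  decide +kernel

theorem lvl0 : TableChain2.Data.LevelOK D2 10 6 1 LT0 LE0 :=
  TableChain2.Data.levelOK_of_check (D := D2) (by decide) (by decide) level0

theorem level1 : TableChain2.levelCheck tab2 6 5 16 chk LT1 LE1 = true := by
  decide +kernel

theorem lvl1 : TableChain2.Data.LevelOK D2 6 5 16 LT1 LE1 :=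
  TableChain2.Data.levelOK_of_check (D := D2) (by decide) (by decide) level1

theorem level2 : TableChain2.levelCheck tab2 5 4 2 chk LT2 LE2 = true := by
  decide +kernel

theorem lvl2 : TableChain2.Data.LevelOK D2 5 4 2 LT2 LE2 :=
  TableChain2.Data.levelOK_of_check (D := D2) (by decide) (by decide) level2

theorem level3 : TableChain2.levelCheck tab2 4 3 32 chk LT3 LE3 = true := by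
  decide +kernel

theorem lvl3 : TableChain2.Data.LevelOK D2 4 3 32 LT3 LE3 :=
  TableChain2.Data.levelOK_of_check (D := D2) (by decide) (by decide) level3

theorem level4 : TableChain2.levelCheck tab2 3 2 4 chk LT4 LE4 = true := by
  decide +kernel

theorem lvl4 : TableChain2.Data.LevelOK D2 3 2 4 LT4 LE4 :=
  TableChain2.Data.levelOK_of_check (D := D2) (by decide) (by decide) level4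

theorem level5 : TableChain2.levelCheck tab2 2 0 64 chk LT5 LE5 = true := by
  decide +kernel

theorem lvl5 : TableChain2.Data.LevelOK D2 2 0 64 LT5 LE5 :=
  TableChain2.Data.levelOK_of_check (D := D2) (by decide) (by decide) level5

instance finOO : Finite OO := inferInstance

theorem card_H : Nat.card (D2.H 10) = 174182400 := by
  rw [lvl0.card, lvl1.card, lvl2.card, lvl3.card, lvl4.card, lvl5.card, D2.card_H_zero]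
  decide

theorem card_OO : Nat.card OO = 348364800 := by
  rw [Cfsg.Agent.Lib.Helper43.card_isometryGroup_plus (F := ZMod 2) 3, ZMod.card]
  decide

theorem H2_le_H1 : D2.H 10 ≤ D1.H 4 := by
  unfold TableChain2.Data.H
  rw [Subgroup.closure_le]
  rintro g ⟨j, hj, rfl⟩
  exact D1.ev_mem 4 (WB j) (WB_lt j hj)

theorem H1_le_Omega : D1.H 4 ≤ Cfsg.Omega (ZMod 2) QQ := by
  unfold TableChain2.Data.H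
  rw [Subgroup.closure_le]
  rintro g ⟨j, _, rfl⟩
  exact xO_mem j

theorem index_H : (D2.H 10).index = 2 := by
  have h := (D2.H 10).card_mul_index
  rw [card_H, card_OO] at h
  omega

theorem Omega_le_H2 : Cfsg.Omega (ZMod 2) QQ ≤ D2.H 10 := by
  haveI : (D2.H 10).Normal := Subgroup.normal_of_index_eq_two index_H
  have hc : Nat.card (OO ⧸ D2.H 10) = 2 := index_H
  haveI : Fact (Nat.Prime 2) := ⟨Nat.prime_two⟩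
  haveI : IsCyclic (OO ⧸ D2.H 10) := isCyclic_of_prime_card hc
  letI : CommGroup (OO ⧸ D2.H 10) := IsCyclic.commGroup
  have := Abelianization.commutator_subset_ker (QuotientGroup.mk' (D2.H 10))
  rwa [QuotientGroup.ker_mk'] at this

theorem Omega_eq : Cfsg.Omega (ZMod 2) QQ = D1.H 4 :=
  le_antisymm (Omega_le_H2.trans H2_le_H1) H1_le_Omega

theorem Omega_eq_closure : Cfsg.Omega (ZMod 2) QQ = Subgroup.closure {xO 0, xO 1} := by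
  rw [Omega_eq]
  apply le_antisymm
  · unfold TableChain2.Data.H
    rw [Subgroup.closure_le]
    rintro g ⟨j, hj, rfl⟩
    show xO j ∈ Subgroup.closure {xO 0, xO 1}
    have h0 : xO 0 ∈ Subgroup.closure {xO 0, xO 1} := Subgroup.subset_closure (by simp)
    have h1 : xO 1 ∈ Subgroup.closure {xO 0, xO 1} := Subgroup.subset_closure (by simp)
    have : j = 0 ∨ j = 1 ∨ j = 2 ∨ j = 3 := by omega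
    rcases this with rfl | rfl | rfl | rfl
    · exact h0
    · exact h1
    · rw [xO_inv 0 (by norm_num)]; exact Subgroup.inv_mem _ h0
    · rw [xO_inv 1 (by norm_num)]; exact Subgroup.inv_mem _ h1
  · rw [Subgroup.closure_le]
    rintro g hg
    rcases hg with rfl | rfl
    · exact D1.gen_mem 0 (by norm_num)
    · exact D1.gen_mem 1 (by norm_num)

/-! ### The cohomology computation -/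

/-- affine recursion on vector indices -/
def affN (a : ℕ → ℕ) : List ℕ → ℕ
  | [] => 0
  | j :: l => a j ^^^ tab j (affN a l)

/-- the values on the four generators determined by the values on the first two -/
def aOf (a0 a1 : ℕ) (j : ℕ) : ℕ := [a0, a1, tab 2 a0, tab 3 a1].getD j 0

/-- the exhaustive check: a pair of values compatible with the relations is principal -/
def cocCheck : Bool :=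
  (List.range 256).all fun a0 => (List.range 256).all fun a1 =>
    (!(rels.all fun r => Nat.beq (affN (aOf a0 a1) r) 0)) ||
      (List.range 256).any fun v => Nat.beq a0 (tab 0 v ^^^ v) && Nat.beq a1 (tab 1 v ^^^ v)

theorem cocCheck_true : cocCheck = true := by decide +kernel

theorem rels_lt : ∀ r ∈ rels, ∀ c ∈ r, c < 4 := by decide

theorem rels_one : rels.all (fun r => chk.all fun x => Nat.beq (TableChain2.act tab r x) x) = true := by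
  decide +kernel

theorem rel_ev (r : List ℕ) (hr : r ∈ rels) : D1.ev r = 1 := by
  have h := List.all_eq_true.1 rels_one r hr
  have := D1.ev_eq_of_act (l := r) (l' := []) (rels_lt r hr) (by simp) (by
    intro x hx
    exact Nat.eq_of_beq_eq_true (List.all_eq_true.1 h x hx))
  rw [this, TableChain2.Data.ev_nil]

theorem vec_xor' (a b : ℕ) : vecO (a ^^^ b) = vecO a + vecO b := by
  funext i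
  show (((a ^^^ b) >>> idxI i &&& 1 : ℕ) : ZMod 2) =
    ((a >>> idxI i &&& 1 : ℕ) : ZMod 2) + ((b >>> idxI i &&& 1 : ℕ) : ZMod 2)
  rw [Nat.shiftRight_xor_distrib, Nat.and_xor_distrib_right, Nat.and_one_is_mod,
    Nat.and_one_is_mod]
  have ha := Nat.mod_two_eq_zero_or_one (a >>> idxI i)
  have hb := Nat.mod_two_eq_zero_or_one (b >>> idxI i)
  rcases ha with h | h <;> rcases hb with h' | h' <;> rw [h, h'] <;> decide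

theorem vec_xor (a b : Fin 256) : vecO (a.val ^^^ b.val) = vecO a.val + vecO b.val :=
  vec_xor' _ _

theorem xor_lt (a b : Fin 256) : a.val ^^^ b.val < 256 :=
  Nat.xor_lt_two_pow (n := 8) a.isLt b.isLt

theorem vecO_zero : vecO 0 = 0 := by decide

theorem neg_vec (u : VV) : -u = u := by
  funext i
  have : ∀ a : ZMod 2, -a = a := by decide
  exact this _


section main

variable (F : OO → VV) (hF : IsCoc (Cfsg.Omega (ZMod 2) QQ) F)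
include hF

theorem F_inv (j : ℕ) (hj : j < 2) : F (xO (j + 2)) = xO (j + 2) • F (xO j) := by
  have h := hF (xO (j + 2)) (xO_mem _) (xO j) (xO_mem _)
  rw [xO_inv j hj, inv_mul_cancel, hF.map_one] at h
  rw [xO_inv j hj]
  have h2 := eq_neg_of_add_eq_zero_left h.symm
  rw [neg_vec] at h2
  exact h2

theorem aff_eq (l : List ℕ) (hl : ∀ c ∈ l, c < 4) :
    affN (aOf (idxO (F (xO 0))) (idxO (F (xO 1)))) l < 256 ∧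
    affV xO (fun j => F (xO j)) l =
      vecO (affN (aOf (idxO (F (xO 0))) (idxO (F (xO 1)))) l) := by
  have ha : ∀ j < 4, aOf (idxO (F (xO 0))) (idxO (F (xO 1))) j < 256 ∧
      F (xO j) = vecO (aOf (idxO (F (xO 0))) (idxO (F (xO 1))) j) := by
    intro j hj
    have h0 := vecO_idxO (F (xO 0))
    have h1 := vecO_idxO (F (xO 1))
    have : j = 0 ∨ j = 1 ∨ j = 2 ∨ j = 3 := by omega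
    rcases this with rfl | rfl | rfl | rfl
    · exact ⟨h0.2, h0.1.symm⟩
    · exact ⟨h1.2, h1.1.symm⟩
    · refine ⟨tab_lt 2 (by norm_num) _ h0.2, ?_⟩
      show F (xO (0 + 2)) = vecO (tab 2 (idxO (F (xO 0))))
      rw [F_inv F hF 0 (by norm_num), ← gen_smul 2 (by norm_num) _ h0.2, h0.1]
    · refine ⟨tab_lt 3 (by norm_num) _ h1.2, ?_⟩
      show F (xO (1 + 2)) = vecO (tab 3 (idxO (F (xO 1))))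
      rw [F_inv F hF 1 (by norm_num), ← gen_smul 3 (by norm_num) _ h1.2, h1.1]
  induction l with
  | nil => exact ⟨by norm_num [affN], by simp [affV, affN, vecO_zero]⟩
  | cons j l ih =>
    have hj : j < 4 := hl j (by simp)
    obtain ⟨i1, i2⟩ := ih (fun c hc => hl c (by simp [hc]))
    obtain ⟨a1, a2⟩ := ha j hj
    have ht := tab_lt j hj _ i1
    refine ⟨xor_lt ⟨_, a1⟩ ⟨_, ht⟩, ?_⟩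
    show F (xO j) + xO j • affV xO (fun j => F (xO j)) l = _
    rw [i2, gen_smul j hj _ i1, a2]
    exact (vec_xor ⟨_, a1⟩ ⟨_, ht⟩).symm

theorem exists_vec : ∃ v : VV, ∀ g ∈ Cfsg.Omega (ZMod 2) QQ, F g = g • v - v := by
  have h0 := vecO_idxO (F (xO 0))
  have h1 := vecO_idxO (F (xO 1))
  have hrel : rels.all (fun r => Nat.beq (affN (aOf (idxO (F (xO 0))) (idxO (F (xO 1)))) r) 0) = true := by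
    rw [List.all_eq_true]
    intro r hr
    have hw := hF.map_word xO r (fun j _ => xO_mem j)
    have he : (r.map xO).prod = 1 := rel_ev r hr
    rw [he, hF.map_one] at hw
    obtain ⟨e1, e2⟩ := aff_eq F hF r (rels_lt r hr)
    rw [e2] at hw
    have := pt_inj _ e1 0 (by norm_num) (by rw [vecO_zero]; exact hw.2.symm)
    rw [this]
    rfl
  have hc := cocCheck_true
  unfold cocCheck at hc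
  have hc2 := List.all_eq_true.1 (List.all_eq_true.1 hc _ (List.mem_range.2 h0.2)) _
    (List.mem_range.2 h1.2)
  rw [hrel] at hc2
  simp only [Bool.not_true, Bool.false_or, List.any_eq_true, List.mem_range, Bool.and_eq_true] at hc2
  obtain ⟨v, hv, e0, e1⟩ := hc2
  have e0' := Nat.eq_of_beq_eq_true e0
  have e1' := Nat.eq_of_beq_eq_true e1
  refine ⟨vecO v, ?_⟩
  apply hF.eq_on_closure {xO 0, xO 1} Omega_eq_closure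
  intro s hs
  rcases hs with rfl | rfl
  · rw [gen_smul 0 (by norm_num) v hv, sub_eq_add_neg, neg_vec, ← h0.1, e0']
    exact vec_xor ⟨_, tab_lt 0 (by norm_num) v hv⟩ ⟨v, hv⟩
  · rw [gen_smul 1 (by norm_num) v hv, sub_eq_add_neg, neg_vec, ← h1.1, e1']
    exact vec_xor ⟨_, tab_lt 1 (by norm_num) v hv⟩ ⟨v, hv⟩

end main

/-- every crossed homomorphism of `Ω` into the natural module is principal -/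
theorem main (f : ↥(Cfsg.Omega (ZMod 2) QQ) → VV)
    (hf : ∀ g h : ↥(Cfsg.Omega (ZMod 2) QQ), f (g * h) = f g +
      Matrix.mulVec (((g : OO) : GL II (ZMod 2)) : Matrix II II (ZMod 2)) (f h)) :
    ∃ v : VV, ∀ g : ↥(Cfsg.Omega (ZMod 2) QQ), f g =
      Matrix.mulVec (((g : OO) : GL II (ZMod 2)) : Matrix II II (ZMod 2)) v - v := by
  classical
  let F : OO → VV := fun g => if h : g ∈ Cfsg.Omega (ZMod 2) QQ then f ⟨g, h⟩ else 0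
  have hF : IsCoc (Cfsg.Omega (ZMod 2) QQ) F := by
    intro g hg h hh
    have hgh := (Cfsg.Omega (ZMod 2) QQ).mul_mem hg hh
    show (if h' : g * h ∈ Cfsg.Omega (ZMod 2) QQ then f ⟨g * h, h'⟩ else 0) =
      (if h' : g ∈ Cfsg.Omega (ZMod 2) QQ then f ⟨g, h'⟩ else 0) +
        g • (if h' : h ∈ Cfsg.Omega (ZMod 2) QQ then f ⟨h, h'⟩ else 0)
    rw [dif_pos hgh, dif_pos hg, dif_pos hh]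
    exact hf ⟨g, hg⟩ ⟨h, hh⟩
  obtain ⟨v, hv⟩ := exists_vec F hF
  refine ⟨v, fun g => ?_⟩
  have := hv g.1 g.2
  show f g = _
  have h2 : F g.1 = f g := by
    show (if h' : g.1 ∈ Cfsg.Omega (ZMod 2) QQ then f ⟨g.1, h'⟩ else 0) = f g
    rw [dif_pos g.2]
  rw [← h2, this]
  rfl

end Cfsg.Agent.Lib.Helper58.H1O8
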