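import Mathlib

/-!
# External semidirect product `N ⋊ S` for a distributive action of a group `S` on an additive
commutative group `N` (helper58).
-/

set_option autoImplicit false

namespace Cfsg.Agent.Lib.Helper58

/-- pairs `(v, k)` with `v : N`, `k : S`, multiplied by `(v,k)(v',k') = (v + k • v', k k')`. -/
@[ext] structure H58Hol (N S : Type*) where
  v : N
  k : S

namespace H58Hol

variable {N S : Type*} [AddCommGroup N] [Group S] [DistribMulAction S N]

instance : Mul (H58Hol N S) := ⟨fun a b => ⟨a.v + a.k • b.v, a.k * b.k⟩⟩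
instance : One (H58Hol N S) := ⟨⟨0, 1⟩⟩
instance : Inv (H58Hol N S) := ⟨fun a => ⟨-(a.k⁻¹ • a.v), a.k⁻¹⟩⟩

@[simp] lemma mul_v (a b : H58Hol N S) : (a * b).v = a.v + a.k • b.v := rfl
@[simp] lemma mul_k (a b : H58Hol N S) : (a * b).k = a.k * b.k := rfl
@[simp] lemma one_v : (1 : H58Hol N S).v = 0 := rfl
@[simp] lemma one_k : (1 : H58Hol N S).k = 1 := rfl
@[simp] lemma inv_v (a : H58Hol N S) : (a⁻¹).v = -(a.k⁻¹ • a.v) := rfl
@[simp] lemma inv_k (a : H58Hol N S) : (a⁻¹).k = a.k⁻¹ := rfl

instance : Group (H58Hol N S) where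
  mul_assoc a b c := by ext <;> simp [add_assoc, mul_smul, mul_assoc]
  one_mul a := by ext <;> simp
  mul_one a := by ext <;> simp
  inv_mul_cancel a := by ext <;> simp

/-- projection onto the acting group -/
def proj : H58Hol N S →* S where
  toFun a := a.k
  map_one' := rfl
  map_mul' _ _ := rfl

@[simp] lemma proj_apply (a : H58Hol N S) : proj a = a.k := rfl

lemma pow_k (a : H58Hol N S) (n : ℕ) : (a ^ n).k = a.k ^ n := map_pow proj a n

/-- If `k ^ n = 1` and `k` has no nonzero fixed vector then `(v,k) ^ n = 1`. -/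
lemma pow_eq_one_of_fpf (a : H58Hol N S) (n : ℕ) (hk : a.k ^ n = 1)
    (hfpf : ∀ w : N, a.k • w = w → w = 0) : a ^ n = 1 := by
  have hbk : (a ^ n).k = 1 := by rw [pow_k, hk]
  have hcomm : a * a ^ n = a ^ n * a := (pow_mul_comm' a n).symm
  have hv := congrArg H58Hol.v hcomm
  simp only [mul_v, hbk, one_smul] at hv
  have h0 : (a ^ n).v = 0 := by
    apply hfpf
    have : a.v + a.k • (a ^ n).v = a.v + (a ^ n).v := by rw [hv, add_comm]
    exact add_left_cancel this
  ext
  · simpa using h0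
  · simpa using hbk

/-- elements with trivial `k` have order dividing 3 when `3 • N = 0`. -/
lemma cube_eq_one_of_k_eq_one (hN : ∀ w : N, (3 : ℕ) • w = 0) (b : H58Hol N S) (hb : b.k = 1) :
    b ^ 3 = 1 := by
  ext
  · simp only [pow_succ, pow_zero, one_mul, mul_v, mul_k, hb, one_smul, one_v, mul_one]
    have := hN b.v
    rw [← this]
    simp only [succ_nsmul, zero_nsmul, zero_add]
  · rw [pow_k, hb, one_pow]; rfl

/-- if `(a ^ m).k = 1` then `a ^ (3 m) = 1` -/
lemma pow_three_mul_eq_one (hN : ∀ w : N, (3 : ℕ) • w = 0) (a : H58Hol N S) (m : ℕ)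
    (hk : a.k ^ m = 1) : a ^ (m * 3) = 1 := by
  rw [pow_mul]
  exact cube_eq_one_of_k_eq_one hN _ (by rw [pow_k, hk])

/-- elements whose `k` is an involution acting as negation are involutions. -/
lemma sq_eq_one_of_k_neg (b : H58Hol N S) (hb2 : b.k * b.k = 1) (hb : ∀ w : N, b.k • w = -w) :
    b * b = 1 := by
  ext
  · simp [hb]
  · simpa using hb2

lemma eq_one_iff (a : H58Hol N S) : a = 1 ↔ a.v = 0 ∧ a.k = 1 := by
  constructor
  · rintro rfl; exact ⟨rfl, rfl⟩
  · rintro ⟨h1, h2⟩; ext <;> simpa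

instance [Finite N] [Finite S] : Finite (H58Hol N S) :=
  Finite.of_injective (fun a : H58Hol N S => (a.v, a.k)) (by
    intro a b h
    simp only [Prod.mk.injEq] at h
    ext
    · exact h.1
    · exact h.2)

end H58Hol

end Cfsg.Agent.Lib.Helper58
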