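import Mathlib

set_option autoImplicit false
set_option linter.style.haveILetI false

namespace Cfsg.Agent.Lib.Helper58

open Polynomial

section IrredEnd

variable {p : ℕ} [Fact p.Prime] {V : Type*} [AddCommGroup V] [Module (ZMod p) V]

/-- An endomorphism with no proper non-trivial invariant submodule. -/
def IsIrredEnd (A : Module.End (ZMod p) V) : Prop :=
  ∀ W : Submodule (ZMod p) V, (∀ v ∈ W, A v ∈ W) → W = ⊥ ∨ W = ⊤

variable {A : Module.End (ZMod p) V}

theorem aeval_comm_apply (g : (ZMod p)[X]) (v : V) :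
    (aeval A g) (A v) = A ((aeval A g) v) := by
  have h : aeval A g * A = A * aeval A g := by
    have h0 : aeval A (g * X) = aeval A (X * g) := by rw [mul_comm]
    rw [map_mul, map_mul, aeval_X] at h0
    exact h0
  exact congrArg (fun L : Module.End (ZMod p) V => L v) h

/-- For an irreducible endomorphism, a polynomial in it is zero or injective. -/
theorem IsIrredEnd.aeval_eq_zero_or_injective (hA : IsIrredEnd A) (g : (ZMod p)[X]) :
    aeval A g = 0 ∨ Function.Injective (aeval A g) := by
  rcases hA (LinearMap.ker (aeval A g)) (by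
    intro v hv
    rw [LinearMap.mem_ker] at hv ⊢
    rw [aeval_comm_apply, hv, map_zero]) with h | h
  · right
    exact LinearMap.ker_eq_bot.mp h
  · left
    exact LinearMap.ker_eq_top.mp h

variable [Finite V] [Nontrivial V]

omit [Nontrivial V] in
theorem isIntegral_end (A : Module.End (ZMod p) V) : IsIntegral (ZMod p) A := by
  haveI : Module.Finite (ZMod p) V := Module.Finite.of_finite
  exact IsIntegral.of_finite (ZMod p) A

/-- The minimal polynomial of an irreducible endomorphism is irreducible. -/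
theorem IsIrredEnd.irreducible_minpoly (hA : IsIrredEnd A) :
    Irreducible (minpoly (ZMod p) A) := by
  have hint := isIntegral_end A
  have hm0 : minpoly (ZMod p) A ≠ 0 := minpoly.ne_zero hint
  refine ⟨minpoly.not_isUnit (ZMod p) A, ?_⟩
  intro g h hgh
  have hg0 : g ≠ 0 := by rintro rfl; rw [zero_mul] at hgh; exact hm0 hgh
  have hh0 : h ≠ 0 := by rintro rfl; rw [mul_zero] at hgh; exact hm0 hgh
  have hdeg : (minpoly (ZMod p) A).natDegree = g.natDegree + h.natDegree := by
    rw [hgh, natDegree_mul hg0 hh0]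
  have hprod : aeval A g * aeval A h = 0 := by
    rw [← map_mul, ← hgh, minpoly.aeval]
  rcases hA.aeval_eq_zero_or_injective g with hg | hg
  · -- m ∣ g so h is a unit
    right
    have hd : minpoly (ZMod p) A ∣ g := minpoly.dvd (ZMod p) A hg
    have hle := natDegree_le_of_dvd hd hg0
    have : h.natDegree = 0 := by omega
    rw [natDegree_eq_zero] at this
    obtain ⟨c, rfl⟩ := this
    have hc : c ≠ 0 := by rintro rfl; exact hh0 (by simp)
    exact isUnit_C.mpr (isUnit_iff_ne_zero.mpr hc)
  · left
    have hh : aeval A h = 0 := by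
      ext v
      apply hg
      have := congrArg (fun L : Module.End (ZMod p) V => L v) hprod
      simpa using this
    have hd : minpoly (ZMod p) A ∣ h := minpoly.dvd (ZMod p) A hh
    have hle := natDegree_le_of_dvd hd hh0
    have : g.natDegree = 0 := by omega
    rw [natDegree_eq_zero] at this
    obtain ⟨c, rfl⟩ := this
    have hc : c ≠ 0 := by rintro rfl; exact hg0 (by simp)
    exact isUnit_C.mpr (isUnit_iff_ne_zero.mpr hc)


/-- For an irreducible endomorphism the space is cyclic, so its dimension is at most the degree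
of the minimal polynomial. -/
theorem IsIrredEnd.finrank_le_natDegree_minpoly (hA : IsIrredEnd A) :
    Module.finrank (ZMod p) V ≤ (minpoly (ZMod p) A).natDegree := by
  haveI : Module.Finite (ZMod p) V := Module.Finite.of_finite
  have hint := isIntegral_end A
  have hmonic : (minpoly (ZMod p) A).Monic := minpoly.monic hint
  set e := (minpoly (ZMod p) A).natDegree with he
  obtain ⟨v₀, hv₀⟩ := exists_ne (0 : V)
  -- the evaluation map on polynomials of degree < e
  let ε : degreeLT (ZMod p) e →ₗ[ZMod p] V :=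
    ((LinearMap.applyₗ v₀).comp (aeval A).toLinearMap).comp (degreeLT (ZMod p) e).subtype
  have hε : ∀ g : degreeLT (ZMod p) e, ε g = (aeval A (g : (ZMod p)[X])) v₀ := fun g => rfl
  have hsurj : LinearMap.range ε = ⊤ := by
    rcases hA (LinearMap.range ε) (by
      rintro v ⟨g, rfl⟩
      -- A (g(A) v₀) = ((X * g) %ₘ m)(A) v₀
      have hdeg : ((X * (g : (ZMod p)[X])) %ₘ minpoly (ZMod p) A) ∈ degreeLT (ZMod p) e := by
        rw [mem_degreeLT]
        have h1 := degree_modByMonic_lt (X * (g : (ZMod p)[X])) hmonic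
        rwa [degree_eq_natDegree hmonic.ne_zero] at h1
      refine ⟨⟨_, hdeg⟩, ?_⟩
      rw [hε, hε]
      simp only
      rw [aeval_modByMonic_eq_self_of_root (minpoly.aeval (ZMod p) A), map_mul, aeval_X]
      rfl) with h | h
    · exfalso
      have h1 : (1 : (ZMod p)[X]) ∈ degreeLT (ZMod p) e := by
        rw [mem_degreeLT, degree_one]
        have : 0 < e := minpoly.natDegree_pos hint
        exact_mod_cast this
      have h2 : ε ⟨1, h1⟩ ∈ LinearMap.range ε := ⟨_, rfl⟩
      rw [h, Submodule.mem_bot, hε] at h2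
      simp at h2
      exact hv₀ h2
    · exact h
  have h1 : Module.finrank (ZMod p) V = Module.finrank (ZMod p) (LinearMap.range ε) := by
    rw [hsurj, finrank_top]
  have h2 : Module.finrank (ZMod p) (LinearMap.range ε)
      ≤ Module.finrank (ZMod p) (degreeLT (ZMod p) e) := LinearMap.finrank_range_le ε
  have h3 : Module.finrank (ZMod p) (degreeLT (ZMod p) e) = e := by
    rw [(degreeLTEquiv (ZMod p) e).finrank_eq]
    simp
  omega

/-- If `A ^ (p ^ i) = A` for an irreducible endomorphism `A`, then `dim V ≤ i`. -/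
theorem IsIrredEnd.finrank_le_of_pow (hA : IsIrredEnd A) {i : ℕ} (hi : 0 < i)
    (hAi : A ^ (p ^ i) = A) : Module.finrank (ZMod p) V ≤ i := by
  have h1 : minpoly (ZMod p) A ∣ X ^ (Nat.card (ZMod p)) ^ i - X := by
    apply minpoly.dvd
    rw [Nat.card_zmod, map_sub, map_pow, aeval_X, hAi, sub_self]
  have h2 := hA.irreducible_minpoly.natDegree_dvd_of_dvd_X_pow_card_pow_sub_X h1
  exact le_trans hA.finrank_le_natDegree_minpoly (Nat.le_of_dvd hi h2)


/-- If an irreducible endomorphism `A` is conjugate to its power `A ^ a`, then that power is a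
Frobenius power `A ^ (p ^ j)`. -/
theorem IsIrredEnd.exists_pow_eq_of_conj (hA : IsIrredEnd A) (B : V ≃ₗ[ZMod p] V) (a : ℕ)
    (hB : B.conjAlgEquiv (ZMod p) A = A ^ a) : ∃ j : ℕ, A ^ a = A ^ (p ^ j) := by
  haveI : Module.Finite (ZMod p) V := Module.Finite.of_finite
  have hint := isIntegral_end A
  set m := minpoly (ZMod p) A with hm
  have hm0 : m ≠ 0 := minpoly.ne_zero hint
  haveI : Fact (Irreducible m) := ⟨hA.irreducible_minpoly⟩
  -- the embedding of the field K = F_p[X]/(m) into End(V)
  let ι : AdjoinRoot m →ₐ[ZMod p] Module.End (ZMod p) V :=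
    Ideal.Quotient.liftₐ (Ideal.span {m}) (aeval A) (by
      intro g hg
      rw [Ideal.mem_span_singleton] at hg
      obtain ⟨s, rfl⟩ := hg
      rw [map_mul, hm, minpoly.aeval, zero_mul])
  have hιmk : ∀ g : (ZMod p)[X], ι (AdjoinRoot.mk m g) = aeval A g := fun g => rfl
  have hιinj : Function.Injective ι := (ι : AdjoinRoot m →+* Module.End (ZMod p) V).injective
  have hιroot : ι (AdjoinRoot.root m) = A := by
    rw [AdjoinRoot.root, hιmk, aeval_X]
  haveI : Module.Finite (ZMod p) (AdjoinRoot m) := (AdjoinRoot.powerBasis hm0).finite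
  haveI : Finite (AdjoinRoot m) := Module.finite_of_finite (ZMod p)
  -- the root r^a of m
  have hroot : aeval (AdjoinRoot.root m ^ a) m = 0 := by
    apply hιinj
    rw [map_zero, ← aeval_algHom_apply, map_pow, hιroot, ← hB, aeval_algHom_apply, hm,
      minpoly.aeval, map_zero]
  let g₀ : AdjoinRoot m →ₐ[ZMod p] AdjoinRoot m :=
    AdjoinRoot.liftAlgHom m (Algebra.ofId (ZMod p) (AdjoinRoot m)) (AdjoinRoot.root m ^ a) hroot
  have hg₀inj : Function.Injective g₀ := (g₀ : AdjoinRoot m →+* AdjoinRoot m).injective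
  have hg₀bij : Function.Bijective g₀ := Finite.injective_iff_bijective.mp hg₀inj
  obtain ⟨j, hj⟩ := FiniteField.exists_forall_apply_eq_pow (ZMod p) p (AdjoinRoot m)
    (AlgEquiv.ofBijective g₀ hg₀bij)
  refine ⟨j, ?_⟩
  have h1 := hj (AdjoinRoot.root m)
  rw [Nat.card_zmod, AlgEquiv.coe_ofBijective] at h1
  have h1' : g₀ (AdjoinRoot.root m) = AdjoinRoot.root m ^ a :=
    AdjoinRoot.liftAlgHom_root m _ _ hroot
  rw [h1'] at h1
  have h2 := congrArg ι h1
  rwa [map_pow, map_pow, hιroot] at h2

end IrredEnd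


section AddLevel

variable {p : ℕ} [Fact p.Prime] {V : Type*} [AddCommGroup V] [Module (ZMod p) V] [Finite V]
  [Nontrivial V]

omit [Finite V] [Nontrivial V] in
theorem toZMod_pow_apply (f : V →+ V) (k : ℕ) (v : V) :
    ((AddMonoidHom.toZModLinearMap p f) ^ k) v = (f^[k]) v := by
  rw [Module.End.pow_apply]
  rfl

omit [Finite V] [Nontrivial V] in
theorem isIrredEnd_of_addSubgroup (f : V →+ V)
    (hirr : ∀ L : AddSubgroup V, (∀ x ∈ L, f x ∈ L) → L = ⊥ ∨ L = ⊤) :
    IsIrredEnd (AddMonoidHom.toZModLinearMap p f) := by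
  intro W hW
  rcases hirr W.toAddSubgroup (fun x hx => hW x hx) with h | h
  · left
    rw [eq_bot_iff]
    intro x hx
    have : x ∈ W.toAddSubgroup := hx
    rw [h] at this
    exact this
  · right
    rw [eq_top_iff]
    intro x _
    have : x ∈ W.toAddSubgroup := by rw [h]; trivial
    exact this

/-- Module-level version of the two key facts. -/
theorem add_irred_key (d : ℕ) (hcard : Nat.card V = p ^ d) (f : V →+ V)
    (hirr : ∀ L : AddSubgroup V, (∀ x ∈ L, f x ∈ L) → L = ⊥ ∨ L = ⊤) :
    (∀ q i : ℕ, (∀ v, (f^[q]) v = v) → 0 < i → q ∣ p ^ i - 1 → d ≤ i) ∧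
    (∀ (β : V ≃+ V) (a : ℕ), (∀ v, β (f (β.symm v)) = (f^[a]) v) →
      ∃ j : ℕ, ∀ v, (f^[a]) v = (f^[p ^ j]) v) := by
  have hp : p.Prime := Fact.out
  haveI : Module.Finite (ZMod p) V := Module.Finite.of_finite
  have hfr : Module.finrank (ZMod p) V = d := by
    have h1 : Nat.card V = Nat.card (ZMod p) ^ Module.finrank (ZMod p) V :=
      Module.natCard_eq_pow_finrank
    rw [Nat.card_zmod, hcard] at h1
    exact (Nat.pow_right_injective hp.two_le h1).symm
  have hA := isIrredEnd_of_addSubgroup (p := p) f hirr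
  constructor
  · intro q i hq hi hqi
    rw [← hfr]
    apply hA.finrank_le_of_pow hi
    ext v
    rw [toZMod_pow_apply]
    obtain ⟨k, hk⟩ := hqi
    have hpi : p ^ i = q * k + 1 := by
      have : 1 ≤ p ^ i := Nat.one_le_pow _ _ hp.pos
      omega
    rw [hpi, Function.iterate_succ_apply, Function.iterate_mul]
    have : ∀ n : ℕ, ∀ w, ((f^[q])^[n]) w = w := by
      intro n
      induction n with
      | zero => intro w; rfl
      | succ n ih => intro w; rw [Function.iterate_succ_apply, hq, ih]
    rw [this]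
    rfl
  · intro β a hβ
    let B : V ≃ₗ[ZMod p] V := LinearEquiv.ofLinearMap
      (AddMonoidHom.toZModLinearMap p β.toAddMonoidHom)
      (AddMonoidHom.toZModLinearMap p β.symm.toAddMonoidHom)
      (by ext v; exact β.apply_symm_apply v) (by ext v; exact β.symm_apply_apply v)
    have hB : B.conjAlgEquiv (ZMod p) (AddMonoidHom.toZModLinearMap p f) =
        (AddMonoidHom.toZModLinearMap p f) ^ a := by
      ext v
      rw [toZMod_pow_apply, ← hβ v]
      rfl
    obtain ⟨j, hj⟩ := hA.exists_pow_eq_of_conj B a hB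
    refine ⟨j, fun v => ?_⟩
    have := congrArg (fun L : Module.End (ZMod p) V => L v) hj
    simpa only [toZMod_pow_apply] using this

end AddLevel


section MulLevel

/-- Group-level version: `M` an elementary abelian `p`-group of order `p ^ d`, `φ` an
automorphism leaving no proper non-trivial subgroup invariant. -/
theorem mul_irred_key (p : ℕ) [Fact p.Prime] {M : Type*} [CommGroup M] [Finite M] [Nontrivial M]
    (hexp : ∀ x : M, x ^ p = 1) (d : ℕ) (hcard : Nat.card M = p ^ d) (φ : M ≃* M)
    (hirr : ∀ L : Subgroup M, (∀ x ∈ L, φ x ∈ L) → L = ⊥ ∨ L = ⊤) :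
    (∀ q i : ℕ, (∀ x, (φ^[q]) x = x) → 0 < i → q ∣ p ^ i - 1 → d ≤ i) ∧
    (∀ (β : M ≃* M) (a : ℕ), (∀ x, β (φ (β.symm x)) = (φ^[a]) x) →
      ∃ j : ℕ, ∀ x, (φ^[a]) x = (φ^[p ^ j]) x) := by
  letI : Module (ZMod p) (Additive M) := AddCommGroup.zmodModule (n := p) (by
    intro x
    exact congrArg Additive.ofMul (hexp x.toMul))
  have hiter : ∀ (i : ℕ) (x : M),
      ((MonoidHom.toAdditive φ.toMonoidHom)^[i]) (Additive.ofMul x) = Additive.ofMul ((φ^[i]) x) := by
    intro i
    induction i with
    | zero => intro x; rfl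
    | succ i ih =>
      intro x
      rw [Function.iterate_succ_apply, Function.iterate_succ_apply]
      exact ih (φ x)
  have hirr' : ∀ L : AddSubgroup (Additive M),
      (∀ x ∈ L, (MonoidHom.toAdditive φ.toMonoidHom) x ∈ L) → L = ⊥ ∨ L = ⊤ := by
    intro L hL
    rcases hirr (AddSubgroup.toSubgroup' L) (fun x hx => hL (Additive.ofMul x) hx) with h | h
    · left
      rw [eq_bot_iff]
      intro x hx
      have : x.toMul ∈ AddSubgroup.toSubgroup' L := hx
      rw [h, Subgroup.mem_bot] at this
      exact congrArg Additive.ofMul this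
    · right
      rw [eq_top_iff]
      intro x _
      have : x.toMul ∈ AddSubgroup.toSubgroup' L := by rw [h]; trivial
      exact this
  obtain ⟨h1, h2⟩ := add_irred_key (p := p) (V := Additive M) d hcard
    (MonoidHom.toAdditive φ.toMonoidHom) hirr'
  constructor
  · intro q i hq hi hqi
    apply h1 q i _ hi hqi
    intro v
    obtain ⟨x, rfl⟩ : ∃ x, Additive.ofMul x = v := ⟨v.toMul, rfl⟩
    rw [hiter, hq]
  · intro β a hβ
    obtain ⟨j, hj⟩ := h2 (MulEquiv.toAdditive β) a (by
      intro v
      obtain ⟨x, rfl⟩ : ∃ x, Additive.ofMul x = v := ⟨v.toMul, rfl⟩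
      rw [hiter, ← hβ x]
      rfl)
    refine ⟨j, fun x => ?_⟩
    have := hj (Additive.ofMul x)
    rw [hiter, hiter] at this
    exact Additive.ofMul.injective this

end MulLevel

end Cfsg.Agent.Lib.Helper58
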