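import Mathlib
import Cfsg.Prelude.Def_Sporadic_a
import Cfsg.Agent.Lib.Helper26.Enc
import Cfsg.Agent.Lib.Helper89.TableChain2

/-!
# The chain `C11 < 23:11 < PSL(2,23)` inside the permutations of the 24 points
-/

set_option autoImplicit false

namespace Cfsg.Agent.Lib.Helper58.M24Chain

open Cfsg Cfsg.Agent.Lib.Helper26 Cfsg.Agent.Lib.Helper89.TableChain2

/-- translation `t ↦ t + 1` -/
def gA : Equiv.Perm GolayPt := Equiv.optionCongr (Equiv.addRight (1 : ZMod 23))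

/-- the unit `2` of `ZMod 23` -/
def u2 : (ZMod 23)ˣ := ⟨2, 12, by decide, by decide⟩

/-- multiplication `t ↦ 2 t` -/
def gB : Equiv.Perm GolayPt := Equiv.optionCongr (Units.mulLeft u2)

/-- `t ↦ -1/t` -/
def gC : Equiv.Perm GolayPt := Cfsg.projInv

def tabL : List (List ℕ) := [[0, 2, 4, 6, 8, 10, 12, 14, 16, 18, 20, 22, 1, 3, 5, 7, 9, 11, 13, 15, 17, 19, 21, 23], [1, 2, 3, 4, 5, 6, 7, 8, 9, 10, 11, 12, 13, 14, 15, 16, 17, 18, 19, 20, 21, 22, 0, 23], [23, 22, 11, 15, 17, 9, 19, 13, 20, 5, 16, 2, 21, 7, 18, 3, 10, 4, 14, 6, 8, 12, 1, 0]]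
def T0 : List (List ℕ) := [[], [2], [1, 2], [0, 1, 2], [2, 1, 2], [0, 0, 1, 2], [1, 0, 1, 2], [2, 0, 1, 2], [0, 2, 1, 2], [0, 0, 0, 1, 2], [1, 0, 0, 1, 2], [2, 0, 0, 1, 2], [0, 1, 0, 1, 2], [2, 1, 0, 1, 2], [1, 2, 0, 1, 2], [0, 0, 2, 1, 2], [0, 0, 0, 0, 1, 2], [1, 0, 0, 0, 1, 2], [2, 0, 0, 0, 1, 2], [0, 1, 0, 0, 1, 2], [1, 2, 0, 0, 1, 2], [1, 0, 1, 0, 1, 2], [1, 1, 2, 0, 1, 2], [2, 1, 2, 0, 0, 1, 2]]
def E0 : List (List (ℕ × List ℕ)) := [[(0, [0]), (1, [0, 0, 0, 0, 0, 0, 0, 0, 0, 0]), (3, []), (5, []), (8, []), (9, []), (12, []), (4, []), (15, []), (16, []), (19, []), (7, []), (14, [1, 0, 0, 0, 0, 0, 0, 0]), (21, [1, 0, 0, 0, 0, 1, 0]), (2, [0, 1, 0, 1, 0, 0, 1, 0, 0, 0, 0, 0, 0, 0]), (13, [0, 0, 0, 0]), (17, [0, 0, 0, 0, 0, 0, 0, 0, 0]), (20, [1, 0, 0, 0, 0, 0]), (11, []), (18, [1, 0, 0, 0, 0]), (22, []), (23, [1, 0, 0, 0, 1, 0, 0]), (6, [1,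 0, 0, 1, 0, 0, 1, 0, 0, 0, 0, 0, 0, 0, 0]), (10, [1, 0, 0, 0, 0, 1])], [(0, [1]), (2, []), (3, [0]), (6, []), (1, [0, 1, 0, 1, 0, 0, 1, 0, 0, 0, 0, 0, 0, 0]), (10, []), (5, [0]), (14, []), (4, [0, 0, 1, 0, 1, 0, 0, 0, 0, 0, 0, 0]), (17, []), (12, []), (20, []), (21, []), (16, [1, 0, 0, 1, 0, 0, 1, 0, 0, 0, 0]), (22, []), (18, [0, 1, 0, 1, 0, 0, 0, 0]), (11, [1, 0, 0, 0, 0, 0]), (19, []), (8, [0, 0, 0, 1, 0]), (7, [1, 0, 0, 0, 0, 0, 0, 0]), (15, [0, 0, 0, 1, 0]), (9, [0]), (23, [1, 0, 1, 0, 0, 0, 0, 0, 0, 0, 0]), (13, [0, 0, 0, 0, 0, 0, 0, 0, 0, 0])], [(1, []), (0, []), (4, []), (7, []), (2, []), (11, []), (13, []), (3, []), (14, [1]), (18, []), (17, [0, 1, 0, 1]), (5, []), (15, [0, 0, 0, 0, 0, 0, 0]), (6, []), (8, [0, 1, 0, 1, 0, 0, 1, 0, 0, 0, 0, 0, 0, 0]), (12, [0, 0, 0, 0]), (19, [0, 1, 0, 0, 1, 0, 0, 0, 0]), (10, [0, 1, 0, 0, 1, 0, 0, 0,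 0, 0, 0]), (9, []), (16, [1, 0, 0, 0, 0]), (23, []), (22, [1, 0, 0, 0, 1, 0, 0]), (21, [0, 1, 0, 1, 0, 0, 1, 0, 0]), (20, [])]]
def T1 : List (List ℕ) := [[], [1], [0, 1], [0, 0, 1], [1, 0, 1], [0, 0, 0, 1], [1, 0, 0, 1], [0, 1, 0, 1], [0, 0, 0, 0, 1], [1, 0, 0, 0, 1], [0, 1, 0, 0, 1], [0, 0, 1, 0, 1], [1, 0, 1, 0, 1], [1, 0, 0, 0, 0, 1], [0, 1, 0, 0, 0, 1], [0, 0, 1, 0, 0, 1], [1, 0, 1, 0, 0, 1], [1, 0, 0, 1, 0, 1], [0, 1, 0, 1, 0, 1], [1, 0, 1, 0, 0, 0, 1], [1, 0, 0, 1, 0, 0, 1], [0, 1, 0, 1, 0, 0, 1], [1, 0, 1, 0, 1, 0, 1]]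
def E1 : List (List (ℕ × List ℕ)) := [[(0, [0]), (2, []), (3, []), (5, []), (7, []), (8, []), (10, []), (11, []), (9, [0, 0]), (14, []), (15, []), (1, [0, 0, 0, 0]), (18, []), (16, [0, 0]), (17, [0, 0]), (13, [0]), (21, []), (4, [0, 0, 0]), (6, [0, 0]), (22, [0, 0]), (19, [0]), (20, [0]), (12, [0, 0])], [(1, []), (2, [0, 0, 0, 0, 0, 0, 0, 0, 0, 0]), (4, []), (6, []), (3, [0, 0, 0, 0, 0, 0, 0, 0, 0, 0]), (9, []), (7, []), (12, []), (13, []), (10, []), (16, []), (17, []), (5, [0, 0, 0, 0, 0, 0, 0, 0, 0, 0]), (14, []), (19, []), (20, []), (11, []), (18, []), (22, []), (15, []), (21, []), (0, [0, 0, 0, 0]), (8, [0, 0, 0, 0, 0, 0, 0, 0, 0, 0])]]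
def T2 : List (List ℕ) := [[], [0], [0, 0], [0, 0, 0], [0, 0, 0, 0], [0, 0, 0, 0, 0], [0, 0, 0, 0, 0, 0], [0, 0, 0, 0, 0, 0, 0], [0, 0, 0, 0, 0, 0, 0, 0], [0, 0, 0, 0, 0, 0, 0, 0, 0], [0, 0, 0, 0, 0, 0, 0, 0, 0, 0]]
def E2 : List (List (ℕ × List ℕ)) := [[(1, []), (2, []), (3, []), (4, []), (5, []), (6, []), (7, []), (8, []), (9, []), (10, []), (0, [])]]

def tab (j x : ℕ) : ℕ := (tabL.getD j []).getD x 0

def gen : ℕ → Equiv.Perm GolayPt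
  | 0 => gB
  | 1 => gA
  | 2 => gC
  | _ => 1

theorem gen_smul_aux : ∀ j < 3, ∀ x < 24, gen j (pt x) = pt (tab j x) := by
  decide +kernel

theorem tab_lt_aux : ∀ j < 3, ∀ x < 24, tab j x < 24 := by
  decide +kernel

theorem pt_inj_aux : ∀ x < 24, ∀ y < 24, pt x = pt y → x = y := by
  intro x hx y hy h
  have := congrArg idx h
  rwa [idx_pt x hx, idx_pt y hy] at this

/-- the chain data -/
def D : Data (Equiv.Perm GolayPt) GolayPt where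
  m := 3
  N := 24
  gen := gen
  pt := pt
  tab := tab
  chk := List.range 24
  gen_smul := fun j hj x hx => gen_smul_aux j hj x hx
  tab_lt := tab_lt_aux
  chk_lt := fun x hx => List.mem_range.mp hx
  faithful := by
    intro g g' h
    refine Equiv.ext fun p => ?_
    have := h (idx p) (List.mem_range.mpr (idx_lt p))
    rw [pt_idx] at this
    exact this
  pt_inj := pt_inj_aux

theorem level0 : D.LevelOK 3 2 23 T0 E0 :=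
  Data.levelOK_of_check (D := D) (by decide) (by decide) (by decide +kernel)

theorem level1 : D.LevelOK 2 1 0 T1 E1 :=
  Data.levelOK_of_check (D := D) (by decide) (by decide) (by decide +kernel)

theorem level2 : D.LevelOK 1 0 1 T2 E2 :=
  Data.levelOK_of_check (D := D) (by decide) (by decide) (by decide +kernel)

theorem card_H1 : Nat.card (D.H 1) = 11 := by
  rw [level2.card, D.card_H_zero]; rfl

theorem card_H2 : Nat.card (D.H 2) = 253 := by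
  rw [level1.card, card_H1]; rfl

theorem card_H3 : Nat.card (D.H 3) = 6072 := by
  rw [level0.card, card_H2]; rfl

theorem H3_inf_stab : D.H 3 ⊓ MulAction.stabilizer (Equiv.Perm GolayPt) (none : GolayPt) = D.H 2 :=
  level0.inf_stabilizer

theorem H2_inf_stab : D.H 2 ⊓ MulAction.stabilizer (Equiv.Perm GolayPt) (some 0 : GolayPt) = D.H 1 :=
  level1.inf_stabilizer

end Cfsg.Agent.Lib.Helper58.M24Chain
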