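import Mathlib
import Cfsg.Agent.Lib.Helper26.Bridge
import Cfsg.Agent.Lib.Helper58.M24Chain

/-!
# Elements of `M24` normalising a cyclic subgroup generated by a table permutation

If `g τ = τ ^ j g` then the index function of `g` is determined on every `τ`-orbit by one value;
membership of `g` in `M24` is then tested on the twelve basis words of the code.
-/

set_option autoImplicit false

namespace Cfsg.Agent.Lib.Helper58.M24Norm

open Cfsg Cfsg.Agent.Lib.Helper26 Cfsg.Agent.Lib.Helper89.TableChain2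
open scoped Pointwise

/-- image of a mask under a table of images -/
def imgMask (f : ℕ → ℕ) (m : ℕ) : ℕ :=
  (List.range 24).foldl (fun acc i => if m.testBit i then acc ||| 2 ^ f i else acc) 0

theorem testBit_foldl (f : ℕ → ℕ) (m : ℕ) (l : List ℕ) (acc k : ℕ) :
    (l.foldl (fun acc i => if m.testBit i then acc ||| 2 ^ f i else acc) acc).testBit k = true ↔
      acc.testBit k = true ∨ ∃ i ∈ l, m.testBit i = true ∧ f i = k := by
  induction l generalizing acc with
  | nil => simp
  | cons i l ih =>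
    rw [List.foldl_cons, ih]
    by_cases hm : m.testBit i = true
    · simp only [hm, if_true, Nat.testBit_lor, Bool.or_eq_true, Nat.testBit_two_pow,
        decide_eq_true_eq, List.mem_cons, exists_eq_or_imp, true_and]
      tauto
    · simp [hm]

theorem testBit_imgMask (f : ℕ → ℕ) (m k : ℕ) :
    (imgMask f m).testBit k = true ↔ ∃ i < 24, m.testBit i = true ∧ f i = k := by
  unfold imgMask
  rw [testBit_foldl]
  simp

theorem imgMask_lt (f : ℕ → ℕ) (hlt : ∀ k < 24, f k < 24) (m : ℕ) : imgMask f m < 2 ^ 24 := by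
  apply Nat.lt_pow_two_of_testBit
  intro i hi
  by_contra h
  rw [Bool.not_eq_false] at h
  obtain ⟨i', hi', -, rfl⟩ := (testBit_imgMask f m i).mp h
  exact absurd (hlt i' hi') (by omega)

theorem imgMask_congr (f f' : ℕ → ℕ) (h : ∀ k < 24, f k = f' k) (m : ℕ) :
    imgMask f m = imgMask f' m := by
  apply Nat.eq_of_testBit_eq
  intro k
  rw [Bool.eq_iff_iff, testBit_imgMask, testBit_imgMask]
  constructor
  · rintro ⟨i, hi, h1, h2⟩
    exact ⟨i, hi, h1, by rw [← h i hi]; exact h2⟩
  · rintro ⟨i, hi, h1, h2⟩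
    exact ⟨i, hi, h1, by rw [h i hi]; exact h2⟩

theorem smul_dec_of_table (g : Equiv.Perm GolayPt) (f : ℕ → ℕ)
    (hf : ∀ k < 24, g (pt k) = pt (f k)) (hlt : ∀ k < 24, f k < 24) (m : ℕ) :
    g • dec m = dec (imgMask f m) := by
  ext q
  rw [← Finset.inv_smul_mem_iff, mem_dec, mem_dec, testBit_imgMask]
  have hq : g⁻¹ • q = g.symm q := rfl
  constructor
  · intro h
    refine ⟨idx (g⁻¹ • q), idx_lt _, h, ?_⟩
    have h1 := hf (idx (g⁻¹ • q)) (idx_lt _)
    rw [pt_idx, hq, Equiv.apply_symm_apply] at h1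
    have h2 := congrArg idx h1
    rw [idx_pt _ (hlt _ (idx_lt _))] at h2
    rw [hq]
    exact h2.symm
  · rintro ⟨i, hi, h1, h2⟩
    have h3 := hf i hi
    rw [h2, pt_idx] at h3
    have : g⁻¹ • q = pt i := by
      rw [hq, ← h3, Equiv.symm_apply_apply]
    rw [this, idx_pt i hi]
    exact h1

/-- the code test on the twelve basis words -/
def presB (f : ℕ → ℕ) : Bool :=
  Golay.basisMasks.all fun m => Nat.beq (Golay.encode (imgMask f m % 4096)) (imgMask f m)

theorem presB_of_mem {g : Equiv.Perm GolayPt} (hg : g ∈ M24) (f : ℕ → ℕ)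
    (hf : ∀ k < 24, g (pt k) = pt (f k)) (hlt : ∀ k < 24, f k < 24) : presB f = true := by
  unfold presB
  rw [List.all_eq_true]
  intro m hm
  have h1 : dec m ∈ supports (golayCode : Set (GolayPt → ZMod 2)) :=
    ⟨Golay.ofMask m, Golay.ofMask_basis_mem m hm, support₂_ofMask m⟩
  have h2 := (smul_mem_supports_iff hg (dec m)).mpr h1
  rw [smul_dec_of_table g f hf hlt m, dec_mem_supports_iff _ (imgMask_lt f hlt m)] at h2
  rw [h2]
  exact Nat.beq_refl _

/-- iterate of a table -/
def iter (t : ℕ → ℕ) : ℕ → ℕ → ℕ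
  | 0, x => x
  | e + 1, x => t (iter t e x)

theorem iter_add (t : ℕ → ℕ) (a b x : ℕ) : iter t (a + b) x = iter t a (iter t b x) := by
  induction a with
  | zero => simp [iter]
  | succ a ih => rw [Nat.succ_add]; simp [iter, ih]

theorem iter_lt (t : ℕ → ℕ) (hlt : ∀ k < 24, t k < 24) (e x : ℕ) (hx : x < 24) :
    iter t e x < 24 := by
  induction e with
  | zero => exact hx
  | succ e ih => exact hlt _ ih

theorem iter_mod (t : ℕ → ℕ) (n : ℕ) (hper : ∀ x < 24, iter t n x = x)
    (hlt : ∀ k < 24, t k < 24) (e x : ℕ) (hx : x < 24) :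
    iter t e x = iter t (e % n) x := by
  have key : ∀ q, iter t (n * q) x = x := by
    intro q
    induction q with
    | zero => rfl
    | succ q ih => rw [Nat.mul_succ, Nat.add_comm, iter_add, ih, hper x hx]
  conv_lhs => rw [← Nat.mod_add_div e n]
  rw [iter_add, key]

theorem pow_apply_pt (τ : Equiv.Perm GolayPt) (t : ℕ → ℕ)
    (ht : ∀ k < 24, τ (pt k) = pt (t k)) (hlt : ∀ k < 24, t k < 24) (e k : ℕ) (hk : k < 24) :
    (τ ^ e) (pt k) = pt (iter t e k) := by
  induction e with
  | zero => rfl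
  | succ e ih =>
    rw [pow_succ', Equiv.Perm.mul_apply, ih]
    exact ht _ (iter_lt t hlt e k hk)

section rel

variable (g τ : Equiv.Perm GolayPt) (t : ℕ → ℕ) (ht : ∀ k < 24, τ (pt k) = pt (t k))
  (hlt : ∀ k < 24, t k < 24) (j : ℕ) (hrel : g * τ = τ ^ j * g)

/-- the index function of a permutation -/
def phi (g : Equiv.Perm GolayPt) (k : ℕ) : ℕ := idx (g (pt k))

theorem phi_lt (k : ℕ) : phi g k < 24 := idx_lt _

theorem phi_spec (k : ℕ) : g (pt k) = pt (phi g k) := (pt_idx _).symm

include ht hlt hrel in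
theorem phi_rel (k : ℕ) (hk : k < 24) : phi g (t k) = iter t j (phi g k) := by
  have h1 : g (τ (pt k)) = (τ ^ j) (g (pt k)) := by
    have := congrArg (fun σ : Equiv.Perm GolayPt => σ (pt k)) hrel
    simpa using this
  rw [ht k hk, phi_spec g k, pow_apply_pt τ t ht hlt j _ (phi_lt g k), phi_spec g (t k)] at h1
  have := congrArg idx h1
  rwa [idx_pt _ (phi_lt g _), idx_pt _ (iter_lt t hlt j _ (phi_lt g k))] at this

include ht hlt hrel in
theorem phi_orbit (i k0 : ℕ) (hk0 : k0 < 24) :
    phi g (iter t i k0) = iter t (j * i) (phi g k0) := by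
  induction i with
  | zero => rfl
  | succ i ih =>
    show phi g (t (iter t i k0)) = _
    rw [phi_rel g τ t ht hlt j hrel _ (iter_lt t hlt i k0 hk0), ih, Nat.mul_succ, Nat.add_comm,
      iter_add]

end rel

/-- from membership of the conjugate in the cyclic group to a power relation -/
theorem exists_rel (g τ : Equiv.Perm GolayPt) (n : ℕ) (hn : 0 < n) (hτ : τ ^ n = 1)
    (h : g * τ * g⁻¹ ∈ Subgroup.zpowers τ) : ∃ j < n, g * τ = τ ^ j * g := by
  obtain ⟨i, hi⟩ := Subgroup.mem_zpowers_iff.mp h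
  refine ⟨(i % (n : ℤ)).toNat, ?_, ?_⟩
  · have h1 : 0 ≤ i % (n : ℤ) := Int.emod_nonneg _ (by exact_mod_cast hn.ne')
    have h2 : i % (n : ℤ) < n := Int.emod_lt_of_pos _ (by exact_mod_cast hn)
    omega
  · have h1 : 0 ≤ i % (n : ℤ) := Int.emod_nonneg _ (by exact_mod_cast hn.ne')
    have h3 : τ ^ i = τ ^ (i % (n : ℤ)) := by
      conv_lhs => rw [← Int.emod_add_mul_ediv i n]
      rw [zpow_add, zpow_mul, zpow_natCast, hτ, one_zpow, mul_one]
    have h4 : τ ^ (i % (n : ℤ)) = τ ^ (i % (n : ℤ)).toNat := by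
      conv_lhs => rw [← Int.toNat_of_nonneg h1]
      rw [zpow_natCast]
    rw [← h4, ← h3, hi]
    group

end Cfsg.Agent.Lib.Helper58.M24Norm
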