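import Mathlib
import Cfsg.Agent.Lib.Helper58.M24Norm

/-!
# The normaliser of the 23-cycle in the point stabiliser of `M24` is `23:11`
-/

set_option autoImplicit false

namespace Cfsg.Agent.Lib.Helper58.M24Norm

open Cfsg Cfsg.Agent.Lib.Helper26 Cfsg.Agent.Lib.Helper89.TableChain2
open Cfsg.Agent.Lib.Helper58.M24Chain
open scoped Pointwise

def tA (k : ℕ) : ℕ := M24Chain.tab 1 k
def tB (k : ℕ) : ℕ := M24Chain.tab 0 k

theorem tA_spec : ∀ k < 24, gA (pt k) = pt (tA k) := fun k hk => gen_smul_aux 1 (by decide) k hk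
theorem tA_lt : ∀ k < 24, tA k < 24 := fun k hk => tab_lt_aux 1 (by decide) k hk
theorem tB_spec : ∀ k < 24, gB (pt k) = pt (tB k) := fun k hk => gen_smul_aux 0 (by decide) k hk
theorem tB_lt : ∀ k < 24, tB k < 24 := fun k hk => tab_lt_aux 0 (by decide) k hk

theorem perm_ext_pt {g h : Equiv.Perm GolayPt} (H : ∀ k < 24, g (pt k) = h (pt k)) : g = h := by
  refine Equiv.ext fun p => ?_
  have := H (idx p) (idx_lt p)
  rwa [pt_idx] at this

theorem tA_per : ∀ x < 24, iter tA 23 x = x := by decide +kernel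
theorem tB_per : ∀ x < 24, iter tB 11 x = x := by decide +kernel

theorem gA_pow : gA ^ 23 = 1 := by
  apply perm_ext_pt
  intro k hk
  rw [pow_apply_pt gA tA tA_spec tA_lt 23 k hk, tA_per k hk]
  rfl

theorem gB_pow : gB ^ 11 = 1 := by
  apply perm_ext_pt
  intro k hk
  rw [pow_apply_pt gB tB tB_spec tB_lt 11 k hk, tB_per k hk]
  rfl

def dlg2 : List ℕ := [0, 0, 1, 8, 2, 0, 9, 0, 3, 5, 0, 0, 10, 7, 0, 0, 4, 0, 6, 0, 0, 0, 0]

def ftabA (j x k : ℕ) : ℕ := if k = 23 then 23 else iter tA ((j * k) % 23) x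

def wA (j x : ℕ) : List ℕ := List.replicate x 1 ++ List.replicate (dlg2.getD j 0) 0

def checkA : Bool :=
  (List.range 23).all fun j => (List.range 24).all fun x =>
    !(presB (ftabA j x)) ||
      (List.range 24).all fun k => Nat.beq (ftabA j x k) (act M24Chain.tab (wA j x) k)

theorem checkA_ok : checkA = true := by decide +kernel

theorem iter_tA_zero : ∀ k < 23, iter tA k 0 = k := by decide +kernel

theorem wA_lt (j x : ℕ) : ∀ c ∈ wA j x, c < 2 := by
  intro c hc
  unfold wA at hc
  rw [List.mem_append] at hc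
  rcases hc with h | h
  · rw [List.eq_of_mem_replicate h]; decide
  · rw [List.eq_of_mem_replicate h]; decide

/-- **The normaliser of the 23-cycle**: an element of `M24` fixing the extra point and normalising
`⟨t ↦ t + 1⟩` lies in the group `23:11`. -/
theorem normA {g : Equiv.Perm GolayPt} (hg : g ∈ M24) (hfix : g none = none)
    (h : g * gA * g⁻¹ ∈ Subgroup.zpowers gA) : g ∈ M24Chain.D.H 2 := by
  obtain ⟨j, hj, hrel⟩ := exists_rel g gA 23 (by norm_num) gA_pow h
  have h23 : phi g 23 = 23 := by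
    show idx (g (pt 23)) = 23
    have : pt 23 = none := rfl
    rw [this, hfix]
    rfl
  have hx : phi g 0 < 24 := phi_lt g 0
  have htable : ∀ k < 24, phi g k = ftabA j (phi g 0) k := by
    intro k hk
    unfold ftabA
    by_cases hk23 : k = 23
    · rw [if_pos hk23, hk23, h23]
    · rw [if_neg hk23]
      have hk' : k < 23 := by omega
      have h1 := phi_orbit g gA tA tA_spec tA_lt j hrel k 0 (by norm_num)
      rw [iter_tA_zero k hk'] at h1
      rw [h1]
      exact iter_mod tA 23 tA_per tA_lt _ _ hx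
  have hf : ∀ k < 24, g (pt k) = pt (ftabA j (phi g 0) k) := by
    intro k hk
    rw [← htable k hk]
    exact phi_spec g k
  have hlt : ∀ k < 24, ftabA j (phi g 0) k < 24 := by
    intro k hk
    rw [← htable k hk]
    exact phi_lt g k
  have hpres := presB_of_mem hg _ hf hlt
  have hc := checkA_ok
  unfold checkA at hc
  rw [List.all_eq_true] at hc
  have hc1 := hc j (List.mem_range.mpr hj)
  rw [List.all_eq_true] at hc1
  have hc2 := hc1 (phi g 0) (List.mem_range.mpr hx)
  rw [hpres] at hc2
  simp only [Bool.not_true, Bool.false_or, List.all_eq_true, List.mem_range] at hc2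
  have hw3 : ∀ c ∈ wA j (phi g 0), c < M24Chain.D.m := fun c hc => by
    have := wA_lt j (phi g 0) c hc
    show c < 3
    omega
  have heq : g = M24Chain.D.ev (wA j (phi g 0)) := by
    apply perm_ext_pt
    intro k hk
    have h1 := M24Chain.D.ev_smul (wA j (phi g 0)) hw3 k hk
    rw [hf k hk]
    have h2 := Nat.eq_of_beq_eq_true (hc2 k hk)
    rw [h2]
    exact h1.symm
  rw [heq]
  exact M24Chain.D.ev_mem 2 _ (wA_lt j (phi g 0))

end Cfsg.Agent.Lib.Helper58.M24Norm
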