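import Mathlib
import Cfsg.Agent.Lib.Helper58.M24NormA

/-!
# The normaliser of the element of order 11 in the point stabiliser of `M24` has order 55
-/

set_option autoImplicit false

namespace Cfsg.Agent.Lib.Helper58.M24Norm

open Cfsg Cfsg.Agent.Lib.Helper26 Cfsg.Agent.Lib.Helper89.TableChain2
open Cfsg.Agent.Lib.Helper58.M24Chain
open scoped Pointwise

def tblS : List ℕ := [0, 1, 8, 4, 18, 5, 9, 22, 6, 16, 17, 10, 3, 12, 15, 20, 2, 7, 13, 14, 21, 19, 11, 23]
def invS : List ℕ := [0, 1, 16, 12, 3, 5, 8, 17, 2, 6, 11, 22, 13, 18, 19, 14, 9, 10, 4, 21, 15, 20, 7, 23]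
def tabL5 : List (List ℕ) := [[0, 1, 8, 4, 18, 5, 9, 22, 6, 16, 17, 10, 3, 12, 15, 20, 2, 7, 13, 14, 21, 19, 11, 23], [0, 2, 4, 6, 8, 10, 12, 14, 16, 18, 20, 22, 1, 3, 5, 7, 9, 11, 13, 15, 17, 19, 21, 23]]
def T5_0 : List (List ℕ) := [[], [1], [0, 1], [1, 1], [0, 0, 1], [1, 0, 1], [0, 1, 1], [0, 0, 0, 1], [1, 0, 0, 1], [0, 0, 1, 1], [0, 1, 0, 0, 1]]
def E5_0 : List (List (ℕ × List ℕ)) := [[(0, [0]), (2, []), (4, []), (6, []), (7, []), (1, [0, 0]), (9, []), (5, [0, 0, 0]), (10, []), (8, [0]), (3, [0, 0, 0, 0])], [(1, []), (3, []), (5, []), (2, [0, 0, 0, 0]), (8, []), (7, [0, 0, 0]), (9, [0, 0, 0, 0]), (6, [0, 0]), (0, [0, 0]), (10, [0, 0, 0, 0]), (4, [0])]]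
def T5_1 : List (List ℕ) := [[], [0], [0, 0], [0, 0, 0], [0, 0, 0, 0]]
def E5_1 : List (List (ℕ × List ℕ)) := [[(1, []), (2, []), (3, []), (4, []), (0, [])]]
def dlB : List (ℕ × ℕ) := [(0, 0), (1, 0), (1, 1), (1, 8), (1, 2), (2, 6), (1, 9), (2, 4), (1, 3), (1, 5), (2, 7), (2, 10), (1, 10), (1, 7), (2, 5), (2, 3), (1, 4), (2, 9), (1, 6), (2, 2), (2, 8), (2, 1), (2, 0), (0, 0)]

/-- table data of an element of order 5 normalising `t ↦ 2 t` -/
def dS : PermData := ⟨tblS, invS⟩

theorem dS_ok : dS.ok = true := by decide +kernel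

/-- the element of order 5 -/
def gS : Equiv.Perm GolayPt := dS.toPerm

def tab5 (j x : ℕ) : ℕ := (tabL5.getD j []).getD x 0

def gen5 : ℕ → Equiv.Perm GolayPt
  | 0 => gS
  | 1 => gB
  | _ => 1

theorem tab5_zero : ∀ x < 24, tab5 0 x = tblS.getD x 0 := by decide +kernel
theorem tab5_one : ∀ x < 24, tab5 1 x = tB x := by decide +kernel

theorem gen5_smul_aux : ∀ j < 2, ∀ x < 24, gen5 j (pt x) = pt (tab5 j x) := by
  intro j hj x hx
  interval_cases j
  · show dS.toPerm (pt x) = _
    rw [PermData.toPerm_apply dS_ok, idx_pt x hx, tab5_zero x hx]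
    rfl
  · show gB (pt x) = _
    rw [tB_spec x hx, tab5_one x hx]

theorem tab5_lt_aux : ∀ j < 2, ∀ x < 24, tab5 j x < 24 := by
  decide +kernel

/-- the chain data of the group of order 55 -/
def D5 : Data (Equiv.Perm GolayPt) GolayPt where
  m := 2
  N := 24
  gen := gen5
  pt := pt
  tab := tab5
  chk := List.range 24
  gen_smul := fun j hj x hx => gen5_smul_aux j hj x hx
  tab_lt := tab5_lt_aux
  chk_lt := fun x hx => List.mem_range.mp hx
  faithful := by
    intro g g' h
    refine Equiv.ext fun p => ?_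
    have := h (idx p) (List.mem_range.mpr (idx_lt p))
    rw [pt_idx] at this
    exact this
  pt_inj := pt_inj_aux

theorem level5_0 : D5.LevelOK 2 1 1 T5_0 E5_0 :=
  Data.levelOK_of_check (D := D5) (by decide) (by decide) (by decide +kernel)

theorem level5_1 : D5.LevelOK 1 0 2 T5_1 E5_1 :=
  Data.levelOK_of_check (D := D5) (by decide) (by decide) (by decide +kernel)

theorem card_K55 : Nat.card (D5.H 2) = 55 := by
  rw [level5_0.card, level5_1.card, D5.card_H_zero]; rfl

theorem gB_mem_K55 : gB ∈ D5.H 2 := D5.gen_mem (k := 2) 1 (by decide)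

/-- the candidate table determined by the exponent and the images of `1` and `-1` -/
def ftabB (j x y k : ℕ) : ℕ :=
  if (dlB.getD k (0, 0)).1 = 0 then k
  else if (dlB.getD k (0, 0)).1 = 1 then iter tB ((j * (dlB.getD k (0, 0)).2) % 11) x
  else iter tB ((j * (dlB.getD k (0, 0)).2) % 11) y

/-- the 55 words `b ^ i s ^ k` -/
def words55 : List (List ℕ) :=
  (List.range 11).flatMap fun i => (List.range 5).map fun k =>
    List.replicate i 1 ++ List.replicate k 0

def checkB : Bool :=
  (List.range 11).all fun j => (List.range 24).all fun x => (List.range 24).all fun y =>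
    !(presB (ftabB j x y)) ||
      words55.any fun w => (List.range 24).all fun k => Nat.beq (ftabB j x y k) (act tab5 w k)

theorem checkB_ok : checkB = true := by decide +kernel

theorem words55_lt : ∀ w ∈ words55, ∀ c ∈ w, c < 2 := by
  intro w hw c hc
  unfold words55 at hw
  rw [List.mem_flatMap] at hw
  obtain ⟨i, -, hw⟩ := hw
  rw [List.mem_map] at hw
  obtain ⟨k, -, rfl⟩ := hw
  rw [List.mem_append] at hc
  rcases hc with h | h
  · rw [List.eq_of_mem_replicate h]; decide
  · rw [List.eq_of_mem_replicate h]; decide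

/-- orbit structure of `t ↦ 2 t` on the indices -/
theorem dlB_spec : ∀ k < 24, (dlB.getD k (0, 0)).1 = 0 ∧ (k = 0 ∨ k = 23) ∨
    (dlB.getD k (0, 0)).1 = 1 ∧ (dlB.getD k (0, 0)).2 < 11 ∧ iter tB (dlB.getD k (0, 0)).2 1 = k ∨
    (dlB.getD k (0, 0)).1 = 2 ∧ (dlB.getD k (0, 0)).2 < 11 ∧ iter tB (dlB.getD k (0, 0)).2 22 = k := by
  decide +kernel

theorem tB_fix : ∀ j < 11, 0 < j → ∀ z < 24, iter tB j z = z → z = 0 ∨ z = 23 := by
  decide +kernel

theorem gB_ne_one : gB ≠ 1 := by
  intro h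
  have := tB_spec 1 (by norm_num)
  rw [h] at this
  have h2 := congrArg idx this
  rw [Equiv.Perm.one_apply, idx_pt 1 (by norm_num), idx_pt _ (tB_lt 1 (by norm_num))] at h2
  revert h2
  decide +kernel

/-- **The normaliser of the element of order 11**: an element of `M24` fixing the extra point and
normalising `⟨t ↦ 2 t⟩` lies in a group of order 55. -/
theorem normB {g : Equiv.Perm GolayPt} (hg : g ∈ M24) (hfix : g none = none)
    (h : g * gB * g⁻¹ ∈ Subgroup.zpowers gB) : g ∈ D5.H 2 := by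
  obtain ⟨j, hj, hrel⟩ := exists_rel g gB 11 (by norm_num) gB_pow h
  have hj0 : 0 < j := by
    rcases Nat.eq_zero_or_pos j with h0 | h0
    · exfalso
      rw [h0, pow_zero, one_mul] at hrel
      exact gB_ne_one (mul_left_cancel (hrel.trans (mul_one g).symm))
    · exact h0
  have h23 : phi g 23 = 23 := by
    show idx (g (pt 23)) = 23
    have : pt 23 = none := rfl
    rw [this, hfix]
    rfl
  have h0 : phi g 0 = 0 := by
    have h1 := phi_rel g gB tB tB_spec tB_lt j hrel 0 (by norm_num)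
    have h2 : tB 0 = 0 := by decide +kernel
    rw [h2] at h1
    rcases tB_fix j hj hj0 (phi g 0) (phi_lt g 0) h1.symm with h3 | h3
    · exact h3
    · exfalso
      have h4 : g (pt 0) = g (pt 23) := by
        rw [phi_spec g 0, phi_spec g 23, h3, h23]
      have h5 := g.injective h4
      have h6 := congrArg idx h5
      rw [idx_pt 0 (by norm_num), idx_pt 23 (by norm_num)] at h6
      omega
  have hx : phi g 1 < 24 := phi_lt g 1
  have hy : phi g 22 < 24 := phi_lt g 22
  have htable : ∀ k < 24, phi g k = ftabB j (phi g 1) (phi g 22) k := by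
    intro k hk
    unfold ftabB
    rcases dlB_spec k hk with ⟨h1, h2⟩ | ⟨h1, h2, h3⟩ | ⟨h1, h2, h3⟩
    · rw [if_pos h1]
      rcases h2 with rfl | rfl
      · exact h0
      · exact h23
    · rw [if_neg (by rw [h1]; decide), if_pos h1]
      have h4 := phi_orbit g gB tB tB_spec tB_lt j hrel (dlB.getD k (0, 0)).2 1 (by norm_num)
      rw [h3] at h4
      rw [h4]
      exact iter_mod tB 11 tB_per tB_lt _ _ hx
    · rw [if_neg (by rw [h1]; decide), if_neg (by rw [h1]; decide)]
      have h4 := phi_orbit g gB tB tB_spec tB_lt j hrel (dlB.getD k (0, 0)).2 22 (by norm_num)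
      rw [h3] at h4
      rw [h4]
      exact iter_mod tB 11 tB_per tB_lt _ _ hy
  have hf : ∀ k < 24, g (pt k) = pt (ftabB j (phi g 1) (phi g 22) k) := by
    intro k hk
    rw [← htable k hk]
    exact phi_spec g k
  have hlt : ∀ k < 24, ftabB j (phi g 1) (phi g 22) k < 24 := by
    intro k hk
    rw [← htable k hk]
    exact phi_lt g k
  have hpres := presB_of_mem hg _ hf hlt
  have hc := checkB_ok
  unfold checkB at hc
  rw [List.all_eq_true] at hc
  have hc1 := hc j (List.mem_range.mpr hj)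
  rw [List.all_eq_true] at hc1
  have hc2 := hc1 (phi g 1) (List.mem_range.mpr hx)
  rw [List.all_eq_true] at hc2
  have hc3 := hc2 (phi g 22) (List.mem_range.mpr hy)
  rw [hpres] at hc3
  simp only [Bool.not_true, Bool.false_or, List.any_eq_true, List.all_eq_true,
    List.mem_range] at hc3
  obtain ⟨w, hw, hweq⟩ := hc3
  have hw2 := words55_lt w hw
  have hw3 : ∀ c ∈ w, c < D5.m := hw2
  have heq : g = D5.ev w := by
    apply perm_ext_pt
    intro k hk
    have h1 := D5.ev_smul w hw3 k hk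
    rw [hf k hk]
    have h2 := Nat.eq_of_beq_eq_true (hweq k hk)
    rw [h2]
    exact h1.symm
  rw [heq]
  exact D5.ev_mem 2 _ hw2

end Cfsg.Agent.Lib.Helper58.M24Norm
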