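import Mathlib

/-!
# Small general tools: Sylow counting inside a subgroup, maximality through `subgroupOf`
-/

set_option autoImplicit false

namespace Cfsg.Agent.Lib.Helper58.SubMax

open Subgroup

variable {G : Type*} [Group G]

/-- Sylow counting inside a subgroup `K`, for a `p`-subgroup `Q ≤ K` of full `p`-power order. -/
theorem sylow_count [Finite G] (p : ℕ) [hp : Fact p.Prime] (K Q : Subgroup G) (hQK : Q ≤ K) (k : ℕ)
    (hQ : Nat.card Q = p ^ k) (hK : ¬ p ^ (k + 1) ∣ Nat.card K) :
    ∃ n, n % p = 1 ∧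
      Nat.card K = Nat.card (normalizer (Q : Set G) ⊓ K : Subgroup G) * n := by
  have hcardQ' : Nat.card (Q.subgroupOf K) = p ^ k := by
    rw [Nat.card_congr (subgroupOfEquivOfLe hQK).toEquiv, hQ]
  have hdvd : p ^ k ∣ Nat.card K := by
    rw [← hQ]; exact Subgroup.card_dvd_of_le hQK
  have hKpos : Nat.card K ≠ 0 := Nat.card_pos.ne'
  have hfac : (Nat.card K).factorization p = k := by
    have h1 : k ≤ (Nat.card K).factorization p :=
      (hp.out.pow_dvd_iff_le_factorization hKpos).mp hdvd
    have h2 : ¬ k + 1 ≤ (Nat.card K).factorization p := fun h =>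
      hK ((hp.out.pow_dvd_iff_le_factorization hKpos).mpr h)
    omega
  let P : Sylow p K := Sylow.ofCard (Q.subgroupOf K) (by rw [hcardQ', hfac])
  have hP : (P : Subgroup K) = Q.subgroupOf K := Sylow.coe_ofCard _ _
  have h1 : Nat.card (Sylow p K) ≡ 1 [MOD p] := card_sylow_modEq_one p K
  have h2 : Nat.card (Sylow p K) = (normalizer ((P : Subgroup K) : Set K)).index :=
    Sylow.card_eq_index_normalizer P
  refine ⟨Nat.card (Sylow p K), ?_, ?_⟩
  · have := h1
    unfold Nat.ModEq at this
    rw [this, Nat.mod_eq_of_lt hp.out.one_lt]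
  · rw [h2, hP, ← subgroupOf_normalizer_eq hQK, ← inf_subgroupOf_right,
      ← Nat.card_congr (subgroupOfEquivOfLe (inf_le_right : normalizer (Q : Set G) ⊓ K ≤ K)).toEquiv]
    exact (Subgroup.card_mul_index _).symm

/-- membership in the normalizer of a cyclic subgroup -/
theorem mem_normalizer_zpowers (g a : G) (h1 : g * a * g⁻¹ ∈ zpowers a)
    (h2 : g⁻¹ * a * g ∈ zpowers a) : g ∈ normalizer ((zpowers a : Subgroup G) : Set G) := by
  rw [mem_normalizer_iff]
  intro h
  constructor
  · intro hh
    obtain ⟨i, rfl⟩ := mem_zpowers_iff.mp hh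
    have : g * a ^ i * g⁻¹ = (g * a * g⁻¹) ^ i := by
      rw [conj_zpow]
    rw [this]
    exact zpow_mem h1 i
  · intro hh
    obtain ⟨i, hi⟩ := mem_zpowers_iff.mp hh
    have : h = g⁻¹ * a ^ i * g := by
      rw [hi]; group
    rw [this]
    have : g⁻¹ * a ^ i * g = (g⁻¹ * a * g) ^ i := by
      have := conj_zpow (a := g⁻¹) (b := a) (i := i)
      rw [inv_inv] at this
      exact this.symm
    rw [this]
    exact zpow_mem h2 i

/-- maximality of `K` in `M` seen inside `M` -/
theorem isCoatom_subgroupOf (K M : Subgroup G) (hKM : K ≤ M) (hne : K ≠ M)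
    (h : ∀ H : Subgroup G, K ≤ H → H ≤ M → H = K ∨ H = M) : IsCoatom (K.subgroupOf M) := by
  refine ⟨?_, ?_⟩
  · intro htop
    rw [subgroupOf_eq_top] at htop
    exact hne (le_antisymm hKM htop)
  · intro b hb
    have hK : K ≤ b.map M.subtype := by
      intro x hx
      exact ⟨⟨x, hKM hx⟩, hb.le (mem_subgroupOf.mpr hx), rfl⟩
    have hM : b.map M.subtype ≤ M := map_subtype_le b
    have hb' : b = (b.map M.subtype).subgroupOf M := by
      rw [subgroupOf, comap_map_eq_self_of_injective M.subtype_injective]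
    rcases h _ hK hM with h1 | h1
    · exfalso
      rw [h1] at hb'
      exact hb.ne hb'.symm
    · rw [hb', h1]
      exact subgroupOf_self M

end Cfsg.Agent.Lib.Helper58.SubMax
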