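import Mathlib
import Cfsg.Agent.Lib.Helper26.M24Order
import Cfsg.Agent.Lib.Helper58.SubMax
import Cfsg.Agent.Lib.Helper58.M24NormB

/-!
# `23:11` is maximal in `M23` and `PSL(2,23)` is maximal in `M24`
-/

set_option autoImplicit false

namespace Cfsg.Agent.Lib.Helper58.M24Max

open Cfsg Cfsg.Agent.Lib.Helper26 Cfsg.Agent.Lib.Helper89.TableChain2
open Cfsg.Agent.Lib.Helper58.M24Chain Cfsg.Agent.Lib.Helper58.M24Norm
open Cfsg.Agent.Lib.Helper58.SubMax
open Subgroup
open scoped Pointwise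

/-- the point stabiliser -/
def M23' : Subgroup (Equiv.Perm GolayPt) :=
  M24 ⊓ MulAction.stabilizer (Equiv.Perm GolayPt) (none : GolayPt)

theorem mem_M23' {g : Equiv.Perm GolayPt} : g ∈ M23' ↔ g ∈ M24 ∧ g none = none := by
  unfold M23'
  rw [Subgroup.mem_inf, MulAction.mem_stabilizer_iff]
  rfl

theorem M23'_eq_fixK : M23' = fixK [23] := by
  ext g
  rw [mem_M23', mem_fixK]
  constructor
  · rintro ⟨h1, h2⟩
    refine ⟨h1, ?_⟩
    intro j hj
    rw [List.mem_singleton] at hj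
    subst hj
    exact h2
  · rintro ⟨h1, h2⟩
    exact ⟨h1, h2 23 (List.mem_singleton.mpr rfl)⟩

theorem card_M23' : Nat.card M23' = 10200960 := by
  rw [M23'_eq_fixK, card1, card2, card3, card4, card5, card6, card7]

/-! ### arithmetic -/

def OkN (n : ℕ) : Prop :=
  n ≠ 0 → 40320 % n = 0 → n % 23 = 1 →
    ((253 * n) % 11 = 0 ∧ (253 * n / 11) % 11 = 1 ∨
      (253 * n) % 55 = 0 ∧ (253 * n / 55) % 11 = 1) → n = 1 ∨ n = 40320

instance (n : ℕ) : Decidable (OkN n) := by unfold OkN; infer_instance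

theorem okN_all : ∀ a < 256, ∀ b < 256, OkN (256 * a + b) := by decide +kernel

theorem okN_of_le (n : ℕ) (hn : n ≤ 40320) : OkN n := by
  have := okN_all (n / 256) (by omega) (n % 256) (Nat.mod_lt _ (by norm_num))
  rwa [Nat.div_add_mod] at this

theorem arith (N n23 n11 ν : ℕ) (hN : N ∣ 10200960) (h1 : N = 253 * n23) (h2 : n23 % 23 = 1)
    (h3 : N = ν * n11) (h4 : n11 % 11 = 1) (h5 : ν ∣ 55) (h6 : 11 ∣ ν) :
    n23 = 1 ∨ n23 = 40320 := by
  have hn : n23 ∣ 40320 := by
    rw [h1] at hN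
    have : (253 * n23) ∣ 253 * 40320 := by norm_num; exact hN
    exact (Nat.mul_dvd_mul_iff_left (by norm_num)).mp this
  have hle : n23 ≤ 40320 := Nat.le_of_dvd (by norm_num) hn
  have hpos : n23 ≠ 0 := by
    rintro rfl
    simp at h2
  have hν : ν = 11 ∨ ν = 55 := by
    obtain ⟨c, rfl⟩ := h6
    have hc : c ∣ 5 := by
      have : 11 * c ∣ 11 * 5 := by norm_num; exact h5
      exact (Nat.mul_dvd_mul_iff_left (by norm_num)).mp this
    rcases (Nat.dvd_prime (by norm_num : Nat.Prime 5)).mp hc with rfl | rfl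
    · left; rfl
    · right; rfl
  have hok := okN_of_le n23 hle
  have hmod : 40320 % n23 = 0 := Nat.mod_eq_zero_of_dvd hn
  rcases hν with rfl | rfl
  · have e1 : 253 * n23 % 11 = 0 := by omega
    have e2 : 253 * n23 / 11 % 11 = 1 := by
      have : 253 * n23 / 11 = n11 := by omega
      rw [this, h4]
    exact hok hpos hmod h2 (Or.inl ⟨e1, e2⟩)
  · have e1 : 253 * n23 % 55 = 0 := by omega
    have e2 : 253 * n23 / 55 % 11 = 1 := by
      have : 253 * n23 / 55 = n11 := by omega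
      rw [this, h4]
    exact hok hpos hmod h2 (Or.inr ⟨e1, e2⟩)

end Cfsg.Agent.Lib.Helper58.M24Max
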