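import Mathlib
import Cfsg.Agent.Lib.Helper58.M24Max

/-!
# `23:11` is maximal in `M23` and `PSL(2,23)` is maximal in `M24`: the group theory
-/

set_option autoImplicit false

namespace Cfsg.Agent.Lib.Helper58.M24Max

open Cfsg Cfsg.Agent.Lib.Helper26 Cfsg.Agent.Lib.Helper89.TableChain2
open Cfsg.Agent.Lib.Helper58.M24Chain Cfsg.Agent.Lib.Helper58.M24Norm
open Cfsg.Agent.Lib.Helper58.SubMax
open Subgroup
open scoped Pointwise

theorem gA_mem_H2 : gA ∈ D.H 2 := D.gen_mem (k := 2) 1 (by decide)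
theorem gB_mem_H1 : gB ∈ D.H 1 := D.gen_mem (k := 1) 0 (by decide)
theorem gB_mem_H2 : gB ∈ D.H 2 := D.H_mono (by decide : 1 ≤ 2) gB_mem_H1

theorem gA_ne_one : gA ≠ 1 := by
  intro h
  have := tA_spec 0 (by norm_num)
  rw [h] at this
  have h2 := congrArg idx this
  rw [Equiv.Perm.one_apply, idx_pt 0 (by norm_num), idx_pt _ (tA_lt 0 (by norm_num))] at h2
  revert h2
  decide +kernel

theorem orderOf_gA : orderOf gA = 23 :=
  haveI : Fact (Nat.Prime 23) := ⟨by norm_num⟩
  orderOf_eq_prime gA_pow gA_ne_one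

theorem orderOf_gB : orderOf gB = 11 :=
  haveI : Fact (Nat.Prime 11) := ⟨by norm_num⟩
  orderOf_eq_prime gB_pow gB_ne_one

theorem card_zpowers_gA : Nat.card (zpowers gA) = 23 ^ 1 := by
  rw [Nat.card_zpowers, orderOf_gA]; rfl

theorem card_zpowers_gB : Nat.card (zpowers gB) = 11 ^ 1 := by
  rw [Nat.card_zpowers, orderOf_gB]; rfl

/-- `gB` normalises `⟨gA⟩` -/
theorem gB_conj_gA : gB * gA * gB⁻¹ = gA ^ 2 := by
  rw [mul_inv_eq_iff_eq_mul]
  apply perm_ext_pt
  intro k hk
  rw [Equiv.Perm.mul_apply, Equiv.Perm.mul_apply, tA_spec k hk, tB_spec k hk,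
    tB_spec _ (tA_lt k hk), pow_apply_pt gA tA tA_spec tA_lt 2 _ (tB_lt k hk)]
  congr 1
  revert k
  decide +kernel

theorem gB_inv_conj_gA : gB⁻¹ * gA * gB = gA ^ 12 := by
  have h12 : gB * gA ^ 12 * gB⁻¹ = gA := by
    rw [← conj_pow, gB_conj_gA, ← pow_mul]
    show gA ^ (23 + 1) = gA
    rw [pow_add, gA_pow, one_mul, pow_one]
  calc gB⁻¹ * gA * gB = gB⁻¹ * (gB * gA ^ 12 * gB⁻¹) * gB := by rw [h12]
    _ = gA ^ 12 := by group

theorem H2_le_normalizer : D.H 2 ≤ normalizer ((zpowers gA : Subgroup _) : Set (Equiv.Perm GolayPt)) := by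
  unfold Data.H
  rw [closure_le]
  rintro g ⟨j, hj, rfl⟩
  interval_cases j
  · show gB ∈ normalizer _
    apply mem_normalizer_zpowers
    · rw [gB_conj_gA]; exact pow_mem (mem_zpowers gA) 2
    · rw [gB_inv_conj_gA]; exact pow_mem (mem_zpowers gA) 12
  · show gA ∈ normalizer _
    exact le_normalizer (mem_zpowers gA)

theorem H1_eq_zpowers : D.H 1 = zpowers gB := by
  rw [zpowers_eq_closure]
  unfold Data.H
  congr 1
  ext g
  constructor
  · rintro ⟨j, hj, rfl⟩
    interval_cases j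
    rfl
  · intro h
    rw [Set.mem_singleton_iff] at h
    exact ⟨0, by decide, h.symm⟩

theorem H2_le_M23' (hA : gA ∈ M24) (hB : gB ∈ M24) : D.H 2 ≤ M23' := by
  unfold Data.H
  rw [closure_le]
  rintro g ⟨j, hj, rfl⟩
  interval_cases j
  · exact mem_M23'.mpr ⟨hB, rfl⟩
  · exact mem_M23'.mpr ⟨hA, rfl⟩

/-- **`23:11` is maximal in `M23`.** -/
theorem B_max (H : Subgroup (Equiv.Perm GolayPt)) (hBH : D.H 2 ≤ H) (hHM : H ≤ M23') :
    H = D.H 2 ∨ H = M23' := by
  have hdvd : Nat.card H ∣ 10200960 := card_M23' ▸ Subgroup.card_dvd_of_le hHM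
  have hP : zpowers gA ≤ H := (zpowers_le.mpr gA_mem_H2).trans hBH
  have hC : zpowers gB ≤ H := (zpowers_le.mpr gB_mem_H2).trans hBH
  have : Fact (Nat.Prime 23) := ⟨by norm_num⟩
  have : Fact (Nat.Prime 11) := ⟨by norm_num⟩
  have h23 : ¬ 23 ^ (1 + 1) ∣ Nat.card H := fun h => by
    have := h.trans hdvd
    revert this
    decide
  have h11 : ¬ 11 ^ (1 + 1) ∣ Nat.card H := fun h => by
    have := h.trans hdvd
    revert this
    decide
  obtain ⟨n23, hn23, hH23⟩ := sylow_count 23 H (zpowers gA) hP 1 card_zpowers_gA h23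
  obtain ⟨n11, hn11, hH11⟩ := sylow_count 11 H (zpowers gB) hC 1 card_zpowers_gB h11
  have hN : normalizer ((zpowers gA : Subgroup _) : Set (Equiv.Perm GolayPt)) ⊓ H = D.H 2 := by
    apply le_antisymm
    · rintro g ⟨hg1, hg2⟩
      have hgM := mem_M23'.mp (hHM hg2)
      refine normA hgM.1 hgM.2 ?_
      exact (mem_normalizer_iff.mp hg1 gA).mp (mem_zpowers gA)
    · exact le_inf H2_le_normalizer hBH
  rw [hN, card_H2] at hH23
  have hν1 : normalizer ((zpowers gB : Subgroup _) : Set (Equiv.Perm GolayPt)) ⊓ H ≤ D5.H 2 := by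
    rintro g ⟨hg1, hg2⟩
    have hgM := mem_M23'.mp (hHM hg2)
    refine normB hgM.1 hgM.2 ?_
    exact (mem_normalizer_iff.mp hg1 gB).mp (mem_zpowers gB)
  have hν2 : zpowers gB ≤
      normalizer ((zpowers gB : Subgroup _) : Set (Equiv.Perm GolayPt)) ⊓ H :=
    le_inf le_normalizer hC
  have h5 := Subgroup.card_dvd_of_le hν1
  rw [card_K55] at h5
  have h6 := Subgroup.card_dvd_of_le hν2
  rw [card_zpowers_gB] at h6
  rcases arith _ n23 n11 _ hdvd hH23 hn23 hH11 hn11 h5 (by simpa using h6) with h | h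
  · left
    symm
    apply Subgroup.eq_of_le_of_card_ge hBH
    rw [hH23, h, card_H2]
  · right
    apply Subgroup.eq_of_le_of_card_ge hHM
    rw [hH23, h, card_M23']

theorem T0_cover : ∀ x < 24, ∃ a < 24, act M24Chain.tab (T0.getD a []) 23 = x := by
  decide +kernel

theorem exists_H3_map (p : GolayPt) : ∃ u ∈ D.H 3, u none = p := by
  obtain ⟨a, ha, hx⟩ := T0_cover (idx p) (idx_lt p)
  have hlen : T0.length = 24 := by decide
  refine ⟨D.ev (T0.getD a []), level0.hUS ⟨a, by rw [hlen]; exact ha⟩, ?_⟩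
  have h1 := D.ev_smul (T0.getD a []) (level0.word_lt a (by rw [hlen]; exact ha)) 23
    (by decide)
  have h2 : D.pt 23 = (none : GolayPt) := rfl
  have h3 : D.tab = M24Chain.tab := rfl
  rw [h2, h3, hx] at h1
  have h4 : D.pt (idx p) = p := pt_idx p
  rw [h4] at h1
  exact h1

theorem H3_le_M24 (hA : gA ∈ M24) (hB : gB ∈ M24) (hC : gC ∈ M24) : D.H 3 ≤ M24 := by
  unfold Data.H
  rw [closure_le]
  rintro g ⟨j, hj, rfl⟩
  interval_cases j
  · exact hB
  · exact hA
  · exact hC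

theorem H2_le_stab : D.H 2 ≤ MulAction.stabilizer (Equiv.Perm GolayPt) (none : GolayPt) :=
  level0.le_stab

/-- **`PSL(2,23)` is maximal in `M24`.** -/
theorem L_max
    (H : Subgroup (Equiv.Perm GolayPt)) (hLH : D.H 3 ≤ H) (hHM : H ≤ M24) :
    H = D.H 3 ∨ H = M24 := by
  have h23 : D.H 2 ≤ D.H 3 := D.H_mono (by decide)
  have h1 : D.H 2 ≤ H ⊓ MulAction.stabilizer (Equiv.Perm GolayPt) (none : GolayPt) :=
    le_inf (h23.trans hLH) H2_le_stab
  have h2 : H ⊓ MulAction.stabilizer (Equiv.Perm GolayPt) (none : GolayPt) ≤ M23' :=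
    inf_le_inf_right _ hHM
  rcases B_max _ h1 h2 with h | h
  · left
    apply le_antisymm _ hLH
    intro x hx
    obtain ⟨u, hu, hup⟩ := exists_H3_map (x none)
    have h3 : u⁻¹ * x ∈ H ⊓ MulAction.stabilizer (Equiv.Perm GolayPt) (none : GolayPt) := by
      refine Subgroup.mem_inf.mpr ⟨H.mul_mem (H.inv_mem (hLH hu)) hx,
        MulAction.mem_stabilizer_iff.mpr ?_⟩
      show (u⁻¹ * x) none = none
      rw [Equiv.Perm.mul_apply, ← hup]
      exact u.symm_apply_apply none
    rw [h] at h3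
    have := (D.H 3).mul_mem hu (h23 h3)
    rwa [mul_inv_cancel_left] at this
  · right
    apply le_antisymm hHM
    intro x hx
    obtain ⟨u, hu, hup⟩ := exists_H3_map (x none)
    have h3 : u⁻¹ * x ∈ M23' := by
      rw [mem_M23']
      refine ⟨M24.mul_mem (M24.inv_mem (hHM (hLH hu))) hx, ?_⟩
      rw [Equiv.Perm.mul_apply, ← hup]
      exact u.symm_apply_apply none
    rw [← h] at h3
    have := H.mul_mem (hLH hu) h3.1
    rwa [mul_inv_cancel_left] at this

/-! ### the generating sets of the statement -/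

/-- the multiplications by squares -/
def setSq : Set (Equiv.Perm GolayPt) :=
  {g | ∃ u : (ZMod 23)ˣ, IsSquare u ∧ g = Equiv.optionCongr (Units.mulLeft u)}

theorem gB_some (t : ZMod 23) : gB (some t) = some (2 * t) := rfl

theorem gB_pow_some (e : ℕ) (t : ZMod 23) : (gB ^ e) (some t) = some (2 ^ e * t) := by
  induction e with
  | zero => simp
  | succ e ih =>
    rw [pow_succ', Equiv.Perm.mul_apply, ih, gB_some, pow_succ]
    congr 1
    ring

theorem gB_pow_none (e : ℕ) : (gB ^ e) none = none := by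
  induction e with
  | zero => rfl
  | succ e ih =>
    rw [pow_succ', Equiv.Perm.mul_apply, ih]
    rfl

theorem sq_key : ∀ z : ZMod 23, z ≠ 0 → ∃ e < 11, z * z = 2 ^ e := by decide

theorem sq_mem_H1 (u : (ZMod 23)ˣ) (hu : IsSquare u) :
    Equiv.optionCongr (Units.mulLeft u) ∈ D.H 1 := by
  obtain ⟨r, rfl⟩ := hu
  haveI : Fact (1 < 23) := ⟨by norm_num⟩
  obtain ⟨e, -, he⟩ := sq_key (r : ZMod 23) r.ne_zero
  have : Equiv.optionCongr (Units.mulLeft (r * r)) = gB ^ e := by
    refine Equiv.ext fun p => ?_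
    cases p with
    | none => rw [gB_pow_none]; rfl
    | some t =>
      rw [gB_pow_some, ← he]
      rfl
  rw [this]
  exact pow_mem gB_mem_H1 e

/-- the unit `5`, a square root of `2` -/
def u5 : (ZMod 23)ˣ := ⟨5, 14, by decide, by decide⟩

theorem gB_mem_setSq : gB ∈ setSq :=
  ⟨u2, ⟨u5, by apply Units.ext; decide⟩, rfl⟩

theorem closure_L :
    closure ({Equiv.optionCongr (Equiv.addRight (1 : ZMod 23)), Cfsg.projInv} ∪ setSq) = D.H 3 := by
  apply le_antisymm
  · rw [closure_le]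
    rintro g (hg | hg)
    · rcases hg with rfl | hg
      · exact D.gen_mem (k := 3) 1 (by decide)
      · rw [Set.mem_singleton_iff] at hg
        subst hg
        exact D.gen_mem (k := 3) 2 (by decide)
    · obtain ⟨u, hu, rfl⟩ := hg
      exact D.H_mono (by decide : 1 ≤ 3) (sq_mem_H1 u hu)
  · unfold Data.H
    rw [closure_le]
    rintro g ⟨j, hj, rfl⟩
    apply Subgroup.subset_closure
    interval_cases j
    · exact Or.inr gB_mem_setSq
    · exact Or.inl (Or.inl rfl)
    · exact Or.inl (Or.inr rfl)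

theorem closure_B :
    closure ({Equiv.optionCongr (Equiv.addRight (1 : ZMod 23))} ∪ setSq) = D.H 2 := by
  apply le_antisymm
  · rw [closure_le]
    rintro g (hg | hg)
    · rw [Set.mem_singleton_iff] at hg
      subst hg
      exact D.gen_mem (k := 2) 1 (by decide)
    · obtain ⟨u, hu, rfl⟩ := hg
      exact D.H_mono (by decide : 1 ≤ 2) (sq_mem_H1 u hu)
  · unfold Data.H
    rw [closure_le]
    rintro g ⟨j, hj, rfl⟩
    apply Subgroup.subset_closure
    interval_cases j
    · exact Or.inr gB_mem_setSq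
    · exact Or.inl rfl

end Cfsg.Agent.Lib.Helper58.M24Max
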