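import Mathlib

set_option autoImplicit false
set_option linter.style.haveILetI false

namespace Cfsg.Agent.Lib.Helper58

open Polynomial

section PowerSums

variable {F : Type*} [Field F] (H : Subgroup Fˣ) [Fintype H]

/-- Power sums over a finite subgroup of the units of a field. -/
noncomputable def psum (n : ℕ) : F := ∑ a : H, ((a : Fˣ) : F) ^ n

theorem psum_zero : psum H 0 = (Fintype.card H : F) := by
  simp [psum]

theorem psum_card : psum H (Fintype.card H) = (Fintype.card H : F) := by
  unfold psum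
  have : ∀ a : H, ((a : Fˣ) : F) ^ Fintype.card H = 1 := by
    intro a
    have h1 : a ^ Fintype.card H = 1 := pow_card_eq_one
    rw [← Units.val_pow_eq_pow_val, ← Subgroup.coe_pow, h1]
    rfl
  simp [this]

theorem psum_eq_zero {n : ℕ} (hn0 : 0 < n) (hn : n < Fintype.card H) : psum H n = 0 := by
  classical
  unfold psum
  let f : H →* F :=
    { toFun := fun a => ((a : Fˣ) : F) ^ n
      map_one' := by simp
      map_mul' := by intro a b; simp [mul_pow] }
  have hf : f ≠ 1 := by
    intro h1
    obtain ⟨g, hg⟩ := IsCyclic.exists_generator (α := H)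
    have h2 : f g = 1 := by rw [h1]; rfl
    have h3 : ((g : Fˣ) : F) ^ n = 1 := h2
    have h4 : g ^ n = 1 := by
      apply Subtype.ext
      apply Units.ext
      simpa using h3
    have h5 : orderOf g = Fintype.card H := by
      rw [orderOf_eq_card_of_forall_mem_zpowers hg, Nat.card_eq_fintype_card]
    have h6 : orderOf g ∣ n := orderOf_dvd_of_pow_eq_one h4
    rw [h5] at h6
    exact absurd (Nat.le_of_dvd hn0 h6) (not_le.mpr hn)
  exact sum_hom_units_eq_zero f hf

/-- Taylor expansion summed over the subgroup. -/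
theorem sum_eval_add (P : F[X]) (x : F) :
    ∑ a : H, P.eval (x + ((a : Fˣ) : F)) =
      ∑ n ∈ Finset.range (P.natDegree + 1), (hasseDeriv n P).eval x * psum H n := by
  have h1 : ∀ a : H, P.eval (x + ((a : Fˣ) : F)) =
      ∑ n ∈ Finset.range (P.natDegree + 1), (hasseDeriv n P).eval x * ((a : Fˣ) : F) ^ n := by
    intro a
    rw [add_comm, ← taylor_eval, eval_eq_sum_range, natDegree_taylor]
    simp only [taylor_coeff]
  simp_rw [h1]
  rw [Finset.sum_comm]
  simp only [psum, Finset.mul_sum]

/-- Polynomials of degree `< |H|` are "harmonic" for `H`. -/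
theorem sum_eval_add_of_natDegree_lt (P : F[X]) (hP : P.natDegree < Fintype.card H) (x : F) :
    ∑ a : H, P.eval (x + ((a : Fˣ) : F)) = (Fintype.card H : F) * P.eval x := by
  rw [sum_eval_add, Finset.sum_eq_single 0]
  · rw [hasseDeriv_zero', psum_zero, mul_comm]
  · intro n hn hn0
    rw [Finset.mem_range] at hn
    rw [psum_eq_zero H (Nat.pos_of_ne_zero hn0) (by omega), mul_zero]
  · intro h
    simp at h

end PowerSums

section Prime

variable {p : ℕ} [Fact p.Prime] (H : Subgroup (ZMod p)ˣ) [Fintype H]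

/-- A polynomial of degree `j` with `|H| ≤ j < p` is not "harmonic" for `H`. -/
theorem exists_sum_eval_add_ne (P : (ZMod p)[X]) (hk : Fintype.card H ≤ P.natDegree)
    (hj : P.natDegree < p) :
    ∃ x : ZMod p, ∑ a : H, P.eval (x + ((a : (ZMod p)ˣ) : ZMod p)) ≠
      (Fintype.card H : ZMod p) * P.eval x := by
  have hp : p.Prime := Fact.out
  by_contra hall
  push Not at hall
  set k := Fintype.card H with hkdef
  set j := P.natDegree with hjdef
  have hkpos : 0 < k := Fintype.card_pos
  -- the polynomial R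
  set R : (ZMod p)[X] := ∑ n ∈ Finset.range (j + 1), C (psum H n) * hasseDeriv n P - C (k : ZMod p) * P
    with hR
  have hReval : ∀ x, R.eval x = 0 := by
    intro x
    rw [hR, eval_sub, eval_finsetSum, eval_mul, eval_C, ← hall x, sum_eval_add, sub_eq_zero]
    apply Finset.sum_congr rfl
    intro n _
    rw [eval_mul, eval_C, mul_comm]
  have hRdeg : R.natDegree ≤ j := by
    rw [hR]
    refine le_trans (natDegree_sub_le_of_le (m := j) (n := j) ?_ ?_) (by simp)
    · apply natDegree_sum_le_of_forall_le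
      intro n _
      refine le_trans (natDegree_C_mul_le _ _) ?_
      exact le_trans (natDegree_hasseDeriv_le P n) (Nat.sub_le _ _)
    · exact natDegree_C_mul_le _ _
  have hR0 : R = 0 := by
    apply eq_zero_of_natDegree_lt_card_of_eval_eq_zero' R Finset.univ (fun x _ => hReval x)
    rw [Finset.card_univ, ZMod.card]
    omega
  -- but the coefficient of X^(j-k) is nonzero
  have hcoeff : R.coeff (j - k) = (k : ZMod p) * ((j.choose k : ℕ) : ZMod p) * P.coeff j := by
    rw [hR, coeff_sub, finsetSum_coeff, coeff_C_mul]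
    simp only [coeff_C_mul, hasseDeriv_coeff]
    rw [Finset.sum_eq_add 0 k (by omega)]
    · rw [psum_zero, psum_card, Nat.sub_add_cancel hk]
      simp
      ring
    · intro n hn hn2
      rw [Finset.mem_range] at hn
      by_cases hnk : n < k
      · rw [psum_eq_zero H (Nat.pos_of_ne_zero hn2.1) hnk, zero_mul]
      · have : P.coeff (j - k + n) = 0 := by
          apply coeff_eq_zero_of_natDegree_lt
          omega
        rw [this, mul_zero, mul_zero]
    · intro h; simp at h
    · intro h; exfalso; apply h; rw [Finset.mem_range]; omega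
  rw [hR0, coeff_zero] at hcoeff
  have h1 : (k : ZMod p) ≠ 0 := by
    rw [Ne, ZMod.natCast_eq_zero_iff]
    intro hd
    have := Nat.le_of_dvd hkpos hd
    omega
  have h2 : ((j.choose k : ℕ) : ZMod p) ≠ 0 := by
    rw [Ne, ZMod.natCast_eq_zero_iff]
    intro hd
    have h3 : p ∣ j.factorial := by
      rw [← Nat.choose_mul_factorial_mul_factorial hk]
      exact Dvd.dvd.mul_right (Dvd.dvd.mul_right hd _) _
    rw [hp.dvd_factorial] at h3
    omega
  have h3 : P.coeff j ≠ 0 := by
    have hP0 : P ≠ 0 := by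
      intro h0
      rw [hjdef, h0, natDegree_zero] at hk
      omega
    rw [hjdef]
    exact leadingCoeff_ne_zero.mpr hP0
  exact mul_ne_zero (mul_ne_zero h1 h2) h3 hcoeff.symm


/-- **McConnel's theorem over a prime field** (Carlitz for `|H| = (p-1)/2`): a map of `𝔽_p` all of
whose difference quotients lie in a proper subgroup `H` of `𝔽_pˣ` is affine. -/
theorem mcconnel (H : Subgroup (ZMod p)ˣ) (hH : H ≠ ⊤) (σ : ZMod p → ZMod p)
    (hσ : Function.Injective σ)
    (hpair : ∀ x y : ZMod p, x ≠ y →
      ∃ a ∈ H, σ x - σ y = ((a : (ZMod p)ˣ) : ZMod p) * (x - y)) :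
    ∃ c ∈ H, ∃ b : ZMod p, ∀ x, σ x = ((c : (ZMod p)ˣ) : ZMod p) * x + b := by
  classical
  have hp : p.Prime := Fact.out
  haveI : Fintype H := Fintype.ofFinite H
  set k := Fintype.card H with hkdef
  have hkpos : 0 < k := Fintype.card_pos
  -- 2k ≤ p - 1
  have hk2 : 2 * k ≤ p - 1 := by
    have h1 : Nat.card H ∣ Nat.card (ZMod p)ˣ := Subgroup.card_subgroup_dvd_card H
    have h2 : Nat.card (ZMod p)ˣ = p - 1 := by
      rw [Nat.card_eq_fintype_card, ZMod.card_units]
    have h3 : Nat.card H ≠ Nat.card (ZMod p)ˣ := fun h => hH ((Subgroup.card_eq_iff_eq_top H).mp h)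
    rw [h2, Nat.card_eq_fintype_card] at h1 h3
    obtain ⟨m, hm⟩ := h1
    have hm2 : 2 ≤ m := by
      rcases m with _ | _ | m
      · have : 0 < p - 1 := by have := hp.two_le; omega
        omega
      · exact absurd hm.symm (by simpa using h3)
      · omega
    calc 2 * k ≤ m * k := Nat.mul_le_mul_right _ hm2
      _ = p - 1 := by rw [hm, mul_comm]
  -- reduce to affinity
  suffices haff : ∃ c b : ZMod p, ∀ x, σ x = c * x + b by
    obtain ⟨c, b, hcb⟩ := haff
    obtain ⟨c₁, hc₁, h1⟩ := hpair 1 0 one_ne_zero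
    refine ⟨c₁, hc₁, b, ?_⟩
    have : c = ((c₁ : (ZMod p)ˣ) : ZMod p) := by
      rw [hcb 1, hcb 0] at h1
      rw [← mul_one ((c₁ : (ZMod p)ˣ) : ZMod p), ← sub_zero (1 : ZMod p), ← h1]
      ring
    rw [← this]
    exact hcb
  -- the case k = 1
  by_cases hk1 : k = 1
  · refine ⟨1, σ 0, fun x => ?_⟩
    by_cases hx : x = 0
    · rw [hx]; ring
    · obtain ⟨a, ha, h1⟩ := hpair x 0 hx
      have hsub : Subsingleton H := Fintype.card_le_one_iff_subsingleton.mp (by omega)
      have : (⟨a, ha⟩ : H) = 1 := Subsingleton.elim _ _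
      have ha1 : a = 1 := congrArg Subtype.val this
      rw [ha1] at h1
      rw [← sub_add_cancel (σ x) (σ 0), h1]
      simp
  have hk2' : 2 ≤ k := by omega
  -- the interpolating polynomial
  set f : (ZMod p)[X] := Lagrange.interpolate Finset.univ id σ with hf
  have hfeval : ∀ x, f.eval x = σ x := fun x =>
    Lagrange.eval_interpolate_at_node σ (Function.injective_id.injOn) (Finset.mem_univ x)
  have hfdeg : f.natDegree < p := by
    have h1 : f.degree < (Finset.univ : Finset (ZMod p)).card :=
      Lagrange.degree_interpolate_lt σ (Function.injective_id.injOn)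
    rw [Finset.card_univ, ZMod.card] at h1
    by_cases hf0 : f = 0
    · rw [hf0, natDegree_zero]; exact hp.pos
    · exact (natDegree_lt_iff_degree_lt hf0).mpr h1
  set d := f.natDegree with hd
  -- harmonicity of powers of f
  have hharm : ∀ j, j < k → ∀ x, ∑ a : H, (f ^ j).eval (x + ((a : (ZMod p)ˣ) : ZMod p)) =
      (k : ZMod p) * (f ^ j).eval x := by
    intro j hj x
    have hex : ∀ a : H, ∃ b : H, ((b : (ZMod p)ˣ) : ZMod p) =
        σ (x + ((a : (ZMod p)ˣ) : ZMod p)) - σ x := by
      intro a
      obtain ⟨a', ha', h⟩ := hpair (x + ((a : (ZMod p)ˣ) : ZMod p)) x (by simp)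
      refine ⟨⟨a', ha'⟩ * a, ?_⟩
      rw [h]
      simp
    choose τ hτ using hex
    have hτinj : Function.Injective τ := by
      intro a b hab
      have h1 : σ (x + ((a : (ZMod p)ˣ) : ZMod p)) - σ x = σ (x + ((b : (ZMod p)ˣ) : ZMod p)) - σ x := by
        rw [← hτ a, ← hτ b, hab]
      have h2 := hσ (sub_left_injective h1)
      exact Subtype.ext (Units.ext (add_left_cancel h2))
    have hτbij : Function.Bijective τ := Finite.injective_iff_bijective.mp hτinj
    have h1 : ∀ a : H, (f ^ j).eval (x + ((a : (ZMod p)ˣ) : ZMod p)) =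
        (X ^ j : (ZMod p)[X]).eval (σ x + ((τ a : (ZMod p)ˣ) : ZMod p)) := by
      intro a
      rw [eval_pow, hfeval, eval_pow, eval_X, hτ a]
      ring
    simp_rw [h1]
    rw [hτbij.sum_comp (fun b : H => (X ^ j : (ZMod p)[X]).eval (σ x + ((b : (ZMod p)ˣ) : ZMod p)))]
    rw [sum_eval_add_of_natDegree_lt H (X ^ j) (by rw [natDegree_X_pow]; exact hj)]
    rw [eval_pow, eval_X, eval_pow, hfeval]
  have hno : ∀ j, j < k → ¬ (k ≤ j * d ∧ j * d < p) := by
    intro j hj ⟨h1, h2⟩
    have hdeg : (f ^ j).natDegree = j * d := natDegree_pow f j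
    obtain ⟨x, hx⟩ := exists_sum_eval_add_ne H (f ^ j) (by rw [hdeg]; exact h1)
      (by rw [hdeg]; exact h2)
    exact hx (hharm j hj x)
  -- d < k
  have hdk : d < k := by
    by_contra hc
    exact hno 1 (by omega) ⟨by omega, by omega⟩
  -- d ≤ 1
  have hd1 : d ≤ 1 := by
    by_contra hc
    have hd2 : 2 ≤ d := by omega
    set q := (k - 1) / d with hq
    have h1 : q * d ≤ k - 1 := Nat.div_mul_le_self _ _
    have h2 : k - 1 < d * (q + 1) := Nat.lt_mul_div_succ _ (by omega)
    have h3 : q ≤ (k - 1) / 2 := Nat.div_le_div_left hd2 (by omega)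
    have h4 : (q + 1) * d = q * d + d := by ring
    have h5 : d * (q + 1) = q * d + d := by ring
    apply hno (q + 1)
    · omega
    · rw [h4]
      rw [h5] at h2
      constructor <;> omega
  -- conclude
  have hfeq := eq_X_add_C_of_natDegree_le_one hd1
  refine ⟨f.coeff 1, f.coeff 0, fun x => ?_⟩
  rw [← hfeval x, hfeq]
  simp

end Prime

end Cfsg.Agent.Lib.Helper58
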