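import Mathlib
import Cfsg.Prelude.Def_Spor_Mathieu
import Cfsg.Agent.Lib.Helper26.M24Order
import Cfsg.Agent.Lib.Helper89.TableChain2
import Cfsg.Agent.Lib.Helper89.DiagIso
import Cfsg.Agent.Lib.Helper58.NsData

/-!
# A stabiliser chain for an explicit group `2^11 . M23`

The group is generated by 18 explicit elements of `Perm (Fin 253 × ZMod 2) × Perm GolayPt`: signed
permutations of the 253 code words of weight 16 avoiding the extra point, paired with the permutation
of the 24 points they cover.  The first 11 generators are pure sign changes.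
-/

set_option autoImplicit false

namespace Cfsg.Agent.Lib.Helper58.NsChain

open Cfsg Cfsg.Agent.Lib.Helper26 Cfsg.Agent.Lib.Helper89 Cfsg.Agent.Lib.Helper89.DiagIso
open Cfsg.Agent.Lib.Helper58.NsData

/-- the signed points -/
abbrev B : Type := Fin 253 × ZMod 2
/-- permutations of the signed points -/
abbrev S : Type := Equiv.Perm B
/-- the ambient group -/
abbrev GG : Type := S × Equiv.Perm GolayPt
/-- the points acted on -/
abbrev Pt : Type := SumPt B GolayPt

/-- decoding of a signed point -/
def decB (x : ℕ) : B := (Fin.ofNat 253 (x / 2), ((x % 2 : ℕ) : ZMod 2))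

/-- encoding of a signed point -/
def encB (b : B) : ℕ := 2 * b.1.val + b.2.val

theorem zval_lt (s : ZMod 2) : s.val < 2 := ZMod.val_lt s

theorem encB_lt (b : B) : encB b < 506 := by
  have h1 := b.1.isLt
  have h2 := zval_lt b.2
  unfold encB
  omega

theorem decB_encB (b : B) : decB (encB b) = b := by
  have h1 := b.1.isLt
  have h2 := zval_lt b.2
  unfold decB encB
  have e1 : (2 * b.1.val + b.2.val) / 2 = b.1.val := by omega
  have e2 : (2 * b.1.val + b.2.val) % 2 = b.2.val := by omega
  rw [e1, e2]
  apply Prod.ext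
  · apply Fin.ext
    simp [Fin.ofNat, Nat.mod_eq_of_lt h1]
  · simp

theorem encB_decB (x : ℕ) (hx : x < 506) : encB (decB x) = x := by
  unfold decB encB
  have h1 : x / 2 < 253 := by omega
  have e1 : (Fin.ofNat 253 (x / 2)).val = x / 2 := by simp [Fin.ofNat, Nat.mod_eq_of_lt h1]
  have e2 : (((x % 2 : ℕ) : ZMod 2)).val = x % 2 := by
    rw [ZMod.val_natCast]
    omega
  simp only [e1, e2]
  omega

/-- the Boolean check of the tables -/
def tabOKb : Bool := (List.range 18).all (fun j => (List.range 530).all (fun x =>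
    Nat.blt (tab j x) 530 && Nat.blt (tabI j x) 530 &&
    (Nat.blt (tab j x) 506 == Nat.blt x 506) && (Nat.blt (tabI j x) 506 == Nat.blt x 506) &&
    Nat.beq (tabI j (tab j x)) x && Nat.beq (tab j (tabI j x)) x))

theorem tabOK : tabOKb = true := by decide +kernel

theorem blt_iff (a b : ℕ) : Nat.blt a b = true ↔ a < b :=
  ⟨Nat.le_of_ble_eq_true, Nat.ble_eq_true_of_le⟩

theorem tab_spec (j : ℕ) (hj : j < 18) (x : ℕ) (hx : x < 530) :
    tab j x < 530 ∧ tabI j x < 530 ∧ (tab j x < 506 ↔ x < 506) ∧ (tabI j x < 506 ↔ x < 506) ∧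
      tabI j (tab j x) = x ∧ tab j (tabI j x) = x := by
  have h := tabOK
  unfold tabOKb at h
  have h1 := List.all_eq_true.1 (List.all_eq_true.1 h j (List.mem_range.2 hj)) x (List.mem_range.2 hx)
  simp only [Bool.and_eq_true, beq_iff_eq] at h1
  obtain ⟨⟨⟨⟨⟨a1, a2⟩, a3⟩, a4⟩, a5⟩, a6⟩ := h1
  refine ⟨(blt_iff _ _).1 a1, (blt_iff _ _).1 a2, ?_, ?_, Nat.eq_of_beq_eq_true a5,
    Nat.eq_of_beq_eq_true a6⟩
  · rw [← blt_iff, ← blt_iff, a3]
  · rw [← blt_iff, ← blt_iff, a4]

theorem tab_lt (j : ℕ) (hj : j < 18) (x : ℕ) (hx : x < 530) : tab j x < 530 :=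
  (tab_spec j hj x hx).1

/-- first components of the generators -/
def genB (j : ℕ) : S :=
  if h : j < 18 then
    { toFun := fun b => decB (tab j (encB b))
      invFun := fun b => decB (tabI j (encB b))
      left_inv := fun b => by
        have hb := encB_lt b
        obtain ⟨-, -, c3, -, c5, -⟩ := tab_spec j h (encB b) (by omega)
        show decB (tabI j (encB (decB (tab j (encB b))))) = b
        rw [encB_decB _ (c3.2 hb), c5, decB_encB]
      right_inv := fun b => by
        have hb := encB_lt b
        obtain ⟨-, -, -, c4, -, c6⟩ := tab_spec j h (encB b) (by omega)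
        show decB (tab j (encB (decB (tabI j (encB b))))) = b
        rw [encB_decB _ (c4.2 hb), c6, decB_encB] }
  else 1

theorem genB_apply (j : ℕ) (h : j < 18) (b : B) : genB j b = decB (tab j (encB b)) := by
  rw [genB, dif_pos h]
  rfl

/-- table data of the second components -/
def pd (j : ℕ) : PermData :=
  ⟨(List.range 24).map (fun i => tab j (506 + i) - 506),
    (List.range 24).map (fun i => tabI j (506 + i) - 506)⟩

theorem pd_inM24_all : (List.range 18).all (fun j => (pd j).inM24) = true := by decide +kernel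

theorem pd_inM24 (j : ℕ) (hj : j < 18) : (pd j).inM24 = true :=
  List.all_eq_true.1 pd_inM24_all j (List.mem_range.2 hj)

theorem pd_ok (j : ℕ) (hj : j < 18) : (pd j).ok = true := PermData.ok_of_inM24 (pd_inM24 j hj)

/-- second components of the generators -/
def genG (j : ℕ) : Equiv.Perm GolayPt := (pd j).toPerm

theorem genG_mem_M24 (j : ℕ) (hj : j < 18) : genG j ∈ M24 := by
  unfold genG
  exact PermData.toPerm_mem_M24 (pd_inM24 j hj)

theorem pd_tbl_getD (j i : ℕ) (hi : i < 24) : (pd j).tbl.getD i 0 = tab j (506 + i) - 506 := by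
  unfold pd
  rw [List.getD_eq_getElem _ _ (by simpa using hi)]
  simp

theorem pd_inv_getD (j i : ℕ) (hi : i < 24) : (pd j).inv.getD i 0 = tabI j (506 + i) - 506 := by
  unfold pd
  rw [List.getD_eq_getElem _ _ (by simpa using hi)]
  simp

theorem genG_apply (j : ℕ) (hj : j < 18) (p : GolayPt) :
    genG j p = Helper26.pt (tab j (506 + idx p) - 506) := by
  rw [genG, PermData.toPerm_apply (pd_ok j hj), pd_tbl_getD j _ (idx_lt p)]

theorem genG_inv_apply (j : ℕ) (hj : j < 18) (p : GolayPt) :
    (genG j)⁻¹ p = Helper26.pt (tabI j (506 + idx p) - 506) := by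
  rw [genG, Equiv.Perm.inv_def, PermData.toPerm_symm_apply (pd_ok j hj), pd_inv_getD j _ (idx_lt p)]

theorem genG_none (j : ℕ) (hj : j < 18) (h : tab j 529 = 529) : genG j none = none := by
  rw [genG_apply j hj]
  have : idx (none : GolayPt) = 23 := rfl
  rw [this, h]
  rfl

attribute [irreducible] genB genG

/-- the generators -/
def gen (j : ℕ) : GG := (genB j, genG j)

theorem gen_fst (j : ℕ) : (gen j).1 = genB j := by unfold gen; rfl

theorem gen_snd (j : ℕ) : (gen j).2 = genG j := by unfold gen; rfl

/-- the points: `506` signed points, then the `24` points -/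
def pt (x : ℕ) : Pt := if x < 506 then SumPt.inl (decB x) else SumPt.inr (Helper26.pt (x - 506))

theorem pt_inl (b : B) : pt (encB b) = SumPt.inl b := by
  unfold pt
  rw [if_pos (encB_lt b), decB_encB]

theorem pt_inr (p : GolayPt) : pt (506 + idx p) = SumPt.inr p := by
  unfold pt
  rw [if_neg (by omega)]
  have : 506 + idx p - 506 = idx p := by omega
  rw [this, pt_idx]

theorem gen_smul (j : ℕ) (hj : j < 18) (x : ℕ) (hx : x < 530) : gen j • pt x = pt (tab j x) := by
  obtain ⟨c1, -, c3, -, -, -⟩ := tab_spec j hj x hx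
  by_cases h : x < 506
  · have h1 := c3.2 h
    unfold pt
    rw [if_pos h, if_pos h1, SumPt.smul_inl]
    refine congrArg SumPt.inl ?_
    rw [gen_fst, Equiv.Perm.smul_def, genB_apply j hj, encB_decB x h]
  · have h1 : ¬ tab j x < 506 := fun hh => h (c3.1 hh)
    unfold pt
    rw [if_neg h, if_neg h1, SumPt.smul_inr]
    refine congrArg SumPt.inr ?_
    rw [gen_snd, Equiv.Perm.smul_def]
    have hx6 : x - 506 < 24 := by omega
    rw [genG_apply j hj, idx_pt _ hx6]
    have : 506 + (x - 506) = x := by omega
    rw [this]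

theorem pt_inj (x : ℕ) (hx' : x < 530) (y : ℕ) (hy' : y < 530) (hxy : pt x = pt y) : x = y := by
  unfold pt at hxy
  by_cases hx : x < 506 <;> by_cases hy : y < 506
  · rw [if_pos hx, if_pos hy] at hxy
    have h := congrArg encB (SumPt.inl_injective hxy)
    rwa [encB_decB x hx, encB_decB y hy] at h
  · rw [if_pos hx, if_neg hy] at hxy
    exact absurd hxy (SumPt.inl_ne_inr _ _)
  · rw [if_neg hx, if_pos hy] at hxy
    exact absurd hxy.symm (SumPt.inl_ne_inr _ _)
  · rw [if_neg hx, if_neg hy] at hxy
    have h := congrArg idx (SumPt.inr_injective hxy)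
    rw [idx_pt _ (by omega), idx_pt _ (by omega)] at h
    omega

/-- all points are check points -/
def chk : List ℕ := List.range 530

theorem chk_lt : ∀ x ∈ chk, x < 530 := fun _ hx => List.mem_range.1 hx

theorem faithful (g g' : GG) (h : ∀ x ∈ chk, g • pt x = g' • pt x) : g = g' := by
  apply Prod.ext
  · apply Equiv.ext
    intro b
    have := h (encB b) (List.mem_range.2 (by have := encB_lt b; omega))
    rw [pt_inl, SumPt.smul_inl, SumPt.smul_inl] at this
    exact SumPt.inl_injective this
  · apply Equiv.ext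
    intro p
    have := h (506 + idx p) (List.mem_range.2 (by have := idx_lt p; omega))
    rw [pt_inr, SumPt.smul_inr, SumPt.smul_inr] at this
    exact SumPt.inr_injective this

/-- the chain data -/
def D : TableChain2.Data GG Pt where
  m := 18
  N := 530
  gen := gen
  pt := pt
  tab := tab
  chk := chk
  gen_smul := gen_smul
  tab_lt := tab_lt
  chk_lt := chk_lt
  faithful := faithful
  pt_inj := pt_inj

end Cfsg.Agent.Lib.Helper58.NsChain
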