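import Mathlib
import Cfsg.Agent.Lib.Helper89.TableChain2

/-!
# Partial table-driven levels of a stabiliser chain

A variant of `Helper89.TableChain2.levelCheck`: the Schreier relations are only tested for the
generators with index in `[k0, k)`; for the generators below `k0` (which generate a normal subgroup
treated abstractly) the relation is a hypothesis of the resulting theorems.
-/

set_option autoImplicit false

namespace Cfsg.Agent.Lib.Helper58.NsLevel

open Cfsg.Agent.Lib.Helper89 Cfsg.Agent.Lib.Helper89.TableChain2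

/-- The decidable certificate of one level of the chain, Schreier relations only for `k0 ≤ j < k`. -/
def levelCheckP (tab : ℕ → ℕ → ℕ) (k0 k k' b : ℕ) (chk : List ℕ) (T : List (List ℕ))
    (E : List (List (ℕ × List ℕ))) : Bool :=
  Nat.ble k' k &&
  (List.range k').all (fun j => Nat.beq (tab j b) b) &&
  (match T with
    | [] :: _ => true
    | _ => false) &&
  T.all (fun l => l.all (fun c => Nat.blt c k)) &&
  nodupB (T.map (fun l => act tab l b)) &&
  (List.range (k - k0)).all (fun i => Nat.beq (E.getD i []).length T.length &&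
    (List.zip T (E.getD i [])).all (fun le => stepCheck tab k' chk T (k0 + i) le.1 le.2))

variable {G : Type*} [Group G] {α : Type*} [MulAction G α]

/-- the facts packed in a partial level certificate -/
structure LevelOKP (D : Data G α) (k0 k k' b : ℕ) (T : List (List ℕ))
    (E : List (List (ℕ × List ℕ))) : Prop where
  km : k ≤ D.m
  bN : b < D.N
  le : k' ≤ k
  fix : ∀ j < k', D.tab j b = b
  head : T.getD 0 [] = []
  pos : 0 < T.length
  words : ∀ l ∈ T, ∀ c ∈ l, c < k
  inj : ∀ a < T.length, ∀ a' < T.length,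
    act D.tab (T.getD a []) b = act D.tab (T.getD a' []) b → a = a'
  step : ∀ j, k0 ≤ j → j < k → ∀ a < T.length, ∃ a' < T.length, ∃ w : List ℕ, (∀ c ∈ w, c < k') ∧
    ∀ x ∈ D.chk, act D.tab (j :: T.getD a []) x = act D.tab (T.getD a' [] ++ w) x

variable {D : Data G α} {k0 k k' b : ℕ} {T : List (List ℕ)} {E : List (List (ℕ × List ℕ))}

theorem levelOKP_of_check (hk : k ≤ D.m) (hb : b < D.N)
    (h : levelCheckP D.tab k0 k k' b D.chk T E = true) : LevelOKP D k0 k k' b T E := by
  unfold levelCheckP at h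
  simp only [Bool.and_eq_true] at h
  obtain ⟨⟨⟨⟨⟨h1, h2⟩, h3⟩, h4⟩, h5⟩, h6⟩ := h
  have hT : ∃ T', T = [] :: T' := by
    match T, h3 with
    | [] :: T', _ => exact ⟨T', rfl⟩
  obtain ⟨T', hT'⟩ := hT
  refine ⟨hk, hb, Nat.le_of_ble_eq_true h1, ?_, ?_, ?_, ?_, ?_, ?_⟩
  · intro j hj
    exact Nat.eq_of_beq_eq_true (List.all_eq_true.1 h2 j (List.mem_range.2 hj))
  · rw [hT']; rfl
  · rw [hT']; simp
  · intro l hl c hc
    have := List.all_eq_true.1 (List.all_eq_true.1 h4 l hl) c hc
    exact Nat.le_of_ble_eq_true this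
  · intro a ha a' ha' heq
    have hnd := (nodupB_iff _).1 h5
    have h1' : a < (T.map (fun l => act D.tab l b)).length := by simpa using ha
    have h2' : a' < (T.map (fun l => act D.tab l b)).length := by simpa using ha'
    have := (List.Nodup.getElem_inj_iff hnd (hi := h1') (hj := h2')).1 (by
      simp only [List.getElem_map]
      rw [List.getD_eq_getElem _ _ ha, List.getD_eq_getElem _ _ ha'] at heq
      exact heq)
    exact this
  · intro j hj0 hj a ha
    have hi : j - k0 < k - k0 := by omega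
    have hj' := List.all_eq_true.1 h6 (j - k0) (List.mem_range.2 hi)
    have hjj : k0 + (j - k0) = j := by omega
    rw [hjj] at hj'
    rw [Bool.and_eq_true] at hj'
    obtain ⟨hlen, hall⟩ := hj'
    have hlen' : (E.getD (j - k0) []).length = T.length := Nat.eq_of_beq_eq_true hlen
    have haE : a < (E.getD (j - k0) []).length := by rw [hlen']; exact ha
    have hz : a < (List.zip T (E.getD (j - k0) [])).length := by
      rw [List.length_zip, hlen']; simpa using ha
    have hmem : (List.zip T (E.getD (j - k0) []))[a] ∈ List.zip T (E.getD (j - k0) []) :=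
      List.getElem_mem hz
    have hs := List.all_eq_true.1 hall _ hmem
    rw [List.getElem_zip] at hs
    unfold stepCheck at hs
    simp only [Bool.and_eq_true] at hs
    obtain ⟨⟨hs1, hs2⟩, hs3⟩ := hs
    refine ⟨((E.getD (j - k0) [])[a]).1, Nat.le_of_ble_eq_true hs1, ((E.getD (j - k0) [])[a]).2, ?_, ?_⟩
    · intro c hc
      exact Nat.le_of_ble_eq_true (List.all_eq_true.1 hs2 c hc)
    · intro x hx
      have := Nat.eq_of_beq_eq_true (List.all_eq_true.1 hs3 x hx)
      rw [List.getD_eq_getElem _ _ ha]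
      exact this

namespace LevelOKP

variable (h : LevelOKP D k0 k k' b T E)
include h

theorem hUS (a : Fin T.length) : D.ev (T.getD a.val []) ∈ D.H k := by
  apply Data.ev_mem
  have : T.getD a.val [] ∈ T := by
    rw [List.getD_eq_getElem _ _ a.isLt]
    exact List.getElem_mem _
  exact h.words _ this

theorem word_lt (a : ℕ) (ha : a < T.length) : ∀ c ∈ T.getD a [], c < D.m := by
  intro c hc
  have : T.getD a [] ∈ T := by
    rw [List.getD_eq_getElem _ _ ha]
    exact List.getElem_mem _
  exact lt_of_lt_of_le (h.words _ this c hc) h.km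

theorem hstep
    (hN : ∀ j < k0, ∀ a : Fin T.length,
      (D.ev (T.getD a.val []))⁻¹ * (D.gen j * D.ev (T.getD a.val [])) ∈ D.H k') :
    ∀ s ∈ D.S k, ∀ a : Fin T.length, ∃ a' : Fin T.length,
      (D.ev (T.getD a'.val []))⁻¹ * (s * D.ev (T.getD a.val [])) ∈ D.H k' := by
  rintro s ⟨j, hj, rfl⟩ a
  by_cases hj0 : j < k0
  · exact ⟨a, hN j hj0 a⟩
  obtain ⟨a', ha', w, hw, h3⟩ := h.step j (by omega) hj a.val a.isLt
  refine ⟨⟨a', ha'⟩, ?_⟩
  have hjm : j < D.m := lt_of_lt_of_le hj h.km
  have hwm : ∀ c ∈ w, c < D.m := fun c hc => lt_of_lt_of_le (hw c hc) (h.le.trans h.km)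
  have := D.ev_eq_of_act (l := j :: T.getD a.val []) (l' := T.getD a' [] ++ w) (by
      intro c hc
      rcases List.mem_cons.1 hc with rfl | hc
      · exact hjm
      · exact h.word_lt a.val a.isLt c hc) (by
      intro c hc
      rcases List.mem_append.1 hc with hc | hc
      · exact h.word_lt a' ha' c hc
      · exact hwm c hc) h3
  rw [Data.ev_cons, Data.ev_append] at this
  rw [this]
  simpa using D.ev_mem k' _ hw

theorem hinj (a a' : Fin T.length)
    (he : D.ev (T.getD a.val []) • D.pt b = D.ev (T.getD a'.val []) • D.pt b) : a = a' := by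
  apply Fin.ext
  apply h.inj a.val a.isLt a'.val a'.isLt
  rw [D.ev_smul _ (h.word_lt a.val a.isLt) b h.bN, D.ev_smul _ (h.word_lt a'.val a'.isLt) b h.bN] at he
  exact D.pt_inj _ (D.act_lt _ (h.word_lt a.val a.isLt) b h.bN) _
    (D.act_lt _ (h.word_lt a'.val a'.isLt) b h.bN) he

theorem h1 : ∃ a : Fin T.length, D.ev (T.getD a.val []) = 1 :=
  ⟨⟨0, h.pos⟩, by show D.ev (T.getD 0 []) = 1; rw [h.head, Data.ev_nil]⟩

theorem le_stab : D.H k' ≤ MulAction.stabilizer G (D.pt b) :=
  D.H_le_stabilizer k' (h.le.trans h.km) b h.bN h.fix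

variable [Finite G]

theorem inf_stabilizer
    (hN : ∀ j < k0, ∀ a : Fin T.length,
      (D.ev (T.getD a.val []))⁻¹ * (D.gen j * D.ev (T.getD a.val [])) ∈ D.H k') :
    D.H k ⊓ MulAction.stabilizer G (D.pt b) = D.H k' :=
  Chain.closure_inf_stabilizer (D.S k) (D.H k') (D.pt b)
    (fun a : Fin T.length => D.ev (T.getD a.val []))
    (D.H_mono h.le) h.le_stab h.h1 h.hUS h.hinj (h.hstep hN)

theorem card
    (hN : ∀ j < k0, ∀ a : Fin T.length,
      (D.ev (T.getD a.val []))⁻¹ * (D.gen j * D.ev (T.getD a.val [])) ∈ D.H k') :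
    Nat.card (D.H k) = T.length * Nat.card (D.H k') := by
  have := Chain.card_closure (D.S k) (D.H k') (D.pt b)
    (fun a : Fin T.length => D.ev (T.getD a.val []))
    (D.H_mono h.le) h.le_stab h.h1 h.hUS h.hinj (h.hstep hN)
  rw [Nat.card_fin] at this
  exact this

end LevelOKP

end Cfsg.Agent.Lib.Helper58.NsLevel
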