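import Mathlib
import Cfsg.Agent.Lib.Helper58.NsChain
import Cfsg.Agent.Lib.Helper58.NsLevel

/-! kernel-checked level certificates of the chain for `2^11 . M23` -/

set_option autoImplicit false

namespace Cfsg.Agent.Lib.Helper58.NsLev

open Cfsg.Agent.Lib.Helper58.NsData Cfsg.Agent.Lib.Helper58.NsChain Cfsg.Agent.Lib.Helper58.NsLevel

theorem level1c : levelCheckP D.tab 11 17 16 507 D.chk T1 E1 = true := by decide +kernel

end Cfsg.Agent.Lib.Helper58.NsLev
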