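import Mathlib
import Cfsg.Agent.Lib.Helper58.NsChain
import Cfsg.Agent.Lib.Helper58.NsLevel

/-! kernel-checked level certificates of the chain for `2^11 . M23` -/

set_option autoImplicit false

namespace Cfsg.Agent.Lib.Helper58.NsLev

open Cfsg.Agent.Lib.Helper58.NsData Cfsg.Agent.Lib.Helper58.NsChain Cfsg.Agent.Lib.Helper58.NsLevel

theorem level2c : levelCheckP D.tab 11 16 15 508 D.chk T2 E2 = true := by decide +kernel
theorem level3c : levelCheckP D.tab 11 15 14 509 D.chk T3 E3 = true := by decide +kernel
theorem level4c : levelCheckP D.tab 11 14 12 510 D.chk T4 E4 = true := by decide +kernel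
theorem level5c : levelCheckP D.tab 11 12 11 511 D.chk T5 E5 = true := by decide +kernel

end Cfsg.Agent.Lib.Helper58.NsLev
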