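import Mathlib
import Cfsg.Agent.Lib.Golay.Code
import Cfsg.Agent.Lib.Helper26.Bridge
import Cfsg.Agent.Lib.Helper58.NsChain

/-!
# Sign changes and signed permutations

`th w` is the sign change of the signed points given by the word `w`; the generators of the chain are
signed permutations covering their action on the 24 points.
-/

set_option autoImplicit false

namespace Cfsg.Agent.Lib.Helper58.NsSign

open Cfsg Cfsg.Agent.Lib.Helper26 Cfsg.Agent.Lib.Helper89 Cfsg.Agent.Lib.Helper89.DiagIso
open Cfsg.Agent.Lib.Helper58.NsData Cfsg.Agent.Lib.Helper58.NsChain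
open Cfsg.Agent.Lib.Golay (ofMask)

/-- binary words on the 24 points -/
abbrev Wd : Type := GolayPt → ZMod 2

theorem ofMask_apply (m : ℕ) (p : GolayPt) : ofMask m p = if m.testBit (idx p) then 1 else 0 := by
  rw [ofMask, golay_idx_val]

/-- the dot product of two words -/
def dot (w u : Wd) : ZMod 2 := ∑ p, w p * u p

theorem dot_add_left (w w' u : Wd) : dot (w + w') u = dot w u + dot w' u := by
  simp [dot, add_mul, Finset.sum_add_distrib]

theorem dot_add_right (w u u' : Wd) : dot w (u + u') = dot w u + dot w u' := by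
  simp [dot, mul_add, Finset.sum_add_distrib]

theorem dot_zero_left (u : Wd) : dot 0 u = 0 := by simp [dot]

theorem dot_zero_right (w : Wd) : dot w 0 = 0 := by simp [dot]

theorem dot_comp_inv (σ : Equiv.Perm GolayPt) (w u : Wd) :
    dot (w ∘ ⇑σ⁻¹) u = dot w (u ∘ ⇑σ) := by
  unfold dot
  rw [← Equiv.sum_comp σ]
  simp

theorem ofMask_mul (a b : ℕ) (p : GolayPt) : ofMask a p * ofMask b p = ofMask (a &&& b) p := by
  rw [ofMask_apply, ofMask_apply, ofMask_apply, Nat.testBit_and]
  cases a.testBit (idx p) <;> cases b.testBit (idx p) <;> simp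

theorem sum_ofMask (m : ℕ) : ∑ p, ofMask m p = ((pc 24 m : ℕ) : ZMod 2) := by
  rw [← card_dec, dec, Finset.card_filter, Nat.cast_sum]
  apply Finset.sum_congr rfl
  intro p _
  rw [ofMask_apply]
  by_cases h : m.testBit (idx p) = true <;> simp [h]

theorem dot_ofMask (a b : ℕ) : dot (ofMask a) (ofMask b) = ((pc 24 (a &&& b) : ℕ) : ZMod 2) := by
  unfold dot
  rw [← sum_ofMask]
  exact Finset.sum_congr rfl fun p _ => ofMask_mul a b p

/-- the mask of the `c`-th code word of weight 16 -/
def om (c : ℕ) : ℕ := omegaL.getD c 0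

/-- the `c`-th code word of weight 16 -/
def blkW (c : Fin 253) : Wd := ofMask (om c.val)

/-- the pairing of a word with a block -/
def pair (w : Wd) (c : Fin 253) : ZMod 2 := dot w (blkW c)

theorem pair_add (w w' : Wd) (c : Fin 253) : pair (w + w') c = pair w c + pair w' c :=
  dot_add_left _ _ _

theorem pair_zero (c : Fin 253) : pair 0 c = 0 := dot_zero_left _

theorem pair_ofMask (m : ℕ) (c : Fin 253) :
    pair (ofMask m) c = ((pc 24 (m &&& om c.val) : ℕ) : ZMod 2) := dot_ofMask _ _

/-- the sign change defined by a word -/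
def sgn (w : Wd) : S where
  toFun b := (b.1, b.2 + pair w b.1)
  invFun b := (b.1, b.2 - pair w b.1)
  left_inv b := by simp
  right_inv b := by simp

theorem sgn_apply (w : Wd) (b : B) : sgn w b = (b.1, b.2 + pair w b.1) := rfl

theorem sgn_add (w w' : Wd) : sgn (w + w') = sgn w * sgn w' := by
  apply Equiv.ext
  intro b
  rw [Equiv.Perm.mul_apply, sgn_apply, sgn_apply, sgn_apply, pair_add]
  simp only
  rw [add_assoc, add_comm (pair w' b.1)]

theorem sgn_zero : sgn 0 = 1 := by
  apply Equiv.ext
  intro b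
  rw [sgn_apply, pair_zero]
  simp

/-- the sign change as an element of the ambient group -/
def th (w : Wd) : GG := (sgn w, 1)

theorem th_add (w w' : Wd) : th (w + w') = th w * th w' := by
  unfold th
  rw [sgn_add]
  rfl

theorem th_zero : th 0 = 1 := by
  unfold th
  rw [sgn_zero]
  rfl

theorem add_self_wd (w : Wd) : w + w = 0 := by
  funext p
  exact CharTwo.add_self_eq_zero (w p)

theorem th_mul_self (w : Wd) : th w * th w = 1 := by
  rw [← th_add, add_self_wd, th_zero]

theorem th_inv (w : Wd) : (th w)⁻¹ = th w := inv_eq_of_mul_eq_one_right (th_mul_self w)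

theorem th_snd (w : Wd) : (th w).2 = 1 := rfl

theorem th_eq_one_iff (w : Wd) : th w = 1 ↔ ∀ c, pair w c = 0 := by
  constructor
  · intro h c
    have h1 : sgn w = 1 := congrArg Prod.fst h
    have := congrArg (fun f : S => (f (c, 0)).2) h1
    simpa [sgn_apply] using this
  · intro h
    unfold th
    have : sgn w = 1 := by
      apply Equiv.ext
      intro b
      rw [sgn_apply, h]
      simp
    rw [this]
    rfl

/-- the sign changes as a homomorphism -/
def thHom : Multiplicative Wd →* GG where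
  toFun w := th (Multiplicative.toAdd w)
  map_one' := th_zero
  map_mul' a b := th_add _ _

/-! ### signed permutations -/

/-- a pair is a signed permutation covering its second component -/
def IsSgn (g : GG) : Prop :=
  (∀ (b : B) (t : ZMod 2), g.1 (b.1, b.2 + t) = ((g.1 b).1, (g.1 b).2 + t)) ∧
  (∀ b : B, blkW (g.1 b).1 = blkW b.1 ∘ ⇑g.2⁻¹)

theorem isSgn_one : IsSgn (1 : GG) := by
  constructor
  · intro b t
    rfl
  · intro b
    funext p
    simp

theorem isSgn_mul {g h : GG} (hg : IsSgn g) (hh : IsSgn h) : IsSgn (g * h) := by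
  constructor
  · intro b t
    show g.1 (h.1 (b.1, b.2 + t)) = ((g.1 (h.1 b)).1, (g.1 (h.1 b)).2 + t)
    rw [hh.1 b t]
    exact hg.1 (h.1 b) t
  · intro b
    show blkW (g.1 (h.1 b)).1 = blkW b.1 ∘ ⇑(g.2 * h.2)⁻¹
    rw [hg.2 (h.1 b), hh.2 b, mul_inv_rev]
    rfl

theorem isSgn_inv {g : GG} (hg : IsSgn g) : IsSgn g⁻¹ := by
  constructor
  · intro b t
    show g.1⁻¹ (b.1, b.2 + t) = ((g.1⁻¹ b).1, (g.1⁻¹ b).2 + t)
    have h := hg.1 (g.1⁻¹ b) t
    have e : g.1 (g.1⁻¹ b) = b := by simp
    rw [e] at h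
    rw [← h]
    simp
  · intro b
    show blkW (g.1⁻¹ b).1 = blkW b.1 ∘ ⇑(g.2⁻¹)⁻¹
    have h := hg.2 (g.1⁻¹ b)
    have e : g.1 (g.1⁻¹ b) = b := by simp
    rw [e] at h
    rw [h]
    funext p
    simp

/-- the group of signed permutations -/
def SgnGrp : Subgroup GG where
  carrier := {g | IsSgn g}
  mul_mem' := isSgn_mul
  one_mem' := isSgn_one
  inv_mem' := isSgn_inv

theorem conj_th {g : GG} (hg : IsSgn g) (w : Wd) : g * th w * g⁻¹ = th (w ∘ ⇑g.2⁻¹) := by
  apply Prod.ext
  · apply Equiv.ext
    intro b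
    show g.1 (sgn w (g.1⁻¹ b)) = sgn (w ∘ ⇑g.2⁻¹) b
    rw [sgn_apply, sgn_apply]
    have h1 := hg.1 (g.1⁻¹ b) (pair w (g.1⁻¹ b).1)
    have e : g.1 (g.1⁻¹ b) = b := by simp
    rw [e] at h1
    rw [h1]
    have h2 := hg.2 (g.1⁻¹ b)
    rw [e] at h2
    have h3 : pair (w ∘ ⇑g.2⁻¹) b.1 = pair w (g.1⁻¹ b).1 := by
      unfold pair
      rw [dot_comp_inv, h2]
      have h4 : (blkW (g.1⁻¹ b).1 ∘ ⇑g.2⁻¹) ∘ ⇑g.2 = blkW (g.1⁻¹ b).1 := by
        funext p
        simp
      rw [h4]
    rw [h3]
  · show g.2 * 1 * g.2⁻¹ = 1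
    simp

theorem th_mul_comm {g : GG} (hg : IsSgn g) (w : Wd) : g * th w = th (w ∘ ⇑g.2⁻¹) * g := by
  rw [← conj_th hg w]
  group

/-! ### Boolean checks -/

/-- the other point of the same block -/
def flipN (y : ℕ) : ℕ := if y % 2 = 0 then y + 1 else y - 1

/-- the Boolean check that the generators are signed permutations -/
def sgnOKb : Bool := (List.range 18).all (fun j => (List.range 253).all (fun c =>
  Nat.beq (tab j (2 * c + 1)) (flipN (tab j (2 * c))) &&
  Nat.beq (om (tab j (2 * c) / 2)) ((pd j).applyMask (om c))))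

theorem sgnOK : sgnOKb = true := by decide +kernel

/-- the action of the sign change of the word with mask `m` on point indices -/
def flipM (m x : ℕ) : ℕ :=
  if x < 506 then (if pc 24 (m &&& om (x / 2)) % 2 = 1 then flipN x else x) else x

/-- Boolean test that a word evaluates to a sign change times another word -/
def thCheck (l l' : List ℕ) (m : ℕ) : Bool :=
  l.all (fun c => Nat.blt c 18) && l'.all (fun c => Nat.blt c 18) &&
    (List.range 530).all (fun x => Nat.beq (TableChain2.act tab l x) (flipM m (TableChain2.act tab l' x)))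

/-- the unit vectors -/
def singleOKb : Bool := (List.range 24).all (fun i =>
  (singleW.getD i []).all (fun c => Nat.blt c 11) && thCheck (singleW.getD i []) [] (2 ^ i))

theorem singleOK : singleOKb = true := by decide +kernel

end Cfsg.Agent.Lib.Helper58.NsSign
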