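import Mathlib
import Cfsg.Agent.Lib.Helper58.NsSign

/-!
# The generators are signed permutations; sign changes lie in the group
-/

set_option autoImplicit false

namespace Cfsg.Agent.Lib.Helper58.NsSign

open Cfsg Cfsg.Agent.Lib.Helper26 Cfsg.Agent.Lib.Helper89 Cfsg.Agent.Lib.Helper89.DiagIso
open Cfsg.Agent.Lib.Helper58.NsData Cfsg.Agent.Lib.Helper58.NsChain
open Cfsg.Agent.Lib.Golay (ofMask)

/-! ### the generators are signed permutations -/


theorem flipN_flipN (y : ℕ) : flipN (flipN y) = y := by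
  unfold flipN
  split_ifs <;> omega

theorem flipN_lt (y : ℕ) (hy : y < 506) : flipN y < 506 := by
  unfold flipN
  split_ifs <;> omega

theorem decB_flipN (y : ℕ) : decB (flipN y) = ((decB y).1, (decB y).2 + 1) := by
  unfold decB flipN
  by_cases h : y % 2 = 0
  · rw [if_pos h]
    have e1 : (y + 1) / 2 = y / 2 := by omega
    have e2 : (y + 1) % 2 = 1 := by omega
    rw [e1, e2, h]
    simp
  · rw [if_neg h]
    have e1 : (y - 1) / 2 = y / 2 := by omega
    have e2 : (y - 1) % 2 = 0 := by omega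
    have e3 : y % 2 = 1 := by omega
    rw [e1, e2, e3]
    apply Prod.ext
    · rfl
    · show ((0 : ℕ) : ZMod 2) = ((1 : ℕ) : ZMod 2) + 1
      decide

theorem encB_flip (b : B) : encB (b.1, b.2 + 1) = flipN (encB b) := by
  obtain ⟨c, s⟩ := b
  unfold encB flipN
  have key : ∀ s : ZMod 2, (s = 0 ∧ (s + 1).val = 1 ∧ s.val = 0) ∨ (s = 1 ∧ (s + 1).val = 0 ∧ s.val = 1) := by
    decide
  rcases key s with ⟨-, h1, h2⟩ | ⟨-, h1, h2⟩
  · simp only [h1, h2]
    rw [if_pos (by omega)]
  · simp only [h1, h2]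
    rw [if_neg (by omega)]
    omega


theorem sgn_spec (j : ℕ) (hj : j < 18) (c : ℕ) (hc : c < 253) :
    tab j (2 * c + 1) = flipN (tab j (2 * c)) ∧
      om (tab j (2 * c) / 2) = (pd j).applyMask (om c) := by
  have h := sgnOK
  unfold sgnOKb at h
  have h1 := List.all_eq_true.1 (List.all_eq_true.1 h j (List.mem_range.2 hj)) c (List.mem_range.2 hc)
  rw [Bool.and_eq_true] at h1
  exact ⟨Nat.eq_of_beq_eq_true h1.1, Nat.eq_of_beq_eq_true h1.2⟩

theorem tab_flip (j : ℕ) (hj : j < 18) (x : ℕ) (hx : x < 506) :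
    tab j (flipN x) = flipN (tab j x) := by
  have h := (sgn_spec j hj (x / 2) (by omega)).1
  by_cases hx2 : x % 2 = 0
  · have e1 : 2 * (x / 2) = x := by omega
    have e2 : flipN x = x + 1 := by unfold flipN; rw [if_pos hx2]
    rw [e1] at h
    rw [e2, h]
  · have e1 : 2 * (x / 2) + 1 = x := by omega
    have e2 : flipN x = 2 * (x / 2) := by unfold flipN; rw [if_neg hx2]; omega
    rw [e1] at h
    rw [e2, h, flipN_flipN]

theorem tab_block (j : ℕ) (hj : j < 18) (x : ℕ) (hx : x < 506) :
    om (tab j x / 2) = (pd j).applyMask (om (x / 2)) := by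
  have h := (sgn_spec j hj (x / 2) (by omega))
  by_cases hx2 : x % 2 = 0
  · have e1 : 2 * (x / 2) = x := by omega
    rw [e1] at h
    exact h.2
  · have e1 : 2 * (x / 2) + 1 = x := by omega
    have h1 := h.1
    rw [e1] at h1
    rw [h1, ← h.2]
    congr 1
    unfold flipN
    split_ifs <;> omega

theorem decB_fst_val (x : ℕ) (hx : x < 506) : (decB x).1.val = x / 2 := by
  unfold decB
  have h1 : x / 2 < 253 := by omega
  simp [Fin.ofNat, Nat.mod_eq_of_lt h1]

theorem encB_div (b : B) : encB b / 2 = b.1.val := by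
  have h2 := zval_lt b.2
  unfold encB
  omega

theorem gen_isSgn (j : ℕ) (hj : j < 18) : IsSgn (gen j) := by
  constructor
  · intro b t
    rw [gen_fst]
    have key : ∀ t : ZMod 2, t = 0 ∨ t = 1 := by decide
    rcases key t with rfl | rfl
    · simp
    · rw [genB_apply j hj, genB_apply j hj, encB_flip, tab_flip j hj _ (encB_lt b), decB_flipN]
  · intro b
    rw [gen_fst, gen_snd, genB_apply j hj]
    have hb := encB_lt b
    obtain ⟨c1, -, c3, -, -, -⟩ := tab_spec j hj (encB b) (by omega)
    have h1 := tab_block j hj (encB b) hb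
    rw [encB_div] at h1
    unfold blkW
    rw [decB_fst_val _ (c3.2 hb), h1]
    funext p
    rw [Function.comp_apply, ofMask_apply, ofMask_apply, genG_inv_apply j hj,
      PermData.testBit_applyMask (pd_ok j hj) _ _ (idx_lt p), pd_inv_getD j _ (idx_lt p)]
    obtain ⟨-, d2, -, d4, -, -⟩ := tab_spec j hj (506 + idx p) (by have := idx_lt p; omega)
    have d5 : ¬ tabI j (506 + idx p) < 506 := fun hh => by
      have := d4.1 hh
      omega
    rw [idx_pt _ (by omega)]

theorem H_le_SgnGrp (k : ℕ) (hk : k ≤ 18) : D.H k ≤ SgnGrp := by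
  rw [TableChain2.Data.H, Subgroup.closure_le]
  rintro g ⟨j, hj, rfl⟩
  exact gen_isSgn j (by omega)

/-! ### words evaluating to sign changes -/


theorem natCast_zmod2 (n : ℕ) : ((n : ℕ) : ZMod 2) = if n % 2 = 1 then 1 else 0 := by
  rw [← ZMod.natCast_mod n 2]
  have h : n % 2 = 0 ∨ n % 2 = 1 := by omega
  rcases h with h | h <;> rw [h] <;> simp

theorem th_smul_pt (m x : ℕ) (hx : x < 530) : th (ofMask m) • NsChain.pt x = NsChain.pt (flipM m x) := by
  unfold flipM
  by_cases h : x < 506
  · rw [if_pos h]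
    have e0 : NsChain.pt x = SumPt.inl (decB x) := by unfold NsChain.pt; rw [if_pos h]
    rw [e0, SumPt.smul_inl]
    have e1 : (th (ofMask m)).1 • decB x = sgn (ofMask m) (decB x) := rfl
    rw [e1, sgn_apply, pair_ofMask, decB_fst_val x h, natCast_zmod2]
    by_cases hp : pc 24 (m &&& om (x / 2)) % 2 = 1
    · rw [if_pos hp, if_pos hp]
      have e2 : NsChain.pt (flipN x) = SumPt.inl (decB (flipN x)) := by
        unfold NsChain.pt; rw [if_pos (flipN_lt x h)]
      rw [e2, decB_flipN]
    · rw [if_neg hp, if_neg hp, e0]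
      simp
  · rw [if_neg h]
    have e0 : NsChain.pt x = SumPt.inr (Helper26.pt (x - 506)) := by unfold NsChain.pt; rw [if_neg h]
    rw [e0, SumPt.smul_inr, th_snd, one_smul]

theorem flipM_lt (m x : ℕ) (hx : x < 530) : flipM m x < 530 := by
  unfold flipM
  split_ifs with h1 h2
  · have := flipN_lt x h1
    omega
  · exact hx
  · exact hx

theorem ev_eq_th_mul (l l' : List ℕ) (hl : ∀ c ∈ l, c < 18) (hl' : ∀ c ∈ l', c < 18) (m : ℕ)
    (h : ∀ x < 530, TableChain2.act tab l x = flipM m (TableChain2.act tab l' x)) :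
    D.ev l = th (ofMask m) * D.ev l' := by
  apply D.faithful
  intro x hx
  have hx' : x < 530 := D.chk_lt x hx
  have h1 := D.ev_smul l hl x hx'
  have h2 := D.ev_smul l' hl' x hx'
  have h3 : TableChain2.act tab l' x < 530 := D.act_lt l' hl' x hx'
  rw [h1, mul_smul, h2]
  show NsChain.pt (TableChain2.act tab l x) = th (ofMask m) • NsChain.pt (TableChain2.act tab l' x)
  rw [th_smul_pt m _ h3, h x hx']


theorem ev_eq_of_thCheck {l l' : List ℕ} {m : ℕ} (h : thCheck l l' m = true) :
    D.ev l = th (ofMask m) * D.ev l' := by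
  unfold thCheck at h
  simp only [Bool.and_eq_true] at h
  obtain ⟨⟨h1, h2⟩, h3⟩ := h
  apply ev_eq_th_mul
  · intro c hc
    exact Nat.le_of_ble_eq_true (List.all_eq_true.1 h1 c hc)
  · intro c hc
    exact Nat.le_of_ble_eq_true (List.all_eq_true.1 h2 c hc)
  · intro x hx
    exact Nat.eq_of_beq_eq_true (List.all_eq_true.1 h3 x (List.mem_range.2 hx))


theorem single_mem (i : ℕ) (hi : i < 24) : th (ofMask (2 ^ i)) ∈ D.H 11 := by
  have h := singleOK
  unfold singleOKb at h
  have h1 := List.all_eq_true.1 h i (List.mem_range.2 hi)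
  rw [Bool.and_eq_true] at h1
  have h2 := ev_eq_of_thCheck h1.2
  rw [TableChain2.Data.ev_nil, mul_one] at h2
  rw [← h2]
  apply D.ev_mem
  intro c hc
  exact Nat.le_of_ble_eq_true (List.all_eq_true.1 h1.1 c hc)

theorem single_eq_ofMask (p : GolayPt) : (Pi.single p 1 : Wd) = ofMask (2 ^ idx p) := by
  funext q
  rw [ofMask_apply, Nat.testBit_two_pow]
  by_cases h : q = p
  · subst h
    simp
  · have : idx p ≠ idx q := fun hh => h (idx_injective hh.symm)
    simp [h, this]

theorem th_mem (w : Wd) : th w ∈ D.H 11 := by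
  have hw : w = ∑ p, Pi.single p (w p) := (Finset.univ_sum_single w).symm
  rw [hw]
  apply Finset.sum_induction _ (fun v : Wd => th v ∈ D.H 11)
  · intro a b ha hb
    rw [th_add]
    exact (D.H 11).mul_mem ha hb
  · rw [th_zero]
    exact (D.H 11).one_mem
  · intro p _
    have key : ∀ t : ZMod 2, t = 0 ∨ t = 1 := by decide
    rcases key (w p) with h | h
    · rw [h, Pi.single_zero, th_zero]
      exact (D.H 11).one_mem
    · rw [h, single_eq_ofMask]
      exact single_mem _ (idx_lt p)

theorem singleW_small : (List.range 11).all (fun i => singleW.getD i [] == [i]) = true := by decide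

theorem gen_eq_th (j : ℕ) (hj : j < 11) : gen j = th (ofMask (2 ^ j)) := by
  have h := singleOK
  unfold singleOKb at h
  have h1 := List.all_eq_true.1 h j (List.mem_range.2 (by omega))
  rw [Bool.and_eq_true] at h1
  have h2 := ev_eq_of_thCheck h1.2
  have h3 : singleW.getD j [] = [j] := by
    have := List.all_eq_true.1 singleW_small j (List.mem_range.2 hj)
    simpa using this
  rw [h3, TableChain2.Data.ev_nil, mul_one, TableChain2.Data.ev_cons, TableChain2.Data.ev_nil,
    mul_one] at h2
  exact h2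

theorem H11_le_range : D.H 11 ≤ thHom.range := by
  rw [TableChain2.Data.H, Subgroup.closure_le]
  rintro g ⟨j, hj, rfl⟩
  exact ⟨Multiplicative.ofAdd (ofMask (2 ^ j)), (gen_eq_th j hj).symm⟩

end Cfsg.Agent.Lib.Helper58.NsSign
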