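import Mathlib
import Cfsg.Agent.Lib.Helper58.NsSignB
import Cfsg.Agent.Lib.Helper58.NsLevA
import Cfsg.Agent.Lib.Helper58.NsLevB
import Cfsg.Agent.Lib.Helper58.NsLevC

/-!
# The order and the kernel of the group `2^11 . M23`
-/

set_option autoImplicit false

namespace Cfsg.Agent.Lib.Helper58.NsLev

open Cfsg Cfsg.Agent.Lib.Helper26 Cfsg.Agent.Lib.Helper89 Cfsg.Agent.Lib.Helper89.DiagIso
open Cfsg.Agent.Lib.Helper58.NsData Cfsg.Agent.Lib.Helper58.NsChain Cfsg.Agent.Lib.Helper58.NsLevel
open Cfsg.Agent.Lib.Helper58.NsSign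
open Cfsg.Agent.Lib.Golay (ofMask)

theorem hm18 : 18 ≤ D.m := by decide
theorem hm17 : 17 ≤ D.m := by decide
theorem hm16 : 16 ≤ D.m := by decide
theorem hm15 : 15 ≤ D.m := by decide
theorem hm14 : 14 ≤ D.m := by decide
theorem hm12 : 12 ≤ D.m := by decide
theorem hb0 : 506 < D.N := by decide
theorem hb1 : 507 < D.N := by decide
theorem hb2 : 508 < D.N := by decide
theorem hb3 : 509 < D.N := by decide
theorem hb4 : 510 < D.N := by decide
theorem hb5 : 511 < D.N := by decide

theorem level0 : LevelOKP D 11 18 17 506 T0 E0 := levelOKP_of_check (D := D) hm18 hb0 level0c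
theorem level1 : LevelOKP D 11 17 16 507 T1 E1 := levelOKP_of_check (D := D) hm17 hb1 level1c
theorem level2 : LevelOKP D 11 16 15 508 T2 E2 := levelOKP_of_check (D := D) hm16 hb2 level2c
theorem level3 : LevelOKP D 11 15 14 509 T3 E3 := levelOKP_of_check (D := D) hm15 hb3 level3c
theorem level4 : LevelOKP D 11 14 12 510 T4 E4 := levelOKP_of_check (D := D) hm14 hb4 level4c
theorem level5 : LevelOKP D 11 12 11 511 T5 E5 := levelOKP_of_check (D := D) hm12 hb5 level5c

/-- conjugates of the sign change generators stay in `H 11` -/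
theorem conj_gen_mem (u : GG) (hu : u ∈ D.H 18) (j : ℕ) (hj : j < 11) :
    u⁻¹ * (D.gen j * u) ∈ D.H 11 := by
  have h1 : D.gen j = th (ofMask (2 ^ j)) := gen_eq_th j hj
  have h2 : IsSgn u⁻¹ := H_le_SgnGrp 18 le_rfl ((D.H 18).inv_mem hu)
  have h3 := conj_th h2 (ofMask (2 ^ j))
  rw [inv_inv] at h3
  rw [h1, ← mul_assoc, h3]
  exact th_mem _

theorem hN {k k' b : ℕ} {T : List (List ℕ)} {E : List (List (ℕ × List ℕ))}
    (h : LevelOKP D 11 k k' b T E) (hk : k ≤ 18) (hk' : 11 ≤ k') :
    ∀ j < 11, ∀ a : Fin T.length,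
      (D.ev (T.getD a.val []))⁻¹ * (D.gen j * D.ev (T.getD a.val [])) ∈ D.H k' := by
  intro j hj a
  exact D.H_mono hk' (conj_gen_mem _ (D.H_mono hk (h.hUS a)) j hj)

theorem card_H18 : Nat.card (D.H 18) = 10200960 * Nat.card (D.H 11) := by
  rw [level0.card (hN level0 (by norm_num) (by norm_num)),
    level1.card (hN level1 (by norm_num) (by norm_num)),
    level2.card (hN level2 (by norm_num) (by norm_num)),
    level3.card (hN level3 (by norm_num) (by norm_num)),
    level4.card (hN level4 (by norm_num) (by norm_num)),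
    level5.card (hN level5 (by norm_num) (by norm_num))]
  have e0 : T0.length = 23 := by decide
  have e1 : T1.length = 22 := by decide
  have e2 : T2.length = 21 := by decide
  have e3 : T3.length = 20 := by decide
  have e4 : T4.length = 16 := by decide
  have e5 : T5.length = 3 := by decide
  rw [e0, e1, e2, e3, e4, e5]
  ring

theorem smul_pt_of_snd (g : GG) (hg : g.2 = 1) (i : ℕ) (hi : i < 24) :
    g • D.pt (506 + i) = D.pt (506 + i) := by
  show g • NsChain.pt (506 + i) = NsChain.pt (506 + i)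
  have e0 : NsChain.pt (506 + i) = SumPt.inr (Helper26.pt i) := by
    unfold NsChain.pt
    rw [if_neg (by omega)]
    have : 506 + i - 506 = i := by omega
    rw [this]
  rw [e0, SumPt.smul_inr, hg, one_smul]

/-- the elements of the group with trivial second component are products of sign changes -/
theorem mem_H11_of_snd (g : GG) (hg : g ∈ D.H 18) (h2 : g.2 = 1) : g ∈ D.H 11 := by
  have s0 := level0.inf_stabilizer (hN level0 (by norm_num) (by norm_num))
  have s1 := level1.inf_stabilizer (hN level1 (by norm_num) (by norm_num))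
  have s2 := level2.inf_stabilizer (hN level2 (by norm_num) (by norm_num))
  have s3 := level3.inf_stabilizer (hN level3 (by norm_num) (by norm_num))
  have s4 := level4.inf_stabilizer (hN level4 (by norm_num) (by norm_num))
  have s5 := level5.inf_stabilizer (hN level5 (by norm_num) (by norm_num))
  have m0 : g ∈ D.H 17 := by
    rw [← s0]; exact ⟨hg, smul_pt_of_snd g h2 0 (by norm_num)⟩
  have m1 : g ∈ D.H 16 := by
    rw [← s1]; exact ⟨m0, smul_pt_of_snd g h2 1 (by norm_num)⟩
  have m2 : g ∈ D.H 15 := by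
    rw [← s2]; exact ⟨m1, smul_pt_of_snd g h2 2 (by norm_num)⟩
  have m3 : g ∈ D.H 14 := by
    rw [← s3]; exact ⟨m2, smul_pt_of_snd g h2 3 (by norm_num)⟩
  have m4 : g ∈ D.H 12 := by
    rw [← s4]; exact ⟨m3, smul_pt_of_snd g h2 4 (by norm_num)⟩
  rw [← s5]; exact ⟨m4, smul_pt_of_snd g h2 5 (by norm_num)⟩

/-- the elements of the group with trivial second component are sign changes -/
theorem exists_th_of_snd (g : GG) (hg : g ∈ D.H 18) (h2 : g.2 = 1) : ∃ w : Wd, th w = g := by
  obtain ⟨w, hw⟩ := H11_le_range (mem_H11_of_snd g hg h2)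
  exact ⟨Multiplicative.toAdd w, hw⟩

end Cfsg.Agent.Lib.Helper58.NsLev
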