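import Mathlib
import Cfsg.Prelude.Def_Spor_Mathieu
import Cfsg.Agent.Lib.Helper58.NsLevels
import Cfsg.Agent.Lib.Helper58.M24Max

/-!
# The extension `2^11 . M23`: quotient, kernel, equivariance
-/

set_option autoImplicit false

namespace Cfsg.Agent.Lib.Helper58.NsMain

open Cfsg Cfsg.Agent.Lib.Helper26 Cfsg.Agent.Lib.Helper89 Cfsg.Agent.Lib.Helper89.DiagIso
open Cfsg.Agent.Lib.Helper58.NsData Cfsg.Agent.Lib.Helper58.NsChain Cfsg.Agent.Lib.Helper58.NsLevel
open Cfsg.Agent.Lib.Helper58.NsSign Cfsg.Agent.Lib.Helper58.NsLev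
open Cfsg.Agent.Lib.Golay (ofMask)

/-! ### the kernel of the sign change map -/

/-- the words orthogonal to all blocks -/
def Ksub : Submodule (ZMod 2) Wd where
  carrier := {w | ∀ c, pair w c = 0}
  add_mem' := by
    intro a b ha hb c
    rw [pair_add, ha c, hb c, add_zero]
  zero_mem' := fun c => pair_zero c
  smul_mem' := by
    intro a w hw c
    have key : ∀ t : ZMod 2, t = 0 ∨ t = 1 := by decide
    rcases key a with rfl | rfl
    · rw [zero_smul]; exact pair_zero c
    · rw [one_smul]; exact hw c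

theorem mem_Ksub (w : Wd) : w ∈ Ksub ↔ ∀ c, pair w c = 0 := Iff.rfl

/-- the generators of the code and the unit vector at the extra point are orthogonal to the blocks -/
def orthOKb : Bool := (Golay.qrMasks ++ [Golay.allOnes, 2 ^ 23]).all (fun m =>
  (List.range 253).all (fun c => Nat.beq (pc 24 (m &&& om c) % 2) 0))

theorem orthOK : orthOKb = true := by decide +kernel

theorem ofMask_mem_Ksub (m : ℕ) (hm : m ∈ Golay.qrMasks ++ [Golay.allOnes, 2 ^ 23]) :
    ofMask m ∈ Ksub := by
  intro c
  have h := orthOK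
  unfold orthOKb at h
  have h1 := Nat.eq_of_beq_eq_true
    (List.all_eq_true.1 (List.all_eq_true.1 h m hm) c.val (List.mem_range.2 c.isLt))
  rw [pair_ofMask, natCast_zmod2, if_neg (by omega)]

theorem golayCode_le_Ksub : golayCode ≤ Ksub := by
  unfold golayCode
  rw [Submodule.span_le]
  rintro v (⟨t, rfl⟩ | hv)
  · rw [Golay.qrWord_eq]
    apply ofMask_mem_Ksub
    rw [List.mem_append]
    left
    exact (Golay.mem_qrMasks_iff _).mpr ⟨t, rfl⟩
  · rw [Set.mem_singleton_iff] at hv
    subst hv
    rw [← Golay.ofMask_allOnes]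
    apply ofMask_mem_Ksub
    simp [Golay.allOnes]

theorem single_none_eq : (Pi.single none 1 : Wd) = ofMask (2 ^ 23) := single_eq_ofMask none

theorem single_none_mem_Ksub : (Pi.single none 1 : Wd) ∈ Ksub := by
  rw [single_none_eq]
  apply ofMask_mem_Ksub
  simp

/-- the only words supported on the last 12 points that are orthogonal to the blocks -/
def kerOKb : Bool := (List.range 4096).all (fun r =>
  !(kerIdx.all (fun c => Nat.beq (pc 24 ((4096 * r) &&& om c) % 2) 0)) ||
    (Nat.beq r 0 || Nat.beq r 2048))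

theorem kerOK : kerOKb = true := by decide +kernel

theorem kerIdx_lt : ∀ c ∈ kerIdx, c < 253 := by decide

theorem ker_small (r : ℕ) (hr : r < 4096) (h : ofMask (4096 * r) ∈ Ksub) : r = 0 ∨ r = 2048 := by
  have hk := kerOK
  unfold kerOKb at hk
  have h1 := List.all_eq_true.1 hk r (List.mem_range.2 hr)
  rw [Bool.or_eq_true] at h1
  rcases h1 with h1 | h1
  · exfalso
    rw [Bool.not_eq_true', ← Bool.not_eq_true] at h1
    apply h1
    rw [List.all_eq_true]
    intro c hc
    have h2 := h ⟨c, kerIdx_lt c hc⟩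
    rw [pair_ofMask, natCast_zmod2] at h2
    have h3 : ¬ pc 24 (4096 * r &&& om c) % 2 = 1 := by
      intro h4
      rw [if_pos h4] at h2
      exact one_ne_zero h2
    have h4 : pc 24 (4096 * r &&& om c) % 2 = 0 := by omega
    rw [h4]
    rfl
  · rw [Bool.or_eq_true] at h1
    rcases h1 with h1 | h1
    · exact Or.inl (Nat.eq_of_beq_eq_true h1)
    · exact Or.inr (Nat.eq_of_beq_eq_true h1)

theorem mem_Ksub_iff (w : Wd) :
    w ∈ Ksub ↔ (w ∈ golayCode ∨ w + Pi.single none 1 ∈ golayCode) := by
  constructor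
  · intro hw
    set m := Golay.toMask w with hm
    have hm24 : m < 2 ^ 24 := Golay.toMask_lt w
    have hwm : w = ofMask m := (Golay.ofMask_toMask w).symm
    set c := Golay.encode (m % 4096) with hc
    have hc24 : c < 2 ^ 24 := Golay.encode_lt _
    have hcm : c % 4096 = m % 4096 := Golay.encode_mod _ (Nat.mod_lt _ (by norm_num))
    have hcode : ofMask c ∈ golayCode := Golay.ofMask_encode_mem _
    have hr24 : m ^^^ c < 2 ^ 24 := Nat.xor_lt_two_pow hm24 hc24
    have hr0 : (m ^^^ c) % 4096 = 0 := by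
      have : (4096 : ℕ) = 2 ^ 12 := by norm_num
      rw [this, Nat.xor_mod_two_pow, ← this, hcm, Nat.xor_self]
    have hrK : ofMask (m ^^^ c) ∈ Ksub := by
      rw [Golay.ofMask_xor, ← hwm]
      exact Ksub.add_mem hw (golayCode_le_Ksub hcode)
    obtain ⟨r, hr⟩ : ∃ r, m ^^^ c = 4096 * r := ⟨(m ^^^ c) / 4096, by omega⟩
    have hr4 : r < 4096 := by omega
    rw [hr] at hrK
    rcases ker_small r hr4 hrK with h0 | h0
    · left
      have : m ^^^ c = 0 := by rw [hr, h0]
      have hmc : m = c := Nat.xor_eq_zero_iff.mp this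
      rw [hwm, hmc]
      exact hcode
    · right
      have h1 : m ^^^ c = 2 ^ 23 := by rw [hr, h0]; norm_num
      have h2 : m ^^^ 2 ^ 23 = c := by
        rw [← h1, ← Nat.xor_assoc, Nat.xor_self, Nat.zero_xor]
      rw [single_none_eq, hwm, ← Golay.ofMask_xor, h2]
      exact hcode
  · rintro (h | h)
    · exact golayCode_le_Ksub h
    · have h1 := Ksub.add_mem (golayCode_le_Ksub h) single_none_mem_Ksub
      rwa [add_assoc, add_self_wd, add_zero] at h1

theorem th_eq_one_iff_code (w : Wd) :
    th w = 1 ↔ (w ∈ golayCode ∨ w + Pi.single none 1 ∈ golayCode) := by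
  rw [th_eq_one_iff, ← mem_Ksub_iff]
  rfl

/-! ### the second components lie in `M23` -/

theorem fix_none_all : (List.range 18).all (fun j => Nat.beq (tab j 529) 529) = true := by
  decide +kernel

theorem genG_mem_M23 (j : ℕ) (hj : j < 18) : genG j ∈ Spor.M23 := by
  show genG j ∈ M24Max.M23'
  rw [M24Max.mem_M23']
  refine ⟨genG_mem_M24 j hj, ?_⟩
  exact genG_none j hj (Nat.eq_of_beq_eq_true (List.all_eq_true.1 fix_none_all j (List.mem_range.2 hj)))

/-- the group -/
abbrev E0 : Subgroup GG := D.H 18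

theorem snd_mem_M23 (g : GG) (hg : g ∈ E0) : g.2 ∈ Spor.M23 := by
  have : D.H 18 ≤ (Spor.M23).comap (MonoidHom.snd S (Equiv.Perm GolayPt)) := by
    rw [TableChain2.Data.H, Subgroup.closure_le]
    rintro g ⟨j, hj, rfl⟩
    show (D.gen j).2 ∈ Spor.M23
    have : (D.gen j).2 = genG j := gen_snd j
    rw [this]
    exact genG_mem_M23 j hj
  exact this hg

/-- the projection to the second component -/
def proj : E0 →* Equiv.Perm GolayPt := (MonoidHom.snd S (Equiv.Perm GolayPt)).comp E0.subtype

theorem proj_apply (g : E0) : proj g = g.1.2 := rfl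

theorem range_le : proj.range ≤ Spor.M23 := by
  rintro σ ⟨g, rfl⟩
  exact snd_mem_M23 g.1 g.2

theorem card_M23 : Nat.card Spor.M23 = 10200960 := M24Max.card_M23'

theorem card_ker_le : Nat.card proj.ker ≤ Nat.card (D.H 11) := by
  apply Nat.card_le_card_of_injective
    (fun n : proj.ker => (⟨n.1.1, mem_H11_of_snd n.1.1 n.1.2 n.2⟩ : D.H 11))
  intro a b hab
  have := congrArg Subtype.val hab
  exact Subtype.ext (Subtype.ext this)

theorem range_eq : proj.range = Spor.M23 := by
  apply Subgroup.eq_of_le_of_card_ge range_le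
  rw [card_M23]
  have h1 := Subgroup.card_eq_card_quotient_mul_card_subgroup proj.ker
  have h2 : Nat.card (E0 ⧸ proj.ker) = Nat.card proj.range :=
    Nat.card_congr (QuotientGroup.quotientKerEquivRange proj).toEquiv
  have h3 : Nat.card E0 = 10200960 * Nat.card (D.H 11) := card_H18
  have h4 := card_ker_le
  have h5 : 0 < Nat.card proj.ker := Nat.card_pos
  rw [h2, h3] at h1
  by_contra hlt
  rw [not_le] at hlt
  have : Nat.card proj.range * Nat.card proj.ker < 10200960 * Nat.card (D.H 11) := by
    calc Nat.card proj.range * Nat.card proj.ker < 10200960 * Nat.card proj.ker :=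
          Nat.mul_lt_mul_of_pos_right hlt h5
      _ ≤ 10200960 * Nat.card (D.H 11) := Nat.mul_le_mul_left _ h4
  omega

/-- the isomorphism of the quotient with `M23` -/
noncomputable def phi : E0 ⧸ proj.ker ≃* Spor.M23 :=
  (QuotientGroup.quotientKerEquivRange proj).trans (MulEquiv.subgroupCongr range_eq)

theorem phi_apply (g : E0) : ((phi (QuotientGroup.mk g) : Spor.M23) : Equiv.Perm GolayPt) = g.1.2 :=
  rfl

/-! ### the sign change map into the kernel -/

/-- the sign change as an element of the kernel -/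
def thN (w : Wd) : proj.ker :=
  ⟨⟨th w, D.H_mono (by norm_num : 11 ≤ 18) (th_mem w)⟩, by
    rw [MonoidHom.mem_ker, proj_apply]
    rfl⟩

theorem thN_val (w : Wd) : (thN w).1.1 = th w := rfl

/-- the sign change map -/
def theta : Wd →+ Additive proj.ker where
  toFun w := Additive.ofMul (thN w)
  map_zero' := by
    apply congrArg Additive.ofMul
    apply Subtype.ext
    apply Subtype.ext
    exact th_zero
  map_add' a b := by
    show Additive.ofMul (thN (a + b)) = Additive.ofMul (thN a * thN b)
    apply congrArg Additive.ofMul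
    apply Subtype.ext
    apply Subtype.ext
    exact th_add a b

theorem theta_toMul (w : Wd) : ((theta w).toMul : proj.ker) = thN w := rfl

theorem theta_surj : Function.Surjective theta := by
  intro n
  obtain ⟨w, hw⟩ := exists_th_of_snd n.toMul.1.1 n.toMul.1.2 n.toMul.2
  refine ⟨w, ?_⟩
  show Additive.ofMul (thN w) = n
  have : thN w = n.toMul := Subtype.ext (Subtype.ext hw)
  rw [this]
  rfl

theorem theta_eq_zero_iff (w : Wd) :
    theta w = 0 ↔ (w ∈ golayCode ∨ w + Pi.single none 1 ∈ golayCode) := by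
  rw [← th_eq_one_iff_code]
  constructor
  · intro h
    have h1 : thN w = 1 := h
    have := congrArg (fun n : proj.ker => n.1.1) h1
    exact this
  · intro h
    show Additive.ofMul (thN w) = Additive.ofMul 1
    apply congrArg Additive.ofMul
    apply Subtype.ext
    apply Subtype.ext
    exact h

theorem theta_equivariant (g : E0) (w : Wd) :
    (((theta (w ∘ ⇑(((phi (QuotientGroup.mk g) : Spor.M23) : Equiv.Perm GolayPt))⁻¹)).toMul :
      proj.ker) : E0) = g * ((theta w).toMul : proj.ker) * g⁻¹ := by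
  rw [phi_apply]
  apply Subtype.ext
  show th (w ∘ ⇑g.1.2⁻¹) = g.1 * th w * g.1⁻¹
  rw [conj_th (H_le_SgnGrp 18 le_rfl g.2)]

end Cfsg.Agent.Lib.Helper58.NsMain
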