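import Mathlib
import Cfsg.Agent.Lib.Helper58.NsMain

/-!
# The extension `2^11 . M23` does not split

A complement would contain lifts of two elements generating a quaternion group, and the two defining
relations of that group cannot hold for any choice of lifts: a linear functional separates.
-/

set_option autoImplicit false

namespace Cfsg.Agent.Lib.Helper58.NsSplit

open Cfsg Cfsg.Agent.Lib.Helper26 Cfsg.Agent.Lib.Helper89 Cfsg.Agent.Lib.Helper89.DiagIso
open Cfsg.Agent.Lib.Helper58.NsData Cfsg.Agent.Lib.Helper58.NsChain Cfsg.Agent.Lib.Helper58.NsLevel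
open Cfsg.Agent.Lib.Helper58.NsSign Cfsg.Agent.Lib.Helper58.NsLev Cfsg.Agent.Lib.Helper58.NsMain
open Cfsg.Agent.Lib.Golay (ofMask)

/-! ### the two relations -/

theorem rel1c : thCheck (waW ++ waW) (wbW ++ wbW) rho1 = true := by decide +kernel

theorem rel2c : thCheck (waW ++ wbW ++ waW) wbW rho2 = true := by decide +kernel

theorem waW_lt : ∀ c ∈ waW, c < 18 := by decide

theorem wbW_lt : ∀ c ∈ wbW, c < 18 := by decide

/-- the first lift -/
def A0 : GG := D.ev waW

/-- the second lift -/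
def B0 : GG := D.ev wbW

theorem A0_mem : A0 ∈ D.H 18 := D.ev_mem 18 _ waW_lt

theorem B0_mem : B0 ∈ D.H 18 := D.ev_mem 18 _ wbW_lt

theorem A0_sgn : IsSgn A0 := H_le_SgnGrp 18 le_rfl A0_mem

theorem B0_sgn : IsSgn B0 := H_le_SgnGrp 18 le_rfl B0_mem

theorem rel1 : A0 * A0 = th (ofMask rho1) * (B0 * B0) := by
  have := ev_eq_of_thCheck rel1c
  rwa [TableChain2.Data.ev_append, TableChain2.Data.ev_append] at this

theorem rel2 : A0 * B0 * A0 = th (ofMask rho2) * B0 := by
  have := ev_eq_of_thCheck rel2c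
  rwa [TableChain2.Data.ev_append, TableChain2.Data.ev_append] at this

/-! ### the second components on point indices -/

theorem ev_snd_apply (l : List ℕ) (hl : ∀ c ∈ l, c < 18) (p : GolayPt) :
    (D.ev l).2 p = Helper26.pt (TableChain2.act tab l (506 + idx p) - 506) := by
  have hx : 506 + idx p < 530 := by have := idx_lt p; omega
  have h1 : D.ev l • NsChain.pt (506 + idx p) = NsChain.pt (TableChain2.act tab l (506 + idx p)) :=
    D.ev_smul l hl _ hx
  rw [pt_inr, SumPt.smul_inr] at h1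
  by_cases h : TableChain2.act tab l (506 + idx p) < 506
  · exfalso
    unfold NsChain.pt at h1
    rw [if_pos h] at h1
    exact SumPt.inl_ne_inr _ _ h1.symm
  · unfold NsChain.pt at h1
    rw [if_neg h] at h1
    exact SumPt.inr_injective h1

/-- Boolean test that `ofMask u ∘ (D.ev l).2 = ofMask u'` -/
def compCheck (l : List ℕ) (u u' : ℕ) : Bool :=
  l.all (fun c => Nat.blt c 18) &&
  (List.range 24).all (fun i =>
    Nat.blt (TableChain2.act tab l (506 + i) - 506) 24 &&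
    (u.testBit (TableChain2.act tab l (506 + i) - 506) == u'.testBit i))

theorem comp_of_check {l : List ℕ} {u u' : ℕ} (h : compCheck l u u' = true) :
    ofMask u ∘ ⇑(D.ev l).2 = ofMask u' := by
  unfold compCheck at h
  rw [Bool.and_eq_true] at h
  obtain ⟨h1, h2⟩ := h
  have hl : ∀ c ∈ l, c < 18 := fun c hc => Nat.le_of_ble_eq_true (List.all_eq_true.1 h1 c hc)
  funext p
  have h3 := List.all_eq_true.1 h2 (idx p) (List.mem_range.2 (idx_lt p))
  rw [Bool.and_eq_true] at h3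
  obtain ⟨h4, h5⟩ := h3
  have h4' : TableChain2.act tab l (506 + idx p) - 506 < 24 := Nat.le_of_ble_eq_true h4
  rw [Function.comp_apply, ev_snd_apply l hl, ofMask_apply, ofMask_apply, idx_pt _ h4']
  rw [beq_iff_eq] at h5
  rw [h5]

theorem c1a : compCheck waW u1 u1a = true := by decide +kernel
theorem c1b : compCheck wbW u1 u1b = true := by decide +kernel
theorem c2a : compCheck waW u2 u2a = true := by decide +kernel
theorem c2ab : compCheck (waW ++ wbW) u2 u2ab = true := by decide +kernel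

theorem u1_a : ofMask u1 ∘ ⇑A0.2 = ofMask u1a := comp_of_check c1a
theorem u1_b : ofMask u1 ∘ ⇑B0.2 = ofMask u1b := comp_of_check c1b
theorem u2_a : ofMask u2 ∘ ⇑A0.2 = ofMask u2a := comp_of_check c2a
theorem u2_ab : ofMask u2 ∘ ⇑(A0 * B0).2 = ofMask u2ab := by
  have := comp_of_check c2ab
  rwa [TableChain2.Data.ev_append] at this

theorem sumA : ofMask u1 + ofMask u1a + ofMask u2 + ofMask u2ab = (0 : Wd) := by
  rw [← Golay.ofMask_xor, ← Golay.ofMask_xor, ← Golay.ofMask_xor]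
  have : u1 ^^^ u1a ^^^ u2 ^^^ u2ab = 0 := by decide
  rw [this, Golay.ofMask_zero]

theorem sumB : ofMask u1 + ofMask u1b + ofMask u2a + ofMask u2 = (0 : Wd) := by
  rw [← Golay.ofMask_xor, ← Golay.ofMask_xor, ← Golay.ofMask_xor]
  have : u1 ^^^ u1b ^^^ u2a ^^^ u2 = 0 := by decide
  rw [this, Golay.ofMask_zero]

theorem const1 : dot (ofMask rho1) (ofMask u1) + dot (ofMask rho2) (ofMask u2) = 1 := by
  rw [dot_ofMask, dot_ofMask]
  decide

/-! ### the functionals vanish on the kernel of the sign change map -/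

/-- the masks `u1`, `u2` are orthogonal to the code and to the unit vector at the extra point -/
def uOKb : Bool := (Golay.qrMasks ++ [Golay.allOnes, 2 ^ 23]).all (fun m =>
  Nat.beq (pc 24 (m &&& u1) % 2) 0 && Nat.beq (pc 24 (m &&& u2) % 2) 0)

theorem uOK : uOKb = true := by decide +kernel

/-- the words orthogonal to `u1` and `u2` -/
def Usub : Submodule (ZMod 2) Wd where
  carrier := {w | dot w (ofMask u1) = 0 ∧ dot w (ofMask u2) = 0}
  add_mem' := by
    rintro a b ⟨ha1, ha2⟩ ⟨hb1, hb2⟩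
    exact ⟨by rw [dot_add_left, ha1, hb1, add_zero], by rw [dot_add_left, ha2, hb2, add_zero]⟩
  zero_mem' := ⟨dot_zero_left _, dot_zero_left _⟩
  smul_mem' := by
    rintro a w ⟨h1, h2⟩
    have key : ∀ t : ZMod 2, t = 0 ∨ t = 1 := by decide
    rcases key a with rfl | rfl
    · rw [zero_smul]; exact ⟨dot_zero_left _, dot_zero_left _⟩
    · rw [one_smul]; exact ⟨h1, h2⟩

theorem ofMask_mem_Usub (m : ℕ) (hm : m ∈ Golay.qrMasks ++ [Golay.allOnes, 2 ^ 23]) :
    ofMask m ∈ Usub := by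
  have h := uOK
  unfold uOKb at h
  have h1 := List.all_eq_true.1 h m hm
  rw [Bool.and_eq_true] at h1
  have e1 := Nat.eq_of_beq_eq_true h1.1
  have e2 := Nat.eq_of_beq_eq_true h1.2
  constructor
  · rw [dot_ofMask, natCast_zmod2, if_neg (by omega)]
  · rw [dot_ofMask, natCast_zmod2, if_neg (by omega)]

theorem golayCode_le_Usub : golayCode ≤ Usub := by
  unfold golayCode
  rw [Submodule.span_le]
  rintro v (⟨t, rfl⟩ | hv)
  · rw [Golay.qrWord_eq]
    apply ofMask_mem_Usub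
    rw [List.mem_append]
    left
    exact (Golay.mem_qrMasks_iff _).mpr ⟨t, rfl⟩
  · rw [Set.mem_singleton_iff] at hv
    subst hv
    rw [← Golay.ofMask_allOnes]
    apply ofMask_mem_Usub
    simp [Golay.allOnes]

theorem mem_Usub_of_th (Y : Wd) (h : th Y = 1) : Y ∈ Usub := by
  rcases (th_eq_one_iff_code Y).1 h with h1 | h1
  · exact golayCode_le_Usub h1
  · have h2 : (Pi.single none 1 : Wd) ∈ Usub := by
      rw [single_none_eq]
      apply ofMask_mem_Usub
      simp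
    have h3 := Usub.add_mem (golayCode_le_Usub h1) h2
    rwa [add_assoc, add_self_wd, add_zero] at h3

/-! ### no choice of lifts satisfies both relations -/

theorem th_eq_imp {x y : Wd} (h : th x = th y) : th (x + y) = 1 := by
  rw [th_add, h, th_mul_self]

theorem sq_lift {g : GG} (hg : IsSgn g) (w : Wd) :
    th w * g * (th w * g) = th (w + w ∘ ⇑g.2⁻¹) * (g * g) := by
  calc th w * g * (th w * g) = th w * (g * th w) * g := by simp only [mul_assoc]
    _ = th w * (th (w ∘ ⇑g.2⁻¹) * g) * g := by rw [th_mul_comm hg]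
    _ = th w * th (w ∘ ⇑g.2⁻¹) * (g * g) := by simp only [mul_assoc]
    _ = th (w + w ∘ ⇑g.2⁻¹) * (g * g) := by rw [← th_add]

theorem triple_lift {g h : GG} (hg : IsSgn g) (hh : IsSgn h) (w v : Wd) :
    th w * g * (th v * h) * (th w * g) =
      th (w + v ∘ ⇑g.2⁻¹ + w ∘ ⇑(g * h).2⁻¹) * (g * h * g) := by
  have hgh : IsSgn (g * h) := isSgn_mul hg hh
  calc th w * g * (th v * h) * (th w * g)
      = th w * (g * th v) * (h * th w * g) := by simp only [mul_assoc]
    _ = th w * (th (v ∘ ⇑g.2⁻¹) * g) * (h * th w * g) := by rw [th_mul_comm hg]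
    _ = th w * th (v ∘ ⇑g.2⁻¹) * ((g * h) * th w) * g := by simp only [mul_assoc]
    _ = th w * th (v ∘ ⇑g.2⁻¹) * (th (w ∘ ⇑(g * h).2⁻¹) * (g * h)) * g := by
      rw [th_mul_comm hgh]
    _ = th w * th (v ∘ ⇑g.2⁻¹) * th (w ∘ ⇑(g * h).2⁻¹) * (g * h * g) := by
      simp only [mul_assoc]
    _ = th (w + v ∘ ⇑g.2⁻¹ + w ∘ ⇑(g * h).2⁻¹) * (g * h * g) := by rw [← th_add, ← th_add]

theorem rel1_lift (wa wb : Wd)
    (h1 : (th wa * A0) * (th wa * A0) = (th wb * B0) * (th wb * B0)) :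
    th ((wa + wa ∘ ⇑A0.2⁻¹ + ofMask rho1) + (wb + wb ∘ ⇑B0.2⁻¹)) = 1 := by
  rw [sq_lift A0_sgn, sq_lift B0_sgn, rel1, ← mul_assoc, ← th_add] at h1
  exact th_eq_imp (mul_right_cancel h1)

theorem rel2_lift (wa wb : Wd)
    (h2 : (th wa * A0) * (th wb * B0) * (th wa * A0) = th wb * B0) :
    th ((wa + wb ∘ ⇑A0.2⁻¹ + wa ∘ ⇑(A0 * B0).2⁻¹ + ofMask rho2) + wb) = 1 := by
  rw [triple_lift A0_sgn B0_sgn, rel2, ← mul_assoc, ← th_add] at h2
  exact th_eq_imp (mul_right_cancel h2)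

theorem zmod2_lin (a1 a2 a3 a4 b1 b2 b3 b4 r1 r2 : ZMod 2)
    (f1 : a1 + a2 + r1 + (b1 + b2) = 0)
    (f2 : a3 + b3 + a4 + r2 + b4 = 0)
    (hA : a1 + a2 + a3 + a4 = 0)
    (hB : b1 + b2 + b3 + b4 = 0)
    (hc : r1 + r2 = 1) : False := by
  have h2 : (2 : ZMod 2) = 0 := rfl
  have : r1 + r2 = 0 := by
    linear_combination f1 + f2 + hA + hB - (a1 + a2 + a3 + a4 + b1 + b2 + b3 + b4) * h2
  rw [this] at hc
  exact zero_ne_one hc

theorem no_lifts (wa wb : Wd)
    (h1 : (th wa * A0) * (th wa * A0) = (th wb * B0) * (th wb * B0))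
    (h2 : (th wa * A0) * (th wb * B0) * (th wa * A0) = th wb * B0) : False := by
  have f1 := (mem_Usub_of_th _ (rel1_lift wa wb h1)).1
  have f2 := (mem_Usub_of_th _ (rel2_lift wa wb h2)).2
  simp only [dot_add_left, dot_comp_inv] at f1 f2
  rw [u1_a, u1_b] at f1
  rw [u2_a, u2_ab] at f2
  have hA : dot wa (ofMask u1 + ofMask u1a + ofMask u2 + ofMask u2ab) = 0 := by
    rw [sumA, dot_zero_right]
  have hB : dot wb (ofMask u1 + ofMask u1b + ofMask u2a + ofMask u2) = 0 := by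
    rw [sumB, dot_zero_right]
  simp only [dot_add_right] at hA hB
  have hc := const1
  exact zmod2_lin _ _ _ _ _ _ _ _ _ _ f1 f2 hA hB hc

/-! ### the extension does not split -/

theorem lift_exists (H : Subgroup E0) (htop : H ⊔ proj.ker = ⊤) (g : E0) :
    ∃ w : Wd, ((thN w : proj.ker) : E0) * g ∈ H := by
  have hg : g ∈ ((H ⊔ proj.ker : Subgroup E0) : Set E0) := by
    rw [htop]
    trivial
  rw [sup_comm, Subgroup.normal_mul] at hg
  obtain ⟨n, hn, h, hh, hnh⟩ := Set.mem_mul.1 hg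
  obtain ⟨w, hw⟩ := theta_surj (Additive.ofMul (⟨n, hn⟩ : proj.ker)⁻¹)
  refine ⟨w, ?_⟩
  have e : (thN w : proj.ker) = (⟨n, hn⟩ : proj.ker)⁻¹ := congrArg Additive.toMul hw
  rw [e, ← hnh]
  have : (((⟨n, hn⟩ : proj.ker)⁻¹ : proj.ker) : E0) * (n * h) = h := by
    show n⁻¹ * (n * h) = h
    rw [inv_mul_cancel_left]
  rw [this]
  exact hh

theorem snd_rel1 : A0.2 * A0.2 = B0.2 * B0.2 := by
  have := congrArg Prod.snd rel1
  simpa only [Prod.snd_mul, th_snd, one_mul] using this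

theorem snd_rel2 : A0.2 * B0.2 * A0.2 = B0.2 := by
  have := congrArg Prod.snd rel2
  simpa only [Prod.snd_mul, th_snd, one_mul] using this

theorem nonsplit (H : Subgroup E0) (hHN : H ⊓ proj.ker = ⊥) : H ⊔ proj.ker ≠ ⊤ := by
  intro htop
  obtain ⟨wa, ha⟩ := lift_exists H htop ⟨A0, A0_mem⟩
  obtain ⟨wb, hb⟩ := lift_exists H htop ⟨B0, B0_mem⟩
  have triv : ∀ x ∈ H, x.1.2 = 1 → x = 1 := by
    intro x hx h2
    have hk : x ∈ proj.ker := by
      rw [MonoidHom.mem_ker, proj_apply]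
      exact h2
    have hx2 : x ∈ H ⊓ proj.ker := Subgroup.mem_inf.2 ⟨hx, hk⟩
    rw [hHN] at hx2
    exact Subgroup.mem_bot.1 hx2
  set a' : E0 := ((thN wa : proj.ker) : E0) * ⟨A0, A0_mem⟩ with ha'
  set b' : E0 := ((thN wb : proj.ker) : E0) * ⟨B0, B0_mem⟩ with hb'
  have a1 : a'.1 = th wa * A0 := rfl
  have b1 : b'.1 = th wb * B0 := rfl
  have a2 : a'.1.2 = A0.2 := by rw [a1, Prod.snd_mul, th_snd, one_mul]
  have b2 : b'.1.2 = B0.2 := by rw [b1, Prod.snd_mul, th_snd, one_mul]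
  have e1 : a' * a' * (b' * b')⁻¹ = 1 := by
    apply triv _ (H.mul_mem (H.mul_mem ha ha) (H.inv_mem (H.mul_mem hb hb)))
    show a'.1.2 * a'.1.2 * (b'.1.2 * b'.1.2)⁻¹ = 1
    rw [a2, b2, snd_rel1, mul_inv_cancel]
  have e2 : a' * b' * a' * b'⁻¹ = 1 := by
    apply triv _ (H.mul_mem (H.mul_mem (H.mul_mem ha hb) ha) (H.inv_mem hb))
    show a'.1.2 * b'.1.2 * a'.1.2 * (b'.1.2)⁻¹ = 1
    rw [a2, b2, snd_rel2, mul_inv_cancel]
  apply no_lifts wa wb
  · have h := congrArg (fun x : E0 => x.1) (mul_inv_eq_one.1 e1)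
    exact h
  · have h := congrArg (fun x : E0 => x.1) (mul_inv_eq_one.1 e2)
    exact h

end Cfsg.Agent.Lib.Helper58.NsSplit
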