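import Mathlib
import Cfsg.Agent.Lib.Helper60.PrimeGraphExt

/-!
# Prime graphs of split extensions by elementary abelian `p`-groups

The complement has order divisible by `p`; the elements of prime order `r ≠ p` such that the complement has
no element of order `p r` have no fixed points on the kernel.  Then the extension has the prime graph of the
complement.
-/

set_option autoImplicit false

namespace Cfsg.Agent.Lib.Helper58.PGExtP

open SemidirectProduct Subgroup

theorem no_p_mul {L V : Type*} [Group L] [CommGroup V] (φ : L →* MulAut V)
    (h : V ⋊[φ] L) (p r : ℕ) (hp : p.Prime) (hh : orderOf h = p * r) (hr : r.Prime)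
    (hx : orderOf h.right = r) (hfpf : ∀ v : V, φ h.right v = v → v = 1) : False := by
  have hk1 : (h ^ r).right = 1 := by
    have : (h ^ r).right = h.right ^ r := map_pow (rightHom : V ⋊[φ] L →* L) h r
    rw [this, ← hx, pow_orderOf_eq_one]
  have hkne : h ^ r ≠ 1 := by
    intro e
    have h1 := orderOf_dvd_of_pow_eq_one e
    rw [hh] at h1
    have hpos := hr.pos
    have h2 := Nat.le_of_dvd hpos h1
    have h3 := hp.two_le
    nlinarith
  have hw : (h ^ r).left ≠ 1 := by
    intro e
    apply hkne
    ext
    · simpa using e
    · simpa using hk1
  have hcomm : h * h ^ r = h ^ r * h := (pow_mul_comm' h r).symm ▸ rfl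
  have hl := congrArg SemidirectProduct.left hcomm
  rw [mul_left, mul_left, hk1, map_one, MulAut.one_apply] at hl
  have hfix : φ h.right (h ^ r).left = (h ^ r).left := by
    have : h.left * φ h.right (h ^ r).left = h.left * (h ^ r).left := by
      rw [hl, mul_comm]
    exact mul_left_cancel this
  exact hw (hfpf _ hfix)

theorem primeGraph_semidirect_p {L V : Type*} [Group L] [Finite L] [CommGroup V] [Finite V]
    (φ : L →* MulAut V) (p : ℕ) (hp : p.Prime) (hV : ∀ v : V, v ^ p = 1) (hpL : p ∣ Nat.card L)
    (hfpf : ∀ (x : L) (r : ℕ), r.Prime → r ≠ p → orderOf x = r → (¬ ∃ g : L, orderOf g = p * r) →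
      ∀ v : V, φ x v = v → v = 1) :
    Cfsg.Agent.Lib.Helper60.SamePrimeGraph L (V ⋊[φ] L) := by
  have : Fact p.Prime := ⟨hp⟩
  constructor
  · intro q hq
    rw [SemidirectProduct.card]
    constructor
    · intro h
      exact Dvd.dvd.mul_left h _
    · intro h
      have hpV : IsPGroup p V := by
        intro v
        exact ⟨1, by simpa using hV v⟩
      obtain ⟨n, hn⟩ := IsPGroup.iff_card.mp hpV
      rw [hn] at h
      rcases (Nat.Prime.dvd_mul hq).mp h with h' | h'
      · have := (Nat.prime_dvd_prime_iff_eq hq hp).mp (hq.dvd_of_dvd_pow h')
        rw [this]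
        exact hpL
      · exact h'
  · intro a b ha hb hab
    constructor
    · rintro ⟨g, hg⟩
      refine ⟨inr g, ?_⟩
      rw [orderOf_injective (inr : L →* V ⋊[φ] L) inr_injective g, hg]
    · rintro ⟨h, hh⟩
      by_contra hcon
      push Not at hcon
      have hd : orderOf h.right ∣ a * b := by
        apply orderOf_dvd_of_pow_eq_one
        have : (h ^ (a * b)).right = h.right ^ (a * b) := map_pow (rightHom : V ⋊[φ] L →* L) h (a * b)
        rw [← this, ← hh, pow_orderOf_eq_one]
        rfl
      have hdne : orderOf h.right ≠ a * b := hcon h.right
      have h2d : a * b ∣ p * orderOf h.right := by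
        rw [← hh]
        apply orderOf_dvd_of_pow_eq_one
        have hr1 : (h ^ orderOf h.right).right = 1 := by
          have : (h ^ orderOf h.right).right = h.right ^ orderOf h.right :=
            map_pow (rightHom : V ⋊[φ] L →* L) h _
          rw [this, pow_orderOf_eq_one]
        rw [mul_comm, pow_mul]
        have hleft : ∀ n : ℕ, ((h ^ orderOf h.right) ^ n).left = (h ^ orderOf h.right).left ^ n ∧
            ((h ^ orderOf h.right) ^ n).right = 1 := by
          intro n
          induction n with
          | zero => simp
          | succ n ih =>
            rw [pow_succ, mul_left, mul_right, ih.1, ih.2, map_one, MulAut.one_apply, hr1, pow_succ]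
            simp
        ext
        · rw [(hleft p).1, hV]
          rfl
        · rw [(hleft p).2]
          rfl
      have ha2 := ha.two_le
      have hb2 := hb.two_le
      rcases Nat.coprime_or_dvd_of_prime ha (orderOf h.right) with hc | hc
      · have hdq : orderOf h.right ∣ b := (Nat.Coprime.dvd_mul_left hc.symm).mp hd
        rcases (Nat.dvd_prime hb).mp hdq with h1 | h1
        · rw [h1, mul_one] at h2d
          rcases (Nat.dvd_prime hp).mp h2d with h3 | h3
          · nlinarith
          · have : a ∣ p := by rw [← h3]; exact Dvd.intro _ rfl
            have hap : a = p := (Nat.prime_dvd_prime_iff_eq ha hp).mp this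
            rw [hap] at h3
            have : b = 1 := by
              have hp0 := hp.pos
              nlinarith
            omega
        · rw [h1] at h2d
          have ha' : a ∣ p := by
            have : a * b ∣ p * b := h2d
            exact Nat.dvd_of_mul_dvd_mul_right hb.pos this
          have hae : a = p := (Nat.prime_dvd_prime_iff_eq ha hp).mp ha'
          subst hae
          exact no_p_mul φ h a b ha hh hb h1
            (hfpf h.right b hb (fun e => hab e.symm) h1 (by
              rintro ⟨g, hg⟩
              exact hcon g hg))
      · obtain ⟨e, he⟩ := hc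
        have heq : e ∣ b := by
          rw [he] at hd
          exact Nat.dvd_of_mul_dvd_mul_left ha.pos hd
        rcases (Nat.dvd_prime hb).mp heq with h1 | h1
        · rw [h1, mul_one] at he
          rw [he] at h2d
          have hb' : b ∣ p := by
            have : b * a ∣ p * a := by rwa [mul_comm b a]
            exact Nat.dvd_of_mul_dvd_mul_right ha.pos this
          have hbe : b = p := (Nat.prime_dvd_prime_iff_eq hb hp).mp hb'
          subst hbe
          rw [mul_comm] at hh
          exact no_p_mul φ h b a hb hh ha he
            (hfpf h.right a ha hab he (by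
              rintro ⟨g, hg⟩
              exact hcon g (by rw [hg, mul_comm])))
        · rw [h1] at he
          exact hdne he

end Cfsg.Agent.Lib.Helper58.PGExtP
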