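import Mathlib
import Cfsg.Agent.Lib.Helper58.PGExtP
import Cfsg.Agent.Lib.Helper58.PGExt

/-!
# Elements of order `a b` in a split extension by an elementary abelian `p`-group

If the complement has no element of order `a b` (two distinct primes), an element of order `a b` of the
extension has `p ∈ {a, b}` and its image in the complement has the other prime as order.
-/

set_option autoImplicit false

namespace Cfsg.Agent.Lib.Helper58.PGExtQ

open SemidirectProduct Subgroup

theorem right_order_cases {L V : Type*} [Group L] [CommGroup V] (φ : L →* MulAut V) (p : ℕ) (hp : p.Prime)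
    (hV : ∀ v : V, v ^ p = 1) (a b : ℕ) (ha : a.Prime) (hb : b.Prime) (_hab : a ≠ b)
    (h : V ⋊[φ] L) (hh : orderOf h = a * b) (hcon : ∀ g : L, orderOf g ≠ a * b) :
    (a = p ∧ orderOf h.right = b) ∨ (b = p ∧ orderOf h.right = a) := by
  have hd : orderOf h.right ∣ a * b := by
    apply orderOf_dvd_of_pow_eq_one
    have : (h ^ (a * b)).right = h.right ^ (a * b) := map_pow (rightHom : V ⋊[φ] L →* L) h (a * b)
    rw [← this, ← hh, pow_orderOf_eq_one]
    rfl
  have hdne : orderOf h.right ≠ a * b := hcon h.right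
  have h2d : a * b ∣ p * orderOf h.right := by
    rw [← hh]
    apply orderOf_dvd_of_pow_eq_one
    have hr1 : (h ^ orderOf h.right).right = 1 := by
      have : (h ^ orderOf h.right).right = h.right ^ orderOf h.right :=
        map_pow (rightHom : V ⋊[φ] L →* L) h _
      rw [this, pow_orderOf_eq_one]
    rw [mul_comm, pow_mul]
    have hleft : ∀ n : ℕ, ((h ^ orderOf h.right) ^ n).left = (h ^ orderOf h.right).left ^ n ∧
        ((h ^ orderOf h.right) ^ n).right = 1 := by
      intro n
      induction n with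
      | zero => simp
      | succ n ih =>
        rw [pow_succ, mul_left, mul_right, ih.1, ih.2, map_one, MulAut.one_apply, hr1, pow_succ]
        simp
    ext
    · rw [(hleft p).1, hV]
      rfl
    · rw [(hleft p).2]
      rfl
  have ha2 := ha.two_le
  have hb2 := hb.two_le
  rcases Nat.coprime_or_dvd_of_prime ha (orderOf h.right) with hc | hc
  · have hdq : orderOf h.right ∣ b := (Nat.Coprime.dvd_mul_left hc.symm).mp hd
    rcases (Nat.dvd_prime hb).mp hdq with h1 | h1
    · exfalso
      rw [h1, mul_one] at h2d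
      rcases (Nat.dvd_prime hp).mp h2d with h3 | h3
      · nlinarith
      · have : a ∣ p := by rw [← h3]; exact Dvd.intro _ rfl
        have hap : a = p := (Nat.prime_dvd_prime_iff_eq ha hp).mp this
        rw [hap] at h3
        have : b = 1 := by
          have hp0 := hp.pos
          nlinarith
        omega
    · rw [h1] at h2d
      have ha' : a ∣ p := by
        have : a * b ∣ p * b := h2d
        exact Nat.dvd_of_mul_dvd_mul_right hb.pos this
      exact Or.inl ⟨(Nat.prime_dvd_prime_iff_eq ha hp).mp ha', h1⟩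
  · obtain ⟨e, he⟩ := hc
    have heq : e ∣ b := by
      rw [he] at hd
      exact Nat.dvd_of_mul_dvd_mul_left ha.pos hd
    rcases (Nat.dvd_prime hb).mp heq with h1 | h1
    · rw [h1, mul_one] at he
      rw [he] at h2d
      have hb' : b ∣ p := by
        have : b * a ∣ p * a := by rwa [mul_comm b a]
        exact Nat.dvd_of_mul_dvd_mul_right ha.pos this
      exact Or.inr ⟨(Nat.prime_dvd_prime_iff_eq hb hp).mp hb', he⟩
    · rw [h1] at he
      exact absurd he hdne

/-- an element of prime order `r ≠ p` fixing a nontrivial element of the kernel gives an element of order `p r` -/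
theorem exists_order_of_fixed {L V : Type*} [Group L] [CommGroup V] (φ : L →* MulAut V) (p r : ℕ)
    (hp : p.Prime) (hr : r.Prime) (hpr : p ≠ r) (hV : ∀ v : V, v ^ p = 1) (x : L) (hx : orderOf x = r)
    (v : V) (hv : v ≠ 1) (hfix : φ x v = v) : ∃ g : V ⋊[φ] L, orderOf g = p * r := by
  have hvo : orderOf v = p := by
    have : Fact p.Prime := ⟨hp⟩
    exact orderOf_eq_prime (hV v) hv
  have hcomm : Commute (inl v : V ⋊[φ] L) (inr x) := by
    show inl v * inr x = inr x * inl v
    ext
    · simp [hfix]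
    · simp
  refine ⟨inl v * inr x, ?_⟩
  have h1 : orderOf (inl v : V ⋊[φ] L) = p := by
    rw [orderOf_injective (inl : V →* V ⋊[φ] L) inl_injective v, hvo]
  have h2 : orderOf (inr x : V ⋊[φ] L) = r := by
    rw [orderOf_injective (inr : L →* V ⋊[φ] L) inr_injective x, hx]
  have hcop : Nat.Coprime (orderOf (inl v : V ⋊[φ] L)) (orderOf (inr x : V ⋊[φ] L)) := by
    rw [h1, h2]
    exact (Nat.coprime_primes hp hr).2 hpr
  rw [hcomm.orderOf_mul_eq_mul_orderOf_of_coprime hcop, h1, h2]

/-- when the Sylow subgroups for `p` have order `p` and the centraliser of an element `s` of order `p` has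
exponent dividing `n`, the order `p r` of an element divides `n` -/
theorem dvd_of_cent_pow {L : Type*} [Group L] [Finite L] (p : ℕ) [Fact p.Prime] (s : L) (hs : orderOf s = p)
    (hp2 : ¬ p ^ 2 ∣ Nat.card L) (n : ℕ) (hcent : ∀ c : L, c * s = s * c → c ^ n = 1)
    (g : L) (r : ℕ) (hr : 0 < r) (hg : orderOf g = p * r) : p * r ∣ n := by
  have hy : orderOf (g ^ r) = p := by
    rw [orderOf_pow_of_dvd hr.ne' (by rw [hg]; exact dvd_mul_left r p), hg, Nat.mul_div_cancel _ hr]
  obtain ⟨h, i, hsy⟩ := PGExt.exists_conj_zpow p s (g ^ r) hs hy hp2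
  have hcomm : g * (g ^ r) ^ i = (g ^ r) ^ i * g :=
    (((Commute.refl g).pow_right r).zpow_right i).eq
  have hc : (h * g * h⁻¹) * s = s * (h * g * h⁻¹) := by
    rw [hsy]
    calc h * g * h⁻¹ * (h * (g ^ r) ^ i * h⁻¹) = h * (g * (g ^ r) ^ i) * h⁻¹ := by group
      _ = h * ((g ^ r) ^ i * g) * h⁻¹ := by rw [hcomm]
      _ = h * (g ^ r) ^ i * h⁻¹ * (h * g * h⁻¹) := by group
  have h1 := hcent _ hc
  have h2 : (h * g * h⁻¹) ^ n = h * g ^ n * h⁻¹ := by
    have : h * g * h⁻¹ = MulAut.conj h g := rfl
    rw [this, ← map_pow]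
    rfl
  rw [h2] at h1
  have h3 : g ^ n = 1 := by
    have : g ^ n = h⁻¹ * (h * g ^ n * h⁻¹) * h := by group
    rw [this, h1]
    group
  rw [← hg]
  exact orderOf_dvd_of_pow_eq_one h3

/-! ### the action of a group on the sum of copies of a module, written multiplicatively -/

section generic

variable {G A : Type*} [Group G] [AddCommGroup A] [DistribMulAction G A]

/-- the action of an element -/
def actAut (N : ℕ) (g : G) : MulAut (Multiplicative (Fin N → A)) where
  toFun v := Multiplicative.ofAdd fun i => g • (Multiplicative.toAdd v i)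
  invFun v := Multiplicative.ofAdd fun i => g⁻¹ • (Multiplicative.toAdd v i)
  left_inv v := by
    apply Multiplicative.toAdd.injective
    funext i
    show g⁻¹ • (g • (Multiplicative.toAdd v i)) = Multiplicative.toAdd v i
    rw [inv_smul_smul]
  right_inv v := by
    apply Multiplicative.toAdd.injective
    funext i
    show g • (g⁻¹ • (Multiplicative.toAdd v i)) = Multiplicative.toAdd v i
    rw [smul_inv_smul]
  map_mul' v w := by
    apply Multiplicative.toAdd.injective
    funext i
    show g • (Multiplicative.toAdd v i + Multiplicative.toAdd w i) =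
      g • Multiplicative.toAdd v i + g • Multiplicative.toAdd w i
    rw [smul_add]

/-- the action as a homomorphism -/
def actHom (N : ℕ) : G →* MulAut (Multiplicative (Fin N → A)) where
  toFun := actAut N
  map_one' := by
    apply MulEquiv.ext
    intro v
    apply Multiplicative.toAdd.injective
    funext i
    show (1 : G) • (Multiplicative.toAdd v i) = Multiplicative.toAdd v i
    rw [one_smul]
  map_mul' g h := by
    apply MulEquiv.ext
    intro v
    apply Multiplicative.toAdd.injective
    funext i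
    show (g * h) • (Multiplicative.toAdd v i) = g • (h • Multiplicative.toAdd v i)
    rw [mul_smul]

theorem actHom_apply (N : ℕ) (g : G) (v : Multiplicative (Fin N → A)) (i : Fin N) :
    Multiplicative.toAdd (actHom N g v) i = g • Multiplicative.toAdd v i := rfl

end generic

/-- a conjugacy argument: when the Sylow subgroups for `p` have order `p`, an element of order `p` without
fixed points forces the same for all elements of order `p` -/
theorem fpf_of_conj {L V : Type*} [Group L] [Finite L] [Group V] (φ : L →* MulAut V)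
    (p : ℕ) [Fact p.Prime] (s : L) (hs : orderOf s = p) (hp2 : ¬ p ^ 2 ∣ Nat.card L)
    (hfix : ∀ v : V, φ s v = v → v = 1) (x : L) (hx : orderOf x = p) (v : V) (hv : φ x v = v) :
    v = 1 := by
  obtain ⟨g, i, hg⟩ := PGExt.exists_conj_zpow p s x hs hx hp2
  have hxi : φ (x ^ i) v = v := by
    rw [map_zpow]
    have hmem : φ x ∈ MulAction.stabilizer (MulAut V) v := by
      rw [MulAction.mem_stabilizer_iff]
      exact hv
    have h2 := (MulAction.stabilizer (MulAut V) v).zpow_mem hmem i
    rw [MulAction.mem_stabilizer_iff] at h2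
    exact h2
  have hsw : φ s (φ g v) = φ g v := by
    rw [hg, map_mul, map_mul, map_inv, MulAut.mul_apply, MulAut.mul_apply, MulAut.inv_apply_self, hxi]
  have hw : φ g v = 1 := hfix _ hsw
  exact (EmbeddingLike.map_eq_one_iff (f := φ g)).1 hw

/-! ### the prime graph of `PSp₆(3)` -/

/-- the edges: 2-3, 2-5, 3-5, 2-7 -/
def adj (a b : ℕ) : Prop :=
  (a = 2 ∧ b = 3) ∨ (a = 3 ∧ b = 2) ∨ (a = 2 ∧ b = 5) ∨ (a = 5 ∧ b = 2) ∨ (a = 3 ∧ b = 5) ∨ (a = 5 ∧ b = 3) ∨
    (a = 2 ∧ b = 7) ∨ (a = 7 ∧ b = 2)

/-- a group whose prime graph has the vertices 2, 3, 5, 7, 13 and the edges 2-3, 2-5, 3-5, 2-7 -/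
def IsGraphS63 (X : Type*) [Group X] : Prop :=
  (∀ p : ℕ, p.Prime → (p ∣ Nat.card X ↔ p = 2 ∨ p = 3 ∨ p = 5 ∨ p = 7 ∨ p = 13)) ∧
  (∀ a b : ℕ, a.Prime → b.Prime → a ≠ b → ((∃ g : X, orderOf g = a * b) ↔ adj a b))

theorem isGraphS63_of {X : Type*} [Group X] [Finite X]
    (hcard : ∀ p : ℕ, p.Prime → (p ∣ Nat.card X ↔ p = 2 ∨ p = 3 ∨ p = 5 ∨ p = 7 ∨ p = 13))
    (h6 : ∃ g : X, orderOf g = 6) (h10 : ∃ g : X, orderOf g = 10) (h15 : ∃ g : X, orderOf g = 15)
    (h14 : ∃ g : X, orderOf g = 14)
    (h7 : ∀ r : ℕ, r = 3 ∨ r = 5 ∨ r = 13 → ¬ ∃ g : X, orderOf g = 7 * r)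
    (h13 : ∀ r : ℕ, r = 2 ∨ r = 3 ∨ r = 5 ∨ r = 7 → ¬ ∃ g : X, orderOf g = 13 * r) : IsGraphS63 X := by
  refine ⟨hcard, ?_⟩
  intro a b ha hb hab
  constructor
  · rintro ⟨g, hg⟩
    have hda : a ∣ Nat.card X := by
      have := orderOf_dvd_natCard g
      rw [hg] at this
      exact Dvd.dvd.trans (Dvd.intro _ rfl) this
    have hdb : b ∣ Nat.card X := by
      have := orderOf_dvd_natCard g
      rw [hg] at this
      exact Dvd.dvd.trans (Dvd.intro_left _ rfl) this
    have hg' : orderOf g = b * a := by rw [hg, mul_comm]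
    unfold adj
    rcases (hcard a ha).1 hda with rfl | rfl | rfl | rfl | rfl <;>
      rcases (hcard b hb).1 hdb with rfl | rfl | rfl | rfl | rfl <;>
      first
        | exact absurd rfl hab
        | (simp; done)
        | exact absurd ⟨g, hg⟩ (h7 _ (by simp))
        | exact absurd ⟨g, hg'⟩ (h7 _ (by simp))
        | exact absurd ⟨g, hg⟩ (h13 _ (by simp))
        | exact absurd ⟨g, hg'⟩ (h13 _ (by simp))
  · intro h
    unfold adj at h
    rcases h with ⟨rfl, rfl⟩ | ⟨rfl, rfl⟩ | ⟨rfl, rfl⟩ | ⟨rfl, rfl⟩ | ⟨rfl, rfl⟩ | ⟨rfl, rfl⟩ | ⟨rfl, rfl⟩ |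
      ⟨rfl, rfl⟩
    · exact h6
    · exact h6
    · exact h10
    · exact h10
    · exact h15
    · exact h15
    · exact h14
    · exact h14

theorem samePrimeGraph_of_isGraphS63 {L H : Type*} [Group L] [Group H] (hL : IsGraphS63 L)
    (hH : IsGraphS63 H) : Cfsg.Agent.Lib.Helper60.SamePrimeGraph L H := by
  refine ⟨fun p hp => ?_, fun p q hp hq hpq => ?_⟩
  · rw [hL.1 p hp, hH.1 p hp]
  · rw [hL.2 p q hp hq hpq, hH.2 p q hp hq hpq]

end Cfsg.Agent.Lib.Helper58.PGExtQ
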