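import Mathlib
import Cfsg.Agent.Lib.Helper49.PSLCongr
import Cfsg.Agent.Lib.Helper14.PSL2Klein2

/-!
# Element orders of `PSL(2, 13)`
-/

set_option autoImplicit false

namespace Cfsg.Agent.Lib.Helper58.PSL13

open Matrix

/-- quadruples standing for two by two matrices -/
abbrev Q : Type := ℕ × ℕ × ℕ × ℕ

/-- product -/
def qmul (x y : Q) : Q :=
  ((x.1 * y.1 + x.2.1 * y.2.2.1) % 13, (x.1 * y.2.1 + x.2.1 * y.2.2.2) % 13,
   (x.2.2.1 * y.1 + x.2.2.2 * y.2.2.1) % 13, (x.2.2.1 * y.2.1 + x.2.2.2 * y.2.2.2) % 13)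

/-- plus or minus the identity -/
def isZ (x : Q) : Bool :=
  (Nat.beq x.1 1 && Nat.beq x.2.1 0 && Nat.beq x.2.2.1 0 && Nat.beq x.2.2.2 1) ||
  (Nat.beq x.1 12 && Nat.beq x.2.1 0 && Nat.beq x.2.2.1 0 && Nat.beq x.2.2.2 12)

/-- the brute force test on one matrix -/
def bruteB (x : Q) : Bool :=
  !(Nat.beq ((x.1 * x.2.2.2 + 12 * (x.2.1 * x.2.2.1)) % 13) 1) ||
  (let x2 := qmul x x
   let x3 := qmul x2 x
   let x4 := qmul x2 x2
   let x6 := qmul x3 x3
   let x7 := qmul x4 x3
   let x13 := qmul x7 x6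
   let x14 := qmul x7 x7
   let x21 := qmul x14 x7
   let x26 := qmul x13 x13
   let x39 := qmul x26 x13
   let x52 := qmul x26 x26
   let x91 := qmul x52 x39
   (!(isZ x14) || isZ x2 || isZ x7) && (!(isZ x21) || isZ x3 || isZ x7) &&
   (!(isZ x26) || isZ x2 || isZ x13) && (!(isZ x39) || isZ x3 || isZ x13) &&
   (!(isZ x91) || isZ x7 || isZ x13))

theorem brute : (List.range 13).all (fun a => (List.range 13).all fun b => (List.range 13).all fun c =>
    (List.range 13).all fun d => bruteB (a, b, c, d)) = true := by decide +kernel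

/-- the special linear group -/
abbrev S : Type := Matrix.SpecialLinearGroup (Fin 2) (ZMod 13)

/-- the quadruple of a matrix -/
def q (A : S) : Q := ((A.1 0 0).val, (A.1 0 1).val, (A.1 1 0).val, (A.1 1 1).val)

theorem val_lin (a b c d : ZMod 13) : (a * b + c * d).val = (a.val * b.val + c.val * d.val) % 13 := by
  rw [ZMod.val_add, ZMod.val_mul, ZMod.val_mul, Nat.add_mod, Nat.mod_mod, Nat.mod_mod, ← Nat.add_mod]

theorem q_mul (A B : S) : q (A * B) = qmul (q A) (q B) := by
  unfold q qmul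
  have h : (A * B).1 = A.1 * B.1 := rfl
  simp only [h, Matrix.mul_apply, Fin.sum_univ_two, val_lin]

theorem q_inj {A B : S} (h : q A = q B) : A = B := by
  unfold q at h
  simp only [Prod.mk.injEq] at h
  obtain ⟨h1, h2, h3, h4⟩ := h
  apply Subtype.ext
  ext i j
  fin_cases i <;> fin_cases j
  · exact ZMod.val_injective 13 h1
  · exact ZMod.val_injective 13 h2
  · exact ZMod.val_injective 13 h3
  · exact ZMod.val_injective 13 h4

/-- minus the identity -/
def negOne : S := ⟨-1, by simp [Matrix.det_fin_two]⟩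

theorem q_one : q 1 = (1, 0, 0, 1) := by
  unfold q
  have h : (1 : S).1 = 1 := rfl
  simp only [h, Matrix.one_apply_eq, Matrix.one_apply_ne, ne_eq, Fin.isValue, zero_ne_one, one_ne_zero,
    not_false_eq_true]
  decide

theorem q_negOne : q negOne = (12, 0, 0, 12) := by
  unfold q
  have h : negOne.1 = -1 := rfl
  simp only [h, Matrix.neg_apply, Matrix.one_apply_eq, Matrix.one_apply_ne, ne_eq, Fin.isValue, zero_ne_one,
    one_ne_zero, not_false_eq_true, neg_zero]
  decide

theorem negOne_mem_center : negOne ∈ Subgroup.center S := by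
  rw [Subgroup.mem_center_iff]
  intro g
  apply Subtype.ext
  show (g : Matrix (Fin 2) (Fin 2) (ZMod 13)) * (-1) = (-1) * (g : Matrix (Fin 2) (Fin 2) (ZMod 13))
  simp

theorem isZ_iff (A : S) : isZ (q A) = true ↔ A ∈ Subgroup.center S := by
  constructor
  · intro h
    unfold isZ at h
    simp only [Bool.or_eq_true, Bool.and_eq_true] at h
    rcases h with ⟨⟨⟨h1, h2⟩, h3⟩, h4⟩ | ⟨⟨⟨h1, h2⟩, h3⟩, h4⟩
    · have : A = 1 := by
        apply q_inj
        rw [q_one]
        have e1 := Nat.eq_of_beq_eq_true h1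
        have e2 := Nat.eq_of_beq_eq_true h2
        have e3 := Nat.eq_of_beq_eq_true h3
        have e4 := Nat.eq_of_beq_eq_true h4
        exact Prod.ext e1 (Prod.ext e2 (Prod.ext e3 e4))
      rw [this]
      exact Subgroup.one_mem _
    · have : A = negOne := by
        apply q_inj
        rw [q_negOne]
        have e1 := Nat.eq_of_beq_eq_true h1
        have e2 := Nat.eq_of_beq_eq_true h2
        have e3 := Nat.eq_of_beq_eq_true h3
        have e4 := Nat.eq_of_beq_eq_true h4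
        exact Prod.ext e1 (Prod.ext e2 (Prod.ext e3 e4))
      rw [this]
      exact negOne_mem_center
  · intro h
    rw [Matrix.SpecialLinearGroup.mem_center_iff] at h
    obtain ⟨r, hr, hA⟩ := h
    have hr2 : r = 1 ∨ r = -1 := by
      have : ∀ t : ZMod 13, t ^ 2 = 1 → t = 1 ∨ t = -1 := by decide
      exact this r (by simpa using hr)
    have h00 : A.1 0 0 = r := by rw [← hA]; simp
    have h01 : A.1 0 1 = 0 := by rw [← hA]; simp
    have h10 : A.1 1 0 = 0 := by rw [← hA]; simp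
    have h11 : A.1 1 1 = r := by rw [← hA]; simp
    unfold isZ q
    rw [h00, h01, h10, h11]
    rcases hr2 with rfl | rfl
    · decide
    · decide

/-- the projective group -/
abbrev P : Type := Matrix.ProjectiveSpecialLinearGroup (Fin 2) (ZMod 13)

theorem mk_pow_eq_one_iff (A : S) (n : ℕ) :
    ((QuotientGroup.mk A : P) ^ n = 1) ↔ isZ (q (A ^ n)) = true := by
  rw [isZ_iff, ← QuotientGroup.mk_pow]
  exact QuotientGroup.eq_one_iff _

theorem det_q (A : S) :
    ((A.1 0 0).val * (A.1 1 1).val + 12 * ((A.1 0 1).val * (A.1 1 0).val)) % 13 = 1 := by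
  have hdet : A.1 0 0 * A.1 1 1 - A.1 0 1 * A.1 1 0 = 1 := by
    have := A.2
    rwa [Matrix.det_fin_two] at this
  have h12 : (12 : ZMod 13) = -1 := by decide
  have h1 : (((A.1 0 0).val * (A.1 1 1).val + 12 * ((A.1 0 1).val * (A.1 1 0).val) : ℕ) : ZMod 13) =
      ((1 : ℕ) : ZMod 13) := by
    push_cast
    rw [ZMod.natCast_zmod_val, ZMod.natCast_zmod_val, ZMod.natCast_zmod_val, ZMod.natCast_zmod_val, h12]
    linear_combination hdet
  exact (ZMod.natCast_eq_natCast_iff' _ _ 13).1 h1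

theorem key (A : S) :
    (isZ (q (A ^ 14)) = true → isZ (q (A ^ 2)) = true ∨ isZ (q (A ^ 7)) = true) ∧
    (isZ (q (A ^ 21)) = true → isZ (q (A ^ 3)) = true ∨ isZ (q (A ^ 7)) = true) ∧
    (isZ (q (A ^ 26)) = true → isZ (q (A ^ 2)) = true ∨ isZ (q (A ^ 13)) = true) ∧
    (isZ (q (A ^ 39)) = true → isZ (q (A ^ 3)) = true ∨ isZ (q (A ^ 13)) = true) ∧
    (isZ (q (A ^ 91)) = true → isZ (q (A ^ 7)) = true ∨ isZ (q (A ^ 13)) = true) := by
  have hb := brute
  have m : ∀ t : ZMod 13, t.val ∈ List.range 13 := fun t => List.mem_range.2 (ZMod.val_lt t)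
  have h1 := List.all_eq_true.1 (List.all_eq_true.1 (List.all_eq_true.1 (List.all_eq_true.1 hb
    _ (m (A.1 0 0))) _ (m (A.1 0 1))) _ (m (A.1 1 0))) _ (m (A.1 1 1))
  unfold bruteB at h1
  have hd := det_q A
  have e2 : q (A ^ 2) = qmul (q A) (q A) := by rw [pow_two, q_mul]
  have e3 : q (A ^ 3) = qmul (q (A ^ 2)) (q A) := by rw [← q_mul, ← pow_succ]
  have e4 : q (A ^ 4) = qmul (q (A ^ 2)) (q (A ^ 2)) := by rw [← q_mul, ← pow_add]
  have e6 : q (A ^ 6) = qmul (q (A ^ 3)) (q (A ^ 3)) := by rw [← q_mul, ← pow_add]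
  have e7 : q (A ^ 7) = qmul (q (A ^ 4)) (q (A ^ 3)) := by rw [← q_mul, ← pow_add]
  have e13 : q (A ^ 13) = qmul (q (A ^ 7)) (q (A ^ 6)) := by rw [← q_mul, ← pow_add]
  have e14 : q (A ^ 14) = qmul (q (A ^ 7)) (q (A ^ 7)) := by rw [← q_mul, ← pow_add]
  have e21 : q (A ^ 21) = qmul (q (A ^ 14)) (q (A ^ 7)) := by rw [← q_mul, ← pow_add]
  have e26 : q (A ^ 26) = qmul (q (A ^ 13)) (q (A ^ 13)) := by rw [← q_mul, ← pow_add]
  have e39 : q (A ^ 39) = qmul (q (A ^ 26)) (q (A ^ 13)) := by rw [← q_mul, ← pow_add]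
  have e52 : q (A ^ 52) = qmul (q (A ^ 26)) (q (A ^ 26)) := by rw [← q_mul, ← pow_add]
  have e91 : q (A ^ 91) = qmul (q (A ^ 52)) (q (A ^ 39)) := by rw [← q_mul, ← pow_add]
  have hq : ((A.1 0 0).val, (A.1 0 1).val, (A.1 1 0).val, (A.1 1 1).val) = q A := rfl
  rw [hq] at h1
  have hd' : Nat.beq (((q A).1 * (q A).2.2.2 + 12 * ((q A).2.1 * (q A).2.2.1)) % 13) 1 = true := by
    show Nat.beq (((A.1 0 0).val * (A.1 1 1).val + 12 * ((A.1 0 1).val * (A.1 1 0).val)) % 13) 1 = true
    rw [hd]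
    rfl
  rw [hd'] at h1
  simp only [Bool.not_true, Bool.false_or] at h1
  rw [← e2, ← e3, ← e4, ← e6, ← e7, ← e13, ← e14, ← e21, ← e26, ← e39, ← e52, ← e91] at h1
  simp only [Bool.and_eq_true, Bool.or_eq_true, Bool.not_eq_true'] at h1
  obtain ⟨⟨⟨⟨h14, h21⟩, h26⟩, h39⟩, h91⟩ := h1
  refine ⟨?_, ?_, ?_, ?_, ?_⟩
  · intro h
    rcases h14 with (h0 | h0) | h0
    · rw [h] at h0; exact absurd h0 (by simp)
    · exact Or.inl h0
    · exact Or.inr h0
  · intro h
    rcases h21 with (h0 | h0) | h0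
    · rw [h] at h0; exact absurd h0 (by simp)
    · exact Or.inl h0
    · exact Or.inr h0
  · intro h
    rcases h26 with (h0 | h0) | h0
    · rw [h] at h0; exact absurd h0 (by simp)
    · exact Or.inl h0
    · exact Or.inr h0
  · intro h
    rcases h39 with (h0 | h0) | h0
    · rw [h] at h0; exact absurd h0 (by simp)
    · exact Or.inl h0
    · exact Or.inr h0
  · intro h
    rcases h91 with (h0 | h0) | h0
    · rw [h] at h0; exact absurd h0 (by simp)
    · exact Or.inl h0
    · exact Or.inr h0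

theorem no_order_of (y : P) (n r s : ℕ) (hn : n = r * s) (hr : 1 < r) (hs : 1 < s)
    (h : y ^ n = 1 → y ^ r = 1 ∨ y ^ s = 1) : orderOf y ≠ n := by
  intro ho
  have h1 : y ^ n = 1 := by rw [← ho]; exact pow_orderOf_eq_one y
  rcases h h1 with h2 | h2
  · have := orderOf_dvd_of_pow_eq_one h2
    rw [ho, hn] at this
    have := Nat.le_of_dvd (by omega) this
    nlinarith
  · have := orderOf_dvd_of_pow_eq_one h2
    rw [ho, hn] at this
    have := Nat.le_of_dvd (by omega) this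
    nlinarith

theorem no_orders (y : P) :
    orderOf y ≠ 14 ∧ orderOf y ≠ 21 ∧ orderOf y ≠ 26 ∧ orderOf y ≠ 39 ∧ orderOf y ≠ 91 := by
  obtain ⟨A, rfl⟩ := QuotientGroup.mk_surjective y
  obtain ⟨k14, k21, k26, k39, k91⟩ := key A
  refine ⟨?_, ?_, ?_, ?_, ?_⟩
  · apply no_order_of _ 14 2 7 (by norm_num) (by norm_num) (by norm_num)
    simp only [mk_pow_eq_one_iff]
    exact k14
  · apply no_order_of _ 21 3 7 (by norm_num) (by norm_num) (by norm_num)
    simp only [mk_pow_eq_one_iff]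
    exact k21
  · apply no_order_of _ 26 2 13 (by norm_num) (by norm_num) (by norm_num)
    simp only [mk_pow_eq_one_iff]
    exact k26
  · apply no_order_of _ 39 3 13 (by norm_num) (by norm_num) (by norm_num)
    simp only [mk_pow_eq_one_iff]
    exact k39
  · apply no_order_of _ 91 7 13 (by norm_num) (by norm_num) (by norm_num)
    simp only [mk_pow_eq_one_iff]
    exact k91

/-- a diagonal matrix of order 12 -/
def d2 : S := ⟨!![2, 0; 0, 7], by rw [Matrix.det_fin_two]; decide⟩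

theorem q_d2 : q d2 = (2, 0, 0, 7) := by
  unfold q d2
  simp only [Matrix.of_apply, Matrix.cons_val', Matrix.cons_val_zero, Matrix.cons_val_one,
    Matrix.cons_val_fin_one]
  decide

theorem exists_order_six : ∃ y : P, orderOf y = 6 := by
  refine ⟨QuotientGroup.mk d2, ?_⟩
  have e2 : q (d2 ^ 2) = (4, 0, 0, 10) := by rw [pow_two, q_mul, q_d2]; decide
  have e3 : q (d2 ^ 3) = (8, 0, 0, 5) := by rw [pow_succ, q_mul, e2, q_d2]; decide
  have e6 : q (d2 ^ 6) = (12, 0, 0, 12) := by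
    have : d2 ^ 6 = d2 ^ 3 * d2 ^ 3 := by rw [← pow_add]
    rw [this, q_mul, e3]; decide
  apply orderOf_eq_of_pow_and_pow_div_prime (by norm_num)
  · rw [mk_pow_eq_one_iff, e6]; decide
  · intro p hp hpd
    have h23 : p = 2 ∨ p = 3 := by
      have : p ∣ 2 * 3 := hpd
      rcases (Nat.Prime.dvd_mul hp).1 this with h | h
      · left; exact (Nat.prime_dvd_prime_iff_eq hp Nat.prime_two).1 h
      · right; exact (Nat.prime_dvd_prime_iff_eq hp Nat.prime_three).1 h
    rcases h23 with rfl | rfl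
    · show ¬ _
      rw [show 6 / 2 = 3 from rfl, mk_pow_eq_one_iff, e3]; decide
    · show ¬ _
      rw [show 6 / 3 = 2 from rfl, mk_pow_eq_one_iff, e2]; decide

section general

variable {E : Type*} [Field E] [Fintype E]

/-- transfer to the prime field -/
noncomputable def eqv (hE : Fintype.card E = 13) :
    Matrix.ProjectiveSpecialLinearGroup (Fin 2) E ≃* P :=
  Cfsg.Agent.Lib.Helper49.PSLCongr.pslCongr
    (ZMod.ringEquivOfPrime E (by norm_num : Nat.Prime 13) hE).symm

theorem card_E (hE : Fintype.card E = 13) :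
    Nat.card (Matrix.ProjectiveSpecialLinearGroup (Fin 2) E) = 1092 := by
  have h := Cfsg.Agent.Lib.Helper14.PSL2Klein.card_PSL2_mul_two (F := E) (by rw [hE]; decide)
  rw [hE] at h
  omega

theorem exists_six_E (hE : Fintype.card E = 13) :
    ∃ y : Matrix.ProjectiveSpecialLinearGroup (Fin 2) E, orderOf y = 6 := by
  obtain ⟨y, hy⟩ := exists_order_six
  refine ⟨(eqv hE).symm y, ?_⟩
  rw [MulEquiv.orderOf_eq]
  exact hy

theorem no_orders_E (hE : Fintype.card E = 13) (y : Matrix.ProjectiveSpecialLinearGroup (Fin 2) E) :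
    orderOf y ≠ 14 ∧ orderOf y ≠ 21 ∧ orderOf y ≠ 26 ∧ orderOf y ≠ 39 ∧ orderOf y ≠ 91 := by
  have := no_orders (eqv hE y)
  rwa [MulEquiv.orderOf_eq] at this

end general

end Cfsg.Agent.Lib.Helper58.PSL13
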