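import Mathlib

set_option autoImplicit false

namespace Cfsg.Agent.Lib.Helper58

open Matrix

section TwoByTwo

variable {K : Type*} [Field K]

/-- Cayley–Hamilton for a 2×2 matrix of determinant one. -/
lemma h58_CH (G : Matrix (Fin 2) (Fin 2) K) (hdet : G.det = 1) :
    G * G = G.trace • G - 1 := by
  rw [Matrix.det_fin_two] at hdet
  ext i j
  fin_cases i <;> fin_cases j <;>
    simp [Matrix.mul_apply, Fin.sum_univ_two, Matrix.trace_fin_two] <;>
    first | ring1 | linear_combination (-1 : K) * hdet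

/-- the inverse of a determinant one 2×2 matrix -/
lemma h58_mul_inv (G : Matrix (Fin 2) (Fin 2) K) (hdet : G.det = 1) :
    G * (G.trace • 1 - G) = 1 := by
  have := h58_CH G hdet
  rw [mul_sub, this]
  simp

lemma h58_inv_mul (G : Matrix (Fin 2) (Fin 2) K) (hdet : G.det = 1) :
    (G.trace • 1 - G) * G = 1 := by
  have := h58_CH G hdet
  rw [sub_mul, this]
  simp


lemma h58_sq_of_trace_zero (G : Matrix (Fin 2) (Fin 2) K) (hdet : G.det = 1) (h0 : G.trace = 0) :
    G * G = -1 := by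
  rw [h58_CH G hdet, h0, zero_smul, zero_sub]

lemma h58_cube_of_trace_sq (G : Matrix (Fin 2) (Fin 2) K) (hdet : G.det = 1)
    (h1 : G.trace ^ 2 = 1) : G ^ 3 = -(G.trace • (1 : Matrix (Fin 2) (Fin 2) K)) := by
  have hCH := h58_CH G hdet
  have : G ^ 3 = G * G * G := by rw [pow_succ, pow_two]
  rw [this, hCH, sub_mul, smul_mul_assoc, hCH, one_mul, smul_sub, smul_smul, ← pow_two, h1, one_smul]
  abel

/-- fixed vectors of the twisted action force a trace relation -/
lemma h58_fixed_trace (G T A : Matrix (Fin 2) (Fin 2) K) (hG : G.det = 1) (hT : T.det = 1)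
    (c : K) (hc : c * c = 1) (h : c • (G * A * T) = A) (hA : A ≠ 0) :
    G.trace = c * T.trace := by
  have h' : G * A * T = c • A := by
    have := congrArg (fun X => c • X) h
    simp only [smul_smul, hc, one_smul] at this
    exact this
  have e1 : G * A = c • (A * (T.trace • 1 - T)) := by
    calc G * A = (G * A * T) * (T.trace • 1 - T) := by
          rw [mul_assoc (G * A), h58_mul_inv T hT, mul_one]
      _ = c • (A * (T.trace • 1 - T)) := by rw [h', smul_mul_assoc]
  have e2 : (G.trace • 1 - G) * A = c • (A * T) := by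
    calc (G.trace • 1 - G) * A = (G.trace • 1 - G) * (c • (G * A * T)) := by rw [h]
      _ = c • (((G.trace • 1 - G) * G) * A * T) := by
          rw [mul_smul_comm]; simp only [mul_assoc]
      _ = c • (A * T) := by rw [h58_inv_mul G hG, one_mul]
  have e3 : G.trace • A = (c * T.trace) • A := by
    calc G.trace • A = G * A + (G.trace • 1 - G) * A := by
          rw [sub_mul, smul_mul_assoc, one_mul]; abel
      _ = c • (A * (T.trace • 1 - T)) + c • (A * T) := by rw [e1, e2]
      _ = (c * T.trace) • A := by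
          rw [← smul_add, ← mul_add, sub_add_cancel, mul_smul_comm, mul_one, smul_smul]
  have e4 : (G.trace - c * T.trace) • A = 0 := by rw [sub_smul, e3, sub_self]
  rcases smul_eq_zero.mp e4 with h0 | h0
  · exact sub_eq_zero.mp h0
  · exact absurd h0 hA

/-- odd powers of an element whose square is a scalar -/
lemma h58_odd_pow (n : Matrix (Fin 2) (Fin 2) K) (δ : K)
    (hn : n * n = δ • (1 : Matrix (Fin 2) (Fin 2) K)) (j : ℕ) :
    n ^ (2 * j + 1) = δ ^ j • n := by
  induction j with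
  | zero => simp
  | succ j ih =>
    have : 2 * (j + 1) + 1 = (2 * j + 1) + 2 := by ring
    rw [this, pow_add, ih, pow_two, hn]
    simp only [mul_smul_comm, mul_one, smul_smul]
    congr 1
    ring

end TwoByTwo

section Char3

variable {K : Type*} [Field K] [CharP K 3]

lemma h58_three_nsmul (A : Matrix (Fin 2) (Fin 2) K) : (3 : ℕ) • A = 0 := by
  rw [← Nat.cast_smul_eq_nsmul K]
  have : ((3 : ℕ) : K) = 0 := CharP.cast_eq_zero K 3
  rw [this, zero_smul]

lemma h58_nsq (G : Matrix (Fin 2) (Fin 2) K) (hdet : G.det = 1) :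
    (-G - G.trace • 1) * (-G - G.trace • 1) = (G.trace ^ 2 - 1) • (1 : Matrix (Fin 2) (Fin 2) K) := by
  have hCH := h58_CH G hdet
  have h3 := h58_three_nsmul (G.trace • G)
  have e1 : (-G - G.trace • 1) * (-G - G.trace • 1)
      = G * G + G.trace • G + G.trace • G + (G.trace ^ 2) • (1 : Matrix (Fin 2) (Fin 2) K) := by
    have e0 : ∀ c : Matrix (Fin 2) (Fin 2) K, (-G - c) * (-G - c) = G * G + G * c + c * G + c * c := by
      intro c; noncomm_ring
    rw [e0]
    simp only [smul_mul_assoc, mul_smul_comm, one_mul, mul_one, smul_smul, pow_two]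
  rw [e1, hCH, sub_smul, one_smul]
  have : G.trace • G - 1 + G.trace • G + G.trace • G + G.trace ^ 2 • (1 : Matrix (Fin 2) (Fin 2) K)
      = (3 : ℕ) • (G.trace • G) + (G.trace ^ 2 • (1 : Matrix (Fin 2) (Fin 2) K) - 1) := by
    simp only [succ_nsmul, zero_nsmul, zero_add]
    abel
  rw [this, h3, zero_add]


/-- a determinant one 2×2 matrix squaring to one is `±1` -/
lemma h58_sq_eq_one (X : Matrix (Fin 2) (Fin 2) K) (hdet : X.det = 1) (h : X * X = 1) :
    X = 1 ∨ X = -1 := by
  have hCH := h58_CH X hdet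
  rw [h] at hCH
  -- τ • X = 2 = -1
  have h2 : X.trace • X = -1 := by
    have : X.trace • X = (1 : Matrix (Fin 2) (Fin 2) K) + 1 := by
      rw [eq_sub_iff_add_eq] at hCH; exact hCH.symm
    rw [this]
    have h3 := h58_three_nsmul (1 : Matrix (Fin 2) (Fin 2) K)
    simp only [succ_nsmul, zero_nsmul, zero_add] at h3
    rw [eq_neg_iff_add_eq_zero]; exact h3
  have hτ : X.trace ≠ 0 := by
    intro h0
    rw [h0, zero_smul] at h2
    have := congrFun (congrFun h2 0) 0
    simp at this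
  have hX : X = (-(X.trace)⁻¹) • (1 : Matrix (Fin 2) (Fin 2) K) := by
    calc X = (X.trace)⁻¹ • (X.trace • X) := by rw [smul_smul, inv_mul_cancel₀ hτ, one_smul]
      _ = (-(X.trace)⁻¹) • (1 : Matrix (Fin 2) (Fin 2) K) := by rw [h2]; simp
  have hs : (-(X.trace)⁻¹) * (-(X.trace)⁻¹) = 1 := by
    have := hdet
    rw [hX, Matrix.det_smul, Matrix.det_one] at this
    simpa [pow_two] using this
  rcases mul_self_eq_one_iff.mp hs with h1 | h1
  · left; rw [hX, h1, one_smul]
  · right; rw [hX, h1]; simp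

theorem h58_pow_cases (G : Matrix (Fin 2) (Fin 2) K) (hdet : G.det = 1) (α : ℕ)
    (hτ : G.trace ^ (3 ^ α) = G.trace) (hδ : G.trace ^ 2 - 1 ≠ 0) :
    G ^ (3 ^ α - 1) = 1 ∨ G ^ ((3 ^ α + 1) / 2) = 1 ∨ G ^ ((3 ^ α + 1) / 2) = -1 := by
  have : Fact (Nat.Prime 3) := ⟨Nat.prime_three⟩
  set τ := G.trace with hτdef
  set δ := τ ^ 2 - 1 with hδdef
  set c : Matrix (Fin 2) (Fin 2) K := τ • 1 with hc
  set n : Matrix (Fin 2) (Fin 2) K := -G - c with hn
  have hnn : n * n = δ • (1 : Matrix (Fin 2) (Fin 2) K) := h58_nsq G hdet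
  have hqodd : Odd (3 ^ α) := Odd.pow (by decide)
  obtain ⟨r, hr⟩ := hqodd
  have hqpos : 0 < 3 ^ α := by positivity
  -- δ ^ q = δ
  have hδq : δ ^ (3 ^ α) = δ := by
    rw [hδdef, sub_pow_char_pow, one_pow, ← pow_mul, mul_comm, pow_mul, hτ]
  have hδr : δ ^ r * δ ^ r = 1 := by
    have h1 : δ ^ (2 * r) * δ = 1 * δ := by
      rw [← pow_succ, ← hr, hδq, one_mul]
    have h2 := mul_right_cancel₀ hδ h1
    rw [← pow_add, ← two_mul, h2]
  -- G ^ q
  have hG : G = -n - c := by rw [hn]; abel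
  have hcomm : Commute (-n) c := by
    rw [hc]; exact (Commute.one_right _).smul_right _
  have hcq : c ^ (3 ^ α) = c := by
    rw [hc, smul_pow, one_pow, hτ]
  have hnq : (-n) ^ (3 ^ α) = -(δ ^ r • n) := by
    rw [Odd.neg_pow ⟨r, hr⟩, hr, h58_odd_pow n δ hnn r]
  have hGq : G ^ (3 ^ α) = -(δ ^ r • n) - c := by
    conv_lhs => rw [hG]
    rw [sub_pow_char_pow_of_commute _ _ hcomm, hnq, hcq]
  have hGinv : G * (c - G) = 1 := h58_mul_inv G hdet
  have hinvG : (c - G) * G = 1 := h58_inv_mul G hdet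
  rcases mul_self_eq_one_iff.mp hδr with h1 | h1
  · left
    rw [h1, one_smul, ← hG] at hGq
    have h2 : G ^ (3 ^ α - 1) * G = G := by
      rw [← pow_succ, Nat.sub_add_cancel hqpos, hGq]
    calc G ^ (3 ^ α - 1) = G ^ (3 ^ α - 1) * (G * (c - G)) := by rw [hGinv, mul_one]
      _ = (G ^ (3 ^ α - 1) * G) * (c - G) := by rw [mul_assoc]
      _ = 1 := by rw [h2, hGinv]
  · right
    rw [h1] at hGq
    have h3 := h58_three_nsmul c
    have hGq' : G ^ (3 ^ α) = c - G := by
      rw [hGq, hn]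
      simp only [succ_nsmul, zero_nsmul, zero_add] at h3
      rw [← sub_eq_zero]
      have : -((-1 : K) • (-G - c)) - c - (c - G) = -(c + c + c) := by
        simp only [neg_smul, one_smul]
        abel
      rw [this, h3, neg_zero]
    have h4 : G ^ (3 ^ α + 1) = 1 := by rw [pow_succ, hGq', hinvG]
    have h5 : (3 ^ α + 1) / 2 = r + 1 := by omega
    have h6 : 3 ^ α + 1 = (r + 1) + (r + 1) := by omega
    rw [h5]
    apply h58_sq_eq_one
    · rw [Matrix.det_pow, hdet, one_pow]
    · rw [← pow_add, ← h6, h4]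


/-- in `F_q`, `q = 3 ^ α` with `α` odd, `-1` is not a square -/
lemma h58_no_sqrt_neg_one (α : ℕ) (hα : Odd α) (t : K) (ht : t ^ (3 ^ α) = t) : t ^ 2 ≠ -1 := by
  intro h
  have ht0 : t ≠ 0 := by
    rintro rfl
    simp at h
  -- 3^α = 4 s + 3
  obtain ⟨j, rfl⟩ := hα
  have h9 : ∀ j : ℕ, ∃ s : ℕ, 3 ^ (2 * j + 1) = 4 * s + 3 := by
    intro j
    induction j with
    | zero => exact ⟨0, by norm_num⟩
    | succ j ih =>
      obtain ⟨s, hs⟩ := ih
      refine ⟨9 * s + 6, ?_⟩
      have : 3 ^ (2 * (j + 1) + 1) = 9 * 3 ^ (2 * j + 1) := by ring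
      rw [this, hs]; ring
  obtain ⟨s, hs⟩ := h9 j
  rw [hs] at ht
  have h1 : t ^ (4 * s + 2) * t = 1 * t := by rw [← pow_succ, ht, one_mul]
  have h2 : t ^ (4 * s + 2) = 1 := mul_right_cancel₀ ht0 h1
  have h3 : t ^ (4 * s + 2) = (t ^ 2) ^ (2 * s + 1) := by rw [← pow_mul]; congr 1; ring
  rw [h3, h, Odd.neg_one_pow ⟨s, rfl⟩] at h2
  -- -1 = 1 in char 3
  have h4 : (2 : K) = 0 := by
    have : (1 : K) + 1 = 0 := by nth_rewrite 1 [← h2]; ring
    rw [← this]; norm_num
  have h5 : ((2 : ℕ) : K) = 0 := by exact_mod_cast h4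
  rw [CharP.cast_eq_zero_iff K 3] at h5
  omega

end Char3

end Cfsg.Agent.Lib.Helper58
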