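import Cfsg.Agent.Lib.Helper58.Hol
import Cfsg.Agent.Lib.Helper58.SL2Trace

set_option autoImplicit false

namespace Cfsg.Agent.Lib.Helper58

open Matrix

section Act

variable (K : Type*) [Field K] [CharP K 3]


/-- twist: transpose of the entrywise cube -/
noncomputable def h58twist (G : Matrix (Fin 2) (Fin 2) K) : Matrix (Fin 2) (Fin 2) K :=
  ((frobenius K 3).mapMatrix G)ᵀ

variable {K}

lemma h58twist_apply (G : Matrix (Fin 2) (Fin 2) K) (i j : Fin 2) :
    h58twist K G i j = (G j i) ^ 3 := by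
  simp [h58twist, frobenius_def]

lemma h58twist_mul (G G' : Matrix (Fin 2) (Fin 2) K) :
    h58twist K (G * G') = h58twist K G' * h58twist K G := by
  simp [h58twist, Matrix.transpose_mul]

lemma h58twist_one : h58twist K (1 : Matrix (Fin 2) (Fin 2) K) = 1 := by
  simp [h58twist]

lemma h58twist_neg (G : Matrix (Fin 2) (Fin 2) K) : h58twist K (-G) = -h58twist K G := by
  rw [h58twist, map_neg, Matrix.transpose_neg]; rfl

lemma h58twist_neg_one : h58twist K (-1 : Matrix (Fin 2) (Fin 2) K) = -1 := by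
  rw [h58twist_neg, h58twist_one]

lemma h58twist_det (G : Matrix (Fin 2) (Fin 2) K) : (h58twist K G).det = G.det ^ 3 := by
  rw [h58twist, Matrix.det_transpose, ← RingHom.map_det, frobenius_def]

lemma h58twist_trace (G : Matrix (Fin 2) (Fin 2) K) : (h58twist K G).trace = G.trace ^ 3 := by
  rw [Matrix.trace_fin_two, Matrix.trace_fin_two, h58twist_apply, h58twist_apply]
  exact (add_pow_char (G 0 0) (G 1 1) 3).symm


/-- the sign of a unit of `ℤ` as an element of `K` -/
def h58sgn (K : Type*) [Field K] (ε : ℤˣ) : K := ((ε : ℤ) : K)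

omit [CharP K 3] in
lemma h58sgn_mul (ε ε' : ℤˣ) : h58sgn K (ε * ε') = h58sgn K ε * h58sgn K ε' := by
  simp [h58sgn]

omit [CharP K 3] in
@[simp] lemma h58sgn_one : h58sgn K 1 = 1 := by simp [h58sgn]

omit [CharP K 3] in
lemma h58sgn_neg_one : h58sgn K (-1) = -1 := by simp [h58sgn]

omit [CharP K 3] in
lemma h58sgn_mul_self (ε : ℤˣ) : h58sgn K ε * h58sgn K ε = 1 := by
  rw [← h58sgn_mul, Int.units_mul_self, h58sgn_one]

variable (K) in
/-- the twisted action as a linear endomorphism -/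
noncomputable def h58rho0Fun (x : Matrix.SpecialLinearGroup (Fin 2) K × ℤˣ) :
    Module.End K (Matrix (Fin 2) (Fin 2) K) where
  toFun A := h58sgn K x.2 • ((x.1 : Matrix (Fin 2) (Fin 2) K) * A *
    h58twist K (x.1 : Matrix (Fin 2) (Fin 2) K))
  map_add' A B := by simp [mul_add, add_mul]
  map_smul' c A := by simp [smul_comm c]

lemma h58rho0Fun_apply (x : Matrix.SpecialLinearGroup (Fin 2) K × ℤˣ)
    (A : Matrix (Fin 2) (Fin 2) K) :
    h58rho0Fun K x A = h58sgn K x.2 • ((x.1 : Matrix (Fin 2) (Fin 2) K) * A *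
      h58twist K (x.1 : Matrix (Fin 2) (Fin 2) K)) := rfl

variable (K) in
/-- the twisted action as a monoid hom to endomorphisms -/
noncomputable def h58rho0 : Matrix.SpecialLinearGroup (Fin 2) K × ℤˣ →*
    Module.End K (Matrix (Fin 2) (Fin 2) K) where
  toFun := h58rho0Fun K
  map_one' := by
    ext A : 1
    simp [h58rho0Fun_apply, h58twist_one]
  map_mul' x y := by
    ext A : 1
    simp only [h58rho0Fun_apply, Prod.fst_mul, Prod.snd_mul, Matrix.SpecialLinearGroup.coe_mul,
      h58twist_mul, h58sgn_mul, Module.End.mul_apply]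
    simp only [mul_smul_comm, smul_mul_assoc, smul_smul, mul_assoc]

variable (K) in
/-- the twisted action as a hom to units of the endomorphism ring -/
noncomputable def h58rho : Matrix.SpecialLinearGroup (Fin 2) K × ℤˣ →*
    (Module.End K (Matrix (Fin 2) (Fin 2) K))ˣ := (h58rho0 K).toHomUnits

lemma h58rho_smul (x : Matrix.SpecialLinearGroup (Fin 2) K × ℤˣ)
    (A : Matrix (Fin 2) (Fin 2) K) :
    h58rho K x • A = h58sgn K x.2 • ((x.1 : Matrix (Fin 2) (Fin 2) K) * A *
      h58twist K (x.1 : Matrix (Fin 2) (Fin 2) K)) := rfl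

lemma h58rho_eq_one_iff (x : Matrix.SpecialLinearGroup (Fin 2) K × ℤˣ) :
    h58rho K x = 1 ↔ ∀ A : Matrix (Fin 2) (Fin 2) K, h58rho K x • A = A := by
  constructor
  · intro h A; rw [h, one_smul]
  · intro h
    apply Units.ext
    apply LinearMap.ext
    intro A
    exact h A

/-- scalar matrices `±1` act through the sign only -/
lemma h58rho_scalar (g : Matrix.SpecialLinearGroup (Fin 2) K) (ε : ℤˣ)
    (hg : (g : Matrix (Fin 2) (Fin 2) K) = 1 ∨ (g : Matrix (Fin 2) (Fin 2) K) = -1)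
    (A : Matrix (Fin 2) (Fin 2) K) : h58rho K (g, ε) • A = h58sgn K ε • A := by
  rw [h58rho_smul]
  rcases hg with h | h
  · simp [h, h58twist_one]
  · simp [h, h58twist_neg_one]


variable (K) in
/-- the subgroup of `SL₂(K)` fixed by the `3 ^ α`-Frobenius -/
noncomputable def h58G0 (α : ℕ) : Subgroup (Matrix.SpecialLinearGroup (Fin 2) K) :=
  MonoidHom.eqLocus (Matrix.SpecialLinearGroup.map (iterateFrobenius K 3 α)) (MonoidHom.id _)

lemma h58_mem_G0_iff (α : ℕ) (g : Matrix.SpecialLinearGroup (Fin 2) K) :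
    g ∈ h58G0 K α ↔ ∀ i j, (g i j) ^ (3 ^ α) = g i j := by
  have key : g ∈ h58G0 K α ↔ Matrix.SpecialLinearGroup.map (iterateFrobenius K 3 α) g = g :=
    Iff.rfl
  rw [key]
  constructor
  · intro h1 i j
    have h2 := congrArg (fun x : Matrix.SpecialLinearGroup (Fin 2) K => x i j) h1
    simpa [iterateFrobenius_def] using h2
  · intro h
    apply Matrix.SpecialLinearGroup.ext
    intro i j
    simpa [iterateFrobenius_def] using h i j

lemma h58_trace_of_mem_G0 (α : ℕ) (g : Matrix.SpecialLinearGroup (Fin 2) K)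
    (hg : g ∈ h58G0 K α) :
    (g : Matrix (Fin 2) (Fin 2) K).trace ^ (3 ^ α) = (g : Matrix (Fin 2) (Fin 2) K).trace := by
  rw [h58_mem_G0_iff] at hg
  rw [Matrix.trace_fin_two, add_pow_char_pow, hg, hg]

variable (K) in
/-- the acting group: image of `G₀ × {±1}` -/
noncomputable def h58Kact (α : ℕ) : Subgroup (Module.End K (Matrix (Fin 2) (Fin 2) K))ˣ :=
  ((h58G0 K α).prod ⊤).map (h58rho K)

lemma h58_mem_Kact (α : ℕ) (g : Matrix.SpecialLinearGroup (Fin 2) K) (hg : g ∈ h58G0 K α)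
    (ε : ℤˣ) : h58rho K (g, ε) ∈ h58Kact K α :=
  Subgroup.mem_map_of_mem _ (Subgroup.mem_prod.mpr ⟨hg, Subgroup.mem_top _⟩)

lemma h58rho_pow_eq_one (g : Matrix.SpecialLinearGroup (Fin 2) K) (ε : ℤˣ) (n : ℕ)
    (hg : (g : Matrix (Fin 2) (Fin 2) K) ^ n = 1 ∨ (g : Matrix (Fin 2) (Fin 2) K) ^ n = -1)
    (hε : ε ^ n = 1) : (h58rho K (g, ε)) ^ n = 1 := by
  rw [← map_pow, Prod.pow_mk, hε, h58rho_eq_one_iff]
  intro A
  rw [h58rho_scalar _ _ (by simpa [Matrix.SpecialLinearGroup.coe_pow] using hg)]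
  simp

lemma h58_three_pow_mod8 (α : ℕ) (hα : Odd α) : ∃ t : ℕ, 3 ^ α = 8 * t + 3 := by
  obtain ⟨j, rfl⟩ := hα
  induction j with
  | zero => exact ⟨0, by norm_num⟩
  | succ j ih =>
    obtain ⟨s, hs⟩ := ih
    refine ⟨9 * s + 3, ?_⟩
    have : 3 ^ (2 * (j + 1) + 1) = 9 * 3 ^ (2 * j + 1) := by ring
    rw [this, hs]; ring

omit [CharP K 3] in
lemma h58_units_even_pow (ε : ℤˣ) (n : ℕ) (hn : Even n) : ε ^ n = 1 := by
  obtain ⟨r, rfl⟩ := hn
  rw [← two_mul, pow_mul, Int.units_sq, one_pow]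

/-- every element of the big group has order dividing one of the four numbers -/
theorem h58_order_cases (α : ℕ) (hα : Odd α)
    (a : H58Hol (Matrix (Fin 2) (Fin 2) K) (Module.End K (Matrix (Fin 2) (Fin 2) K))ˣ)
    (ha : a.k ∈ h58Kact K α) :
    a ^ 6 = 1 ∨ a ^ 9 = 1 ∨ a ^ (3 ^ α - 1) = 1 ∨ a ^ ((3 ^ α + 1) / 2) = 1 := by
  obtain ⟨⟨g, ε⟩, hgε, hk⟩ := ha
  have hg : g ∈ h58G0 K α := (Subgroup.mem_prod.mp hgε).1
  set G : Matrix (Fin 2) (Fin 2) K := (g : Matrix (Fin 2) (Fin 2) K) with hGdef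
  have hdet : G.det = 1 := g.det_coe
  have hτ := h58_trace_of_mem_G0 α g hg
  have hN : ∀ w : Matrix (Fin 2) (Fin 2) K, (3 : ℕ) • w = 0 := h58_three_nsmul
  obtain ⟨t, ht⟩ := h58_three_pow_mod8 α hα
  by_cases h0 : G.trace = 0
  · left
    have h2 : a.k ^ 2 = 1 := by
      rw [← hk]
      apply h58rho_pow_eq_one
      · right; rw [pow_two]; exact h58_sq_of_trace_zero G hdet h0
      · exact Int.units_sq ε
    exact H58Hol.pow_three_mul_eq_one hN a 2 h2
  by_cases h1 : G.trace ^ 2 = 1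
  · have h3 : G ^ 3 = 1 ∨ G ^ 3 = -1 := by
      rw [h58_cube_of_trace_sq G hdet h1]
      rcases sq_eq_one_iff.mp h1 with h | h
      · right; rw [h, one_smul]
      · left; rw [h, neg_smul, one_smul, neg_neg]
    rcases Int.units_eq_one_or ε with rfl | rfl
    · right; left
      have hk3 : a.k ^ 3 = 1 := by
        rw [← hk]; exact h58rho_pow_eq_one g 1 3 h3 (one_pow 3)
      exact H58Hol.pow_three_mul_eq_one hN a 3 hk3
    · left
      have hk6 : a.k ^ 6 = 1 := by
        rw [← hk]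
        apply h58rho_pow_eq_one g (-1) 6
        · left
          have : G ^ 6 = G ^ 3 * G ^ 3 := by rw [← pow_add]
          rw [this]; rcases h3 with h | h <;> rw [h] <;> simp
        · decide
      have hneg : ∀ w : Matrix (Fin 2) (Fin 2) K, (a ^ 3).k • w = -w := by
        intro w
        rw [H58Hol.pow_k, ← hk, ← map_pow, Prod.pow_mk,
          h58rho_scalar _ _ (by simpa [Matrix.SpecialLinearGroup.coe_pow] using h3)]
        have : ((-1 : ℤˣ) ^ 3) = -1 := by decide
        rw [this, h58sgn_neg_one, neg_smul, one_smul]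
      have h6 : a ^ 3 * a ^ 3 = 1 :=
        H58Hol.sq_eq_one_of_k_neg (a ^ 3) (by rw [H58Hol.pow_k, ← pow_add]; exact hk6) hneg
      rw [← pow_add] at h6; exact h6
  · right; right
    have hδ : G.trace ^ 2 - 1 ≠ 0 := sub_ne_zero.mpr h1
    have hfpf : ∀ w : Matrix (Fin 2) (Fin 2) K, a.k • w = w → w = 0 := by
      intro w hw
      by_contra hw0
      rw [← hk, h58rho_smul] at hw
      have hT : (h58twist K G).det = 1 := by rw [h58twist_det, hdet, one_pow]
      have key := h58_fixed_trace G (h58twist K G) w hdet hT (h58sgn K ε) (h58sgn_mul_self ε) hw hw0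
      rw [h58twist_trace] at key
      rcases Int.units_eq_one_or ε with rfl | rfl
      · rw [h58sgn_one, one_mul] at key
        have h5 : G.trace * (G.trace ^ 2 - 1) = 0 := by linear_combination -key
        rcases mul_eq_zero.mp h5 with h | h
        · exact h0 h
        · exact hδ h
      · rw [h58sgn_neg_one] at key
        have h5 : G.trace * (G.trace ^ 2 + 1) = 0 := by linear_combination key
        rcases mul_eq_zero.mp h5 with h | h
        · exact h0 h
        · exact h58_no_sqrt_neg_one α hα G.trace hτ (eq_neg_of_add_eq_zero_left h)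
    rcases h58_pow_cases G hdet α hτ hδ with h | h | h
    · left
      apply H58Hol.pow_eq_one_of_fpf a _ _ hfpf
      rw [← hk]
      apply h58rho_pow_eq_one g ε _ (Or.inl h)
      apply h58_units_even_pow; rw [ht]; exact ⟨4 * t + 1, by omega⟩
    · right
      apply H58Hol.pow_eq_one_of_fpf a _ _ hfpf
      rw [← hk]
      apply h58rho_pow_eq_one g ε _ (Or.inl h)
      apply h58_units_even_pow; rw [ht]; exact ⟨2 * t + 1, by omega⟩
    · right
      apply H58Hol.pow_eq_one_of_fpf a _ _ hfpf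
      rw [← hk]
      apply h58rho_pow_eq_one g ε _ (Or.inr h)
      apply h58_units_even_pow; rw [ht]; exact ⟨2 * t + 1, by omega⟩

end Act

end Cfsg.Agent.Lib.Helper58
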