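import Cfsg.Agent.Lib.Helper58.ReeSpecAct

set_option autoImplicit false

namespace Cfsg.Agent.Lib.Helper58

open Matrix

section Elts

variable {K : Type*} [Field K] [CharP K 3]

omit [CharP K 3] in
lemma h58_orderOf_eq_six {G : Type*} [Group G] (x : G) (h6 : x ^ 6 = 1) (h2 : x ^ 2 ≠ 1)
    (h3 : x ^ 3 ≠ 1) : orderOf x = 6 := by
  have hd : orderOf x ∣ 6 := orderOf_dvd_of_pow_eq_one h6
  have hle : orderOf x ≤ 6 := Nat.le_of_dvd (by norm_num) hd
  have hpow := pow_orderOf_eq_one x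
  generalize orderOf x = d at *
  interval_cases d
  · simp at hd
  · exfalso; apply h2; rw [pow_two]; rw [pow_one] at hpow; rw [hpow, one_mul]
  · exact absurd hpow h2
  · exact absurd hpow h3
  · exfalso; revert hd; decide
  · exfalso; revert hd; decide
  · rfl

variable (K) in
/-- upper unitriangular element -/
def h58U : Matrix.SpecialLinearGroup (Fin 2) K := ⟨!![1, 1; 0, 1], by simp [Matrix.det_fin_two]⟩

variable (K) in
/-- the Weyl element -/
def h58J : Matrix.SpecialLinearGroup (Fin 2) K := ⟨!![0, -1; 1, 0], by simp [Matrix.det_fin_two]⟩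

/-- diagonal element -/
def h58D (l : K) (hl : l ≠ 0) : Matrix.SpecialLinearGroup (Fin 2) K :=
  ⟨!![l, 0; 0, l⁻¹], by simp [Matrix.det_fin_two, hl]⟩

variable (K) in
/-- companion matrix of `x² - τ x + 1` -/
def h58C (τ : K) : Matrix.SpecialLinearGroup (Fin 2) K :=
  ⟨!![0, -1; 1, τ], by simp [Matrix.det_fin_two]⟩

lemma h58U_mem (α : ℕ) : h58U K ∈ h58G0 K α := by
  rw [h58_mem_G0_iff]
  intro i j
  fin_cases i <;> fin_cases j <;> simp [h58U]

lemma h58J_mem (α : ℕ) : h58J K ∈ h58G0 K α := by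
  rw [h58_mem_G0_iff]
  intro i j
  have hodd : Odd (3 ^ α) := Odd.pow (by decide)
  fin_cases i <;> fin_cases j <;> simp [h58J, hodd.neg_one_pow]

lemma h58D_mem (α : ℕ) (l : K) (hl : l ≠ 0) (hq : l ^ (3 ^ α) = l) : h58D l hl ∈ h58G0 K α := by
  rw [h58_mem_G0_iff]
  intro i j
  fin_cases i <;> fin_cases j <;> simp [h58D, hq]

lemma h58C_mem (α : ℕ) (τ : K) (hq : τ ^ (3 ^ α) = τ) : h58C K τ ∈ h58G0 K α := by
  rw [h58_mem_G0_iff]
  intro i j
  have hodd : Odd (3 ^ α) := Odd.pow (by decide)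
  fin_cases i <;> fin_cases j <;> simp [h58C, hq, hodd.neg_one_pow]


lemma h58twist_of (a b c d : K) : h58twist K !![a, b; c, d] = !![a ^ 3, c ^ 3; b ^ 3, d ^ 3] := by
  ext i j
  fin_cases i <;> fin_cases j <;> simp [h58twist_apply]

/-- explicit formula for the action -/
lemma h58rho_smul_of (g : Matrix.SpecialLinearGroup (Fin 2) K) (ε : ℤˣ) (a b c d x y z w : K)
    (hg : (g : Matrix (Fin 2) (Fin 2) K) = !![a, b; c, d]) :
    h58rho K (g, ε) • !![x, y; z, w] = h58sgn K ε •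
      !![(a * x + b * z) * a ^ 3 + (a * y + b * w) * b ^ 3,
         (a * x + b * z) * c ^ 3 + (a * y + b * w) * d ^ 3;
         (c * x + d * z) * a ^ 3 + (c * y + d * w) * b ^ 3,
         (c * x + d * z) * c ^ 3 + (c * y + d * w) * d ^ 3] := by
  rw [h58rho_smul]
  simp only [hg, h58twist_of, Matrix.mul_fin_two]

variable (K) in
/-- an element of order nine -/
noncomputable def h58a9 :
    H58Hol (Matrix (Fin 2) (Fin 2) K) (Module.End K (Matrix (Fin 2) (Fin 2) K))ˣ :=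
  ⟨!![0, 0; 0, 1], h58rho K (h58U K, 1)⟩

lemma h58U_cube : ((h58U K : Matrix.SpecialLinearGroup (Fin 2) K) : Matrix (Fin 2) (Fin 2) K) ^ 3
    = 1 := by
  have h3 : (3 : K) = 0 := by
    have : ((3 : ℕ) : K) = 0 := CharP.cast_eq_zero K 3
    exact_mod_cast this
  have : (h58U K : Matrix (Fin 2) (Fin 2) K) = !![1, 1; 0, 1] := rfl
  rw [this, pow_succ, pow_two]
  ext i j
  fin_cases i <;> fin_cases j <;> simp [Matrix.mul_apply, Fin.sum_univ_two]
  linear_combination h3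

lemma h58a9_order : orderOf (h58a9 K) = 9 := by
  have h3 : (3 : K) = 0 := by
    have : ((3 : ℕ) : K) = 0 := CharP.cast_eq_zero K 3
    exact_mod_cast this
  have hk3 : (h58a9 K).k ^ 3 = 1 :=
    h58rho_pow_eq_one (h58U K) 1 3 (Or.inl h58U_cube) (one_pow 3)
  have h9 : (h58a9 K) ^ (3 ^ (1 + 1)) = 1 :=
    H58Hol.pow_three_mul_eq_one h58_three_nsmul (h58a9 K) 3 hk3
  have hn : ¬ (h58a9 K) ^ (3 ^ 1) = 1 := by
    intro h
    have hv := congrArg (fun a : H58Hol (Matrix (Fin 2) (Fin 2) K) (Module.End K (Matrix (Fin 2) (Fin 2) K))ˣ => a.v 0 0) h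
    simp only [pow_succ, pow_zero, one_mul, H58Hol.mul_v, H58Hol.mul_k, mul_smul,
      H58Hol.one_v] at hv
    have hU : ((h58U K : Matrix.SpecialLinearGroup (Fin 2) K) : Matrix (Fin 2) (Fin 2) K)
        = !![1, 1; 0, 1] := rfl
    simp only [h58a9, h58rho_smul_of (h58U K) 1 _ _ _ _ _ _ _ _ hU, h58sgn_one, one_smul] at hv
    simp at hv
    have : (1 : K) = 0 := by linear_combination 2 * h3 - hv
    exact one_ne_zero this
  exact orderOf_eq_prime_pow hn h9


variable (K) in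
/-- an element of order six -/
noncomputable def h58a6 :
    H58Hol (Matrix (Fin 2) (Fin 2) K) (Module.End K (Matrix (Fin 2) (Fin 2) K))ˣ :=
  ⟨!![1, 0; 0, 1], h58rho K (h58J K, 1)⟩

omit [CharP K 3] in
lemma h58J_sq : ((h58J K : Matrix.SpecialLinearGroup (Fin 2) K) : Matrix (Fin 2) (Fin 2) K) ^ 2
    = -1 := by
  have : (h58J K : Matrix (Fin 2) (Fin 2) K) = !![0, -1; 1, 0] := rfl
  rw [this, pow_two]
  ext i j
  fin_cases i <;> fin_cases j <;> simp [Matrix.mul_apply, Fin.sum_univ_two]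

lemma h58a6_order : orderOf (h58a6 K) = 6 := by
  have h3 : (3 : K) = 0 := by
    have : ((3 : ℕ) : K) = 0 := CharP.cast_eq_zero K 3
    exact_mod_cast this
  have hJ : ((h58J K : Matrix.SpecialLinearGroup (Fin 2) K) : Matrix (Fin 2) (Fin 2) K)
      = !![0, -1; 1, 0] := rfl
  have hk2 : (h58a6 K).k ^ 2 = 1 :=
    h58rho_pow_eq_one (h58J K) 1 2 (Or.inr h58J_sq) (one_pow 2)
  have h6 : (h58a6 K) ^ 6 = 1 :=
    H58Hol.pow_three_mul_eq_one h58_three_nsmul (h58a6 K) 2 hk2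
  apply h58_orderOf_eq_six _ h6
  · intro h
    have hv := congrArg (fun a : H58Hol (Matrix (Fin 2) (Fin 2) K)
      (Module.End K (Matrix (Fin 2) (Fin 2) K))ˣ => a.v 0 0) h
    simp only [pow_succ, pow_zero, one_mul, H58Hol.mul_v, H58Hol.mul_k, mul_smul,
      H58Hol.one_v] at hv
    simp only [h58a6, h58rho_smul_of (h58J K) 1 _ _ _ _ _ _ _ _ hJ, h58sgn_one, one_smul] at hv
    simp at hv
    have : (1 : K) = 0 := by linear_combination h3 - hv
    exact one_ne_zero this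
  · intro h
    have hk := congrArg H58Hol.k h
    rw [H58Hol.pow_k, pow_succ, hk2, one_mul, H58Hol.one_k] at hk
    have h1 : (h58a6 K).k • (!![1, 0; 0, 0] : Matrix (Fin 2) (Fin 2) K) = !![1, 0; 0, 0] := by
      rw [hk, one_smul]
    simp only [h58a6, h58rho_smul_of (h58J K) 1 _ _ _ _ _ _ _ _ hJ, h58sgn_one, one_smul] at h1
    have := congrFun (congrFun h1 0) 0
    simp at this


omit [CharP K 3] in
lemma h58_eigen_pow {M : Type*} [AddCommGroup M] [Module K M] (L : Module.End K M) (A : M) (c : K)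
    (h : L A = c • A) (m : ℕ) : (L ^ m) A = c ^ m • A := by
  induction m with
  | zero => simp
  | succ m ih =>
    rw [pow_succ', Module.End.mul_apply, ih, map_smul, h, smul_smul, pow_succ]

lemma h58_neg_sq_order (l : K) (t : ℕ) (hord : orderOf l = 8 * t + 2) (m : ℕ)
    (h : (-l ^ 2) ^ m = 1) : (8 * t + 2) ∣ m := by
  have h1 : (-l ^ 2) ^ m = (-1) ^ m * l ^ (2 * m) := by
    rw [neg_pow, ← pow_mul]
  rw [h1] at h
  have hs : ((-1 : K) ^ m) ^ 2 = 1 := by
    rw [← pow_mul, mul_comm, pow_mul]; simp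
  have h2 : l ^ (4 * m) = 1 := by
    have : l ^ (4 * m) = ((-1) ^ m * l ^ (2 * m)) ^ 2 := by
      rw [mul_pow, hs, one_mul, ← pow_mul]; congr 1; ring
    rw [this, h, one_pow]
  have h3 : (8 * t + 2) ∣ 4 * m := by rw [← hord]; exact orderOf_dvd_of_pow_eq_one h2
  have h4 : (4 * t + 1) ∣ m := by
    have h5 : (4 * t + 1) ∣ 2 * m := by
      have : 2 * (4 * t + 1) ∣ 2 * (2 * m) := by
        have e1 : 2 * (4 * t + 1) = 8 * t + 2 := by ring
        have e2 : 2 * (2 * m) = 4 * m := by ring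
        rw [e1, e2]; exact h3
      exact Nat.dvd_of_mul_dvd_mul_left (by norm_num) this
    have hc : Nat.Coprime (4 * t + 1) 2 := by
      rw [Nat.coprime_two_right]; exact ⟨2 * t, by ring⟩
    exact hc.dvd_of_dvd_mul_left h5
  have h6 : l ^ (2 * m) = 1 := by
    rw [← orderOf_dvd_iff_pow_eq_one, hord]
    have e1 : 8 * t + 2 = 2 * (4 * t + 1) := by ring
    rw [e1]; exact Nat.mul_dvd_mul_left 2 h4
  rw [h6, mul_one] at h
  have h7 : Even m := by
    by_contra hne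
    rw [Nat.not_even_iff_odd] at hne
    rw [hne.neg_one_pow] at h
    have h8 : (2 : K) = 0 := by linear_combination -h
    have h9 : ((2 : ℕ) : K) = 0 := by exact_mod_cast h8
    rw [CharP.cast_eq_zero_iff K 3] at h9
    omega
  have hc : Nat.Coprime 2 (4 * t + 1) := by
    rw [Nat.coprime_two_left]; exact ⟨2 * t, by ring⟩
  have e1 : 8 * t + 2 = 2 * (4 * t + 1) := by ring
  rw [e1]
  exact hc.mul_dvd_of_dvd_of_dvd h7.two_dvd h4

/-- the element of order `q - 1` -/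
noncomputable def h58aT (l : K) (hl : l ≠ 0) :
    H58Hol (Matrix (Fin 2) (Fin 2) K) (Module.End K (Matrix (Fin 2) (Fin 2) K))ˣ :=
  ⟨0, h58rho K (h58D l hl, -1)⟩

lemma h58aT_order (l : K) (hl : l ≠ 0) (t : ℕ) (hord : orderOf l = 8 * t + 2) :
    (8 * t + 2) ∣ orderOf (h58aT l hl) := by
  apply h58_neg_sq_order l t hord
  have h1 := pow_orderOf_eq_one (h58aT l hl)
  have h2 := congrArg H58Hol.k h1
  rw [H58Hol.pow_k, H58Hol.one_k] at h2
  have h3 : (h58rho0 K (h58D l hl, -1)) ^ orderOf (h58aT l hl) = 1 := by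
    have := congrArg (fun u : (Module.End K (Matrix (Fin 2) (Fin 2) K))ˣ =>
      (u : Module.End K (Matrix (Fin 2) (Fin 2) K))) h2
    simpa [h58aT, h58rho] using this
  have hD : ((h58D l hl : Matrix.SpecialLinearGroup (Fin 2) K) : Matrix (Fin 2) (Fin 2) K)
      = !![l, 0; 0, l⁻¹] := rfl
  have heig : h58rho0 K (h58D l hl, -1) (!![0, 0; 1, 0] : Matrix (Fin 2) (Fin 2) K)
      = (-l ^ 2) • (!![0, 0; 1, 0] : Matrix (Fin 2) (Fin 2) K) := by
    have := h58rho_smul_of (h58D l hl) (-1) _ _ _ _ 0 0 1 0 hD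
    have e : h58rho0 K (h58D l hl, -1) (!![0, 0; 1, 0] : Matrix (Fin 2) (Fin 2) K)
      = h58rho K (h58D l hl, -1) • (!![0, 0; 1, 0] : Matrix (Fin 2) (Fin 2) K) := rfl
    rw [e, this, h58sgn_neg_one]
    ext i j
    fin_cases i <;> fin_cases j <;> simp
    field_simp
  have h4 := h58_eigen_pow _ _ _ heig (orderOf (h58aT l hl))
  rw [h3] at h4
  have h5 := congrFun (congrFun h4 1) 0
  simpa using h5.symm


omit [CharP K 3] in
/-- powers of the companion matrix track powers of the root -/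
lemma h58C_pow (μ : K) (hμ : μ ≠ 0) (m : ℕ) :
    ∃ a b : K, ((h58C K (μ + μ⁻¹) : Matrix.SpecialLinearGroup (Fin 2) K) :
      Matrix (Fin 2) (Fin 2) K) ^ m = !![b, -a; a, a * (μ + μ⁻¹) + b] ∧ μ ^ m = a * μ + b := by
  have hC : ((h58C K (μ + μ⁻¹) : Matrix.SpecialLinearGroup (Fin 2) K) :
      Matrix (Fin 2) (Fin 2) K) = !![0, -1; 1, μ + μ⁻¹] := rfl
  induction m with
  | zero =>
    refine ⟨0, 1, ?_, by simp⟩
    rw [pow_zero]
    ext i j
    fin_cases i <;> fin_cases j <;> simp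
  | succ m ih =>
    obtain ⟨a, b, h1, h2⟩ := ih
    refine ⟨a * (μ + μ⁻¹) + b, -a, ?_, ?_⟩
    · rw [pow_succ, h1, hC, Matrix.mul_fin_two]
      ext i j
      fin_cases i <;> fin_cases j <;> (simp; try ring)
    · rw [pow_succ, h2]
      field_simp
      ring

/-- the element of order `(q + 1) / 2` -/
noncomputable def h58aS (τ : K) :
    H58Hol (Matrix (Fin 2) (Fin 2) K) (Module.End K (Matrix (Fin 2) (Fin 2) K))ˣ :=
  ⟨0, h58rho K (h58C K τ, 1)⟩

lemma h58aS_order (μ : K) (hμ : μ ≠ 0) (t : ℕ) (hord : orderOf μ = 8 * t + 4) :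
    (4 * t + 2) ∣ orderOf (h58aS (μ + μ⁻¹)) := by
  set m := orderOf (h58aS (μ + μ⁻¹)) with hm
  have h1 := pow_orderOf_eq_one (h58aS (μ + μ⁻¹))
  have h2 := congrArg H58Hol.k h1
  rw [H58Hol.pow_k, H58Hol.one_k] at h2
  have h3 : h58rho K ((h58C K (μ + μ⁻¹)) ^ m, 1) = 1 := by
    have : (h58aS (μ + μ⁻¹)).k = h58rho K (h58C K (μ + μ⁻¹), 1) := rfl
    rw [this, ← map_pow, Prod.pow_mk, one_pow] at h2
    exact h2
  obtain ⟨a, b, hab, hμm⟩ := h58C_pow μ hμ m
  rw [← Matrix.SpecialLinearGroup.coe_pow] at hab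
  have h4 := (h58rho_eq_one_iff _).mp h3 (!![1, 0; 0, 0] : Matrix (Fin 2) (Fin 2) K)
  rw [h58rho_smul_of _ 1 _ _ _ _ 1 0 0 0 hab, h58sgn_one, one_smul] at h4
  have h5 := congrFun (congrFun h4 1) 1
  have ha : a = 0 := by
    simpa using h5
  have hdet := ((h58C K (μ + μ⁻¹)) ^ m).det_coe
  rw [hab, Matrix.det_fin_two_of, ha] at hdet
  have hb : b ^ 2 = 1 := by linear_combination hdet
  rw [ha, zero_mul, zero_add] at hμm
  have h6 : μ ^ (2 * m) = 1 := by rw [mul_comm, pow_mul, hμm, hb]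
  have h7 : (8 * t + 4) ∣ 2 * m := by rw [← hord]; exact orderOf_dvd_of_pow_eq_one h6
  have e1 : 8 * t + 4 = 2 * (4 * t + 2) := by ring
  rw [e1] at h7
  exact Nat.dvd_of_mul_dvd_mul_left (by norm_num) h7

end Elts

end Cfsg.Agent.Lib.Helper58
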