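import Cfsg.Agent.Lib.Helper58.ReeSpecElts

set_option autoImplicit false

namespace Cfsg.Agent.Lib.Helper58

/-- maximal element orders from a list of "covering" orders -/
lemma h58_max_orders {H : Type*} [Group H] (T : Set ℕ)
    (hI : ∀ h : H, ∃ t ∈ T, orderOf h ∣ t)
    (hII : ∀ t ∈ T, ∃ h : H, t ∣ orderOf h)
    (hIII : ∀ t ∈ T, ∀ t' ∈ T, t ∣ t' → t = t') :
    {n : ℕ | n ∈ Set.range (orderOf : H → ℕ) ∧
      ∀ m ∈ Set.range (orderOf : H → ℕ), n ∣ m → m = n} = T := by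
  have hex : ∀ t ∈ T, ∃ h : H, orderOf h = t := by
    intro t ht
    obtain ⟨h, hh⟩ := hII t ht
    obtain ⟨t', ht', hd⟩ := hI h
    have := hIII t ht t' ht' (hh.trans hd)
    subst this
    exact ⟨h, Nat.dvd_antisymm hd hh⟩
  ext n
  constructor
  · rintro ⟨⟨h, rfl⟩, hmax⟩
    obtain ⟨t, ht, hd⟩ := hI h
    obtain ⟨h', hh'⟩ := hex t ht
    have := hmax t ⟨h', hh'⟩ hd
    rw [← this]; exact ht
  · intro hn
    obtain ⟨h, hh⟩ := hex n hn
    refine ⟨⟨h, hh⟩, ?_⟩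
    rintro m ⟨h', rfl⟩ hd
    obtain ⟨t', ht', hd'⟩ := hI h'
    have := hIII n hn t' ht' (hd.trans hd')
    subst this
    exact Nat.dvd_antisymm hd' hd

lemma h58_arith (α : ℕ) (hα : 3 ≤ α) (hodd : Odd α) : ∃ r : ℕ, 1 ≤ r ∧ 3 ^ α = 24 * r + 3 := by
  obtain ⟨t, ht⟩ := h58_three_pow_mod8 α hodd
  have h3 : 3 ∣ 3 ^ α := dvd_pow_self 3 (by omega)
  have h27 : 3 ^ 3 ≤ 3 ^ α := Nat.pow_le_pow_right (by norm_num) hα
  rw [ht] at h3 h27
  obtain ⟨c, hc⟩ := h3
  refine ⟨(c - 1) / 8, ?_, ?_⟩ <;> omega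

lemma h58_nondiv (r : ℕ) (hr : 1 ≤ r) :
    ∀ t ∈ ({6, 9, 24 * r + 2, 12 * r + 2} : Set ℕ), ∀ t' ∈ ({6, 9, 24 * r + 2, 12 * r + 2} : Set ℕ),
      t ∣ t' → t = t' := by
  intro t ht t' ht' hd
  simp only [Set.mem_insert_iff, Set.mem_singleton_iff] at ht ht'
  have key : (12 * r + 2) ∣ (24 * r + 2) → False := by
    intro h
    have h2 : (12 * r + 2) ∣ 2 * (12 * r + 2) := Dvd.intro_left 2 rfl
    have h3 := Nat.dvd_sub h2 h
    have h4 : 2 * (12 * r + 2) - (24 * r + 2) = 2 := by omega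
    rw [h4] at h3
    have := Nat.le_of_dvd (by norm_num) h3
    omega
  rcases ht with rfl | rfl | rfl | rfl <;> rcases ht' with rfl | rfl | rfl | rfl <;>
    first
    | rfl
    | (exfalso; exact key hd)
    | (exfalso; have := Nat.le_of_dvd (by omega) hd; omega)

lemma h58_field_elts (K : Type*) [Field K] [Finite K] (r : ℕ)
    (hcard : Nat.card K = (24 * r + 3) ^ 2) :
    ∃ l μ : K, l ≠ 0 ∧ μ ≠ 0 ∧ orderOf l = 24 * r + 2 ∧ orderOf μ = 24 * r + 4 := by
  obtain ⟨ω, hω⟩ := IsCyclic.exists_ofOrder_eq_natCard (α := Kˣ)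
  rw [Nat.card_units, hcard] at hω
  have e : (24 * r + 3) ^ 2 - 1 = (24 * r + 2) * (24 * r + 4) := by
    have : (24 * r + 3) ^ 2 = (24 * r + 2) * (24 * r + 4) + 1 := by ring
    rw [this]; rfl
  rw [e] at hω
  refine ⟨((ω ^ (24 * r + 4) : Kˣ) : K), ((ω ^ (24 * r + 2) : Kˣ) : K), Units.ne_zero _,
    Units.ne_zero _, ?_, ?_⟩
  · rw [orderOf_units, orderOf_pow_of_dvd (by omega) (by rw [hω]; exact Dvd.intro_left _ rfl), hω]
    exact Nat.mul_div_cancel _ (by omega)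
  · rw [orderOf_units, orderOf_pow_of_dvd (by omega) (by rw [hω]; exact Dvd.intro _ rfl), hω]
    exact Nat.mul_div_cancel_left _ (by omega)


lemma h58_finite_end (K : Type*) [Field K] [Finite K] :
    Finite (Module.End K (Matrix (Fin 2) (Fin 2) K)) :=
  Finite.of_injective (fun f : Module.End K (Matrix (Fin 2) (Fin 2) K) =>
    (f : Matrix (Fin 2) (Fin 2) K → Matrix (Fin 2) (Fin 2) K)) DFunLike.coe_injective

theorem h58_main (K : Type) [Field K] [CharP K 3] [Finite K] (α : ℕ) (hα : 3 ≤ α) (hodd : Odd α)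
    (hcard : Nat.card K = (3 ^ α) ^ 2) :
    ∃ (H : Type) (_ : Group H) (_ : Fintype H),
      (∃ P : Subgroup H, P.Normal ∧ P ≠ ⊥ ∧ IsPGroup 3 ↥P) ∧
      {n : ℕ | n ∈ Set.range (orderOf : H → ℕ) ∧
        ∀ m ∈ Set.range (orderOf : H → ℕ), n ∣ m → m = n} =
        ({6, 9, 3 ^ α - 1, (3 ^ α + 1) / 2} : Set ℕ) := by
  obtain ⟨r, hr1, hq⟩ := h58_arith α hα hodd
  have e1 : 3 ^ α - 1 = 24 * r + 2 := by omega
  have e2 : (3 ^ α + 1) / 2 = 12 * r + 2 := by omega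
  have : Finite (Module.End K (Matrix (Fin 2) (Fin 2) K)) := h58_finite_end K
  let Hs : Subgroup (H58Hol (Matrix (Fin 2) (Fin 2) K)
      (Module.End K (Matrix (Fin 2) (Fin 2) K))ˣ) := (h58Kact K α).comap H58Hol.proj
  have hmem : ∀ a : H58Hol (Matrix (Fin 2) (Fin 2) K) (Module.End K (Matrix (Fin 2) (Fin 2) K))ˣ,
      a ∈ Hs ↔ a.k ∈ h58Kact K α := fun a => Iff.rfl
  refine ⟨↥Hs, inferInstance, Fintype.ofFinite _, ?_, ?_⟩
  · refine ⟨(H58Hol.proj.comp Hs.subtype).ker, MonoidHom.normal_ker _, ?_, ?_⟩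
    · intro hbot
      have h1 : (⟨⟨!![1, 0; 0, 0], 1⟩, (hmem _).mpr (one_mem _)⟩ : ↥Hs) ∈
          (H58Hol.proj.comp Hs.subtype).ker := by
        rw [MonoidHom.mem_ker]; rfl
      rw [hbot, Subgroup.mem_bot] at h1
      have h2 := congrArg (fun x : ↥Hs => (x : H58Hol (Matrix (Fin 2) (Fin 2) K)
        (Module.End K (Matrix (Fin 2) (Fin 2) K))ˣ).v 0 0) h1
      simp at h2
    · intro x
      refine ⟨1, ?_⟩
      obtain ⟨⟨a, ha⟩, hx⟩ := x
      have hk : a.k = 1 := by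
        rw [MonoidHom.mem_ker] at hx; exact hx
      have h3 := H58Hol.cube_eq_one_of_k_eq_one h58_three_nsmul a hk
      apply Subtype.ext
      apply Subtype.ext
      simpa using h3
  · rw [e1, e2]
    apply h58_max_orders
    · intro x
      rcases h58_order_cases α hodd (x : H58Hol (Matrix (Fin 2) (Fin 2) K)
        (Module.End K (Matrix (Fin 2) (Fin 2) K))ˣ) ((hmem _).mp x.2) with h | h | h | h
      · exact ⟨6, by simp, by rw [← Subgroup.orderOf_coe]; exact orderOf_dvd_of_pow_eq_one h⟩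
      · exact ⟨9, by simp, by rw [← Subgroup.orderOf_coe]; exact orderOf_dvd_of_pow_eq_one h⟩
      · rw [e1] at h
        exact ⟨24 * r + 2, by simp, by
          rw [← Subgroup.orderOf_coe]; exact orderOf_dvd_of_pow_eq_one h⟩
      · rw [e2] at h
        exact ⟨12 * r + 2, by simp, by
          rw [← Subgroup.orderOf_coe]; exact orderOf_dvd_of_pow_eq_one h⟩
    · obtain ⟨l, μ, hl0, hμ0, hl, hμ⟩ := h58_field_elts K r (by rw [hcard, hq])
      have hlq : l ^ (3 ^ α) = l := by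
        have h1 : l ^ (24 * r + 2) = 1 := by rw [← hl]; exact pow_orderOf_eq_one l
        have h2 : 3 ^ α = (24 * r + 2) + 1 := by omega
        rw [h2, pow_succ, h1, one_mul]
      have hτq : (μ + μ⁻¹) ^ (3 ^ α) = μ + μ⁻¹ := by
        have h1 : μ ^ (24 * r + 4) = 1 := by rw [← hμ]; exact pow_orderOf_eq_one μ
        have h2 : μ ^ (3 ^ α) * μ = 1 := by
          rw [← pow_succ]
          have : 3 ^ α + 1 = 24 * r + 4 := by omega
          rw [this, h1]
        have h3 : μ ^ (3 ^ α) = μ⁻¹ := eq_inv_of_mul_eq_one_left h2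
        rw [add_pow_char_pow, inv_pow, h3, inv_inv, add_comm]
      intro t ht
      simp only [Set.mem_insert_iff, Set.mem_singleton_iff] at ht
      rcases ht with rfl | rfl | rfl | rfl
      · exact ⟨⟨h58a6 K, (hmem _).mpr (h58_mem_Kact α _ (h58J_mem α) 1)⟩, by
          rw [Subgroup.orderOf_mk, h58a6_order]⟩
      · exact ⟨⟨h58a9 K, (hmem _).mpr (h58_mem_Kact α _ (h58U_mem α) 1)⟩, by
          rw [Subgroup.orderOf_mk, h58a9_order]⟩
      · refine ⟨⟨h58aT l hl0, (hmem _).mpr (h58_mem_Kact α _ (h58D_mem α l hl0 hlq) (-1))⟩, ?_⟩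
        rw [Subgroup.orderOf_mk]
        have := h58aT_order l hl0 (3 * r) (by rw [hl]; ring)
        have e : 8 * (3 * r) + 2 = 24 * r + 2 := by ring
        rw [e] at this; exact this
      · refine ⟨⟨h58aS (μ + μ⁻¹), (hmem _).mpr (h58_mem_Kact α _ (h58C_mem α _ hτq) 1)⟩, ?_⟩
        rw [Subgroup.orderOf_mk]
        have := h58aS_order μ hμ0 (3 * r) (by rw [hμ]; ring)
        have e : 4 * (3 * r) + 2 = 12 * r + 2 := by ring
        rw [e] at this; exact this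
    · exact h58_nondiv r hr1

end Cfsg.Agent.Lib.Helper58
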