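import Mathlib
import Cfsg.Agent.S0822

/-!
# A Sylow `2`-subgroup of `SU₄(2)` is isomorphic to a Sylow `2`-subgroup of `A₈`

The diagonal subgroup of `S₈ × SU₄(2)` generated by six explicit pairs (with even first components)
has order `64` and both projections are injective on it (two verified stabiliser chains, one with
base in `Fin 8`, one with base in `F₄⁴`).
-/

set_option autoImplicit false
set_option maxRecDepth 1000000

namespace Cfsg.Agent.Lib.Helper58.S2931A

open Cfsg.Agent.Lib.Helper14.SU32 (F4c)
open Cfsg.Agent.Lib.Helper89 Cfsg.Agent.Lib.Helper89.DiagIso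
open Cfsg.Agent.Lib.Helper89.ClassicalTransfer
open Cfsg.Agent.S0822 (mat4 vecN4 f4 f4i idx4 idx4_vecN4 frob_add v4_64 v4_16 v4_4 v4_1 G2 V2)
open Matrix

abbrev G1 := Equiv.Perm (Fin 8)
abbrev GG := G1 × G2
abbrev Pt := SumPt (Fin 8) V2

def codeU (j : ℕ) : ℕ := [1904883060, 1673926332, 134398000, 1381771209, 442036677, 1674454968].getD j 0

def tabC : List ℕ := [6022154248409608124115398773611684266845584934443154834075456223548822275623442537043892955429798935013412221534506234111693397104077801203020356442103602793020402820550060223150695064247942335584998557212813484685981503391041027711149331152359485585727881206209245170179977450377289913354141909637633047055856543242149467228722075148645430775438798746711846866496849613361040783459463967569886309098350098987604838435547619367024848088165941773487428827338993317708560598201624970378610426809271594434110854332708997927842207698470695683020726450170113919931575580368621189915636912155774349376047954299111178775190634135278020641109620586605937810078216552520755667224977033123751455196215683060203295483538178560,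 3052720959659444039312040078448760432790679840281251630160717780083060089238380798618353714378593470890190445826289083147756179437562353781588878885815365693348508795668475553473334806683339796011409568230089082428883159645636855926043861656437158722084087836963264555378091840028683127803474676923391158080244337945014417469465261484021355893517092272941513797596385264960311831827197871785721222873242325771042111454823828547201874368353330463176622790427087266080982903569855833711758619996457671548014440029047089428746791547791270613859555433633001435722048273346814296383754751026241085659496785103300204559894676038291742014618961828306662031525036112248215426309471524936936790410833923443253136498253890048, 5981591492872061074209416651047599428763754104266032283239147775839952241554107471159898627588505583176505268062114101662007310748618722389269440105687999985239752188477772880835206862372237964447252696960576263423591815108775634232615664821795274723198351444701506501783976194759671456553242618323938124850328118997536361268197536087510999047116908877415833529571981752291055610905570304397517519588381145617418181253028658338857251220447194558167506249982025963305908515620804673915651368486610837227538495124804605590307784798159147618464373050283451748576914587251227157328131268000451292760195099726348560567419422648975828379966819831257655044882691729239371865662202907110955626885111165645543952718301233664,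 601045011537104415999435123230528698148328556761845287483899611882628417248032565290048392667141316490701779707594588228597295468495569785787730124840954324720891601553781246415214179749170576758558082283919402714495627381504074855044752857143499548420598797722711780798899623819823945283834316285019756908806579559604801798562864578434233170201779140696621329307608985522689267847764749001382098100317807051790270180234004013123900394151358654308404155067224772466025121394121013366624999308608331111907029367583163483617404323446429671728332311506000586750817781678512968280695143812934623242511286911829121932839449842270555030205957730765869639061208785375296342796099421131220870099351289342003296486969311233, 6597329766737990085814628782140919729071130090332832338853873532595562489308663995696266071133329638725124622369671543181606444007012642162100937205114140903753222612863197695303759926883054951972564928386397863462455350880504817843092410588525320084841754309170051098533061594701161951116584111372751248517652206522782823503203212143799885956254928054326967406158054005350556779927257305001219474414746619553612145266570519730878059574596383683107888370674421046267112367608833878532244105878652229108160691418891627486973979666471259350755724988534672513979908859983564767658117170308589433086389776505923871119247781876810471648722367158312632696226556009663557190141164547775951458567972776849976847178936616450,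 4833165203260876976878733754494436562804744108433919425025638475568532697112134981958356114350447394324535778426849887025657593289536491121536790588165660840717787669944096273532050986832816551703201905836625306747642210655446133904153773562582069470080268070011105157649283584260631318786333597926269096330191439711458303330198930695400762086989174716069169166529408891850717894794276680015098488616277163970871510734203726220400548278492446898022389144293471255580541627324519744602613112987963649838257452221339755699378591045475205370636051291011946093807351176045294275036302847907175682475151757254812664709559593445053451558850914275557662049965066959913857083064480172612321922443425669729705858940788017668]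

def tabIC : List ℕ := [14599368, 14571144, 11789960, 14599809, 16433690, 6852524]

def WB (j : ℕ) : List ℕ := [[3, 2, 0], [1], [2], [0], [4], [5]].getD j []

def AT0 : List (List ℕ) := [
  [],
  [3],
  [4],
  [5],
  [4, 3],
  [5, 3],
  [5, 4],
  [5, 4, 3]
]

def AE0 : List (List (ℕ × List ℕ)) := [
  [(0, [0]), (1, [0]), (4, []), (3, [0]), (2, []), (5, [0]), (7, []), (6, [])],
  [(0, [1]), (1, [1]), (2, [1]), (5, [0]), (4, [1]), (3, [0]), (7, [0]), (6, [0])],
  [(0, [2]), (1, [2, 1]), (2, [2]), (6, []), (4, [2, 1]), (7, []), (3, []), (5, [])],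
  [(1, []), (0, []), (2, [0]), (3, [1, 0]), (4, [0]), (5, [1, 0]), (7, [1]), (6, [1])],
  [(2, []), (4, []), (0, []), (3, [2]), (1, []), (5, [2, 1]), (6, [2]), (7, [2, 1])],
  [(3, []), (5, []), (6, []), (0, []), (7, []), (1, []), (2, []), (4, [])]
]

def AT1 : List (List ℕ) := [
  [],
  [1],
  [2],
  [2, 1]
]

def AE1 : List (List (ℕ × List ℕ)) := [
  [(0, [0]), (1, [0]), (3, [0]), (2, [0])],
  [(1, []), (0, []), (3, []), (2, [])],
  [(2, []), (3, []), (0, []), (1, [])]
]

def AT2 : List (List ℕ) := [
  [],
  [0]
]

def AE2 : List (List (ℕ × List ℕ)) := [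
  [(1, []), (0, [])]
]

def BT0 : List (List ℕ) := [
  [],
  [1],
  [2],
  [3],
  [4],
  [5],
  [2, 1],
  [3, 1],
  [4, 1],
  [5, 1],
  [3, 2],
  [4, 2],
  [5, 2],
  [2, 3],
  [4, 3],
  [5, 3],
  [3, 4],
  [5, 4],
  [0, 5],
  [1, 5],
  [4, 2, 1],
  [4, 3, 1],
  [5, 3, 1],
  [3, 4, 1],
  [5, 4, 1],
  [0, 5, 1],
  [5, 3, 2],
  [5, 2, 3],
  [5, 4, 3],
  [0, 5, 3],
  [5, 3, 4],
  [3, 0, 5]
]

def BE0 : List (List (ℕ × List ℕ)) := [
  [(0, [0]), (1, [0]), (2, [0]), (7, [0]), (4, [0]), (18, []), (6, [0]), (3, [0]), (8, [0]), (25, []), (13, [0]), (11, [0]), (17, [0]), (10, [0]), (21, [0]), (29, []), (23, [0]), (12, [0]), (5, []), (24, []), (20, [0]), (14, [0]), (30, []), (16, [0]), (19, []), (9, []), (28, [0]), (31, [0]), (26, [0]), (15, []), (22, []), (27, [0])],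
  [(1, []), (0, []), (6, []), (7, []), (8, []), (19, []), (2, []), (3, []), (4, []), (12, [0]), (13, []), (20, []), (9, [0]), (10, []), (21, []), (27, [0]), (23, []), (25, []), (24, []), (5, []), (11, []), (14, []), (26, [0]), (16, []), (18, []), (17, []), (22, [0]), (15, [0]), (30, []), (31, []), (28, []), (29, [])],
  [(2, []), (6, []), (0, []), (13, []), (11, []), (17, []), (1, []), (10, []), (20, []), (24, []), (7, []), (4, []), (18, [0]), (3, []), (16, [0]), (28, []), (14, [0]), (5, []), (12, [0]), (25, []), (8, []), (23, [0]), (31, []), (21, [0]), (9, []), (19, []), (29, [0]), (30, [0]), (15, []), (26, [0]), (27, [0]), (22, [])],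
  [(3, []), (7, []), (10, []), (0, []), (16, []), (15, []), (13, []), (1, []), (23, []), (22, []), (2, []), (21, [0]), (26, []), (6, []), (20, [0]), (5, []), (4, []), (30, []), (31, []), (27, [0]), (14, [0]), (11, [0]), (9, []), (8, []), (29, []), (28, []), (12, []), (19, [0]), (25, []), (24, []), (17, []), (18, [])],
  [(4, []), (8, []), (11, []), (14, []), (0, []), (12, []), (20, []), (21, []), (1, []), (19, [0]), (23, [0]), (2, []), (5, []), (16, [0]), (3, []), (27, []), (13, [0]), (18, [0]), (17, [0]), (9, [0]), (6, []), (7, []), (26, []), (10, [0]), (25, [0]), (24, [0]), (22, []), (15, []), (30, [0]), (31, [0]), (28, [0]), (29, [0])],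
  [(5, []), (9, []), (12, []), (15, []), (17, []), (0, []), (19, [0]), (22, []), (24, []), (1, []), (26, []), (18, [0]), (2, []), (27, []), (28, []), (3, []), (30, []), (4, []), (11, [0]), (6, [0]), (25, [0]), (31, []), (7, []), (29, []), (8, []), (20, [0]), (10, []), (13, []), (14, []), (23, []), (16, []), (21, [])]
]

def BT1 : List (List ℕ) := [
  [],
  [0]
]

def BE1 : List (List (ℕ × List ℕ)) := [
  [(1, []), (0, [])]
]

def tab (j x : ℕ) : ℕ := ((tabC.getD j 0) >>> (9 * x)) &&& 511

def tabI (j x : ℕ) : ℕ := ((tabIC.getD j 0) >>> (3 * x)) &&& 7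

theorem b_det : ∀ j : Fin 6, (mat4 (codeU j.val)).det = 1 := by decide +kernel

theorem b_cols : ∀ j : Fin 6, ∀ s t : Fin 4,
    ∑ r, mat4 (codeU j.val) r s * (mat4 (codeU j.val) r t) ^ 2 = if s = t then 1 else 0 := by
  decide +kernel

theorem tab8_ok : ∀ j : Fin 6, ∀ x : Fin 8, tab j.val x.val < 8 ∧ tabI j.val x.val < 8 ∧
    tabI j.val (tab j.val x.val) = x.val ∧ tab j.val (tabI j.val x.val) = x.val := by decide +kernel

/-- first components of the generators -/
def ga (j : ℕ) : G1 :=
  if h : j < 6 then
    { toFun := fun x => ⟨tab j x.val, (tab8_ok ⟨j, h⟩ x).1⟩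
      invFun := fun x => ⟨tabI j x.val, (tab8_ok ⟨j, h⟩ x).2.1⟩
      left_inv := fun x => Fin.ext (tab8_ok ⟨j, h⟩ x).2.2.1
      right_inv := fun x => Fin.ext (tab8_ok ⟨j, h⟩ x).2.2.2 }
  else 1

theorem ga_apply (j : ℕ) (h : j < 6) (x : Fin 8) : (ga j x).val = tab j x.val := by
  rw [ga, dif_pos h]
  rfl

theorem ga_sign : ∀ j : Fin 6, Equiv.Perm.sign (ga j.val) = 1 := by decide +kernel

/-- second components of the generators -/
def gb (j : ℕ) : G2 :=
  if h : j < 6 then
    ⟨⟨mat4 (codeU j), b_det ⟨j, h⟩⟩, mem_SU_of_cols 2 (by norm_num) frob_add _ (b_cols ⟨j, h⟩)⟩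
  else 1

/-- the generators -/
def gen (j : ℕ) : GG := (ga j, gb j)

/-- the points: `8` points, then the `256` vectors of `F₄⁴` -/
def pt (x : ℕ) : Pt := if x < 8 then SumPt.inl (Fin.ofNat 8 x) else SumPt.inr (vecN4 (x - 8))

/-- check points: the eight points and the standard basis -/
def chk : List ℕ := [0, 1, 2, 3, 4, 5, 6, 7, 72, 24, 12, 9]

theorem tab_ok : (List.range 6).all (fun j => (List.range 264).all (fun x =>
    Nat.blt (tab j x) 264 && (Nat.blt (tab j x) 8 == Nat.blt x 8))) = true := by decide +kernel

theorem tab_lt (j : ℕ) (hj : j < 6) (x : ℕ) (hx : x < 264) : tab j x < 264 := by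
  have := List.all_eq_true.1 (List.all_eq_true.1 tab_ok j (List.mem_range.2 hj)) x (List.mem_range.2 hx)
  rw [Bool.and_eq_true] at this
  exact Nat.le_of_ble_eq_true this.1

theorem tab_lt' (j : ℕ) (hj : j < 6) (x : ℕ) (hx : x < 264) : tab j x < 8 ↔ x < 8 := by
  have := List.all_eq_true.1 (List.all_eq_true.1 tab_ok j (List.mem_range.2 hj)) x (List.mem_range.2 hx)
  rw [Bool.and_eq_true] at this
  have h2 := this.2
  rw [beq_iff_eq] at h2
  constructor
  · intro h
    have : Nat.blt (tab j x) 8 = true := Nat.ble_eq_true_of_le h
    rw [h2] at this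
    exact Nat.le_of_ble_eq_true this
  · intro h
    have : Nat.blt x 8 = true := Nat.ble_eq_true_of_le h
    rw [← h2] at this
    exact Nat.le_of_ble_eq_true this

theorem gb_smul : ∀ j : Fin 6, ∀ n : Fin 256,
    mat4 (codeU j.val) *ᵥ vecN4 n.val = vecN4 (tab j.val (8 + n.val) - 8) := by
  decide +kernel

theorem val_ofNat (x : ℕ) (hx : x < 8) : (Fin.ofNat 8 x).val = x := by
  simp [Fin.ofNat, Nat.mod_eq_of_lt hx]

theorem ofNat_val (a : Fin 8) : Fin.ofNat 8 a.val = a :=
  Fin.ext (val_ofNat a.val a.isLt)

theorem gen_smul (j : ℕ) (hj : j < 6) (x : ℕ) (hx : x < 264) : gen j • pt x = pt (tab j x) := by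
  by_cases h : x < 8
  · have h1 := (tab_lt' j hj x hx).2 h
    unfold pt
    rw [if_pos h, if_pos h1, SumPt.smul_inl]
    congr 1
    apply Fin.ext
    show (ga j (Fin.ofNat 8 x)).val = _
    rw [ga_apply j hj, val_ofNat x h, val_ofNat _ h1]
  · have h' : x - 8 < 256 := by omega
    have h2 := gb_smul ⟨j, hj⟩ ⟨x - 8, h'⟩
    have hx' : 8 + (x - 8) = x := by omega
    simp only [hx'] at h2
    have h1 : ¬ tab j x < 8 := fun hh => h ((tab_lt' j hj x hx).1 hh)
    unfold pt
    rw [if_neg h, if_neg h1, SumPt.smul_inr]
    congr 1
    show (gb j).1.1 *ᵥ vecN4 (x - 8) = _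
    rw [gb, dif_pos hj]
    exact h2

theorem pt_inj (x : ℕ) (hx' : x < 264) (y : ℕ) (hy' : y < 264) (hxy : pt x = pt y) : x = y := by
  unfold pt at hxy
  by_cases hx : x < 8 <;> by_cases hy : y < 8
  · rw [if_pos hx, if_pos hy] at hxy
    have h := congrArg Fin.val (SumPt.inl_injective hxy)
    rwa [val_ofNat x hx, val_ofNat y hy] at h
  · rw [if_pos hx, if_neg hy] at hxy
    exact absurd hxy (SumPt.inl_ne_inr _ _)
  · rw [if_neg hx, if_pos hy] at hxy
    exact absurd hxy.symm (SumPt.inl_ne_inr _ _)
  · rw [if_neg hx, if_neg hy] at hxy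
    have h := congrArg idx4 (SumPt.inr_injective hxy)
    rw [idx4_vecN4 ⟨x - 8, by omega⟩, idx4_vecN4 ⟨y - 8, by omega⟩] at h
    simp only at h
    omega

theorem chk_lt : ∀ x ∈ chk, x < 264 := by decide

theorem inl_eq (g g' : GG) (x : ℕ) (hx : x < 8) (h : g • pt x = g' • pt x) :
    g.1 (Fin.ofNat 8 x) = g'.1 (Fin.ofNat 8 x) := by
  unfold pt at h
  rw [if_pos hx, SumPt.smul_inl, SumPt.smul_inl] at h
  exact SumPt.inl_injective h

theorem inr_eq (g g' : GG) (x : ℕ) (hx : ¬ x < 8) (h : g • pt x = g' • pt x) :
    g.2.1.1 *ᵥ vecN4 (x - 8) = g'.2.1.1 *ᵥ vecN4 (x - 8) := by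
  unfold pt at h
  rw [if_neg hx, SumPt.smul_inr, SumPt.smul_inr] at h
  exact SumPt.inr_injective h

theorem faithful (g g' : GG) (h : ∀ x ∈ chk, g • pt x = g' • pt x) : g = g' := by
  apply Prod.ext
  · apply Equiv.ext
    intro a
    have ha : a.val ∈ chk := by
      fin_cases a <;> decide
    have := inl_eq g g' a.val a.isLt (h a.val ha)
    rwa [ofNat_val] at this
  · apply Subtype.ext
    apply Subtype.ext
    have e1 := inr_eq g g' 72 (by norm_num) (h 72 (by decide))
    have e2 := inr_eq g g' 24 (by norm_num) (h 24 (by decide))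
    have e3 := inr_eq g g' 12 (by norm_num) (h 12 (by decide))
    have e4 := inr_eq g g' 9 (by norm_num) (h 9 (by decide))
    norm_num at e1 e2 e3 e4
    rw [v4_64, Matrix.mulVec_single_one, Matrix.mulVec_single_one] at e1
    rw [v4_16, Matrix.mulVec_single_one, Matrix.mulVec_single_one] at e2
    rw [v4_4, Matrix.mulVec_single_one, Matrix.mulVec_single_one] at e3
    rw [v4_1, Matrix.mulVec_single_one, Matrix.mulVec_single_one] at e4
    ext i k
    fin_cases k
    · exact congrFun e1 i
    · exact congrFun e2 i
    · exact congrFun e3 i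
    · exact congrFun e4 i

/-- chain data, base in `Fin 8` -/
def D1 : TableChain2.Data GG Pt where
  m := 6
  N := 264
  gen := gen
  pt := pt
  tab := tab
  chk := chk
  gen_smul := gen_smul
  tab_lt := tab_lt
  chk_lt := chk_lt
  faithful := faithful
  pt_inj := pt_inj

theorem WB_lt : ∀ j < 6, ∀ c ∈ WB j, c < 6 := by decide

/-- tables of the second generating sequence -/
def tab2 (j x : ℕ) : ℕ := TableChain2.act tab (WB j) x

/-- chain data for the same group, base in `F₄⁴` -/
def D2 : TableChain2.Data GG Pt where
  m := 6
  N := 264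
  gen := fun j => D1.ev (WB j)
  pt := pt
  tab := tab2
  chk := chk
  gen_smul := fun j hj x hx => D1.ev_smul (WB j) (WB_lt j hj) x hx
  tab_lt := fun j hj x hx => D1.act_lt (WB j) (WB_lt j hj) x hx
  chk_lt := chk_lt
  faithful := faithful
  pt_inj := pt_inj

theorem Alevel0 : TableChain2.levelCheck tab 6 3 0 chk AT0 AE0 = true := by
  decide +kernel

theorem Alvl0 : TableChain2.Data.LevelOK D1 6 3 0 AT0 AE0 :=
  TableChain2.Data.levelOK_of_check (D := D1) (by decide) (by decide) Alevel0

theorem Alevel1 : TableChain2.levelCheck tab 3 1 4 chk AT1 AE1 = true := by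
  decide +kernel

theorem Alvl1 : TableChain2.Data.LevelOK D1 3 1 4 AT1 AE1 :=
  TableChain2.Data.levelOK_of_check (D := D1) (by decide) (by decide) Alevel1

theorem Alevel2 : TableChain2.levelCheck tab 1 0 2 chk AT2 AE2 = true := by
  decide +kernel

theorem Alvl2 : TableChain2.Data.LevelOK D1 1 0 2 AT2 AE2 :=
  TableChain2.Data.levelOK_of_check (D := D1) (by decide) (by decide) Alevel2

theorem Blevel0 : TableChain2.levelCheck tab2 6 1 12 chk BT0 BE0 = true := by
  decide +kernel

theorem Blvl0 : TableChain2.Data.LevelOK D2 6 1 12 BT0 BE0 :=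
  TableChain2.Data.levelOK_of_check (D := D2) (by decide) (by decide) Blevel0

theorem Blevel1 : TableChain2.levelCheck tab2 1 0 9 chk BT1 BE1 = true := by
  decide +kernel

theorem Blvl1 : TableChain2.Data.LevelOK D2 1 0 9 BT1 BE1 :=
  TableChain2.Data.levelOK_of_check (D := D2) (by decide) (by decide) Blevel1

theorem card_D1 : Nat.card (D1.H 6) = 64 := by
  rw [Alvl0.card, Alvl1.card, Alvl2.card, TableChain2.Data.card_H_zero]
  have h0 : AT0.length = 8 := by decide
  have h1 : AT1.length = 4 := by decide
  have h2 : AT2.length = 2 := by decide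
  rw [h0, h1, h2]

theorem card_D2 : Nat.card (D2.H 6) = 64 := by
  rw [Blvl0.card, Blvl1.card, TableChain2.Data.card_H_zero]
  have h0 : BT0.length = 32 := by decide
  have h1 : BT1.length = 2 := by decide
  rw [h0, h1]


/-- the diagonal group -/
def DG : Subgroup GG := D1.H 6

instance : Finite GG := inferInstance

theorem card_DG : Nat.card DG = 64 := card_D1

theorem D2_eq : D2.H 6 = DG := by
  apply Subgroup.eq_of_le_of_card_ge
  · show D2.H 6 ≤ D1.H 6
    rw [TableChain2.Data.H, Subgroup.closure_le]
    rintro g ⟨j, hj, rfl⟩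
    exact D1.ev_mem 6 (WB j) (WB_lt j hj)
  · rw [card_D2, card_DG]

theorem smul_pt_of_fst (d : GG) (h1 : d.1 = 1) (x : ℕ) (hx : x < 8) : d • pt x = pt x := by
  unfold pt
  rw [if_pos hx, SumPt.smul_inl, h1, one_smul]

theorem smul_pt_of_snd (d : GG) (h1 : d.2 = 1) (x : ℕ) (hx : ¬ x < 8) : d • pt x = pt x := by
  unfold pt
  rw [if_neg hx, SumPt.smul_inr, h1, one_smul]

theorem eq_one_of_fst (d : GG) (hd : d ∈ DG) (h1 : d.1 = 1) : d = 1 := by
  have m0 : d ∈ D1.H 3 := by
    rw [← Alvl0.inf_stabilizer]
    exact ⟨hd, smul_pt_of_fst d h1 0 (by norm_num)⟩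
  have m1 : d ∈ D1.H 1 := by
    rw [← Alvl1.inf_stabilizer]
    exact ⟨m0, smul_pt_of_fst d h1 4 (by norm_num)⟩
  have m2 : d ∈ D1.H 0 := by
    rw [← Alvl2.inf_stabilizer]
    exact ⟨m1, smul_pt_of_fst d h1 2 (by norm_num)⟩
  rw [TableChain2.Data.H_zero] at m2
  exact m2

theorem eq_one_of_snd (d : GG) (hd : d ∈ DG) (h1 : d.2 = 1) : d = 1 := by
  rw [← D2_eq] at hd
  have m0 : d ∈ D2.H 1 := by
    rw [← Blvl0.inf_stabilizer]
    exact ⟨hd, smul_pt_of_snd d h1 12 (by norm_num)⟩
  have m1 : d ∈ D2.H 0 := by
    rw [← Blvl1.inf_stabilizer]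
    exact ⟨m0, smul_pt_of_snd d h1 9 (by norm_num)⟩
  rw [TableChain2.Data.H_zero] at m1
  exact m1

theorem card_le_proj₁ : Nat.card DG ≤ Nat.card (proj₁ DG) := by
  apply Nat.card_le_card_of_injective (fun d : DG => (⟨d.1.1, fst_mem d.2⟩ : proj₁ DG))
  intro d d' h
  have h1 : d.1.1 = d'.1.1 := congrArg Subtype.val h
  have h2 : (d⁻¹ * d').1.1 = 1 := by
    show d.1.1⁻¹ * d'.1.1 = 1
    rw [h1, inv_mul_cancel]
  have h3 := eq_one_of_fst _ (d⁻¹ * d').2 h2
  have h4 : d⁻¹ * d' = 1 := Subtype.ext h3
  exact inv_mul_eq_one.1 h4

theorem card_le_proj₂ : Nat.card DG ≤ Nat.card (proj₂ DG) := by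
  apply Nat.card_le_card_of_injective (fun d : DG => (⟨d.1.2, snd_mem d.2⟩ : proj₂ DG))
  intro d d' h
  have h1 : d.1.2 = d'.1.2 := congrArg Subtype.val h
  have h2 : (d⁻¹ * d').1.2 = 1 := by
    show d.1.2⁻¹ * d'.1.2 = 1
    rw [h1, inv_mul_cancel]
  have h3 := eq_one_of_snd _ (d⁻¹ * d').2 h2
  have h4 : d⁻¹ * d' = 1 := Subtype.ext h3
  exact inv_mul_eq_one.1 h4

theorem card_proj₁ : Nat.card (proj₁ DG) = 64 := by
  apply le_antisymm
  · rw [← card_DG]
    exact Nat.card_le_card_of_surjective ((MonoidHom.fst G1 G2).subgroupMap DG)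
      (MonoidHom.subgroupMap_surjective _ _)
  · rw [← card_DG]
    exact card_le_proj₁

theorem card_proj₂ : Nat.card (proj₂ DG) = 64 := by
  apply le_antisymm
  · rw [← card_DG]
    exact Nat.card_le_card_of_surjective ((MonoidHom.snd G1 G2).subgroupMap DG)
      (MonoidHom.subgroupMap_surjective _ _)
  · rw [← card_DG]
    exact card_le_proj₂

theorem proj₁_le_alt : proj₁ DG ≤ alternatingGroup (Fin 8) := by
  rw [Subgroup.map_le_iff_le_comap]
  show D1.H 6 ≤ _
  rw [TableChain2.Data.H, Subgroup.closure_le]
  rintro g ⟨j, hj, rfl⟩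
  show (D1.gen j).1 ∈ alternatingGroup (Fin 8)
  rw [Equiv.Perm.mem_alternatingGroup]
  exact ga_sign ⟨j, hj⟩

/-- a subgroup of order `64` of `A₈` isomorphic to a subgroup of order `64` of `SU₄(2)` -/
theorem main : ∃ (A : Subgroup (Equiv.Perm (Fin 8))) (B : Subgroup G2),
    A ≤ alternatingGroup (Fin 8) ∧ Nat.card A = 64 ∧ Nat.card B = 64 ∧ Nonempty (A ≃* B) := by
  have : Finite DG := inferInstance
  obtain ⟨ψ, -⟩ := exists_mulEquiv DG card_le_proj₁ card_le_proj₂
  exact ⟨proj₁ DG, proj₂ DG, proj₁_le_alt, card_proj₁, card_proj₂, ⟨ψ⟩⟩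

end Cfsg.Agent.Lib.Helper58.S2931A
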