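import Mathlib
import Cfsg.Prelude.Def_Classical
import Cfsg.Agent.Lib.Helper89.TableChain2
import Cfsg.Agent.Lib.Helper89.DiagIso

/-!
# A Sylow `2`-subgroup of `O₆⁻(2)` is isomorphic to a Sylow `2`-subgroup of `S₈`

The diagonal subgroup of `S₈ × O₆⁻(2)` generated by seven explicit pairs has order `128` and both
projections are injective on it (two verified stabiliser chains, one with base in `Fin 8`, one with
base in `F₂⁶`).
-/

set_option autoImplicit false
set_option maxRecDepth 1000000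

namespace Cfsg.Agent.Lib.Helper58.S2931B

open Cfsg.Agent.Lib.Helper89 Cfsg.Agent.Lib.Helper89.DiagIso
open Matrix

abbrev II := (Fin 2 ⊕ Fin 2) ⊕ Fin 2
abbrev VV := II → ZMod 2
abbrev QQ : VV → ZMod 2 := Cfsg.quadFormMinus 2 (ZMod 2) 1 1
abbrev OO := ↥(Cfsg.isometryGroup (ZMod 2) QQ)
abbrev G1 := Equiv.Perm (Fin 8)
abbrev GG := G1 × OO
abbrev Pt := SumPt (Fin 8) VV

/-- the matrix of an isometry -/
def toM (g : OO) : Matrix II II (ZMod 2) := ((g.1 : Matrix.GeneralLinearGroup II (ZMod 2)) : Matrix II II (ZMod 2))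

theorem toM_one : toM 1 = 1 := rfl

theorem toM_mul (g h : OO) : toM (g * h) = toM g * toM h := rfl

theorem toM_injective : Function.Injective toM := by
  intro g h hgh
  apply Subtype.ext
  apply Units.ext
  exact hgh

instance actO : MulAction OO VV where
  smul g v := toM g *ᵥ v
  one_smul v := by
    show toM 1 *ᵥ v = v
    rw [toM_one, Matrix.one_mulVec]
  mul_smul g h v := by
    show toM (g * h) *ᵥ v = toM g *ᵥ (toM h *ᵥ v)
    rw [toM_mul, Matrix.mulVec_mulVec]

theorem smul_def (g : OO) (v : VV) : g • v = toM g *ᵥ v := rfl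

/-- position of an index -/
def idxI : II → ℕ
  | Sum.inl (Sum.inl i) => i.val
  | Sum.inl (Sum.inr i) => 2 + i.val
  | Sum.inr i => 4 + i.val

/-- a matrix over `ZMod 2` from its code -/
def matO (c : ℕ) : Matrix II II (ZMod 2) :=
  Matrix.of fun r s => (((c >>> (6 * idxI r + idxI s)) &&& 1 : ℕ) : ZMod 2)

/-- the vectors of `F₂⁶` -/
def vecO (n : ℕ) : VV := fun i => (((n >>> idxI i) &&& 1 : ℕ) : ZMod 2)

/-- index of a vector -/
def idxO (v : VV) : ℕ :=
  (v (Sum.inl (Sum.inl 0))).val + (v (Sum.inl (Sum.inl 1))).val * 2 + (v (Sum.inl (Sum.inr 0))).val * 4 +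
    (v (Sum.inl (Sum.inr 1))).val * 8 + (v (Sum.inr 0)).val * 16 + (v (Sum.inr 1)).val * 32

def codeM (j : ℕ) : ℕ := [38993412279, 34697396389, 38925254805, 51810156673, 34630287753, 43220223617, 34764507777].getD j 0

def codeMI (j : ℕ) : ℕ := [38993412279, 34697396389, 38925254805, 51810156673, 34630287753, 43220223617, 34764507777].getD j 0

def tabC : List ℕ := [6182663102711313470539301389940189186741145834223751522320911568594725211151252837921443774750667346671334059418265181901801257857292902719530238771328, 22678514505599468731923304548592275494371434139586659793350055020685632983439505659083618820896833547119125677790310058203501835443201426056352230310016, 16080183855995816920609888198883496553992533383006718022985372681495036720864209639422709021895619042975945402446580170935320864135780414538804656914560, 16080183808346897677778228412117575610493260414269822691304916437771360465446874627030735869246243043057605871169312299906022066926910966870513595547776, 28046152566042799466678352549707820923743778151534288241608126857127930863274486027375311734839466581522554056958141158243093045915432254632044429099009,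 16080183808346897849473812419192771091063520782563729152113069731412476063906154907073674745327695649267702943324965074497041563207609050605380452844164, 22678514482531246724229379140910532024303648942709838463386456607887364096665615367807227403292262298264570968042949257221429791332259659992818809569666]

def tabIC : List ℕ := [14599816, 14571144, 14599368, 6999944, 14570689, 6852524, 11788826]

def WB (j : ℕ) : List ℕ := [[3], [5], [6], [4], [2], [1], [2, 1, 0]].getD j []

def AT0 : List (List ℕ) := [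
  [],
  [4],
  [5],
  [6],
  [5, 4],
  [6, 4],
  [6, 5],
  [6, 5, 4]
]

def AE0 : List (List (ℕ × List ℕ)) := [
  [(0, [0]), (1, [0]), (2, [2, 0]), (3, [1, 0]), (4, [2, 0]), (5, [1, 0]), (7, [2, 1, 0]), (6, [2, 1, 0])],
  [(0, [1]), (1, [1]), (4, [1]), (3, [1]), (2, [1]), (5, [1]), (7, [1]), (6, [1])],
  [(0, [2]), (1, [2]), (2, [2]), (5, [2]), (4, [2]), (3, [2]), (7, [2]), (6, [2])],
  [(0, [3]), (1, [3]), (2, [3]), (6, [3]), (4, [3]), (7, [3]), (3, [3]), (5, [3])],
  [(1, []), (0, []), (4, []), (5, []), (2, []), (3, []), (7, []), (6, [])],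
  [(2, []), (4, []), (0, []), (6, []), (1, []), (7, []), (3, []), (5, [])],
  [(3, []), (5, []), (6, []), (0, []), (7, []), (1, []), (2, []), (4, [])]
]

-- level A0: k=7 k'=4 b=0 len=8

def AT1 : List (List ℕ) := [
  [],
  [2],
  [3],
  [3, 2]
]

def AE1 : List (List (ℕ × List ℕ)) := [
  [(0, [0]), (1, [0]), (3, [0]), (2, [0])],
  [(0, [1]), (1, [1]), (3, [1]), (2, [1])],
  [(1, []), (0, []), (3, []), (2, [])],
  [(2, []), (3, []), (0, []), (1, [])]
]

-- level A1: k=4 k'=2 b=2 len=4

def AT2 : List (List ℕ) := [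
  [],
  [1]
]

def AE2 : List (List (ℕ × List ℕ)) := [
  [(0, [0]), (1, [0])],
  [(1, []), (0, [])]
]

-- level A2: k=2 k'=1 b=4 len=2

def AT3 : List (List ℕ) := [
  [],
  [0]
]

def AE3 : List (List (ℕ × List ℕ)) := [
  [(1, []), (0, [])]
]

-- level A3: k=1 k'=0 b=6 len=2

def BT0 : List (List ℕ) := [
  [],
  [3],
  [4],
  [5],
  [6],
  [4, 3],
  [5, 3],
  [6, 3],
  [5, 4],
  [6, 4],
  [6, 5],
  [1, 6],
  [2, 6],
  [5, 4, 3],
  [6, 5, 4],
  [2, 1, 6]
]

def BE0 : List (List (ℕ × List ℕ)) := [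
  [(0, [0]), (1, [0]), (2, [0]), (8, [0]), (4, [0]), (5, [0]), (13, [0]), (7, [0]), (3, [0]), (9, [0]), (14, [0]), (11, [0]), (15, [0]), (6, [0]), (10, [0]), (12, [0])],
  [(0, [1]), (1, [1]), (2, [1]), (6, [1]), (11, []), (5, [1]), (3, [1]), (9, [1]), (13, [1]), (7, [1]), (14, [1]), (4, []), (15, []), (8, [1]), (10, [1]), (12, [])],
  [(0, [2]), (1, [2]), (5, [2]), (3, [2]), (12, []), (2, [2]), (6, [2]), (10, [2]), (13, [2]), (14, [2]), (7, [2]), (15, []), (4, []), (8, [2]), (9, [2]), (11, [])],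
  [(1, []), (0, []), (5, []), (6, []), (7, []), (2, []), (3, []), (4, []), (13, []), (11, [1]), (12, [2]), (9, [1]), (10, [2]), (8, []), (15, [2, 1]), (14, [2, 1])],
  [(2, []), (5, []), (0, []), (8, []), (9, []), (1, []), (13, []), (11, [1]), (3, []), (4, []), (14, []), (7, [1]), (15, [1]), (6, []), (10, []), (12, [1])],
  [(3, []), (6, []), (8, []), (0, []), (10, []), (13, []), (1, []), (12, [2]), (2, []), (14, []), (4, []), (15, [2]), (7, [2]), (5, []), (9, []), (11, [2])],
  [(4, []), (7, []), (9, []), (10, []), (0, []), (11, [1]), (12, [2]), (1, []), (14, []), (2, []), (3, []), (5, [1]), (6, [2]), (15, [2, 1]), (8, []), (13, [2, 1])]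
]

-- level B0: k=7 k'=3 b=12 len=16

def BT1 : List (List ℕ) := [
  [],
  [1],
  [2],
  [2, 1]
]

def BE1 : List (List (ℕ × List ℕ)) := [
  [(0, [0]), (1, [0]), (3, [0]), (2, [0])],
  [(1, []), (0, []), (3, []), (2, [])],
  [(2, []), (3, []), (0, []), (1, [])]
]

-- level B1: k=3 k'=1 b=16 len=4

def BT2 : List (List ℕ) := [
  [],
  [0]
]

def BE2 : List (List (ℕ × List ℕ)) := [
  [(1, []), (0, [])]
]

-- level B2: k=1 k'=0 b=24 len=2

def tab (j x : ℕ) : ℕ := ((tabC.getD j 0) >>> (7 * x)) &&& 127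

def tabI (j x : ℕ) : ℕ := ((tabIC.getD j 0) >>> (3 * x)) &&& 7

theorem m_inv : ∀ j : Fin 7, matO (codeM j.val) * matO (codeMI j.val) = 1 ∧
    matO (codeMI j.val) * matO (codeM j.val) = 1 := by decide +kernel

theorem m_iso : ∀ j : Fin 7, ∀ u : VV, QQ (matO (codeM j.val) *ᵥ u) = QQ u := by decide +kernel

theorem tab8_ok : ∀ j : Fin 7, ∀ x : Fin 8, tab j.val x.val < 8 ∧ tabI j.val x.val < 8 ∧
    tabI j.val (tab j.val x.val) = x.val ∧ tab j.val (tabI j.val x.val) = x.val := by decide +kernel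

/-- first components of the generators -/
def ga (j : ℕ) : G1 :=
  if h : j < 7 then
    { toFun := fun x => ⟨tab j x.val, (tab8_ok ⟨j, h⟩ x).1⟩
      invFun := fun x => ⟨tabI j x.val, (tab8_ok ⟨j, h⟩ x).2.1⟩
      left_inv := fun x => Fin.ext (tab8_ok ⟨j, h⟩ x).2.2.1
      right_inv := fun x => Fin.ext (tab8_ok ⟨j, h⟩ x).2.2.2 }
  else 1

theorem ga_apply (j : ℕ) (h : j < 7) (x : Fin 8) : (ga j x).val = tab j x.val := by
  rw [ga, dif_pos h]
  rfl

/-- second components of the generators -/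
def gb (j : ℕ) : OO :=
  if h : j < 7 then
    ⟨⟨matO (codeM j), matO (codeMI j), (m_inv ⟨j, h⟩).1, (m_inv ⟨j, h⟩).2⟩,
      fun u _ => m_iso ⟨j, h⟩ u⟩
  else 1

theorem toM_gb (j : ℕ) (h : j < 7) : toM (gb j) = matO (codeM j) := by
  rw [gb, dif_pos h]
  rfl

/-- the generators -/
def gen (j : ℕ) : GG := (ga j, gb j)

/-- the points: `8` points, then the `64` vectors of `F₂⁶` -/
def pt (x : ℕ) : Pt := if x < 8 then SumPt.inl (Fin.ofNat 8 x) else SumPt.inr (vecO (x - 8))

/-- check points: the eight points and the standard basis -/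
def chk : List ℕ := [0, 1, 2, 3, 4, 5, 6, 7, 9, 10, 12, 16, 24, 40]

theorem tab_ok : (List.range 7).all (fun j => (List.range 72).all (fun x =>
    Nat.blt (tab j x) 72 && (Nat.blt (tab j x) 8 == Nat.blt x 8))) = true := by decide +kernel

theorem tab_lt (j : ℕ) (hj : j < 7) (x : ℕ) (hx : x < 72) : tab j x < 72 := by
  have := List.all_eq_true.1 (List.all_eq_true.1 tab_ok j (List.mem_range.2 hj)) x (List.mem_range.2 hx)
  rw [Bool.and_eq_true] at this
  exact Nat.le_of_ble_eq_true this.1

theorem tab_lt' (j : ℕ) (hj : j < 7) (x : ℕ) (hx : x < 72) : tab j x < 8 ↔ x < 8 := by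
  have := List.all_eq_true.1 (List.all_eq_true.1 tab_ok j (List.mem_range.2 hj)) x (List.mem_range.2 hx)
  rw [Bool.and_eq_true] at this
  have h2 := this.2
  rw [beq_iff_eq] at h2
  constructor
  · intro h
    have : Nat.blt (tab j x) 8 = true := Nat.ble_eq_true_of_le h
    rw [h2] at this
    exact Nat.le_of_ble_eq_true this
  · intro h
    have : Nat.blt x 8 = true := Nat.ble_eq_true_of_le h
    rw [← h2] at this
    exact Nat.le_of_ble_eq_true this

theorem gb_smul : ∀ j : Fin 7, ∀ n : Fin 64,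
    matO (codeM j.val) *ᵥ vecO n.val = vecO (tab j.val (8 + n.val) - 8) := by
  decide +kernel

theorem val_ofNat (x : ℕ) (hx : x < 8) : (Fin.ofNat 8 x).val = x := by
  simp [Fin.ofNat, Nat.mod_eq_of_lt hx]

theorem ofNat_val (a : Fin 8) : Fin.ofNat 8 a.val = a :=
  Fin.ext (val_ofNat a.val a.isLt)

theorem gen_smul (j : ℕ) (hj : j < 7) (x : ℕ) (hx : x < 72) : gen j • pt x = pt (tab j x) := by
  by_cases h : x < 8
  · have h1 := (tab_lt' j hj x hx).2 h
    unfold pt
    rw [if_pos h, if_pos h1, SumPt.smul_inl]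
    congr 1
    apply Fin.ext
    show (ga j (Fin.ofNat 8 x)).val = _
    rw [ga_apply j hj, val_ofNat x h, val_ofNat _ h1]
  · have h' : x - 8 < 64 := by omega
    have h2 := gb_smul ⟨j, hj⟩ ⟨x - 8, h'⟩
    have hx' : 8 + (x - 8) = x := by omega
    simp only [hx'] at h2
    have h1 : ¬ tab j x < 8 := fun hh => h ((tab_lt' j hj x hx).1 hh)
    unfold pt
    rw [if_neg h, if_neg h1, SumPt.smul_inr]
    congr 1
    show toM (gb j) *ᵥ vecO (x - 8) = _
    rw [toM_gb j hj]
    exact h2

theorem idxO_vecO : ∀ n : Fin 64, idxO (vecO n.val) = n.val := by decide +kernel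

theorem pt_inj (x : ℕ) (hx' : x < 72) (y : ℕ) (hy' : y < 72) (hxy : pt x = pt y) : x = y := by
  unfold pt at hxy
  by_cases hx : x < 8 <;> by_cases hy : y < 8
  · rw [if_pos hx, if_pos hy] at hxy
    have h := congrArg Fin.val (SumPt.inl_injective hxy)
    rwa [val_ofNat x hx, val_ofNat y hy] at h
  · rw [if_pos hx, if_neg hy] at hxy
    exact absurd hxy (SumPt.inl_ne_inr _ _)
  · rw [if_neg hx, if_pos hy] at hxy
    exact absurd hxy.symm (SumPt.inl_ne_inr _ _)
  · rw [if_neg hx, if_neg hy] at hxy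
    have h := congrArg idxO (SumPt.inr_injective hxy)
    rw [idxO_vecO ⟨x - 8, by omega⟩, idxO_vecO ⟨y - 8, by omega⟩] at h
    simp only at h
    omega

theorem chk_lt : ∀ x ∈ chk, x < 72 := by decide

theorem v_1 : vecO 1 = Pi.single (Sum.inl (Sum.inl 0)) 1 := by decide
theorem v_2 : vecO 2 = Pi.single (Sum.inl (Sum.inl 1)) 1 := by decide
theorem v_4 : vecO 4 = Pi.single (Sum.inl (Sum.inr 0)) 1 := by decide
theorem v_8 : vecO 8 = Pi.single (Sum.inl (Sum.inr 1)) 1 := by decide
theorem v_16 : vecO 16 = Pi.single (Sum.inr 0) 1 := by decide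
theorem v_32 : vecO 32 = Pi.single (Sum.inr 1) 1 := by decide

theorem inl_eq (g g' : GG) (x : ℕ) (hx : x < 8) (h : g • pt x = g' • pt x) :
    g.1 (Fin.ofNat 8 x) = g'.1 (Fin.ofNat 8 x) := by
  unfold pt at h
  rw [if_pos hx, SumPt.smul_inl, SumPt.smul_inl] at h
  exact SumPt.inl_injective h

theorem inr_eq (g g' : GG) (x : ℕ) (hx : ¬ x < 8) (h : g • pt x = g' • pt x) :
    toM g.2 *ᵥ vecO (x - 8) = toM g'.2 *ᵥ vecO (x - 8) := by
  unfold pt at h
  rw [if_neg hx, SumPt.smul_inr, SumPt.smul_inr] at h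
  exact SumPt.inr_injective h

theorem faithful (g g' : GG) (h : ∀ x ∈ chk, g • pt x = g' • pt x) : g = g' := by
  apply Prod.ext
  · apply Equiv.ext
    intro a
    have ha : a.val ∈ chk := by
      fin_cases a <;> decide
    have := inl_eq g g' a.val a.isLt (h a.val ha)
    rwa [ofNat_val] at this
  · apply toM_injective
    have e1 := inr_eq g g' 9 (by norm_num) (h 9 (by decide))
    have e2 := inr_eq g g' 10 (by norm_num) (h 10 (by decide))
    have e3 := inr_eq g g' 12 (by norm_num) (h 12 (by decide))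
    have e4 := inr_eq g g' 16 (by norm_num) (h 16 (by decide))
    have e5 := inr_eq g g' 24 (by norm_num) (h 24 (by decide))
    have e6 := inr_eq g g' 40 (by norm_num) (h 40 (by decide))
    norm_num at e1 e2 e3 e4 e5 e6
    rw [v_1, Matrix.mulVec_single_one, Matrix.mulVec_single_one] at e1
    rw [v_2, Matrix.mulVec_single_one, Matrix.mulVec_single_one] at e2
    rw [v_4, Matrix.mulVec_single_one, Matrix.mulVec_single_one] at e3
    rw [v_8, Matrix.mulVec_single_one, Matrix.mulVec_single_one] at e4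
    rw [v_16, Matrix.mulVec_single_one, Matrix.mulVec_single_one] at e5
    rw [v_32, Matrix.mulVec_single_one, Matrix.mulVec_single_one] at e6
    ext i k
    rcases k with (k | k) | k <;> fin_cases k
    · exact congrFun e1 i
    · exact congrFun e2 i
    · exact congrFun e3 i
    · exact congrFun e4 i
    · exact congrFun e5 i
    · exact congrFun e6 i

/-- chain data, base in `Fin 8` -/
def D1 : TableChain2.Data GG Pt where
  m := 7
  N := 72
  gen := gen
  pt := pt
  tab := tab
  chk := chk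
  gen_smul := gen_smul
  tab_lt := tab_lt
  chk_lt := chk_lt
  faithful := faithful
  pt_inj := pt_inj

theorem WB_lt : ∀ j < 7, ∀ c ∈ WB j, c < 7 := by decide

/-- tables of the second generating sequence -/
def tab2 (j x : ℕ) : ℕ := TableChain2.act tab (WB j) x

/-- chain data for the same group, base in `F₂⁶` -/
def D2 : TableChain2.Data GG Pt where
  m := 7
  N := 72
  gen := fun j => D1.ev (WB j)
  pt := pt
  tab := tab2
  chk := chk
  gen_smul := fun j hj x hx => D1.ev_smul (WB j) (WB_lt j hj) x hx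
  tab_lt := fun j hj x hx => D1.act_lt (WB j) (WB_lt j hj) x hx
  chk_lt := chk_lt
  faithful := faithful
  pt_inj := pt_inj

theorem Alevel0 : TableChain2.levelCheck tab 7 4 0 chk AT0 AE0 = true := by
  decide +kernel

theorem Alvl0 : TableChain2.Data.LevelOK D1 7 4 0 AT0 AE0 :=
  TableChain2.Data.levelOK_of_check (D := D1) (by decide) (by decide) Alevel0

theorem Alevel1 : TableChain2.levelCheck tab 4 2 2 chk AT1 AE1 = true := by
  decide +kernel

theorem Alvl1 : TableChain2.Data.LevelOK D1 4 2 2 AT1 AE1 :=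
  TableChain2.Data.levelOK_of_check (D := D1) (by decide) (by decide) Alevel1

theorem Alevel2 : TableChain2.levelCheck tab 2 1 4 chk AT2 AE2 = true := by
  decide +kernel

theorem Alvl2 : TableChain2.Data.LevelOK D1 2 1 4 AT2 AE2 :=
  TableChain2.Data.levelOK_of_check (D := D1) (by decide) (by decide) Alevel2

theorem Alevel3 : TableChain2.levelCheck tab 1 0 6 chk AT3 AE3 = true := by
  decide +kernel

theorem Alvl3 : TableChain2.Data.LevelOK D1 1 0 6 AT3 AE3 :=
  TableChain2.Data.levelOK_of_check (D := D1) (by decide) (by decide) Alevel3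

theorem Blevel0 : TableChain2.levelCheck tab2 7 3 12 chk BT0 BE0 = true := by
  decide +kernel

theorem Blvl0 : TableChain2.Data.LevelOK D2 7 3 12 BT0 BE0 :=
  TableChain2.Data.levelOK_of_check (D := D2) (by decide) (by decide) Blevel0

theorem Blevel1 : TableChain2.levelCheck tab2 3 1 16 chk BT1 BE1 = true := by
  decide +kernel

theorem Blvl1 : TableChain2.Data.LevelOK D2 3 1 16 BT1 BE1 :=
  TableChain2.Data.levelOK_of_check (D := D2) (by decide) (by decide) Blevel1

theorem Blevel2 : TableChain2.levelCheck tab2 1 0 24 chk BT2 BE2 = true := by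
  decide +kernel

theorem Blvl2 : TableChain2.Data.LevelOK D2 1 0 24 BT2 BE2 :=
  TableChain2.Data.levelOK_of_check (D := D2) (by decide) (by decide) Blevel2

theorem card_D1 : Nat.card (D1.H 7) = 128 := by
  rw [Alvl0.card, Alvl1.card, Alvl2.card, Alvl3.card, TableChain2.Data.card_H_zero]
  have h0 : AT0.length = 8 := by decide
  have h1 : AT1.length = 4 := by decide
  have h2 : AT2.length = 2 := by decide
  have h3 : AT3.length = 2 := by decide
  rw [h0, h1, h2, h3]

theorem card_D2 : Nat.card (D2.H 7) = 128 := by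
  rw [Blvl0.card, Blvl1.card, Blvl2.card, TableChain2.Data.card_H_zero]
  have h0 : BT0.length = 16 := by decide
  have h1 : BT1.length = 4 := by decide
  have h2 : BT2.length = 2 := by decide
  rw [h0, h1, h2]


/-- the diagonal group -/
def DG : Subgroup GG := D1.H 7

instance : Finite GG := inferInstance

theorem card_DG : Nat.card DG = 128 := card_D1

theorem D2_eq : D2.H 7 = DG := by
  apply Subgroup.eq_of_le_of_card_ge
  · show D2.H 7 ≤ D1.H 7
    rw [TableChain2.Data.H, Subgroup.closure_le]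
    rintro g ⟨j, hj, rfl⟩
    exact D1.ev_mem 7 (WB j) (WB_lt j hj)
  · rw [card_D2, card_DG]

theorem smul_pt_of_fst (d : GG) (h1 : d.1 = 1) (x : ℕ) (hx : x < 8) : d • pt x = pt x := by
  unfold pt
  rw [if_pos hx, SumPt.smul_inl, h1, one_smul]

theorem smul_pt_of_snd (d : GG) (h1 : d.2 = 1) (x : ℕ) (hx : ¬ x < 8) : d • pt x = pt x := by
  unfold pt
  rw [if_neg hx, SumPt.smul_inr, h1, one_smul]

theorem eq_one_of_fst (d : GG) (hd : d ∈ DG) (h1 : d.1 = 1) : d = 1 := by
  have m0 : d ∈ D1.H 4 := by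
    rw [← Alvl0.inf_stabilizer]
    exact ⟨hd, smul_pt_of_fst d h1 0 (by norm_num)⟩
  have m1 : d ∈ D1.H 2 := by
    rw [← Alvl1.inf_stabilizer]
    exact ⟨m0, smul_pt_of_fst d h1 2 (by norm_num)⟩
  have m2 : d ∈ D1.H 1 := by
    rw [← Alvl2.inf_stabilizer]
    exact ⟨m1, smul_pt_of_fst d h1 4 (by norm_num)⟩
  have m3 : d ∈ D1.H 0 := by
    rw [← Alvl3.inf_stabilizer]
    exact ⟨m2, smul_pt_of_fst d h1 6 (by norm_num)⟩
  rw [TableChain2.Data.H_zero] at m3
  exact m3

theorem eq_one_of_snd (d : GG) (hd : d ∈ DG) (h1 : d.2 = 1) : d = 1 := by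
  rw [← D2_eq] at hd
  have m0 : d ∈ D2.H 3 := by
    rw [← Blvl0.inf_stabilizer]
    exact ⟨hd, smul_pt_of_snd d h1 12 (by norm_num)⟩
  have m1 : d ∈ D2.H 1 := by
    rw [← Blvl1.inf_stabilizer]
    exact ⟨m0, smul_pt_of_snd d h1 16 (by norm_num)⟩
  have m2 : d ∈ D2.H 0 := by
    rw [← Blvl2.inf_stabilizer]
    exact ⟨m1, smul_pt_of_snd d h1 24 (by norm_num)⟩
  rw [TableChain2.Data.H_zero] at m2
  exact m2

theorem card_le_proj₁ : Nat.card DG ≤ Nat.card (proj₁ DG) := by
  apply Nat.card_le_card_of_injective (fun d : DG => (⟨d.1.1, fst_mem d.2⟩ : proj₁ DG))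
  intro d d' h
  have h1 : d.1.1 = d'.1.1 := congrArg Subtype.val h
  have h2 : (d⁻¹ * d').1.1 = 1 := by
    show d.1.1⁻¹ * d'.1.1 = 1
    rw [h1, inv_mul_cancel]
  have h3 := eq_one_of_fst _ (d⁻¹ * d').2 h2
  have h4 : d⁻¹ * d' = 1 := Subtype.ext h3
  exact inv_mul_eq_one.1 h4

theorem card_le_proj₂ : Nat.card DG ≤ Nat.card (proj₂ DG) := by
  apply Nat.card_le_card_of_injective (fun d : DG => (⟨d.1.2, snd_mem d.2⟩ : proj₂ DG))
  intro d d' h
  have h1 : d.1.2 = d'.1.2 := congrArg Subtype.val h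
  have h2 : (d⁻¹ * d').1.2 = 1 := by
    show d.1.2⁻¹ * d'.1.2 = 1
    rw [h1, inv_mul_cancel]
  have h3 := eq_one_of_snd _ (d⁻¹ * d').2 h2
  have h4 : d⁻¹ * d' = 1 := Subtype.ext h3
  exact inv_mul_eq_one.1 h4

theorem card_proj₁ : Nat.card (proj₁ DG) = 128 := by
  apply le_antisymm
  · rw [← card_DG]
    exact Nat.card_le_card_of_surjective ((MonoidHom.fst G1 OO).subgroupMap DG)
      (MonoidHom.subgroupMap_surjective _ _)
  · rw [← card_DG]
    exact card_le_proj₁

theorem card_proj₂ : Nat.card (proj₂ DG) = 128 := by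
  apply le_antisymm
  · rw [← card_DG]
    exact Nat.card_le_card_of_surjective ((MonoidHom.snd G1 OO).subgroupMap DG)
      (MonoidHom.subgroupMap_surjective _ _)
  · rw [← card_DG]
    exact card_le_proj₂

/-- a subgroup of order `128` of `S₈` isomorphic to a subgroup of order `128` of `O₆⁻(2)` -/
theorem main : ∃ (A : Subgroup (Equiv.Perm (Fin 8)))
    (B : Subgroup ↥(Cfsg.isometryGroup (ZMod 2) (Cfsg.quadFormMinus 2 (ZMod 2) 1 1))),
    Nat.card A = 128 ∧ Nat.card B = 128 ∧ Nonempty (A ≃* B) := by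
  have : Finite DG := inferInstance
  obtain ⟨ψ, -⟩ := exists_mulEquiv DG card_le_proj₁ card_le_proj₂
  exact ⟨proj₁ DG, proj₂ DG, card_proj₁, card_proj₂, ⟨ψ⟩⟩

end Cfsg.Agent.Lib.Helper58.S2931B
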