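import Mathlib

/-!
# A concrete field with eight elements

`y k` is the class of the polynomial with bit mask `k` modulo `X^3 + X + 1` over the field with two elements.
-/

set_option autoImplicit false
set_option maxRecDepth 100000

namespace Cfsg.Agent.Lib.Helper58.S8Field

/-- the field with eight elements -/
inductive F8c : Type
  | y0 | y1 | y2 | y3 | y4 | y5 | y6 | y7
  deriving DecidableEq

namespace F8c

instance : Fintype F8c := ⟨{y0, y1, y2, y3, y4, y5, y6, y7}, by intro a; cases a <;> decide⟩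

/-- addition -/
def add : F8c → F8c → F8c
  | y0, y0 => y0
  | y0, y1 => y1
  | y0, y2 => y2
  | y0, y3 => y3
  | y0, y4 => y4
  | y0, y5 => y5
  | y0, y6 => y6
  | y0, y7 => y7
  | y1, y0 => y1
  | y1, y1 => y0
  | y1, y2 => y3
  | y1, y3 => y2
  | y1, y4 => y5
  | y1, y5 => y4
  | y1, y6 => y7
  | y1, y7 => y6
  | y2, y0 => y2
  | y2, y1 => y3
  | y2, y2 => y0
  | y2, y3 => y1
  | y2, y4 => y6
  | y2, y5 => y7
  | y2, y6 => y4
  | y2, y7 => y5
  | y3, y0 => y3
  | y3, y1 => y2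
  | y3, y2 => y1
  | y3, y3 => y0
  | y3, y4 => y7
  | y3, y5 => y6
  | y3, y6 => y5
  | y3, y7 => y4
  | y4, y0 => y4
  | y4, y1 => y5
  | y4, y2 => y6
  | y4, y3 => y7
  | y4, y4 => y0
  | y4, y5 => y1
  | y4, y6 => y2
  | y4, y7 => y3
  | y5, y0 => y5
  | y5, y1 => y4
  | y5, y2 => y7
  | y5, y3 => y6
  | y5, y4 => y1
  | y5, y5 => y0
  | y5, y6 => y3
  | y5, y7 => y2
  | y6, y0 => y6
  | y6, y1 => y7
  | y6, y2 => y4
  | y6, y3 => y5
  | y6, y4 => y2
  | y6, y5 => y3
  | y6, y6 => y0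
  | y6, y7 => y1
  | y7, y0 => y7
  | y7, y1 => y6
  | y7, y2 => y5
  | y7, y3 => y4
  | y7, y4 => y3
  | y7, y5 => y2
  | y7, y6 => y1
  | y7, y7 => y0

/-- multiplication -/
def mul : F8c → F8c → F8c
  | y0, y0 => y0
  | y0, y1 => y0
  | y0, y2 => y0
  | y0, y3 => y0
  | y0, y4 => y0
  | y0, y5 => y0
  | y0, y6 => y0
  | y0, y7 => y0
  | y1, y0 => y0
  | y1, y1 => y1
  | y1, y2 => y2
  | y1, y3 => y3
  | y1, y4 => y4
  | y1, y5 => y5
  | y1, y6 => y6
  | y1, y7 => y7
  | y2, y0 => y0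
  | y2, y1 => y2
  | y2, y2 => y4
  | y2, y3 => y6
  | y2, y4 => y3
  | y2, y5 => y1
  | y2, y6 => y7
  | y2, y7 => y5
  | y3, y0 => y0
  | y3, y1 => y3
  | y3, y2 => y6
  | y3, y3 => y5
  | y3, y4 => y7
  | y3, y5 => y4
  | y3, y6 => y1
  | y3, y7 => y2
  | y4, y0 => y0
  | y4, y1 => y4
  | y4, y2 => y3
  | y4, y3 => y7
  | y4, y4 => y6
  | y4, y5 => y2
  | y4, y6 => y5
  | y4, y7 => y1
  | y5, y0 => y0
  | y5, y1 => y5
  | y5, y2 => y1
  | y5, y3 => y4
  | y5, y4 => y2
  | y5, y5 => y7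
  | y5, y6 => y3
  | y5, y7 => y6
  | y6, y0 => y0
  | y6, y1 => y6
  | y6, y2 => y7
  | y6, y3 => y1
  | y6, y4 => y5
  | y6, y5 => y3
  | y6, y6 => y2
  | y6, y7 => y4
  | y7, y0 => y0
  | y7, y1 => y7
  | y7, y2 => y5
  | y7, y3 => y2
  | y7, y4 => y1
  | y7, y5 => y6
  | y7, y6 => y4
  | y7, y7 => y3

/-- inverse -/
def inv : F8c → F8c
  | y0 => y0
  | y1 => y1
  | y2 => y5
  | y3 => y6
  | y4 => y7
  | y5 => y2
  | y6 => y3
  | y7 => y4

instance : Add F8c := ⟨add⟩
instance : Mul F8c := ⟨mul⟩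
instance : Zero F8c := ⟨y0⟩
instance : One F8c := ⟨y1⟩
instance : Neg F8c := ⟨id⟩
instance : Inv F8c := ⟨inv⟩

instance : Field F8c where
  add_assoc := by decide +kernel
  zero_add := by decide +kernel
  add_zero := by decide +kernel
  add_comm := by decide +kernel
  neg_add_cancel := by decide +kernel
  mul_assoc := by decide +kernel
  one_mul := by decide +kernel
  mul_one := by decide +kernel
  left_distrib := by decide +kernel
  right_distrib := by decide +kernel
  zero_mul := by decide +kernel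
  mul_zero := by decide +kernel
  mul_comm := by decide +kernel
  exists_pair_ne := ⟨y0, y1, by decide⟩
  mul_inv_cancel := by decide +kernel
  inv_zero := rfl
  nsmul := nsmulRec
  zsmul := zsmulRec
  nnqsmul := _
  qsmul := _

theorem card_eq : Fintype.card F8c = 8 := rfl

/-- the element with a given number -/
def elt : ℕ → F8c
  | 0 => y0
  | 1 => y1
  | 2 => y2
  | 3 => y3
  | 4 => y4
  | 5 => y5
  | 6 => y6
  | _ => y7

/-- the number of an element -/
def num : F8c → ℕ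
  | y0 => 0
  | y1 => 1
  | y2 => 2
  | y3 => 3
  | y4 => 4
  | y5 => 5
  | y6 => 6
  | y7 => 7

theorem elt_num (a : F8c) : elt (num a) = a := by cases a <;> rfl

theorem num_lt (a : F8c) : num a < 8 := by cases a <;> decide

/-- the Frobenius map `a ↦ a ^ 2` -/
def fr (a : F8c) : F8c := a * a

theorem fr_add : ∀ a b : F8c, fr (a + b) = fr a + fr b := by decide +kernel

theorem fr_mul : ∀ a b : F8c, fr (a * b) = fr a * fr b := by decide +kernel

theorem fr_fr_fr : ∀ a : F8c, fr (fr (fr a)) = a := by decide +kernel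

theorem fr_zero : fr (0 : F8c) = 0 := rfl

theorem fr_one : fr (1 : F8c) = 1 := rfl

theorem add_self : ∀ a : F8c, a + a = 0 := by decide +kernel

theorem elt_xor : ∀ a b : Fin 8, elt (Nat.xor a.val b.val) = elt a.val + elt b.val := by decide +kernel

end F8c

end Cfsg.Agent.Lib.Helper58.S8Field
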