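import Mathlib
import Cfsg.Agent.Lib.Helper58.S8Field
import Cfsg.Agent.Lib.Helper58.S8Data
import Cfsg.Agent.Lib.Helper58.FastChain
import Cfsg.Agent.Lib.Helper58.EvTools

/-!
# The automorphism group of `Sz(8)` acting on the four by four matrices over the field with eight elements

The Suzuki group acts by `M ↦ g M (g⁽²⁾)ᵀ` and the field automorphism by the Frobenius map on the entries.
-/

set_option autoImplicit false
set_option maxRecDepth 100000
set_option Elab.async false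

namespace Cfsg.Agent.Lib.Helper58.S8Group

open Cfsg Matrix
open Cfsg.Agent.Lib.Helper89 Cfsg.Agent.Lib.Helper89.TableChain2
open Cfsg.Agent.Lib.Helper58.S8Field Cfsg.Agent.Lib.Helper58.S8Field.F8c
open Cfsg.Agent.Lib.Helper58.S8Data Cfsg.Agent.Lib.Helper58.FastChain

/-- the field -/
abbrev K : Type := F8c

/-- the module -/
abbrev R : Type := Matrix (Fin 4) (Fin 4) K

/-- the module, written multiplicatively -/
abbrev MR : Type := Multiplicative R

/-- the ambient group -/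
abbrev G : Type := MulAut MR

/-! ### codes -/

/-- the matrix with a given code -/
def vecOf (c : ℕ) : R :=
  Matrix.of fun i j => elt (Nat.land (Nat.shiftRight c (Nat.mul 3 (Nat.add (Nat.mul 4 i.val) j.val))) 7)

/-- the code of a matrix -/
def codeOf (M : R) : ℕ := Nat.add (num (M 0 0)) (Nat.mul 8 (Nat.add (num (M 0 1)) (Nat.mul 8 (Nat.add (num (M 0 2)) (Nat.mul 8 (Nat.add (num (M 0 3)) (Nat.mul 8 (Nat.add (num (M 1 0)) (Nat.mul 8 (Nat.add (num (M 1 1)) (Nat.mul 8 (Nat.add (num (M 1 2)) (Nat.mul 8 (Nat.add (num (M 1 3)) (Nat.mul 8 (Nat.add (num (M 2 0)) (Nat.mul 8 (Nat.add (num (M 2 1)) (Nat.mul 8 (Nat.add (num (M 2 2)) (Nat.mul 8 (Nat.add (num (M 2 3)) (Nat.mul 8 (Nat.add (num (M 3 0)) (Nat.mul 8 (Nat.add (num (M 3 1)) (Nat.mul 8 (Nat.add (num (M 3 2)) (Nat.mul 8 (num (M 3 3)))))))))))))))))))))))))))))))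

/-- the points -/
def pt (x : ℕ) : MR := Multiplicative.ofAdd (vecOf (ptC x))

theorem keyB : rangeAll 0 455 (fun x => Nat.beq (codeOf (vecOf (ptC x))) (ptC x)) = true := by decide +kernel

theorem monoB : rangeAll 0 454 (fun x => Nat.blt (ptC x) (ptC (Nat.add x 1))) = true := by decide +kernel

theorem ptC_mono : ∀ y x : ℕ, x < y → y < 455 → ptC x < ptC y := by
  intro y
  induction y with
  | zero => intro x hx; omega
  | succ y ih =>
    intro x hx hy
    have hstep : ptC y < ptC (y + 1) :=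
      Nat.le_of_ble_eq_true (rangeAll_sound 0 454 _ monoB y (Nat.zero_le y) (by omega))
    rcases Nat.lt_succ_iff_lt_or_eq.1 hx with h | h
    · exact lt_trans (ih x h (by omega)) hstep
    · rw [h]; exact hstep

theorem codeOf_pt (x : ℕ) (hx : x < 455) : codeOf (vecOf (ptC x)) = ptC x :=
  Nat.eq_of_beq_eq_true (rangeAll_sound 0 455 _ keyB x (Nat.zero_le x) (by omega))

theorem pt_inj (x : ℕ) (hx : x < 455) (y : ℕ) (hy : y < 455) (h : pt x = pt y) : x = y := by
  have h' : vecOf (ptC x) = vecOf (ptC y) := Multiplicative.ofAdd.injective h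
  have hk : ptC x = ptC y := by rw [← codeOf_pt x hx, ← codeOf_pt y hy, h']
  rcases Nat.lt_trichotomy x y with hlt | heq | hgt
  · exact absurd hk (ne_of_lt (ptC_mono y x hlt hy))
  · exact heq
  · exact absurd hk.symm (ne_of_lt (ptC_mono x y hgt hx))

/-! ### products of matrices, written out -/

/-- the product of two matrices -/
def mm4 (A B : R) : R :=
  Matrix.of fun i j => A i 0 * B 0 j + A i 1 * B 1 j + A i 2 * B 2 j + A i 3 * B 3 j

theorem mul_eq_mm4 (A B : R) : A * B = mm4 A B := by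
  ext i j
  simp [mm4, Matrix.mul_apply, Fin.sum_univ_four]

/-- the Frobenius map on the entries -/
def frM (M : R) : R := Matrix.of fun i j => fr (M i j)

/-- equality of two matrices, as a Boolean -/
def eqB (X Y : R) : Bool :=
  (List.finRange 4).all fun i => (List.finRange 4).all fun k => decide (X i k = Y i k)

theorem eqB_sound (X Y : R) (h : eqB X Y = true) : X = Y := by
  ext i k
  unfold eqB at h
  rw [List.all_eq_true] at h
  have h1 := h i (List.mem_finRange i)
  rw [List.all_eq_true] at h1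
  exact of_decide_eq_true (h1 k (List.mem_finRange k))

/-! ### the generators -/

/-- the matrices of the linear generators: `w = 0, 1` the two factors, `w = 2, 3` their inverses -/
def Am (j w : ℕ) : R := Matrix.of fun i k => elt (gent j w i.val k.val)

/-- the matrices with index `j` are inverse to each other -/
def invOK (j : ℕ) : Prop :=
  Am j 2 * Am j 0 = 1 ∧ Am j 0 * Am j 2 = 1 ∧ Am j 1 * Am j 3 = 1 ∧ Am j 3 * Am j 1 = 1

instance : DecidablePred invOK := fun j =>
  inferInstanceAs (Decidable (Am j 2 * Am j 0 = 1 ∧ Am j 0 * Am j 2 = 1 ∧ Am j 1 * Am j 3 = 1 ∧ Am j 3 * Am j 1 = 1))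

/-- a linear generator -/
def linAut (j : ℕ) (h : invOK j) : G where
  toFun v := Multiplicative.ofAdd (Am j 0 * Multiplicative.toAdd v * Am j 1)
  invFun v := Multiplicative.ofAdd (Am j 2 * Multiplicative.toAdd v * Am j 3)
  left_inv v := by
    apply Multiplicative.toAdd.injective
    show Am j 2 * (Am j 0 * Multiplicative.toAdd v * Am j 1) * Am j 3 = Multiplicative.toAdd v
    rw [Matrix.mul_assoc (Am j 0), ← Matrix.mul_assoc (Am j 2), h.1, Matrix.one_mul, Matrix.mul_assoc, h.2.2.1,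
      Matrix.mul_one]
  right_inv v := by
    apply Multiplicative.toAdd.injective
    show Am j 0 * (Am j 2 * Multiplicative.toAdd v * Am j 3) * Am j 1 = Multiplicative.toAdd v
    rw [Matrix.mul_assoc (Am j 2), ← Matrix.mul_assoc (Am j 0), h.2.1, Matrix.one_mul, Matrix.mul_assoc, h.2.2.2,
      Matrix.mul_one]
  map_mul' v w := by
    apply Multiplicative.toAdd.injective
    show Am j 0 * (Multiplicative.toAdd v + Multiplicative.toAdd w) * Am j 1 =
      Am j 0 * Multiplicative.toAdd v * Am j 1 + Am j 0 * Multiplicative.toAdd w * Am j 1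
    rw [Matrix.mul_add, Matrix.add_mul]

/-- the field automorphism -/
def sigAut : G where
  toFun v := Multiplicative.ofAdd (frM (Multiplicative.toAdd v))
  invFun v := Multiplicative.ofAdd (frM (frM (Multiplicative.toAdd v)))
  left_inv v := by
    apply Multiplicative.toAdd.injective
    ext i k
    exact fr_fr_fr _
  right_inv v := by
    apply Multiplicative.toAdd.injective
    ext i k
    exact fr_fr_fr _
  map_mul' v w := by
    apply Multiplicative.toAdd.injective
    ext i k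
    exact fr_add _ _

/-- the generators -/
def gs (j : ℕ) : G := if j = 0 then sigAut else if h : invOK j then linAut j h else 1

theorem invOK_all : ∀ j : Fin 4, invOK (j.val + 1) := by decide +kernel

theorem gs_zero (v : MR) : gs 0 • v = Multiplicative.ofAdd (frM (Multiplicative.toAdd v)) := by
  unfold gs
  rw [if_pos rfl]
  rfl

theorem gs_lin (j : ℕ) (h1 : 1 ≤ j) (h4 : j ≤ 4) (v : MR) :
    gs j • v = Multiplicative.ofAdd (mm4 (mm4 (Am j 0) (Multiplicative.toAdd v)) (Am j 1)) := by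
  have hok : invOK j := by
    have := invOK_all ⟨j - 1, by omega⟩
    have e : (j - 1) + 1 = j := by omega
    simpa [e] using this
  unfold gs
  rw [if_neg (by omega), dif_pos hok, ← mul_eq_mm4, ← mul_eq_mm4]
  rfl

/-- the image of a matrix under a generator -/
def imgOf (j : ℕ) (M : R) : R := if j = 0 then frM M else mm4 (mm4 (Am j 0) M) (Am j 1)

theorem gs_smul (j : ℕ) (hj : j < 5) (v : MR) :
    gs j • v = Multiplicative.ofAdd (imgOf j (Multiplicative.toAdd v)) := by
  unfold imgOf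
  by_cases h0 : j = 0
  · subst h0
    rw [if_pos rfl]
    exact gs_zero v
  · rw [if_neg h0]
    exact gs_lin j (by omega) (by omega) v

/-- the test that the table of a generator is right -/
def smulB (j : ℕ) : Bool :=
  rangeAll 0 455 (fun x => eqB (imgOf j (vecOf (ptC x))) (vecOf (ptC (tab0 j x))))

theorem smul_ok0 : smulB 0 = true := by decide +kernel
theorem smul_ok1 : smulB 1 = true := by decide +kernel
theorem smul_ok2 : smulB 2 = true := by decide +kernel
theorem smul_ok3 : smulB 3 = true := by decide +kernel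
theorem smul_ok4 : smulB 4 = true := by decide +kernel

theorem smul_ok (j : ℕ) (hj : j < 5) : smulB j = true := by
  interval_cases j
  · exact smul_ok0
  · exact smul_ok1
  · exact smul_ok2
  · exact smul_ok3
  · exact smul_ok4

theorem gen_smul0 (j : ℕ) (hj : j < 5) (x : ℕ) (hx : x < 455) : gs j • pt x = pt (tab0 j x) := by
  have h := eqB_sound _ _ (rangeAll_sound 0 455 _ (smul_ok j hj) x (Nat.zero_le x) (by omega))
  rw [gs_smul j hj]
  show Multiplicative.ofAdd (imgOf j (vecOf (ptC x))) = Multiplicative.ofAdd (vecOf (ptC (tab0 j x)))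
  rw [h]

theorem tab0_ltB : rangeAll 0 5 (fun j => rangeAll 0 455 fun x => Nat.blt (tab0 j x) 455) = true := by
  decide +kernel

theorem tab0_lt (j : ℕ) (hj : j < 5) (x : ℕ) (hx : x < 455) : tab0 j x < 455 :=
  Nat.le_of_ble_eq_true (rangeAll_sound 0 455 _
    (rangeAll_sound 0 5 _ tab0_ltB j (Nat.zero_le j) (by omega)) x (Nat.zero_le x) (by omega))

/-! ### the points span the module -/

/-- the sum of a list of codes -/
def xorL (l : List ℕ) : ℕ := l.foldr Nat.xor 0

theorem vecOf_zero : vecOf 0 = 0 := by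
  ext i j
  show elt (Nat.land (Nat.shiftRight 0 _) 7) = 0
  rw [Nat.shiftRight_eq, Nat.zero_shiftRight]
  rfl

theorem vecOf_xor (a b : ℕ) : vecOf (Nat.xor a b) = vecOf a + vecOf b := by
  ext i j
  show elt (Nat.land (Nat.shiftRight (Nat.xor a b) _) 7) =
    elt (Nat.land (Nat.shiftRight a _) 7) + elt (Nat.land (Nat.shiftRight b _) 7)
  have h1 : ∀ n s : ℕ, Nat.land (Nat.shiftRight n s) 7 < 8 := by
    intro n s
    exact Nat.lt_succ_of_le Nat.and_le_right
  have h2 : ∀ s : ℕ, Nat.land (Nat.shiftRight (Nat.xor a b) s) 7 =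
      Nat.xor (Nat.land (Nat.shiftRight a s) 7) (Nat.land (Nat.shiftRight b s) 7) := by
    intro s
    show (a ^^^ b) >>> s &&& 7 = (a >>> s &&& 7) ^^^ (b >>> s &&& 7)
    rw [Nat.shiftRight_xor_distrib, Nat.and_xor_distrib_right]
  rw [h2]
  exact elt_xor ⟨_, h1 a _⟩ ⟨_, h1 b _⟩

theorem vecOf_xorL (l : List ℕ) : vecOf (xorL l) = (l.map vecOf).sum := by
  induction l with
  | nil => exact vecOf_zero
  | cons a l ih =>
    show vecOf (Nat.xor a (xorL l)) = vecOf a + (l.map vecOf).sum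
    rw [vecOf_xor, ih]

/-- the lists of points whose sum is a unit vector -/
def ul : ℕ → List ℕ
  | 0 => [0]
  | 1 => [1]
  | 2 => [3]
  | 3 => [0, 1, 3, 9, 10, 11, 12, 16, 18, 19, 21, 24, 25, 28, 29]
  | 4 => [0, 1, 7, 8, 9, 10, 15, 17, 19, 21, 24, 26, 27, 29]
  | 5 => [0, 1, 7, 10, 12, 13, 17, 18, 19, 20, 23, 25, 27, 29]
  | 6 => [0, 7, 10, 11, 12, 15, 16, 17, 18, 19, 21, 24, 27, 28, 29, 33, 35, 39, 43, 47, 51]
  | 7 => [0, 1, 7, 8, 9, 10, 12, 13, 16, 18, 19, 20, 23, 24, 25, 29, 32, 35, 41, 43, 49, 51]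
  | 8 => [3, 7, 11, 12, 13, 16, 17, 18, 19, 20, 21, 24, 26, 31, 33, 40, 43, 48, 51]
  | 9 => [1, 3, 7, 8, 9, 10, 16, 17, 18, 21, 23, 29, 32, 35, 39, 43, 47, 48, 71, 72, 73, 75, 79, 80, 81, 83]
  | 10 => [0, 1, 3, 7, 10, 12, 13, 15, 17, 18, 19, 24, 27, 28, 29, 31, 32, 40, 43, 47, 48, 49, 51, 71, 72, 79, 80]
  | 11 => [0, 1, 3, 7, 8, 9, 10, 17, 18, 20, 21, 28, 29, 31, 33, 39, 43, 47, 48, 49, 51, 71, 75, 79, 83]
  | 12 => [0, 1, 3, 7, 10, 12, 13, 15, 16, 17, 18, 24, 25, 28, 29]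
  | 13 => [0, 3, 7, 8, 11, 12, 15, 18, 20, 21, 24, 26, 27, 29]
  | 14 => [0, 8, 9, 12, 13, 15, 16, 19, 20, 23, 25, 27, 29]
  | 15 => [1, 3, 7, 10, 12, 13, 16, 18, 19, 21, 24, 25, 28, 29]
  | 16 => [0, 3, 7, 9, 11, 13, 17, 18, 19, 20, 23, 25, 27, 29]
  | 17 => [1, 7, 10, 12, 13, 15, 18, 20, 21, 23, 24, 25, 26]
  | 18 => [7, 11, 15, 17, 18, 19, 20, 21, 23, 24, 26, 27, 28, 29, 32, 33, 47, 51]
  | 19 => [0, 3, 7, 8, 9, 12, 16, 17, 18, 20, 24, 26, 31, 32, 33, 35, 49, 51]
  | 20 => [1, 10, 13, 19, 21, 23, 26, 31, 32, 48, 51]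
  | 21 => [3, 7, 12, 15, 16, 17, 18, 23, 24, 27, 29, 39, 41, 47, 49, 71, 72, 73, 75, 79, 80]
  | 22 => [0, 1, 8, 9, 10, 12, 16, 17, 18, 21, 24, 26, 28, 29, 31, 32, 33, 35, 40, 43, 48, 51, 71, 72, 73, 75, 79, 81]
  | 23 => [0, 7, 9, 11, 13, 16, 17, 18, 20, 23, 24, 25, 28, 31, 32, 39, 40, 41, 43, 47, 48, 49, 51, 73, 75, 79, 83]
  | 24 => [0, 1, 10, 11, 12, 13, 16, 17, 18, 19, 23, 24, 28, 29, 31, 33, 41, 43, 49, 51]
  | 25 => [7, 8, 11, 13, 17, 18, 19, 21, 24, 25, 26, 27, 31, 35, 39, 40, 41, 43, 47, 48, 49, 51]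
  | 26 => [0, 1, 3, 7, 8, 9, 12, 15, 17, 18, 19, 20, 21, 25, 26, 27, 29, 32, 33, 40, 43, 48, 51]
  | 27 => [0, 1, 7, 9, 10, 11, 12, 13, 15, 16, 17, 18, 19, 21, 23, 24, 27, 28, 31, 33, 39, 40, 41, 43, 47, 48]
  | 28 => [7, 8, 9, 11, 12, 13, 15, 16, 18, 20, 26, 29, 31, 32, 40, 41, 47, 51]
  | 29 => [3, 7, 8, 12, 13, 15, 16, 17, 19, 20, 21, 23, 25, 31, 32, 39, 43, 47, 48]
  | 30 => [0, 8, 9, 11, 15, 16, 17, 18, 19, 20, 24, 26, 28, 32, 33, 40, 48, 49, 55]
  | 31 => [0, 3, 7, 9, 10, 12, 18, 20, 27, 32, 39, 41, 43, 48]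
  | 32 => [0, 1, 3, 9, 10, 11, 16, 17, 18, 19, 21, 24, 25, 29, 31, 33, 35, 39, 41, 49, 51]
  | 33 => [0, 3, 10, 11, 13, 16, 17, 20, 21, 25, 26, 28, 31, 32, 35, 41, 49, 55, 73, 75, 81, 83, 87, 103]
  | 34 => [3, 7, 8, 13, 17, 21, 23, 31, 32, 33, 39, 40, 43, 48, 51, 71, 72, 80, 103]
  | 35 => [10, 12, 13, 15, 18, 19, 23, 28, 29, 35, 39, 55, 75, 79, 83, 87]
  | 36 => [3, 12, 13, 15, 16, 17, 18, 20, 21, 23, 26, 31, 35, 40, 41, 47, 51, 71, 72, 73, 75, 79, 80, 81, 83]
  | 37 => [7, 8, 9, 10, 15, 16, 17, 18, 23, 24, 25, 27, 31, 33, 39, 40, 47, 51, 72, 75, 80, 83]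
  | 38 => [0, 3, 8, 10, 16, 17, 19, 20, 24, 26, 27, 28, 31, 33, 41, 43, 47, 48, 49, 51, 71, 72, 79, 80]
  | 39 => [0, 7, 11, 12, 13, 15, 20, 23, 25, 26, 27, 28, 29, 31, 32, 40, 43, 47, 48, 49, 51, 71, 72, 73, 75, 79, 80]
  | 40 => [0, 3, 7, 12, 17, 18, 19, 21, 24, 26, 27, 29, 31, 35, 39, 40, 49, 51, 71, 72, 81, 83]
  | 41 => [1, 7, 10, 11, 13, 15, 16, 24, 26, 27, 28, 33, 35, 40, 43, 47, 48, 71, 72, 73, 75, 79, 81]
  | 42 => [0, 3, 7, 12, 13, 18, 19, 20, 23, 24, 25, 26, 27, 29, 31, 32, 33, 41, 43, 47, 49, 51, 73, 75, 81, 83, 87, 103]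
  | 43 => [0, 1, 3, 9, 11, 12, 18, 19, 23, 25, 26, 28, 41, 43, 47, 49, 51, 71, 72, 75, 79, 80, 83, 87, 103]
  | 44 => [0, 9, 10, 12, 16, 17, 18, 19, 20, 21, 24, 25, 29, 33, 35, 40, 41, 47, 48, 49, 55, 71, 72, 80, 103]
  | 45 => [7]
  | 46 => [71]
  | 47 => [199]
  | _ => []

theorem unitB : rangeAll 0 48 (fun b => Nat.beq (xorL ((ul b).map ptC)) (Nat.pow 2 b) &&
    (ul b).all (fun x => elemB x chkL)) = true := by decide +kernel

theorem unit_vec : ∀ i j : Fin 4, ∀ k : Fin 3,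
    vecOf (Nat.pow 2 (Nat.add (Nat.mul 3 (Nat.add (Nat.mul 4 i.val) j.val)) k.val)) =
      Matrix.single i j (elt (Nat.pow 2 k.val)) := by decide +kernel

theorem bits_K : ∀ c : K, ∃ a b d : Bool, c = (if a then elt 1 else 0) + (if b then elt 2 else 0) +
    (if d then elt 4 else 0) := by decide +kernel

theorem gen_span (S : AddSubgroup R) (h : ∀ x ∈ chkL, vecOf (ptC x) ∈ S) : ∀ M : R, M ∈ S := by
  have hunit : ∀ i j : Fin 4, ∀ k : Fin 3, Matrix.single i j (elt (Nat.pow 2 k.val)) ∈ S := by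
    intro i j k
    have hb : Nat.add (Nat.mul 3 (Nat.add (Nat.mul 4 i.val) j.val)) k.val < 48 := by
      have := i.isLt
      have := j.isLt
      have := k.isLt
      show 3 * (4 * i.val + j.val) + k.val < 48
      omega
    have hc := rangeAll_sound 0 48 _ unitB _ (Nat.zero_le _) (by omega : _ < 0 + 48)
    rw [Bool.and_eq_true] at hc
    obtain ⟨hc1, hc2⟩ := hc
    rw [← unit_vec i j k, ← Nat.eq_of_beq_eq_true hc1, vecOf_xorL]
    apply AddSubgroup.list_sum_mem
    intro M hM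
    rw [List.mem_map] at hM
    obtain ⟨c, hc, rfl⟩ := hM
    rw [List.mem_map] at hc
    obtain ⟨x, hx, rfl⟩ := hc
    rw [List.all_eq_true] at hc2
    exact h x ((elemB_iff x chkL).1 (hc2 x hx))
  have hsingle : ∀ i j : Fin 4, ∀ c : K, Matrix.single i j c ∈ S := by
    intro i j c
    obtain ⟨a, b, d, rfl⟩ := bits_K c
    rw [Matrix.single_add, Matrix.single_add]
    have e0 : (Matrix.single i j (0 : K)) ∈ S := by
      rw [Matrix.single_zero]
      exact S.zero_mem
    refine S.add_mem (S.add_mem ?_ ?_) ?_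
    · cases a
      · exact e0
      · exact hunit i j 0
    · cases b
      · exact e0
      · exact hunit i j 1
    · cases d
      · exact e0
      · exact hunit i j 2
  intro M
  rw [Matrix.matrix_eq_sum_single M]
  apply S.sum_mem
  intro i _
  apply S.sum_mem
  intro j _
  exact hsingle i j _

theorem faithful (g g' : G) (h : ∀ x ∈ chkL, g • pt x = g' • pt x) : g = g' := by
  let S : AddSubgroup R :=
    { carrier := {M | g (Multiplicative.ofAdd M) = g' (Multiplicative.ofAdd M)}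
      zero_mem' := by
        show g (Multiplicative.ofAdd 0) = g' (Multiplicative.ofAdd 0)
        rw [ofAdd_zero, map_one, map_one]
      add_mem' := by
        intro M M' hM hM'
        show g (Multiplicative.ofAdd (M + M')) = g' (Multiplicative.ofAdd (M + M'))
        rw [ofAdd_add, map_mul, map_mul, hM, hM']
      neg_mem' := by
        intro M hM
        show g (Multiplicative.ofAdd (-M)) = g' (Multiplicative.ofAdd (-M))
        rw [ofAdd_neg, map_inv, map_inv, hM] }
  have hall := gen_span S (fun x hx => h x hx)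
  apply MulEquiv.ext
  intro v
  exact hall (Multiplicative.toAdd v)

theorem chk_ltB : chkL.all (fun x => Nat.blt x 455) = true := by decide

/-- the table-driven data of the five generators -/
def D0 : Data G MR where
  m := 5
  N := 455
  gen := gs
  pt := pt
  tab := tab0
  chk := chkL
  gen_smul := gen_smul0
  tab_lt := tab0_lt
  chk_lt x hx := by
    have := List.all_eq_true.1 chk_ltB x hx
    exact Nat.le_of_ble_eq_true this
  faithful := faithful
  pt_inj := pt_inj

end Cfsg.Agent.Lib.Helper58.S8Group
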