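import Mathlib
import Cfsg.Agent.Lib.Helper58.S8Group

/-!
# The automorphism group of `Sz(8)`: the stabiliser chain and the order
-/

set_option autoImplicit false
set_option maxRecDepth 100000
set_option Elab.async false

namespace Cfsg.Agent.Lib.Helper58.S8Chain

open Cfsg Matrix
open Cfsg.Agent.Lib.Helper89 Cfsg.Agent.Lib.Helper89.TableChain2
open Cfsg.Agent.Lib.Helper58.S8Field Cfsg.Agent.Lib.Helper58.S8Field.F8c
open Cfsg.Agent.Lib.Helper58.S8Data Cfsg.Agent.Lib.Helper58.FastChain Cfsg.Agent.Lib.Helper58.S8Group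
open Cfsg.Agent.Lib.Helper58.EvTools

/-! ### level 0 -/

theorem fix0 : rangeAll 0 3 (fun j => Nat.beq (tab0 j 7) 7) = true := by decide +kernel
theorem head0 : wl0 0 = 0 := by decide +kernel
theorem words0 : rangeAll 0 455 (fun a => lettersLt 5 (wc0 a) (wl0 a)) = true := by decide +kernel
theorem inj0 : rangeAll 0 455 (fun a => Nat.beq (pos0 (actP tab0 (wc0 a) (wl0 a) 7)) a) = true := by
  decide +kernel

theorem st0_0 : rangeAll 0 455 (fun a => stepF tab0 chkL 3 455 wc0 wl0 0 a (ea0 0 a) (ec0 0 a) (el0 0 a)) = true := by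
  decide +kernel
theorem st0_1 : rangeAll 0 455 (fun a => stepF tab0 chkL 3 455 wc0 wl0 1 a (ea0 1 a) (ec0 1 a) (el0 1 a)) = true := by
  decide +kernel
theorem st0_2 : rangeAll 0 455 (fun a => stepF tab0 chkL 3 455 wc0 wl0 2 a (ea0 2 a) (ec0 2 a) (el0 2 a)) = true := by
  decide +kernel
theorem st0_3 : rangeAll 0 455 (fun a => stepF tab0 chkL 3 455 wc0 wl0 3 a (ea0 3 a) (ec0 3 a) (el0 3 a)) = true := by
  decide +kernel
theorem st0_4 : rangeAll 0 455 (fun a => stepF tab0 chkL 3 455 wc0 wl0 4 a (ea0 4 a) (ec0 4 a) (el0 4 a)) = true := by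
  decide +kernel

theorem step0 (j : ℕ) (hj : j < 5) (a : ℕ) (ha : a < 455) :
    stepF tab0 chkL 3 455 wc0 wl0 j a (ea0 j a) (ec0 j a) (el0 j a) = true := by
  interval_cases j
  · exact rangeAll_sound 0 455 _ st0_0 a (Nat.zero_le a) (by omega)
  · exact rangeAll_sound 0 455 _ st0_1 a (Nat.zero_le a) (by omega)
  · exact rangeAll_sound 0 455 _ st0_2 a (Nat.zero_le a) (by omega)
  · exact rangeAll_sound 0 455 _ st0_3 a (Nat.zero_le a) (by omega)
  · exact rangeAll_sound 0 455 _ st0_4 a (Nat.zero_le a) (by omega)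

theorem ok0 : Data.LevelOK D0 5 3 7 (transv 455 wc0 wl0) [] :=
  levelOK_fast D0 5 3 7 455 wc0 wl0 pos0 ea0 ec0 el0 (le_refl 5) (by show 7 < 455; norm_num)
    (by norm_num) (by norm_num) fix0 head0 words0 inj0 step0

/-! ### level 1 -/

theorem fix1 : rangeAll 0 1 (fun j => Nat.beq (tab0 j 0) 0) = true := by decide +kernel
theorem head1 : wl1 0 = 0 := by decide +kernel
theorem words1 : rangeAll 0 64 (fun a => lettersLt 3 (wc1 a) (wl1 a)) = true := by decide +kernel
theorem inj1 : rangeAll 0 64 (fun a => Nat.beq (pos1 (actP tab0 (wc1 a) (wl1 a) 0)) a) = true := by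
  decide +kernel

theorem st1_0 : rangeAll 0 64 (fun a => stepF tab0 chkL 1 64 wc1 wl1 0 a (ea1 0 a) (ec1 0 a) (el1 0 a)) = true := by
  decide +kernel
theorem st1_1 : rangeAll 0 64 (fun a => stepF tab0 chkL 1 64 wc1 wl1 1 a (ea1 1 a) (ec1 1 a) (el1 1 a)) = true := by
  decide +kernel
theorem st1_2 : rangeAll 0 64 (fun a => stepF tab0 chkL 1 64 wc1 wl1 2 a (ea1 2 a) (ec1 2 a) (el1 2 a)) = true := by
  decide +kernel

theorem step1 (j : ℕ) (hj : j < 3) (a : ℕ) (ha : a < 64) :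
    stepF tab0 chkL 1 64 wc1 wl1 j a (ea1 j a) (ec1 j a) (el1 j a) = true := by
  interval_cases j
  · exact rangeAll_sound 0 64 _ st1_0 a (Nat.zero_le a) (by omega)
  · exact rangeAll_sound 0 64 _ st1_1 a (Nat.zero_le a) (by omega)
  · exact rangeAll_sound 0 64 _ st1_2 a (Nat.zero_le a) (by omega)

theorem ok1 : Data.LevelOK D0 3 1 0 (transv 64 wc1 wl1) [] :=
  levelOK_fast D0 3 1 0 64 wc1 wl1 pos1 ea1 ec1 el1 (by show 3 ≤ 5; norm_num)
    (by show 0 < 455; norm_num) (by norm_num) (by norm_num) fix1 head1 words1 inj1 step1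

/-! ### level 2 -/

theorem fix2 : rangeAll 0 0 (fun j => Nat.beq (tab0 j 71) 71) = true := rfl
theorem head2 : wl2 0 = 0 := by decide +kernel
theorem words2 : rangeAll 0 3 (fun a => lettersLt 1 (wc2 a) (wl2 a)) = true := by decide +kernel
theorem inj2 : rangeAll 0 3 (fun a => Nat.beq (pos2 (actP tab0 (wc2 a) (wl2 a) 71)) a) = true := by
  decide +kernel

theorem st2_0 : rangeAll 0 3 (fun a => stepF tab0 chkL 0 3 wc2 wl2 0 a (ea2 0 a) (ec2 0 a) (el2 0 a)) = true := by
  decide +kernel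

theorem step2 (j : ℕ) (hj : j < 1) (a : ℕ) (ha : a < 3) :
    stepF tab0 chkL 0 3 wc2 wl2 j a (ea2 j a) (ec2 j a) (el2 j a) = true := by
  interval_cases j
  exact rangeAll_sound 0 3 _ st2_0 a (Nat.zero_le a) (by omega)

theorem ok2 : Data.LevelOK D0 1 0 71 (transv 3 wc2 wl2) [] :=
  levelOK_fast D0 1 0 71 3 wc2 wl2 pos2 ea2 ec2 el2 (by show 1 ≤ 5; norm_num)
    (by show 71 < 455; norm_num) (by norm_num) (by norm_num) fix2 head2 words2 inj2 step2

instance : Finite G := Finite.of_injective (fun f : G => (f : MR → MR)) DFunLike.coe_injective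

/-- the group -/
abbrev As : Subgroup G := D0.H 5

theorem card_As : Nat.card ↥As = 87360 := by
  show Nat.card (D0.H 5) = 87360
  rw [ok0.card, ok1.card, ok2.card, Data.card_H_zero, transv_length, transv_length, transv_length]

end Cfsg.Agent.Lib.Helper58.S8Chain
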