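import Mathlib
import Cfsg.Agent.Lib.Helper58.S8Chain
import Cfsg.Agent.Lib.Helper58.PGExtQ

/-!
# The automorphism group of `Sz(8)`: elements, fixed vectors, centralisers
-/

set_option autoImplicit false
set_option maxRecDepth 100000
set_option Elab.async false

namespace Cfsg.Agent.Lib.Helper58.S8Elts

open Cfsg Matrix
open Cfsg.Agent.Lib.Helper89 Cfsg.Agent.Lib.Helper89.TableChain2
open Cfsg.Agent.Lib.Helper58.S8Field Cfsg.Agent.Lib.Helper58.S8Field.F8c
open Cfsg.Agent.Lib.Helper58.S8Data Cfsg.Agent.Lib.Helper58.FastChain Cfsg.Agent.Lib.Helper58.S8Group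
open Cfsg.Agent.Lib.Helper58.S8Chain Cfsg.Agent.Lib.Helper58.EvTools

/-! ### element orders -/

theorem x6_lt : ∀ c ∈ x6W, c < D0.m := by
  show ∀ c ∈ x6W, c < 5
  decide
theorem x15_lt : ∀ c ∈ x15W, c < D0.m := by
  show ∀ c ∈ x15W, c < 5
  decide
theorem x5_lt : ∀ c ∈ x5W, c < D0.m := by
  show ∀ c ∈ x5W, c < 5
  decide
theorem x7_lt : ∀ c ∈ x7W, c < D0.m := by
  show ∀ c ∈ x7W, c < 5
  decide
theorem x13_lt : ∀ c ∈ x13W, c < D0.m := by
  show ∀ c ∈ x13W, c < 5
  decide

theorem x6_pow6 : D0.chk.all (fun x => Nat.beq (act D0.tab ((List.replicate 6 x6W).flatten) x) x) = true := by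
  decide +kernel
theorem x6_pow3 : D0.chk.any (fun x => !(Nat.beq (act D0.tab ((List.replicate 3 x6W).flatten) x) x)) = true := by
  decide +kernel
theorem x6_pow2 : D0.chk.any (fun x => !(Nat.beq (act D0.tab ((List.replicate 2 x6W).flatten) x) x)) = true := by
  decide +kernel

theorem order_x6 : orderOf (D0.ev x6W) = 6 := by
  apply orderOf_eq_of_pow_and_pow_div_prime (by norm_num) (pow_eq_one D0 x6W 6 x6_lt x6_pow6)
  intro p hp hpd
  have h23 : p = 2 ∨ p = 3 := by
    have : p ∣ 2 * 3 := hpd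
    rcases (Nat.Prime.dvd_mul hp).1 this with h | h
    · left; exact (Nat.prime_dvd_prime_iff_eq hp Nat.prime_two).1 h
    · right; exact (Nat.prime_dvd_prime_iff_eq hp Nat.prime_three).1 h
  rcases h23 with rfl | rfl
  · exact pow_ne_one D0 x6W 3 x6_lt x6_pow3
  · exact pow_ne_one D0 x6W 2 x6_lt x6_pow2

theorem x15_pow15 : D0.chk.all (fun x => Nat.beq (act D0.tab ((List.replicate 15 x15W).flatten) x) x) = true := by
  decide +kernel
theorem x15_pow5 : D0.chk.any (fun x => !(Nat.beq (act D0.tab ((List.replicate 5 x15W).flatten) x) x)) = true := by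
  decide +kernel
theorem x15_pow3 : D0.chk.any (fun x => !(Nat.beq (act D0.tab ((List.replicate 3 x15W).flatten) x) x)) = true := by
  decide +kernel

theorem order_x15 : orderOf (D0.ev x15W) = 15 := by
  apply orderOf_eq_of_pow_and_pow_div_prime (by norm_num) (pow_eq_one D0 x15W 15 x15_lt x15_pow15)
  intro p hp hpd
  have h35 : p = 3 ∨ p = 5 := by
    have : p ∣ 3 * 5 := hpd
    rcases (Nat.Prime.dvd_mul hp).1 this with h | h
    · left; exact (Nat.prime_dvd_prime_iff_eq hp Nat.prime_three).1 h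
    · right; exact (Nat.prime_dvd_prime_iff_eq hp Nat.prime_five).1 h
  rcases h35 with rfl | rfl
  · exact pow_ne_one D0 x15W 5 x15_lt x15_pow5
  · exact pow_ne_one D0 x15W 3 x15_lt x15_pow3

theorem x5_pow : D0.chk.all (fun x => Nat.beq (act D0.tab ((List.replicate 5 x5W).flatten) x) x) = true := by
  decide +kernel
theorem x5_ne : D0.chk.any (fun x => !(Nat.beq (act D0.tab ((List.replicate 1 x5W).flatten) x) x)) = true := by
  decide +kernel

theorem order_x5 : orderOf (D0.ev x5W) = 5 := by
  have : Fact (Nat.Prime 5) := ⟨by norm_num⟩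
  apply orderOf_eq_prime (pow_eq_one D0 x5W 5 x5_lt x5_pow)
  have := pow_ne_one D0 x5W 1 x5_lt x5_ne
  rwa [pow_one] at this

theorem x7_pow : D0.chk.all (fun x => Nat.beq (act D0.tab ((List.replicate 7 x7W).flatten) x) x) = true := by
  decide +kernel
theorem x7_ne : D0.chk.any (fun x => !(Nat.beq (act D0.tab ((List.replicate 1 x7W).flatten) x) x)) = true := by
  decide +kernel

theorem order_x7 : orderOf (D0.ev x7W) = 7 := by
  have : Fact (Nat.Prime 7) := ⟨by norm_num⟩
  apply orderOf_eq_prime (pow_eq_one D0 x7W 7 x7_lt x7_pow)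
  have := pow_ne_one D0 x7W 1 x7_lt x7_ne
  rwa [pow_one] at this

theorem x13_pow : D0.chk.all (fun x => Nat.beq (act D0.tab ((List.replicate 13 x13W).flatten) x) x) = true := by
  decide +kernel
theorem x13_ne : D0.chk.any (fun x => !(Nat.beq (act D0.tab ((List.replicate 1 x13W).flatten) x) x)) = true := by
  decide +kernel

theorem order_x13 : orderOf (D0.ev x13W) = 13 := by
  have : Fact (Nat.Prime 13) := ⟨by norm_num⟩
  apply orderOf_eq_prime (pow_eq_one D0 x13W 13 x13_lt x13_pow)
  have := pow_ne_one D0 x13W 1 x13_lt x13_ne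
  rwa [pow_one] at this

theorem ev_mem_As (w : List ℕ) (hw : ∀ c ∈ w, c < D0.m) : D0.ev w ∈ As := D0.ev_mem 5 w hw

/-- elements of the group -/
def x6 : ↥As := ⟨D0.ev x6W, ev_mem_As x6W x6_lt⟩
def x15 : ↥As := ⟨D0.ev x15W, ev_mem_As x15W x15_lt⟩
def x5 : ↥As := ⟨D0.ev x5W, ev_mem_As x5W x5_lt⟩
def x7 : ↥As := ⟨D0.ev x7W, ev_mem_As x7W x7_lt⟩
def x13 : ↥As := ⟨D0.ev x13W, ev_mem_As x13W x13_lt⟩

theorem orderOf_x6 : orderOf x6 = 6 := by
  unfold x6
  rw [Subgroup.orderOf_mk]
  exact order_x6
theorem orderOf_x15 : orderOf x15 = 15 := by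
  unfold x15
  rw [Subgroup.orderOf_mk]
  exact order_x15
theorem orderOf_x5 : orderOf x5 = 5 := by
  unfold x5
  rw [Subgroup.orderOf_mk]
  exact order_x5
theorem orderOf_x7 : orderOf x7 = 7 := by
  unfold x7
  rw [Subgroup.orderOf_mk]
  exact order_x7
theorem orderOf_x13 : orderOf x13 = 13 := by
  unfold x13
  rw [Subgroup.orderOf_mk]
  exact order_x13

/-! ### the action of words on arbitrary matrices -/

theorem ev_smul_vec (w : List ℕ) (hw : ∀ c ∈ w, c < 5) (M : R) :
    D0.ev w • (Multiplicative.ofAdd M : MR) = Multiplicative.ofAdd (w.foldr imgOf M) := by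
  induction w with
  | nil =>
    show (1 : G) • _ = _
    rw [one_smul]
    rfl
  | cons j w ih =>
    rw [D0.ev_cons, mul_smul, ih (fun c hc => hw c (List.mem_cons_of_mem _ hc))]
    show gs j • _ = _
    rw [gs_smul j (hw j List.mem_cons_self)]
    rfl

theorem fix5B : eqB (x5W.foldr imgOf (vecOf fix5C)) (vecOf fix5C) = true ∧
    eqB (vecOf fix5C) 0 = false := by decide +kernel

theorem fix7B : eqB (x7W.foldr imgOf (vecOf fix7C)) (vecOf fix7C) = true ∧
    eqB (vecOf fix7C) 0 = false := by decide +kernel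

theorem eqB_complete (X Y : R) (h : X = Y) : eqB X Y = true := by
  subst h
  unfold eqB
  simp

theorem fix5 : D0.ev x5W • (Multiplicative.ofAdd (vecOf fix5C) : MR) = Multiplicative.ofAdd (vecOf fix5C) ∧
    (Multiplicative.ofAdd (vecOf fix5C) : MR) ≠ 1 := by
  constructor
  · rw [ev_smul_vec x5W x5_lt, eqB_sound _ _ fix5B.1]
  · intro h
    have h0 : vecOf fix5C = 0 := Multiplicative.ofAdd.injective h
    have := eqB_complete _ _ h0
    rw [fix5B.2] at this
    exact Bool.false_ne_true this

theorem fix7 : D0.ev x7W • (Multiplicative.ofAdd (vecOf fix7C) : MR) = Multiplicative.ofAdd (vecOf fix7C) ∧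
    (Multiplicative.ofAdd (vecOf fix7C) : MR) ≠ 1 := by
  constructor
  · rw [ev_smul_vec x7W x7_lt, eqB_sound _ _ fix7B.1]
  · intro h
    have h0 : vecOf fix7C = 0 := Multiplicative.ofAdd.injective h
    have := eqB_complete _ _ h0
    rw [fix7B.2] at this
    exact Bool.false_ne_true this

/-! ### the element of order 13 has no fixed points -/

/-- the trace of the element of order 13 -/
def trHom : R →+ R := AddMonoidHom.mk'
  (fun M => ((List.range 13).map fun i =>
    Multiplicative.toAdd (((D0.ev x13W) ^ i) • (Multiplicative.ofAdd M : MR))).sum)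
  (by
    intro M M'
    rw [← List.sum_map_add]
    congr 1
    apply List.map_congr_left
    intro i _
    show Multiplicative.toAdd (((D0.ev x13W) ^ i) (Multiplicative.ofAdd (M + M'))) = _
    rw [ofAdd_add, map_mul]
    rfl)

theorem trHom_apply (M : R) : trHom M = ((List.range 13).map fun i =>
    Multiplicative.toAdd (((D0.ev x13W) ^ i) • (Multiplicative.ofAdd M : MR))).sum := rfl

/-- the sum of the codes of the images of a point under the powers of the element of order 13 -/
def trC (x : ℕ) : ℕ :=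
  xorL ((List.range 13).map fun i => ptC (act tab0 ((List.replicate i x13W).flatten) x))

theorem trB : chkL.all (fun x => Nat.beq (trC x) 0) = true := by decide +kernel

theorem trHom_pt (x : ℕ) (hx : x < 455) : trHom (vecOf (ptC x)) = vecOf (trC x) := by
  rw [trHom_apply]
  unfold trC
  rw [vecOf_xorL, List.map_map]
  congr 1
  apply List.map_congr_left
  intro i _
  have h1 : (D0.ev x13W) ^ i = D0.ev ((List.replicate i x13W).flatten) := (ev_pow D0 x13W i).symm
  rw [h1]
  have h2 := D0.ev_smul ((List.replicate i x13W).flatten) (flatten_lt D0 x13W i x13_lt) x hx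
  have h3 : D0.ev ((List.replicate i x13W).flatten) • (Multiplicative.ofAdd (vecOf (ptC x)) : MR) =
      Multiplicative.ofAdd (vecOf (ptC (act tab0 ((List.replicate i x13W).flatten) x))) := h2
  rw [h3]
  rfl

theorem trHom_zero : ∀ M : R, trHom M = 0 := by
  have h := gen_span trHom.ker (by
    intro x hx
    rw [AddMonoidHom.mem_ker, trHom_pt x (D0.chk_lt x hx)]
    have := List.all_eq_true.1 trB x hx
    rw [Nat.eq_of_beq_eq_true this]
    exact vecOf_zero)
  intro M
  exact (AddMonoidHom.mem_ker).1 (h M)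

theorem add_self_R (M : R) : M + M = 0 := by
  ext i j
  exact add_self _

theorem x13_fpf (v : MR) (hv : D0.ev x13W • v = v) : v = 1 := by
  have hpow : ∀ i : ℕ, ((D0.ev x13W) ^ i) • v = v := by
    intro i
    induction i with
    | zero => rw [pow_zero, one_smul]
    | succ i ih => rw [pow_succ, mul_smul, hv, ih]
  have h0 := trHom_zero (Multiplicative.toAdd v)
  rw [trHom_apply] at h0
  have h1 : ((List.range 13).map fun i =>
      Multiplicative.toAdd (((D0.ev x13W) ^ i) • (Multiplicative.ofAdd (Multiplicative.toAdd v) : MR))) =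
      (List.range 13).map fun _ => Multiplicative.toAdd v := by
    apply List.map_congr_left
    intro i _
    show Multiplicative.toAdd (((D0.ev x13W) ^ i) • v) = _
    rw [hpow i]
  rw [h1] at h0
  have h2 : ((List.range 13).map fun _ => Multiplicative.toAdd v).sum = Multiplicative.toAdd v := by
    simp only [List.map_const', List.length_range, List.sum_replicate]
    have e : (13 : ℕ) • Multiplicative.toAdd v =
        6 • (Multiplicative.toAdd v + Multiplicative.toAdd v) + Multiplicative.toAdd v := by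
      abel
    rw [e, add_self_R, smul_zero, zero_add]
  rw [h2] at h0
  exact Multiplicative.toAdd.injective h0

/-! ### the decomposition of the elements -/

/-- the word of an element given by its three transversal indices -/
def W3 (a0 a1 a2 : ℕ) : List ℕ :=
  wordP (wc0 a0) (wl0 a0) ++ (wordP (wc1 a1) (wl1 a1) ++ wordP (wc2 a2) (wl2 a2))

/-- its action -/
def act3 (a0 a1 a2 y : ℕ) : ℕ :=
  actP tab0 (wc0 a0) (wl0 a0) (actP tab0 (wc1 a1) (wl1 a1) (actP tab0 (wc2 a2) (wl2 a2) y))

theorem act_W3 (a0 a1 a2 y : ℕ) : act tab0 (W3 a0 a1 a2) y = act3 a0 a1 a2 y := by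
  unfold W3 act3
  rw [act_append, act_append, act_wordP, act_wordP, act_wordP]

theorem word0_lt (a : ℕ) (ha : a < 455) : ∀ c ∈ wordP (wc0 a) (wl0 a), c < D0.m :=
  lettersLt_sound 5 _ _ (rangeAll_sound 0 455 _ words0 a (Nat.zero_le a) (by omega))

theorem word1_lt (a : ℕ) (ha : a < 64) : ∀ c ∈ wordP (wc1 a) (wl1 a), c < D0.m := by
  intro c hc
  have := lettersLt_sound 3 _ _ (rangeAll_sound 0 64 _ words1 a (Nat.zero_le a) (by omega)) c hc
  show c < 5
  omega

theorem word2_lt (a : ℕ) (ha : a < 3) : ∀ c ∈ wordP (wc2 a) (wl2 a), c < D0.m := by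
  intro c hc
  have := lettersLt_sound 1 _ _ (rangeAll_sound 0 3 _ words2 a (Nat.zero_le a) (by omega)) c hc
  show c < 5
  omega

theorem W3_lt (a0 a1 a2 : ℕ) (h0 : a0 < 455) (h1 : a1 < 64) (h2 : a2 < 3) :
    ∀ c ∈ W3 a0 a1 a2, c < D0.m := by
  intro c hc
  unfold W3 at hc
  rw [List.mem_append, List.mem_append] at hc
  rcases hc with hc | hc | hc
  · exact word0_lt a0 h0 c hc
  · exact word1_lt a1 h1 c hc
  · exact word2_lt a2 h2 c hc

theorem As_decomp (g : G) (hg : g ∈ As) :
    ∃ a0 < 455, ∃ a1 < 64, ∃ a2 < 3, g = D0.ev (W3 a0 a1 a2) := by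
  obtain ⟨a, h', hh', rfl⟩ := (ok0.mem_H_iff g).1 hg
  obtain ⟨b, h'', hh'', rfl⟩ := (ok1.mem_H_iff h').1 hh'
  obtain ⟨c, h''', hh''', rfl⟩ := (ok2.mem_H_iff h'').1 hh''
  rw [D0.H_zero, Subgroup.mem_bot] at hh'''
  subst hh'''
  have ha : a.val < 455 := lt_of_lt_of_eq a.isLt (transv_length 455 wc0 wl0)
  have hb : b.val < 64 := lt_of_lt_of_eq b.isLt (transv_length 64 wc1 wl1)
  have hc : c.val < 3 := lt_of_lt_of_eq c.isLt (transv_length 3 wc2 wl2)
  refine ⟨a.val, ha, b.val, hb, c.val, hc, ?_⟩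
  rw [transv_getD 455 wc0 wl0 _ ha, transv_getD 64 wc1 wl1 _ hb, transv_getD 3 wc2 wl2 _ hc, mul_one]
  unfold W3
  rw [D0.ev_append, D0.ev_append]

/-! ### centralisers -/

/-- the test that an element commutes with a word, on the base points -/
def commB (xW : List ℕ) (a0 a1 a2 : ℕ) : Bool :=
  [7, 0, 71].all fun b => Nat.beq (act3 a0 a1 a2 (act tab0 xW b)) (act tab0 xW (act3 a0 a1 a2 b))

/-- the test that a power of an element is trivial -/
def powB (n a0 a1 a2 : ℕ) : Bool :=
  chkL.all fun x => Nat.beq (act tab0 ((List.replicate n (W3 a0 a1 a2)).flatten) x) x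

/-- the centraliser test -/
def centB (xW : List ℕ) (n lo len : ℕ) : Bool :=
  rangeAll lo len fun a0 => rangeAll 0 64 fun a1 => rangeAll 0 3 fun a2 =>
    !(commB xW a0 a1 a2) || powB n a0 a1 a2

theorem cent_of_check (xW : List ℕ) (hx : ∀ c ∈ xW, c < D0.m) (n : ℕ)
    (hchk : ∀ a0 < 455, rangeAll 0 64 (fun a1 => rangeAll 0 3 fun a2 =>
      !(commB xW a0 a1 a2) || powB n a0 a1 a2) = true)
    (c : G) (hc : c ∈ As) (hcomm : c * D0.ev xW = D0.ev xW * c) : c ^ n = 1 := by
  obtain ⟨a0, h0, a1, h1, a2, h2, rfl⟩ := As_decomp c hc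
  have hW := W3_lt a0 a1 a2 h0 h1 h2
  have ht := rangeAll_sound 0 3 _ (rangeAll_sound 0 64 _ (hchk a0 h0) a1 (Nat.zero_le _) (by omega)) a2
    (Nat.zero_le _) (by omega)
  rw [Bool.or_eq_true] at ht
  have hcm : commB xW a0 a1 a2 = true := by
    unfold commB
    rw [List.all_eq_true]
    intro b hb
    have hbN : b < D0.N := by
      have : b = 7 ∨ b = 0 ∨ b = 71 := by simpa using hb
      show b < 455
      omega
    have e1 := D0.ev_smul (W3 a0 a1 a2 ++ xW) (by
      intro c hc
      rw [List.mem_append] at hc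
      rcases hc with hc | hc
      · exact hW c hc
      · exact hx c hc) b hbN
    have e2 := D0.ev_smul (xW ++ W3 a0 a1 a2) (by
      intro c hc
      rw [List.mem_append] at hc
      rcases hc with hc | hc
      · exact hx c hc
      · exact hW c hc) b hbN
    rw [D0.ev_append] at e1 e2
    rw [hcomm, e2] at e1
    have hlt1 := D0.act_lt (xW ++ W3 a0 a1 a2) (by
      intro c hc
      rw [List.mem_append] at hc
      rcases hc with hc | hc
      · exact hx c hc
      · exact hW c hc) b hbN
    have hlt2 := D0.act_lt (W3 a0 a1 a2 ++ xW) (by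
      intro c hc
      rw [List.mem_append] at hc
      rcases hc with hc | hc
      · exact hW c hc
      · exact hx c hc) b hbN
    have e3 := D0.pt_inj _ hlt1 _ hlt2 e1
    have e4 : act tab0 (xW ++ W3 a0 a1 a2) b = act tab0 (W3 a0 a1 a2 ++ xW) b := e3
    rw [act_append, act_append, act_W3, act_W3] at e4
    rw [← e4]
    exact Nat.beq_refl _
  rcases ht with ht | ht
  · rw [hcm] at ht
    exact absurd ht (by simp)
  · exact pow_eq_one D0 (W3 a0 a1 a2) n hW ht

theorem cent7_0 : centB x7W 7 0 91 = true := by decide +kernel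
theorem cent7_1 : centB x7W 7 91 91 = true := by decide +kernel
theorem cent7_2 : centB x7W 7 182 91 = true := by decide +kernel
theorem cent7_3 : centB x7W 7 273 91 = true := by decide +kernel
theorem cent7_4 : centB x7W 7 364 91 = true := by decide +kernel

theorem cent13_0 : centB x13W 13 0 91 = true := by decide +kernel
theorem cent13_1 : centB x13W 13 91 91 = true := by decide +kernel
theorem cent13_2 : centB x13W 13 182 91 = true := by decide +kernel
theorem cent13_3 : centB x13W 13 273 91 = true := by decide +kernel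
theorem cent13_4 : centB x13W 13 364 91 = true := by decide +kernel

theorem cent7 (c : G) (hc : c ∈ As) (hcomm : c * D0.ev x7W = D0.ev x7W * c) : c ^ 7 = 1 := by
  apply cent_of_check x7W x7_lt 7 _ c hc hcomm
  intro a0 h0
  by_cases h1 : a0 < 91
  · exact rangeAll_sound 0 91 _ cent7_0 a0 (by omega) (by omega)
  by_cases h2 : a0 < 182
  · exact rangeAll_sound 91 91 _ cent7_1 a0 (by omega) (by omega)
  by_cases h3 : a0 < 273
  · exact rangeAll_sound 182 91 _ cent7_2 a0 (by omega) (by omega)
  by_cases h4 : a0 < 364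
  · exact rangeAll_sound 273 91 _ cent7_3 a0 (by omega) (by omega)
  · exact rangeAll_sound 364 91 _ cent7_4 a0 (by omega) (by omega)

theorem cent13 (c : G) (hc : c ∈ As) (hcomm : c * D0.ev x13W = D0.ev x13W * c) : c ^ 13 = 1 := by
  apply cent_of_check x13W x13_lt 13 _ c hc hcomm
  intro a0 h0
  by_cases h1 : a0 < 91
  · exact rangeAll_sound 0 91 _ cent13_0 a0 (by omega) (by omega)
  by_cases h2 : a0 < 182
  · exact rangeAll_sound 91 91 _ cent13_1 a0 (by omega) (by omega)
  by_cases h3 : a0 < 273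
  · exact rangeAll_sound 182 91 _ cent13_2 a0 (by omega) (by omega)
  by_cases h4 : a0 < 364
  · exact rangeAll_sound 273 91 _ cent13_3 a0 (by omega) (by omega)
  · exact rangeAll_sound 364 91 _ cent13_4 a0 (by omega) (by omega)

theorem cent7' (c : ↥As) (hcomm : c * x7 = x7 * c) : c ^ 7 = 1 := by
  apply Subtype.ext
  rw [Subgroup.coe_pow]
  exact cent7 c.1 c.2 (congrArg Subtype.val hcomm)

theorem cent13' (c : ↥As) (hcomm : c * x13 = x13 * c) : c ^ 13 = 1 := by
  apply Subtype.ext
  rw [Subgroup.coe_pow]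
  exact cent13 c.1 c.2 (congrArg Subtype.val hcomm)

end Cfsg.Agent.Lib.Helper58.S8Elts
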