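import Mathlib
import Cfsg.Agent.Lib.Helper58.S8Elts
import Cfsg.Agent.Lib.Helper58.PGExtQ

/-!
# Split extensions of the automorphism group of `Sz(8)` with the prime graph of `PSp₆(3)`
-/

set_option autoImplicit false
set_option maxRecDepth 100000
set_option Elab.async false

namespace Cfsg.Agent.Lib.Helper58.S8Main

open Cfsg Matrix SemidirectProduct
open Cfsg.Agent.Lib.Helper89 Cfsg.Agent.Lib.Helper89.TableChain2
open Cfsg.Agent.Lib.Helper58.S8Field Cfsg.Agent.Lib.Helper58.S8Field.F8c
open Cfsg.Agent.Lib.Helper58.S8Data Cfsg.Agent.Lib.Helper58.FastChain Cfsg.Agent.Lib.Helper58.S8Group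
open Cfsg.Agent.Lib.Helper58.S8Chain Cfsg.Agent.Lib.Helper58.EvTools Cfsg.Agent.Lib.Helper58.S8Elts
open Cfsg.Agent.Lib.Helper58.PGExtQ

/-! ### the module -/

instance : DistribMulAction ↥As R where
  smul g M := Multiplicative.toAdd ((g : G) (Multiplicative.ofAdd M))
  one_smul _ := rfl
  mul_smul _ _ _ := rfl
  smul_zero g := by
    show Multiplicative.toAdd ((g : G) (Multiplicative.ofAdd 0)) = 0
    rw [ofAdd_zero, map_one]
    rfl
  smul_add g M M' := by
    show Multiplicative.toAdd ((g : G) (Multiplicative.ofAdd (M + M'))) =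
      Multiplicative.toAdd ((g : G) (Multiplicative.ofAdd M)) + Multiplicative.toAdd ((g : G) (Multiplicative.ofAdd M'))
    rw [ofAdd_add, map_mul]
    rfl

theorem smul_def' (g : ↥As) (M : R) : g • M = Multiplicative.toAdd ((g : G) • (Multiplicative.ofAdd M : MR)) := rfl

/-- the sum of `N + 1` copies of the module, written multiplicatively -/
abbrev W (N : ℕ) : Type := Multiplicative (Fin (N + 1) → R)

/-- the action of the group -/
def phi (N : ℕ) : ↥As →* MulAut (W N) := actHom (G := ↥As) (A := R) (N + 1)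

theorem phi_apply (N : ℕ) (g : ↥As) (v : W N) (i : Fin (N + 1)) :
    Multiplicative.toAdd (phi N g v) i = g • Multiplicative.toAdd v i := rfl

theorem W_sq (N : ℕ) (v : W N) : v ^ 2 = 1 := by
  apply Multiplicative.toAdd.injective
  rw [toAdd_pow, toAdd_one, two_nsmul]
  funext i
  exact add_self_R _

instance (N : ℕ) : Finite (W N) := Finite.of_equiv (Fin (N + 1) → R) Multiplicative.ofAdd

/-- the constant vector -/
def constW (N : ℕ) (M : R) : W N := Multiplicative.ofAdd fun _ => M

theorem constW_ne (N : ℕ) (M : R) (hM : (Multiplicative.ofAdd M : MR) ≠ 1) : constW N M ≠ 1 := by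
  intro h
  apply hM
  have := congrFun (congrArg Multiplicative.toAdd h) 0
  exact congrArg Multiplicative.ofAdd this

theorem constW_fix (N : ℕ) (g : ↥As) (M : R)
    (h : (g : G) • (Multiplicative.ofAdd M : MR) = Multiplicative.ofAdd M) : phi N g (constW N M) = constW N M := by
  apply Multiplicative.toAdd.injective
  funext i
  rw [phi_apply]
  show g • M = M
  rw [smul_def', h]
  rfl

theorem x13_fixW (N : ℕ) (v : W N) (hv : phi N x13 v = v) : v = 1 := by
  apply Multiplicative.toAdd.injective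
  funext i
  have h1 := congrArg (fun w : W N => Multiplicative.toAdd w i) hv
  have h2 : x13 • Multiplicative.toAdd v i = Multiplicative.toAdd v i := h1
  rw [smul_def'] at h2
  have h3 : D0.ev x13W • (Multiplicative.ofAdd (Multiplicative.toAdd v i) : MR) =
      Multiplicative.ofAdd (Multiplicative.toAdd v i) := congrArg Multiplicative.ofAdd h2
  have h4 := x13_fpf _ h3
  exact congrArg Multiplicative.toAdd h4

/-! ### arithmetic -/

theorem prime_dvd_card {r : ℕ} (hr : r.Prime) (h : r ∣ 87360) :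
    r = 2 ∨ r = 3 ∨ r = 5 ∨ r = 7 ∨ r = 13 := by
  have e : 87360 = 2 ^ 6 * 3 * 5 * 7 * 13 := by norm_num
  rw [e] at h
  rcases (Nat.Prime.dvd_mul hr).1 h with h | h
  · rcases (Nat.Prime.dvd_mul hr).1 h with h | h
    · rcases (Nat.Prime.dvd_mul hr).1 h with h | h
      · rcases (Nat.Prime.dvd_mul hr).1 h with h | h
        · exact Or.inl ((Nat.prime_dvd_prime_iff_eq hr Nat.prime_two).1 (hr.dvd_of_dvd_pow h))
        · exact Or.inr (Or.inl ((Nat.prime_dvd_prime_iff_eq hr Nat.prime_three).1 h))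
      · exact Or.inr (Or.inr (Or.inl ((Nat.prime_dvd_prime_iff_eq hr Nat.prime_five).1 h)))
    · exact Or.inr (Or.inr (Or.inr (Or.inl ((Nat.prime_dvd_prime_iff_eq hr (by norm_num)).1 h))))
  · exact Or.inr (Or.inr (Or.inr (Or.inr ((Nat.prime_dvd_prime_iff_eq hr (by norm_num)).1 h))))

/-! ### no elements of certain orders in the group -/

theorem no7 (r : ℕ) (hr : r = 3 ∨ r = 5 ∨ r = 13) : ∀ g : ↥As, orderOf g ≠ 7 * r := by
  intro g hg
  have : Fact (Nat.Prime 7) := ⟨by norm_num⟩
  have h := dvd_of_cent_pow 7 x7 orderOf_x7 (by rw [card_As]; norm_num) 7 cent7' g r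
    (by rcases hr with rfl | rfl | rfl <;> norm_num) hg
  rcases hr with rfl | rfl | rfl <;> omega

theorem no13 (r : ℕ) (hr : r = 2 ∨ r = 3 ∨ r = 5 ∨ r = 7) : ∀ g : ↥As, orderOf g ≠ 13 * r := by
  intro g hg
  have : Fact (Nat.Prime 13) := ⟨by norm_num⟩
  have h := dvd_of_cent_pow 13 x13 orderOf_x13 (by rw [card_As]; norm_num) 13 cent13' g r
    (by rcases hr with rfl | rfl | rfl | rfl <;> norm_num) hg
  rcases hr with rfl | rfl | rfl | rfl <;> omega

/-! ### the prime graph of the extension -/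

theorem card_ext_dvd (N : ℕ) (p : ℕ) (hp : p.Prime) :
    p ∣ Nat.card (W N ⋊[phi N] ↥As) ↔ p = 2 ∨ p = 3 ∨ p = 5 ∨ p = 7 ∨ p = 13 := by
  rw [SemidirectProduct.card, card_As]
  constructor
  · intro h
    have hpV : IsPGroup 2 (W N) := by
      intro v
      exact ⟨1, by simpa using W_sq N v⟩
    obtain ⟨n, hn⟩ := IsPGroup.iff_card.mp hpV
    rw [hn] at h
    rcases (Nat.Prime.dvd_mul hp).mp h with h' | h'
    · left
      exact (Nat.prime_dvd_prime_iff_eq hp Nat.prime_two).mp (hp.dvd_of_dvd_pow h')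
    · exact prime_dvd_card hp h'
  · intro h
    apply Dvd.dvd.mul_left
    rcases h with rfl | rfl | rfl | rfl | rfl <;> norm_num

theorem graph_ext (N : ℕ) : IsGraphS63 (W N ⋊[phi N] ↥As) := by
  have hfin := Cfsg.Agent.Lib.Helper60.finite_semidirect (phi N)
  apply isGraphS63_of (card_ext_dvd N)
  · refine ⟨inr x6, ?_⟩
    rw [orderOf_injective (inr : ↥As →* W N ⋊[phi N] ↥As) inr_injective x6, orderOf_x6]
  · have := exists_order_of_fixed (phi N) 2 5 Nat.prime_two Nat.prime_five (by norm_num) (W_sq N) x5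
      orderOf_x5 (constW N (vecOf fix5C)) (constW_ne N _ fix5.2) (constW_fix N x5 _ fix5.1)
    simpa using this
  · refine ⟨inr x15, ?_⟩
    rw [orderOf_injective (inr : ↥As →* W N ⋊[phi N] ↥As) inr_injective x15, orderOf_x15]
  · have := exists_order_of_fixed (phi N) 2 7 Nat.prime_two (by norm_num) (by norm_num) (W_sq N) x7
      orderOf_x7 (constW N (vecOf fix7C)) (constW_ne N _ fix7.2) (constW_fix N x7 _ fix7.1)
    simpa using this
  · rintro r hr ⟨h, hh⟩
    have h7 : Nat.Prime 7 := by norm_num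
    have hrp : r.Prime := by rcases hr with rfl | rfl | rfl <;> norm_num
    have hne : 7 ≠ r := by rcases hr with rfl | rfl | rfl <;> norm_num
    rcases right_order_cases (phi N) 2 Nat.prime_two (W_sq N) 7 r h7 hrp hne h hh (no7 r hr) with
      ⟨h1, _⟩ | ⟨h1, _⟩
    · omega
    · rcases hr with rfl | rfl | rfl <;> omega
  · rintro r hr ⟨h, hh⟩
    have h13 : Nat.Prime 13 := by norm_num
    have hrp : r.Prime := by rcases hr with rfl | rfl | rfl | rfl <;> norm_num
    have hne : 13 ≠ r := by rcases hr with rfl | rfl | rfl | rfl <;> norm_num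
    rcases right_order_cases (phi N) 2 Nat.prime_two (W_sq N) 13 r h13 hrp hne h hh (no13 r hr) with
      ⟨h1, _⟩ | ⟨h1, h2⟩
    · omega
    · subst h1
      have : Fact (Nat.Prime 13) := ⟨by norm_num⟩
      rw [mul_comm] at hh
      exact PGExtP.no_p_mul (phi N) h 2 13 Nat.prime_two hh h13 h2
        (fun v hv => fpf_of_conj (phi N) 13 x13 orderOf_x13 (by rw [card_As]; norm_num) (x13_fixW N)
          h.right h2 v hv)

theorem card_ext (N : ℕ) : N < Nat.card (W N ⋊[phi N] ↥As) := by
  rw [SemidirectProduct.card]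
  have h1 : N < 2 ^ N := Nat.lt_two_pow_self
  have hW : 2 ^ N ≤ Nat.card (W N) := by
    rw [Nat.card_congr (Multiplicative.toAdd : W N ≃ (Fin (N + 1) → R)), Nat.card_fun, Nat.card_fin]
    have h2 : 2 ≤ Nat.card R := by
      have : Nontrivial R := ⟨⟨0, vecOf fix5C, fun h => fix5.2 (by rw [← h]; rfl)⟩⟩
      exact Finite.one_lt_card
    calc 2 ^ N ≤ 2 ^ (N + 1) := Nat.pow_le_pow_right (by norm_num) (Nat.le_succ N)
      _ ≤ Nat.card R ^ (N + 1) := Nat.pow_le_pow_left h2 _
  have h3 : 0 < Nat.card ↥As := Nat.card_pos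
  calc N < Nat.card (W N) := lt_of_lt_of_le h1 hW
    _ ≤ Nat.card (W N) * Nat.card ↥As := Nat.le_mul_of_pos_right _ h3

end Cfsg.Agent.Lib.Helper58.S8Main
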