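import Mathlib
import Cfsg.Prelude.Def_Classical

/-!
# The special unitary groups over isomorphic fields are isomorphic
-/

set_option autoImplicit false

namespace Cfsg.Agent.Lib.Helper58.SUTransfer

open Matrix

variable {F K : Type*} [Field F] [Field K]

theorem map_coe (n : ℕ) (e : F ≃+* K) (A : SpecialLinearGroup (Fin n) F) (i j : Fin n) :
    (SpecialLinearGroup.map e.toRingHom A).1 i j = e (A.1 i j) := rfl

/-- the special linear groups over isomorphic fields -/
def slEquiv (n : ℕ) (e : F ≃+* K) : SpecialLinearGroup (Fin n) F ≃* SpecialLinearGroup (Fin n) K where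
  toFun := SpecialLinearGroup.map e.toRingHom
  invFun := SpecialLinearGroup.map e.symm.toRingHom
  left_inv A := by
    apply Subtype.ext
    ext i j
    show e.symm (e (A.1 i j)) = A.1 i j
    simp
  right_inv A := by
    apply Subtype.ext
    ext i j
    show e (e.symm (A.1 i j)) = A.1 i j
    simp
  map_mul' A B := map_mul _ A B

theorem slEquiv_coe (n : ℕ) (e : F ≃+* K) (A : SpecialLinearGroup (Fin n) F) (i j : Fin n) :
    (slEquiv n e A).1 i j = e (A.1 i j) := rfl

theorem herm_map (n q : ℕ) (e : F ≃+* K) (u v : Fin n → F) :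
    Cfsg.hermForm n K q (fun i => e (u i)) (fun i => e (v i)) = e (Cfsg.hermForm n F q u v) := by
  unfold Cfsg.hermForm
  rw [map_sum]
  apply Finset.sum_congr rfl
  intro i _
  rw [map_mul, map_pow]

theorem mulVec_map (n : ℕ) (e : F ≃+* K) (A : SpecialLinearGroup (Fin n) F) (u : Fin n → F) :
    (slEquiv n e A).1.mulVec (fun i => e (u i)) = fun i => e (A.1.mulVec u i) := by
  funext i
  show ∑ j, (slEquiv n e A).1 i j * e (u j) = e (∑ j, A.1 i j * u j)
  rw [map_sum]
  apply Finset.sum_congr rfl
  intro j _
  rw [slEquiv_coe, map_mul]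

theorem mem_SU_map (n q : ℕ) (e : F ≃+* K) (A : SpecialLinearGroup (Fin n) F)
    (hA : A ∈ Cfsg.SU n F q) : slEquiv n e A ∈ Cfsg.SU n K q := by
  intro u v
  have hu : u = fun i => e (e.symm (u i)) := by funext i; simp
  have hv : v = fun i => e (e.symm (v i)) := by funext i; simp
  have h := hA (fun i => e.symm (u i)) (fun i => e.symm (v i))
  show Cfsg.hermForm n K q ((slEquiv n e A).1.mulVec u) ((slEquiv n e A).1.mulVec v) =
    Cfsg.hermForm n K q u v
  rw [hu, hv, mulVec_map, mulVec_map, herm_map, herm_map]
  exact congrArg e h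

/-- the special unitary groups over isomorphic fields -/
def suEquiv (n q : ℕ) (e : F ≃+* K) : ↥(Cfsg.SU n F q) ≃* ↥(Cfsg.SU n K q) where
  toFun A := ⟨slEquiv n e A.1, mem_SU_map n q e A.1 A.2⟩
  invFun A := ⟨slEquiv n e.symm A.1, mem_SU_map n q e.symm A.1 A.2⟩
  left_inv A := by
    apply Subtype.ext
    exact (slEquiv n e).left_inv A.1
  right_inv A := by
    apply Subtype.ext
    exact (slEquiv n e).right_inv A.1
  map_mul' A B := by
    apply Subtype.ext
    exact map_mul (slEquiv n e) A.1 B.1

/-- a group with trivial centre is its own central quotient -/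
noncomputable def quotCenterEquiv {G : Type*} [Group G] (h : Subgroup.center G = ⊥) :
    G ⧸ Subgroup.center G ≃* G :=
  (QuotientGroup.quotientMulEquivOfEq h).trans QuotientGroup.quotientBot

theorem center_eq_bot_of_equiv {G G' : Type*} [Group G] [Group G'] (e : G ≃* G')
    (h : Subgroup.center G' = ⊥) : Subgroup.center G = ⊥ := by
  rw [eq_bot_iff]
  intro z hz
  rw [Subgroup.mem_bot]
  have : e z ∈ Subgroup.center G' := by
    rw [Subgroup.mem_center_iff]
    intro y
    obtain ⟨x, rfl⟩ := e.surjective y
    rw [← map_mul, ← map_mul, Subgroup.mem_center_iff.1 hz x]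
  rw [h, Subgroup.mem_bot] at this
  exact e.injective (this.trans (map_one e).symm)

/-- the projective special unitary group over a field isomorphic to one where the special unitary group has
trivial centre -/
noncomputable def psuEquiv (n q : ℕ) (e : F ≃+* K) (h : Subgroup.center ↥(Cfsg.SU n K q) = ⊥) :
    Cfsg.PSU n F q ≃* ↥(Cfsg.SU n K q) :=
  (quotCenterEquiv (center_eq_bot_of_equiv (suEquiv n q e) h)).trans (suEquiv n q e)

end Cfsg.Agent.Lib.Helper58.SUTransfer
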