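import Mathlib

/-!
# Six by six matrices over the field with three elements, coded in natural numbers

A matrix is coded by the natural number whose digits in base three are its entries; products, transposes and
linear combinations are computed on the codes, by arithmetic of natural numbers only.
-/

set_option autoImplicit false

namespace Cfsg.Agent.Lib.Helper58.Sp63Code

open Matrix

/-- the field -/
abbrev K3 : Type := ZMod 3

/-- the indices -/
abbrev I6 : Type := Fin 3 ⊕ Fin 3

/-- the matrices -/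
abbrev M6 : Type := Matrix I6 I6 K3

/-- evaluate a natural number before it is used -/
def force {α : Type} (n : ℕ) (f : ℕ → α) : α :=
  Nat.rec (motive := fun _ => α) (f 0) (fun m _ => f (Nat.succ m)) n

theorem force_eq {α : Type} (n : ℕ) (f : ℕ → α) : force n f = f n := by
  cases n <;> rfl

/-- a digit in base three -/
def dig (c n : ℕ) : ℕ := Nat.mod (Nat.div c (Nat.pow 3 n)) 3

theorem dig_def (c n : ℕ) : dig c n = c / 3 ^ n % 3 := rfl

theorem dig_lt (c n : ℕ) : dig c n < 3 := Nat.mod_lt _ (by norm_num)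

/-- the number with given digits -/
def buildN (f : ℕ → ℕ) (m : ℕ) : ℕ :=
  Nat.rec (motive := fun _ => ℕ) 0 (fun i r => Nat.add r (Nat.mul (Nat.mod (f i) 3) (Nat.pow 3 i))) m

theorem buildN_succ (f : ℕ → ℕ) (m : ℕ) : buildN f (m + 1) = buildN f m + f m % 3 * 3 ^ m := rfl

theorem buildN_lt (f : ℕ → ℕ) (m : ℕ) : buildN f m < 3 ^ m := by
  induction m with
  | zero => simp [buildN]
  | succ m ih =>
    rw [buildN_succ, pow_succ]
    have := Nat.mod_lt (f m) (show 0 < 3 by norm_num)
    nlinarith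

theorem dig_buildN (f : ℕ → ℕ) (m n : ℕ) (h : n < m) : dig (buildN f m) n = f n % 3 := by
  induction m with
  | zero => omega
  | succ m ih =>
    rw [buildN_succ, dig_def]
    rcases Nat.lt_succ_iff_lt_or_eq.1 h with h1 | h1
    · have e : 3 ^ m = 3 ^ n * (3 * 3 ^ (m - n - 1)) := by
        rw [← pow_succ', ← pow_add]
        congr 1
        omega
      rw [e, ← mul_assoc, mul_comm (f m % 3), mul_assoc, Nat.add_mul_div_left _ _ (by positivity),
        mul_comm (f m % 3), mul_assoc, Nat.add_mul_mod_self_left]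
      exact ih h1
    · subst h1
      rw [Nat.add_mul_div_right _ _ (by positivity), Nat.div_eq_of_lt (buildN_lt f n), zero_add, Nat.mod_mod]

theorem buildN_congr (f g : ℕ → ℕ) (m : ℕ) (h : ∀ n, n < m → f n % 3 = g n % 3) : buildN f m = buildN g m := by
  induction m with
  | zero => rfl
  | succ m ih =>
    rw [buildN_succ, buildN_succ, ih (fun n hn => h n (by omega)), h m (by omega)]

/-- an entry -/
def ent (a i j : ℕ) : ℕ := dig a (Nat.add (Nat.mul 6 i) j)

/-- the code with given entries -/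
def build6 (g : ℕ → ℕ → ℕ) : ℕ := buildN (fun n => g (Nat.div n 6) (Nat.mod n 6)) 36

theorem ent_build6 (g : ℕ → ℕ → ℕ) (i j : ℕ) (hi : i < 6) (hj : j < 6) : ent (build6 g) i j = g i j % 3 := by
  unfold ent build6
  rw [dig_buildN _ _ _ (show Nat.add (Nat.mul 6 i) j < 36 by show 6 * i + j < 36; omega)]
  have h1 : Nat.div (Nat.add (Nat.mul 6 i) j) 6 = i := by
    show (6 * i + j) / 6 = i
    omega
  have h2 : Nat.mod (Nat.add (Nat.mul 6 i) j) 6 = j := by
    show (6 * i + j) % 6 = j
    omega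
  rw [h1, h2]

/-- the position of an index -/
def pos : I6 → ℕ
  | Sum.inl a => a.val
  | Sum.inr a => Nat.add 3 a.val

theorem pos_lt (i : I6) : pos i < 6 := by
  rcases i with a | a
  · show a.val < 6
    omega
  · show 3 + a.val < 6
    omega

/-- the index at a position -/
def idx : ℕ → I6
  | 0 => Sum.inl 0
  | 1 => Sum.inl 1
  | 2 => Sum.inl 2
  | 3 => Sum.inr 0
  | 4 => Sum.inr 1
  | _ => Sum.inr 2

theorem pos_idx (k : ℕ) (hk : k < 6) : pos (idx k) = k := by
  interval_cases k <;> rfl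

/-- the matrix with a given code -/
def vec6 (c : ℕ) : M6 := Matrix.of fun i j => ((ent c (pos i) (pos j) : ℕ) : K3)

theorem vec6_apply (c : ℕ) (i j : I6) : vec6 c i j = ((ent c (pos i) (pos j) : ℕ) : K3) := rfl

theorem vec6_build6 (g : ℕ → ℕ → ℕ) (i j : I6) : vec6 (build6 g) i j = ((g (pos i) (pos j) : ℕ) : K3) := by
  rw [vec6_apply, ent_build6 g _ _ (pos_lt i) (pos_lt j), ZMod.natCast_mod]

theorem sum_I6 (g : I6 → K3) :
    ∑ k, g k = g (Sum.inl 0) + g (Sum.inl 1) + g (Sum.inl 2) + g (Sum.inr 0) + g (Sum.inr 1) + g (Sum.inr 2) := by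
  rw [Fintype.sum_sum_type, Fin.sum_univ_three, Fin.sum_univ_three]
  ring

/-! ### the operations -/

/-- an entry of the product -/
def mulE (a b i j : ℕ) : ℕ :=
  Nat.add (Nat.add (Nat.add (Nat.add (Nat.add (Nat.mul (ent a i 0) (ent b 0 j)) (Nat.mul (ent a i 1) (ent b 1 j)))
    (Nat.mul (ent a i 2) (ent b 2 j))) (Nat.mul (ent a i 3) (ent b 3 j))) (Nat.mul (ent a i 4) (ent b 4 j)))
    (Nat.mul (ent a i 5) (ent b 5 j))

/-- the product -/
def mulC (a b : ℕ) : ℕ := force a fun a => force b fun b => build6 (mulE a b)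

theorem vec6_mulC (a b : ℕ) : vec6 (mulC a b) = vec6 a * vec6 b := by
  ext i j
  unfold mulC
  rw [force_eq, force_eq, vec6_build6, Matrix.mul_apply, sum_I6]
  simp only [vec6_apply, mulE]
  show (((ent a (pos i) 0 * ent b 0 (pos j) + ent a (pos i) 1 * ent b 1 (pos j) + ent a (pos i) 2 * ent b 2 (pos j) +
    ent a (pos i) 3 * ent b 3 (pos j) + ent a (pos i) 4 * ent b 4 (pos j) + ent a (pos i) 5 * ent b 5 (pos j) : ℕ)) : K3) = _
  push_cast
  rfl

/-- the transpose -/
def trC (a : ℕ) : ℕ := force a fun a => build6 fun i j => ent a j i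

theorem vec6_trC (a : ℕ) : vec6 (trC a) = (vec6 a)ᵀ := by
  ext i j
  unfold trC
  rw [force_eq, vec6_build6]
  rfl

/-- the code with the same matrix and digits for the entries only -/
def canonC (a : ℕ) : ℕ := force a fun a => build6 (ent a)

theorem vec6_canonC (a : ℕ) : vec6 (canonC a) = vec6 a := by
  ext i j
  unfold canonC
  rw [force_eq, vec6_build6]
  rfl

theorem canonC_congr (a b : ℕ) (h : vec6 a = vec6 b) : canonC a = canonC b := by
  unfold canonC
  rw [force_eq, force_eq]
  unfold build6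
  apply buildN_congr
  intro n hn
  have h1 : n / 6 < 6 := by omega
  have h2 : n % 6 < 6 := by omega
  have h3 := congrFun (congrFun h (idx (n / 6))) (idx (n % 6))
  rw [vec6_apply, vec6_apply, pos_idx _ h1, pos_idx _ h2] at h3
  exact (ZMod.natCast_eq_natCast_iff' _ _ 3).1 h3

/-- the identity -/
def oneC : ℕ := build6 fun i j => if i = j then 1 else 0

/-- minus the identity -/
def negC : ℕ := build6 fun i j => if i = j then 2 else 0

/-- the form -/
def jC : ℕ := build6 fun i j => if Nat.add i 3 = j then 2 else if Nat.add j 3 = i then 1 else 0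

theorem vec6_oneC : vec6 oneC = 1 := by
  ext i j
  unfold oneC
  rw [vec6_build6]
  rcases i with i | i <;> rcases j with j | j <;> fin_cases i <;> fin_cases j <;> rfl

theorem vec6_negC : vec6 negC = -1 := by
  ext i j
  unfold negC
  rw [vec6_build6]
  rcases i with i | i <;> rcases j with j | j <;> fin_cases i <;> fin_cases j <;> rfl

theorem vec6_jC : vec6 jC = J (Fin 3) K3 := by
  ext i j
  unfold jC
  rw [vec6_build6]
  rcases i with i | i <;> rcases j with j | j <;> fin_cases i <;> fin_cases j <;> rfl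

/-- powers -/
def powC (a n : ℕ) : ℕ := force a fun a => Nat.rec (motive := fun _ => ℕ) oneC (fun _ r => mulC r a) n

theorem powC_zero (a : ℕ) : powC a 0 = oneC := by
  unfold powC
  rw [force_eq]
  rfl

theorem powC_succ (a n : ℕ) : powC a (n + 1) = mulC (powC a n) a := by
  unfold powC
  rw [force_eq, force_eq]

theorem vec6_powC (a n : ℕ) : vec6 (powC a n) = vec6 a ^ n := by
  induction n with
  | zero => rw [powC_zero, vec6_oneC, pow_zero]
  | succ n ih => rw [powC_succ, vec6_mulC, ih, pow_succ]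

theorem canon_oneC : canonC oneC = oneC := by decide +kernel

theorem canon_negC : canonC negC = negC := by decide +kernel

theorem canon_jC : canonC jC = jC := by decide +kernel

/-- the test for plus or minus the identity -/
def isPM (c : ℕ) : Bool := force (canonC c) fun d => Nat.beq d oneC || Nat.beq d negC

theorem isPM_iff (c : ℕ) : isPM c = true ↔ (vec6 c = 1 ∨ vec6 c = -1) := by
  unfold isPM
  rw [force_eq, Bool.or_eq_true]
  constructor
  · rintro (h | h)
    · left
      rw [← vec6_canonC, Nat.eq_of_beq_eq_true h, vec6_oneC]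
    · right
      rw [← vec6_canonC, Nat.eq_of_beq_eq_true h, vec6_negC]
  · rintro (h | h)
    · left
      rw [← vec6_oneC] at h
      rw [canonC_congr _ _ h, canon_oneC]
      exact Nat.beq_refl _
    · right
      rw [← vec6_negC] at h
      rw [canonC_congr _ _ h, canon_negC]
      exact Nat.beq_refl _

/-- the test for the symplectic group -/
def sympB (c : ℕ) : Bool := force c fun c => Nat.beq (canonC (mulC (mulC c jC) (trC c))) jC

theorem sympB_iff (c : ℕ) : sympB c = true ↔ vec6 c ∈ symplecticGroup (Fin 3) K3 := by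
  unfold sympB
  rw [force_eq, SymplecticGroup.mem_iff, ← vec6_jC, ← vec6_trC, ← vec6_mulC, ← vec6_mulC]
  constructor
  · intro h
    rw [← vec6_canonC, Nat.eq_of_beq_eq_true h]
  · intro h
    rw [canonC_congr _ _ h, canon_jC]
    exact Nat.beq_refl _

/-- a linear combination of six matrices -/
def linC (ps : ℕ → ℕ) (t0 t1 t2 t3 t4 t5 : ℕ) : ℕ :=
  build6 fun i j => Nat.add (Nat.add (Nat.add (Nat.add (Nat.add (Nat.mul t0 (ent (ps 0) i j)) (Nat.mul t1 (ent (ps 1) i j)))
    (Nat.mul t2 (ent (ps 2) i j))) (Nat.mul t3 (ent (ps 3) i j))) (Nat.mul t4 (ent (ps 4) i j)))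
    (Nat.mul t5 (ent (ps 5) i j))

theorem vec6_linC (ps : ℕ → ℕ) (t0 t1 t2 t3 t4 t5 : ℕ) :
    vec6 (linC ps t0 t1 t2 t3 t4 t5) = (t0 : K3) • vec6 (ps 0) + (t1 : K3) • vec6 (ps 1) + (t2 : K3) • vec6 (ps 2) +
      (t3 : K3) • vec6 (ps 3) + (t4 : K3) • vec6 (ps 4) + (t5 : K3) • vec6 (ps 5) := by
  ext i j
  unfold linC
  rw [vec6_build6]
  show (((t0 * ent (ps 0) (pos i) (pos j) + t1 * ent (ps 1) (pos i) (pos j) + t2 * ent (ps 2) (pos i) (pos j) +
    t3 * ent (ps 3) (pos i) (pos j) + t4 * ent (ps 4) (pos i) (pos j) + t5 * ent (ps 5) (pos i) (pos j) : ℕ)) : K3) = _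
  push_cast
  simp only [Matrix.add_apply, Matrix.smul_apply, vec6_apply, smul_eq_mul]

/-- the matrix whose columns are the first columns (at position `j0`) of the six matrices -/
def colC (ps : ℕ → ℕ) (j0 : ℕ) : ℕ := build6 fun i m => ent (ps m) i j0

theorem vec6_colC (ps : ℕ → ℕ) (j0 : ℕ) (l m : I6) :
    vec6 (colC ps j0) l m = ((ent (ps (pos m)) (pos l) j0 : ℕ) : K3) := by
  unfold colC
  rw [vec6_build6]

/-! ### the enumeration -/

/-- a test on the three digits -/
def all3 (p : ℕ → Bool) : Bool := p 0 && (p 1 && p 2)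

theorem all3_sound (p : ℕ → Bool) (h : all3 p = true) (t : ℕ) (ht : t < 3) : p t = true := by
  unfold all3 at h
  rw [Bool.and_eq_true, Bool.and_eq_true] at h
  interval_cases t
  · exact h.1
  · exact h.2.1
  · exact h.2.2

/-- a symplectic combination has a power that is plus or minus the identity -/
def okC (ps : ℕ → ℕ) (e t0 t1 t2 t3 t4 t5 : ℕ) : Bool :=
  force (linC ps t0 t1 t2 t3 t4 t5) fun m => !(sympB m) || isPM (powC m e)

/-- the same for all combinations -/
def enumB (ps : ℕ → ℕ) (e : ℕ) : Bool :=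
  all3 fun t0 => all3 fun t1 => all3 fun t2 => all3 fun t3 => all3 fun t4 => all3 fun t5 => okC ps e t0 t1 t2 t3 t4 t5

theorem enumB_sound (ps : ℕ → ℕ) (e : ℕ) (h : enumB ps e = true) (t0 t1 t2 t3 t4 t5 : ℕ) (h0 : t0 < 3) (h1 : t1 < 3)
    (h2 : t2 < 3) (h3 : t3 < 3) (h4 : t4 < 3) (h5 : t5 < 3)
    (hs : vec6 (linC ps t0 t1 t2 t3 t4 t5) ∈ symplecticGroup (Fin 3) K3) :
    vec6 (linC ps t0 t1 t2 t3 t4 t5) ^ e = 1 ∨ vec6 (linC ps t0 t1 t2 t3 t4 t5) ^ e = -1 := by
  have hk := all3_sound _ (all3_sound _ (all3_sound _ (all3_sound _ (all3_sound _ (all3_sound _ h t0 h0) t1 h1) t2 h2)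
    t3 h3) t4 h4) t5 h5
  unfold okC at hk
  rw [force_eq, Bool.or_eq_true] at hk
  rcases hk with hk | hk
  · rw [← sympB_iff] at hs
    rw [hs] at hk
    exact absurd hk (by decide)
  · rw [isPM_iff, vec6_powC] at hk
    exact hk

end Cfsg.Agent.Lib.Helper58.Sp63Code
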