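import Mathlib
import Cfsg.Prelude.Def_Classical
import Cfsg.Agent.Lib.Helper58.Sp63Code
import Cfsg.Agent.Lib.Helper58.PGExtQ
import Cfsg.Agent.Lib.Helper5.SympCard
import Cfsg.Agent.Lib.Helper5.SympCenter

/-!
# The prime graph of `PSp₆(3)`

Vertices 2, 3, 5, 7, 13 and edges 2-3, 2-5, 3-5, 2-7: explicit elements of the orders 6, 10, 15, 14, and the
centralisers of an element of order 7 and of an element of order 13, both with a cyclic vector, so that the
centraliser in the matrix algebra consists of the polynomials in the element.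
-/

set_option autoImplicit false
set_option maxRecDepth 100000
set_option Elab.async false

namespace Cfsg.Agent.Lib.Helper58.Sp63

open Matrix
open Cfsg.Agent.Lib.Helper58.Sp63Code Cfsg.Agent.Lib.Helper58.PGExtQ

/-- the symplectic group -/
abbrev Sp : Type := symplecticGroup (Fin 3) K3

/-- the simple group -/
abbrev L : Type := Cfsg.PSp 3 K3

/-! ### matrices commuting with a matrix that has a cyclic vector -/

theorem cent_poly (X C Bi : M6) (j0 : I6) (hB : (Matrix.of fun l m => (X ^ pos m) l j0 : M6) * Bi = 1)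
    (hcomm : C * X = X * C) : C = ∑ m : I6, (Bi *ᵥ fun t => C t j0) m • X ^ pos m := by
  set B : M6 := Matrix.of fun l m => (X ^ pos m) l j0 with hBdef
  set a : I6 → K3 := Bi *ᵥ fun t => C t j0 with ha
  set P : M6 := ∑ m : I6, a m • X ^ pos m with hP
  have hPc : P * X = X * P := by
    rw [hP, Finset.sum_mul, Finset.mul_sum]
    apply Finset.sum_congr rfl
    intro m _
    rw [Matrix.smul_mul, Matrix.mul_smul, ← pow_succ, ← pow_succ']
  have hcol : ∀ l, C l j0 = P l j0 := by
    intro l
    have h1 : B *ᵥ a = fun t => C t j0 := by rw [ha, Matrix.mulVec_mulVec, hB, Matrix.one_mulVec]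
    have h2 : P l j0 = (B *ᵥ a) l := by
      rw [hP, Matrix.sum_apply]
      simp only [Matrix.smul_apply, smul_eq_mul, Matrix.mulVec, dotProduct, hBdef, Matrix.of_apply]
      exact Finset.sum_congr rfl (fun m _ => mul_comm _ _)
    rw [h2, h1]
  have hDc : Commute (C - P) X := by
    show (C - P) * X = X * (C - P)
    rw [Matrix.sub_mul, Matrix.mul_sub, hcomm, hPc]
  have hD0 : ∀ l, (C - P) l j0 = 0 := by
    intro l
    rw [Matrix.sub_apply, hcol l, sub_self]
  have hDB : (C - P) * B = 0 := by
    ext i m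
    have h1 : ((C - P) * B) i m = ((C - P) * X ^ pos m) i j0 := by
      rw [Matrix.mul_apply, Matrix.mul_apply]
      rfl
    rw [h1, (hDc.pow_right (pos m)).eq, Matrix.mul_apply]
    simp [hD0]
  have hD : C - P = 0 := by
    calc C - P = (C - P) * (B * Bi) := by rw [hB, Matrix.mul_one]
      _ = ((C - P) * B) * Bi := (Matrix.mul_assoc _ _ _).symm
      _ = 0 := by rw [hDB, Matrix.zero_mul]
  exact sub_eq_zero.1 hD

/-- a matrix that anticommutes with a matrix of odd order is zero -/
theorem anticomm_zero (C X : M6) (n : ℕ) (hn : Odd n) (hX : X ^ n = 1) (h : C * X = -(X * C)) : C = 0 := by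
  have hk : ∀ k : ℕ, C * X ^ k = (-1 : K3) ^ k • (X ^ k * C) := by
    intro k
    induction k with
    | zero => simp
    | succ k ih =>
      rw [pow_succ, ← Matrix.mul_assoc, ih, Matrix.smul_mul, Matrix.mul_assoc, h, Matrix.mul_neg, ← Matrix.mul_assoc,
        pow_succ (-1 : K3), mul_smul]
      simp
  have h1 := hk n
  rw [hX, Matrix.mul_one, Matrix.one_mul, hn.neg_one_pow, neg_one_smul] at h1
  have h2 : C + C = 0 := by
    nth_rewrite 2 [h1]
    exact add_neg_cancel C
  have h3 : (2 : K3) • C = 0 := by rw [two_smul, h2]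
  have h4 : (2 : K3) • ((2 : K3) • C) = C := by
    rw [smul_smul]
    have : (2 : K3) * 2 = 1 := by decide
    rw [this, one_smul]
  rw [← h4, h3, smul_zero]

/-! ### the group -/

/-- the element with a given code -/
def spOf (c : ℕ) (h : sympB c = true) : Sp := ⟨vec6 c, (sympB_iff c).1 h⟩

/-- its image in the simple group -/
def lOf (c : ℕ) (h : sympB c = true) : L := QuotientGroup.mk (spOf c h)

theorem mk_pow_eq_one_iff (g : Sp) (n : ℕ) :
    (QuotientGroup.mk g : L) ^ n = 1 ↔ ((g : M6) ^ n = 1 ∨ (g : M6) ^ n = -1) := by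
  rw [← QuotientGroup.mk_pow, QuotientGroup.eq_one_iff, Cfsg.Agent.Lib.Helper5.mem_center_symplecticGroup_iff,
    SubmonoidClass.coe_pow]

theorem lOf_pow (c : ℕ) (h : sympB c = true) (n : ℕ) : lOf c h ^ n = 1 ↔ isPM (powC c n) = true := by
  unfold lOf
  rw [mk_pow_eq_one_iff, isPM_iff, vec6_powC]
  rfl

theorem orderOf_lOf (c : ℕ) (h : sympB c = true) (n : ℕ) (hn : 0 < n) (h1 : isPM (powC c n) = true)
    (h2 : ∀ m, m < n → 0 < m → isPM (powC c m) = false) : orderOf (lOf c h) = n := by
  rw [orderOf_eq_iff hn]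
  refine ⟨(lOf_pow c h n).2 h1, fun m hm hm0 hcon => ?_⟩
  have := (lOf_pow c h m).1 hcon
  rw [h2 m hm hm0] at this
  exact absurd this (by decide)

theorem symp_ne_zero (C : M6) (hC : C ∈ symplecticGroup (Fin 3) K3) : C ≠ 0 := by
  intro h0
  rw [SymplecticGroup.mem_iff, h0, Matrix.zero_mul, Matrix.zero_mul] at hC
  have := congrFun (congrFun hC (Sum.inl 0)) (Sum.inr 0)
  revert this
  simp [Matrix.J]

/-- the centraliser of an element of odd order with a cyclic vector at the first index -/
theorem cent_psp (xC : ℕ) (hx : sympB xC = true) (ps : ℕ → ℕ) (hps : ∀ k, k < 6 → powC xC k = ps k) (biC : ℕ)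
    (hcyc : mulC (colC ps 0) biC = oneC) (n : ℕ) (hodd : Odd n) (hxn : powC xC n = oneC) (e : ℕ)
    (henum : enumB ps e = true) (c : L) (hc : c * lOf xC hx = lOf xC hx * c) : c ^ e = 1 := by
  obtain ⟨c', rfl⟩ := QuotientGroup.mk_surjective c
  have hXpow : ∀ k, k < 6 → vec6 xC ^ k = vec6 (ps k) := by
    intro k hk
    rw [← vec6_powC, hps k hk]
  have hXn : vec6 xC ^ n = 1 := by rw [← vec6_powC, hxn, vec6_oneC]
  -- the relation in the symplectic group
  have hz : (c' * spOf xC hx)⁻¹ * (spOf xC hx * c') ∈ Subgroup.center Sp := by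
    unfold lOf at hc
    rw [← QuotientGroup.mk_mul, ← QuotientGroup.mk_mul, QuotientGroup.eq] at hc
    exact hc
  have hrel : spOf xC hx * c' = (c' * spOf xC hx) * ((c' * spOf xC hx)⁻¹ * (spOf xC hx * c')) := by group
  have hrelM : vec6 xC * (c' : M6) = (c' : M6) * vec6 xC *
      (((c' * spOf xC hx)⁻¹ * (spOf xC hx * c') : Sp) : M6) := by
    have := congrArg (fun g : Sp => (g : M6)) hrel
    exact this
  rw [Cfsg.Agent.Lib.Helper5.mem_center_symplecticGroup_iff] at hz
  have hcomm : (c' : M6) * vec6 xC = vec6 xC * (c' : M6) := by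
    rcases hz with hz | hz
    · rw [hz, Matrix.mul_one] at hrelM
      exact hrelM.symm
    · rw [hz, Matrix.mul_neg, Matrix.mul_one] at hrelM
      exfalso
      apply symp_ne_zero (c' : M6) c'.2
      apply anticomm_zero (c' : M6) (vec6 xC) n hodd hXn
      rw [hrelM, neg_neg]
  -- the cyclic vector
  have hB : (Matrix.of fun l m => (vec6 xC ^ pos m) l (Sum.inl 0) : M6) * vec6 biC = 1 := by
    rw [← vec6_oneC, ← hcyc, vec6_mulC]
    congr 1
    ext l m
    rw [vec6_colC, Matrix.of_apply, hXpow (pos m) (pos_lt m)]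
    rfl
  have hpoly := cent_poly (vec6 xC) (c' : M6) (vec6 biC) (Sum.inl 0) hB hcomm
  set a : I6 → K3 := vec6 biC *ᵥ fun t => (c' : M6) t (Sum.inl 0) with ha
  have hlin : (c' : M6) = vec6 (linC ps (a (Sum.inl 0)).val (a (Sum.inl 1)).val (a (Sum.inl 2)).val
      (a (Sum.inr 0)).val (a (Sum.inr 1)).val (a (Sum.inr 2)).val) := by
    rw [vec6_linC, ← hXpow 0 (by norm_num), ← hXpow 1 (by norm_num), ← hXpow 2 (by norm_num),
      ← hXpow 3 (by norm_num), ← hXpow 4 (by norm_num), ← hXpow 5 (by norm_num)]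
    simp only [ZMod.natCast_zmod_val]
    rw [hpoly, Fintype.sum_sum_type, Fin.sum_univ_three, Fin.sum_univ_three]
    simp only [pos]
    show a (Sum.inl 0) • vec6 xC ^ 0 + a (Sum.inl 1) • vec6 xC ^ 1 + a (Sum.inl 2) • vec6 xC ^ 2 +
      (a (Sum.inr 0) • vec6 xC ^ 3 + a (Sum.inr 1) • vec6 xC ^ 4 + a (Sum.inr 2) • vec6 xC ^ 5) = _
    abel
  have hmem : vec6 (linC ps (a (Sum.inl 0)).val (a (Sum.inl 1)).val (a (Sum.inl 2)).val
      (a (Sum.inr 0)).val (a (Sum.inr 1)).val (a (Sum.inr 2)).val) ∈ symplecticGroup (Fin 3) K3 := by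
    rw [← hlin]
    exact c'.2
  have hfin := enumB_sound ps e henum _ _ _ _ _ _ (ZMod.val_lt _) (ZMod.val_lt _) (ZMod.val_lt _) (ZMod.val_lt _)
    (ZMod.val_lt _) (ZMod.val_lt _) hmem
  rw [← hlin] at hfin
  exact (mk_pow_eq_one_iff c' e).2 hfin

/-! ### the data -/

/-- an element of order 6 -/
def g6C : ℕ := 85408378165901717

/-- an element of order 10 -/
def g10C : ℕ := 115605901439591131

/-- an element of order 14 -/
def g14C : ℕ := 131881453251898501

/-- an element of order 15 -/
def g15C : ℕ := 16623057107086755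

/-- an element of order 7 -/
def x7C : ℕ := 57815726910650336

/-- an element of order 13 -/
def x13C : ℕ := 57348687319254074

/-- the first powers of the element of order 7 -/
def ps7 : ℕ → ℕ
  | 0 => 50054432356593028
  | 1 => 57815726910650336
  | 2 => 75196719074077118
  | 3 => 58543934188894824
  | 4 => 143108464116174788
  | _ => 109349273623666825

/-- the first powers of the element of order 13 -/
def ps13 : ℕ → ℕ
  | 0 => 50054432356593028
  | 1 => 57348687319254074
  | 2 => 56808196670639128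
  | 3 => 116053069411429207
  | 4 => 118594084794982326
  | _ => 30324989358743365

/-- the inverse of the matrix of the images of the cyclic vector, for the element of order 7 -/
def bi7C : ℕ := 16259630352212611

/-- the same for the element of order 13 -/
def bi13C : ℕ := 62501170870675540

theorem g6_symp : sympB g6C = true := by decide +kernel
theorem g10_symp : sympB g10C = true := by decide +kernel
theorem g14_symp : sympB g14C = true := by decide +kernel
theorem g15_symp : sympB g15C = true := by decide +kernel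
theorem x7_symp : sympB x7C = true := by decide +kernel
theorem x13_symp : sympB x13C = true := by decide +kernel

theorem order_g6 : orderOf (lOf g6C g6_symp) = 6 :=
  orderOf_lOf g6C g6_symp 6 (by norm_num) (by decide +kernel) (by decide +kernel)

theorem order_g10 : orderOf (lOf g10C g10_symp) = 10 :=
  orderOf_lOf g10C g10_symp 10 (by norm_num) (by decide +kernel) (by decide +kernel)

theorem order_g14 : orderOf (lOf g14C g14_symp) = 14 :=
  orderOf_lOf g14C g14_symp 14 (by norm_num) (by decide +kernel) (by decide +kernel)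

theorem order_g15 : orderOf (lOf g15C g15_symp) = 15 :=
  orderOf_lOf g15C g15_symp 15 (by norm_num) (by decide +kernel) (by decide +kernel)

theorem order_x7 : orderOf (lOf x7C x7_symp) = 7 :=
  orderOf_lOf x7C x7_symp 7 (by norm_num) (by decide +kernel) (by decide +kernel)

theorem order_x13 : orderOf (lOf x13C x13_symp) = 13 :=
  orderOf_lOf x13C x13_symp 13 (by norm_num) (by decide +kernel) (by decide +kernel)

theorem ps7_ok : ∀ k, k < 6 → powC x7C k = ps7 k := by decide +kernel

theorem ps13_ok : ∀ k, k < 6 → powC x13C k = ps13 k := by decide +kernel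

theorem x7_pow : powC x7C 7 = oneC := by decide +kernel

theorem x13_pow : powC x13C 13 = oneC := by decide +kernel

theorem cyc7 : mulC (colC ps7 0) bi7C = oneC := by decide +kernel

theorem cyc13 : mulC (colC ps13 0) bi13C = oneC := by decide +kernel

theorem enum7 : enumB ps7 14 = true := by decide +kernel

theorem enum13 : enumB ps13 13 = true := by decide +kernel

theorem cent7 (c : L) (hc : c * lOf x7C x7_symp = lOf x7C x7_symp * c) : c ^ 14 = 1 :=
  cent_psp x7C x7_symp ps7 ps7_ok bi7C cyc7 7 (by decide) x7_pow 14 enum7 c hc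

theorem cent13 (c : L) (hc : c * lOf x13C x13_symp = lOf x13C x13_symp * c) : c ^ 13 = 1 :=
  cent_psp x13C x13_symp ps13 ps13_ok bi13C cyc13 13 (by decide) x13_pow 13 enum13 c hc

/-! ### the order of the group -/

theorem card_L : Nat.card L = 4585351680 := by
  have h1 := Subgroup.card_eq_card_quotient_mul_card_subgroup (Subgroup.center Sp)
  rw [Cfsg.Agent.Lib.Helper5.card_symplecticGroup_fin, Cfsg.Agent.Lib.Helper5.card_center_symplecticGroup,
    ZMod.card] at h1
  norm_num [Finset.prod_range_succ] at h1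
  show Nat.card (Sp ⧸ Subgroup.center Sp) = 4585351680
  omega

theorem prime_dvd_card_L {r : ℕ} (hr : r.Prime) (h : r ∣ 4585351680) :
    r = 2 ∨ r = 3 ∨ r = 5 ∨ r = 7 ∨ r = 13 := by
  have e : 4585351680 = 2 ^ 9 * 3 ^ 9 * 5 * 7 * 13 := by norm_num
  rw [e] at h
  rcases (Nat.Prime.dvd_mul hr).1 h with h | h
  · rcases (Nat.Prime.dvd_mul hr).1 h with h | h
    · rcases (Nat.Prime.dvd_mul hr).1 h with h | h
      · rcases (Nat.Prime.dvd_mul hr).1 h with h | h
        · exact Or.inl ((Nat.prime_dvd_prime_iff_eq hr Nat.prime_two).1 (hr.dvd_of_dvd_pow h))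
        · exact Or.inr (Or.inl ((Nat.prime_dvd_prime_iff_eq hr Nat.prime_three).1 (hr.dvd_of_dvd_pow h)))
      · exact Or.inr (Or.inr (Or.inl ((Nat.prime_dvd_prime_iff_eq hr Nat.prime_five).1 h)))
    · exact Or.inr (Or.inr (Or.inr (Or.inl ((Nat.prime_dvd_prime_iff_eq hr (by norm_num)).1 h))))
  · exact Or.inr (Or.inr (Or.inr (Or.inr ((Nat.prime_dvd_prime_iff_eq hr (by norm_num)).1 h))))

instance : Finite L := inferInstance

/-- the prime graph of the group -/
theorem graph_L : IsGraphS63 L := by
  apply isGraphS63_of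
  · intro p hp
    rw [card_L]
    constructor
    · exact prime_dvd_card_L hp
    · rintro (rfl | rfl | rfl | rfl | rfl) <;> norm_num
  · exact ⟨_, order_g6⟩
  · exact ⟨_, order_g10⟩
  · exact ⟨_, order_g15⟩
  · exact ⟨_, order_g14⟩
  · rintro r hr ⟨g, hg⟩
    have : Fact (Nat.Prime 7) := ⟨by norm_num⟩
    have h := dvd_of_cent_pow 7 (lOf x7C x7_symp) order_x7 (by rw [card_L]; norm_num) 14 cent7 g r
      (by rcases hr with rfl | rfl | rfl <;> norm_num) hg
    rcases hr with rfl | rfl | rfl <;> omega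
  · rintro r hr ⟨g, hg⟩
    have : Fact (Nat.Prime 13) := ⟨by norm_num⟩
    have h := dvd_of_cent_pow 13 (lOf x13C x13_symp) order_x13 (by rw [card_L]; norm_num) 13 cent13 g r
      (by rcases hr with rfl | rfl | rfl | rfl <;> norm_num) hg
    rcases hr with rfl | rfl | rfl | rfl <;> omega

/-- the prime graph is carried by isomorphisms -/
theorem isGraphS63_congr {X Y : Type*} [Group X] [Group Y] (e : X ≃* Y) (h : IsGraphS63 X) : IsGraphS63 Y := by
  refine ⟨fun p hp => ?_, fun a b ha hb hab => ?_⟩
  · rw [← Nat.card_congr e.toEquiv]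
    exact h.1 p hp
  · rw [← h.2 a b ha hb hab]
    constructor
    · rintro ⟨g, hg⟩
      exact ⟨e.symm g, by rw [MulEquiv.orderOf_eq, hg]⟩
    · rintro ⟨g, hg⟩
      exact ⟨e g, by rw [MulEquiv.orderOf_eq, hg]⟩

end Cfsg.Agent.Lib.Helper58.Sp63
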