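import Mathlib

set_option autoImplicit false

namespace Cfsg.Agent.Lib.Helper58

open Matrix Polynomial

/-! ### The spectrum of the alternating group of degree 6 -/

theorem perm6_even_pow : ∀ g : Equiv.Perm (Fin 6), Equiv.Perm.sign g = 1 →
    g ^ 2 = 1 ∨ g ^ 3 = 1 ∨ g ^ 4 = 1 ∨ g ^ 5 = 1 := by
  decide +kernel

theorem mem_spec_of_pow {G : Type*} [Group G] (g : G)
    (h : g ^ 2 = 1 ∨ g ^ 3 = 1 ∨ g ^ 4 = 1 ∨ g ^ 5 = 1) :
    orderOf g ∈ ({1, 2, 3, 4, 5} : Set ℕ) := by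
  have key : ∀ n : ℕ, n ∣ 2 ∨ n ∣ 3 ∨ n ∣ 4 ∨ n ∣ 5 → n ∈ ({1, 2, 3, 4, 5} : Set ℕ) := by
    intro n hn
    have hle : n ≤ 5 := by
      rcases hn with h | h | h | h <;> exact le_trans (Nat.le_of_dvd (by norm_num) h) (by norm_num)
    have hpos : 0 < n := by
      rcases hn with h | h | h | h <;> exact Nat.pos_of_dvd_of_pos h (by norm_num)
    simp only [Set.mem_insert_iff, Set.mem_singleton_iff]
    omega
  apply key
  rcases h with h | h | h | h
  · exact Or.inl (orderOf_dvd_of_pow_eq_one h)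
  · exact Or.inr (Or.inl (orderOf_dvd_of_pow_eq_one h))
  · exact Or.inr (Or.inr (Or.inl (orderOf_dvd_of_pow_eq_one h)))
  · exact Or.inr (Or.inr (Or.inr (orderOf_dvd_of_pow_eq_one h)))

theorem orderOf_eq_two {G : Type*} [Group G] (g : G) (h1 : g ≠ 1) (h2 : g ^ 2 = 1) :
    orderOf g = 2 := orderOf_eq_prime h2 h1

theorem orderOf_eq_three {G : Type*} [Group G] (g : G) (h1 : g ≠ 1) (h2 : g ^ 3 = 1) :
    orderOf g = 3 := by
  have : Fact (Nat.Prime 3) := ⟨by norm_num⟩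
  exact orderOf_eq_prime h2 h1

theorem orderOf_eq_five {G : Type*} [Group G] (g : G) (h1 : g ≠ 1) (h2 : g ^ 5 = 1) :
    orderOf g = 5 := by
  have : Fact (Nat.Prime 5) := ⟨by norm_num⟩
  exact orderOf_eq_prime h2 h1

theorem orderOf_eq_four {G : Type*} [Group G] (g : G) (h1 : g ^ 2 ≠ 1) (h2 : g ^ 4 = 1) :
    orderOf g = 4 := by
  have := orderOf_eq_prime_pow (x := g) (p := 2) (n := 1) (by simpa using h1) (by simpa using h2)
  simpa using this

theorem spec_alt6 :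
    Set.range (orderOf : alternatingGroup (Fin 6) → ℕ) = ({1, 2, 3, 4, 5} : Set ℕ) := by
  apply Set.Subset.antisymm
  · rintro n ⟨g, rfl⟩
    rw [← Subgroup.orderOf_coe]
    exact mem_spec_of_pow _ (perm6_even_pow g.1 (Equiv.Perm.mem_alternatingGroup.mp g.2))
  · intro n hn
    simp only [Set.mem_insert_iff, Set.mem_singleton_iff] at hn
    rcases hn with rfl | rfl | rfl | rfl | rfl
    · exact ⟨1, orderOf_one⟩
    · refine ⟨⟨Equiv.swap 0 1 * Equiv.swap 2 3, ?_⟩, ?_⟩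
      · rw [Equiv.Perm.mem_alternatingGroup]; decide
      · rw [← Subgroup.orderOf_coe]
        exact orderOf_eq_two _ (by decide) (by decide)
    · refine ⟨⟨Equiv.swap 0 1 * Equiv.swap 1 2, ?_⟩, ?_⟩
      · rw [Equiv.Perm.mem_alternatingGroup]; decide
      · rw [← Subgroup.orderOf_coe]
        exact orderOf_eq_three _ (by decide) (by decide)
    · refine ⟨⟨Equiv.swap 0 1 * Equiv.swap 1 2 * Equiv.swap 2 3 * Equiv.swap 4 5, ?_⟩, ?_⟩
      · rw [Equiv.Perm.mem_alternatingGroup]; decide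
      · rw [← Subgroup.orderOf_coe]
        exact orderOf_eq_four _ (by decide) (by decide)
    · refine ⟨⟨Equiv.swap 0 1 * Equiv.swap 1 2 * Equiv.swap 2 3 * Equiv.swap 3 4, ?_⟩, ?_⟩
      · rw [Equiv.Perm.mem_alternatingGroup]; decide
      · rw [← Subgroup.orderOf_coe]
        exact orderOf_eq_five _ (by decide) (by decide)

end Cfsg.Agent.Lib.Helper58
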