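import Mathlib

/-!
# Sylow subgroups and subgroups of the right order

A Sylow `p`-subgroup is isomorphic to any subgroup whose order is the full `p`-part of the group
order, also across a group isomorphism.
-/

set_option autoImplicit false

namespace Cfsg.Agent.Lib.Helper58.SylIso

/-- the exponent of `2` in `2 ^ k * m`, `m` odd -/
theorem factorization_two_pow_mul (k m : ℕ) (hm : ¬ 2 ∣ m) :
    (2 ^ k * m).factorization 2 = k := by
  have hm0 : m ≠ 0 := by
    rintro rfl
    exact hm (dvd_zero 2)
  rw [Nat.factorization_mul (pow_ne_zero k two_ne_zero) hm0, Nat.factorization_pow,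
    Finsupp.add_apply, Finsupp.smul_apply, Nat.prime_two.factorization_self,
    Nat.factorization_eq_zero_of_not_dvd hm]
  simp

/-- a Sylow subgroup is isomorphic to every subgroup of the same order -/
theorem sylow_equiv_of_card {G : Type*} [Group G] [Finite G] {p : ℕ} [Fact p.Prime]
    (P : Sylow p G) (A : Subgroup G) (hA : Nat.card A = p ^ (Nat.card G).factorization p) :
    Nonempty (↥(P : Subgroup G) ≃* ↥A) := by
  let Q : Sylow p G := Sylow.ofCard A hA
  obtain ⟨g, hg⟩ := MulAction.exists_smul_eq G P Q
  have e1 : ↥(P : Subgroup G) ≃* ↥((g • P : Sylow p G) : Subgroup G) := Sylow.equivSMul P g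
  have h2 : ((g • P : Sylow p G) : Subgroup G) = A := by
    rw [hg]
    rfl
  exact ⟨e1.trans (MulEquiv.subgroupCongr h2)⟩

/-- the same across a group isomorphism -/
theorem sylow_equiv_of_mulEquiv {G G' : Type*} [Group G] [Group G'] [Finite G] {p : ℕ}
    [Fact p.Prime] (e : G ≃* G') (P : Sylow p G) (B : Subgroup G')
    (hB : Nat.card B = p ^ (Nat.card G').factorization p) :
    Nonempty (↥(P : Subgroup G) ≃* ↥B) := by
  let A : Subgroup G := B.map e.symm.toMonoidHom
  have eA : ↥B ≃* ↥A := e.symm.subgroupMap B
  have hA : Nat.card A = p ^ (Nat.card G).factorization p := by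
    rw [← Nat.card_congr eA.toEquiv, hB, Nat.card_congr e.toEquiv]
  obtain ⟨f⟩ := sylow_equiv_of_card P A hA
  exact ⟨f.trans eA.symm⟩

end Cfsg.Agent.Lib.Helper58.SylIso
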