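import Mathlib

/-!
# A concrete field with sixteen elements

`x k` is the class of the polynomial with bit mask `k` modulo `X^4 + X + 1` over the field with two elements.
-/

set_option autoImplicit false
set_option maxRecDepth 100000

namespace Cfsg.Agent.Lib.Helper58.U34Field

/-- the field with sixteen elements -/
inductive F16c : Type
  | x0 | x1 | x2 | x3 | x4 | x5 | x6 | x7 | x8 | x9 | x10 | x11 | x12 | x13 | x14 | x15
  deriving DecidableEq

namespace F16c

instance : Fintype F16c := ⟨{x0, x1, x2, x3, x4, x5, x6, x7, x8, x9, x10, x11, x12, x13, x14, x15}, by intro a; cases a <;> decide⟩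

/-- addition -/
def add : F16c → F16c → F16c
  | x0, x0 => x0
  | x0, x1 => x1
  | x0, x2 => x2
  | x0, x3 => x3
  | x0, x4 => x4
  | x0, x5 => x5
  | x0, x6 => x6
  | x0, x7 => x7
  | x0, x8 => x8
  | x0, x9 => x9
  | x0, x10 => x10
  | x0, x11 => x11
  | x0, x12 => x12
  | x0, x13 => x13
  | x0, x14 => x14
  | x0, x15 => x15
  | x1, x0 => x1
  | x1, x1 => x0
  | x1, x2 => x3
  | x1, x3 => x2
  | x1, x4 => x5
  | x1, x5 => x4
  | x1, x6 => x7
  | x1, x7 => x6
  | x1, x8 => x9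
  | x1, x9 => x8
  | x1, x10 => x11
  | x1, x11 => x10
  | x1, x12 => x13
  | x1, x13 => x12
  | x1, x14 => x15
  | x1, x15 => x14
  | x2, x0 => x2
  | x2, x1 => x3
  | x2, x2 => x0
  | x2, x3 => x1
  | x2, x4 => x6
  | x2, x5 => x7
  | x2, x6 => x4
  | x2, x7 => x5
  | x2, x8 => x10
  | x2, x9 => x11
  | x2, x10 => x8
  | x2, x11 => x9
  | x2, x12 => x14
  | x2, x13 => x15
  | x2, x14 => x12
  | x2, x15 => x13
  | x3, x0 => x3
  | x3, x1 => x2
  | x3, x2 => x1
  | x3, x3 => x0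
  | x3, x4 => x7
  | x3, x5 => x6
  | x3, x6 => x5
  | x3, x7 => x4
  | x3, x8 => x11
  | x3, x9 => x10
  | x3, x10 => x9
  | x3, x11 => x8
  | x3, x12 => x15
  | x3, x13 => x14
  | x3, x14 => x13
  | x3, x15 => x12
  | x4, x0 => x4
  | x4, x1 => x5
  | x4, x2 => x6
  | x4, x3 => x7
  | x4, x4 => x0
  | x4, x5 => x1
  | x4, x6 => x2
  | x4, x7 => x3
  | x4, x8 => x12
  | x4, x9 => x13
  | x4, x10 => x14
  | x4, x11 => x15
  | x4, x12 => x8
  | x4, x13 => x9
  | x4, x14 => x10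
  | x4, x15 => x11
  | x5, x0 => x5
  | x5, x1 => x4
  | x5, x2 => x7
  | x5, x3 => x6
  | x5, x4 => x1
  | x5, x5 => x0
  | x5, x6 => x3
  | x5, x7 => x2
  | x5, x8 => x13
  | x5, x9 => x12
  | x5, x10 => x15
  | x5, x11 => x14
  | x5, x12 => x9
  | x5, x13 => x8
  | x5, x14 => x11
  | x5, x15 => x10
  | x6, x0 => x6
  | x6, x1 => x7
  | x6, x2 => x4
  | x6, x3 => x5
  | x6, x4 => x2
  | x6, x5 => x3
  | x6, x6 => x0
  | x6, x7 => x1
  | x6, x8 => x14
  | x6, x9 => x15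
  | x6, x10 => x12
  | x6, x11 => x13
  | x6, x12 => x10
  | x6, x13 => x11
  | x6, x14 => x8
  | x6, x15 => x9
  | x7, x0 => x7
  | x7, x1 => x6
  | x7, x2 => x5
  | x7, x3 => x4
  | x7, x4 => x3
  | x7, x5 => x2
  | x7, x6 => x1
  | x7, x7 => x0
  | x7, x8 => x15
  | x7, x9 => x14
  | x7, x10 => x13
  | x7, x11 => x12
  | x7, x12 => x11
  | x7, x13 => x10
  | x7, x14 => x9
  | x7, x15 => x8
  | x8, x0 => x8
  | x8, x1 => x9
  | x8, x2 => x10
  | x8, x3 => x11
  | x8, x4 => x12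
  | x8, x5 => x13
  | x8, x6 => x14
  | x8, x7 => x15
  | x8, x8 => x0
  | x8, x9 => x1
  | x8, x10 => x2
  | x8, x11 => x3
  | x8, x12 => x4
  | x8, x13 => x5
  | x8, x14 => x6
  | x8, x15 => x7
  | x9, x0 => x9
  | x9, x1 => x8
  | x9, x2 => x11
  | x9, x3 => x10
  | x9, x4 => x13
  | x9, x5 => x12
  | x9, x6 => x15
  | x9, x7 => x14
  | x9, x8 => x1
  | x9, x9 => x0
  | x9, x10 => x3
  | x9, x11 => x2
  | x9, x12 => x5
  | x9, x13 => x4
  | x9, x14 => x7
  | x9, x15 => x6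
  | x10, x0 => x10
  | x10, x1 => x11
  | x10, x2 => x8
  | x10, x3 => x9
  | x10, x4 => x14
  | x10, x5 => x15
  | x10, x6 => x12
  | x10, x7 => x13
  | x10, x8 => x2
  | x10, x9 => x3
  | x10, x10 => x0
  | x10, x11 => x1
  | x10, x12 => x6
  | x10, x13 => x7
  | x10, x14 => x4
  | x10, x15 => x5
  | x11, x0 => x11
  | x11, x1 => x10
  | x11, x2 => x9
  | x11, x3 => x8
  | x11, x4 => x15
  | x11, x5 => x14
  | x11, x6 => x13
  | x11, x7 => x12
  | x11, x8 => x3
  | x11, x9 => x2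
  | x11, x10 => x1
  | x11, x11 => x0
  | x11, x12 => x7
  | x11, x13 => x6
  | x11, x14 => x5
  | x11, x15 => x4
  | x12, x0 => x12
  | x12, x1 => x13
  | x12, x2 => x14
  | x12, x3 => x15
  | x12, x4 => x8
  | x12, x5 => x9
  | x12, x6 => x10
  | x12, x7 => x11
  | x12, x8 => x4
  | x12, x9 => x5
  | x12, x10 => x6
  | x12, x11 => x7
  | x12, x12 => x0
  | x12, x13 => x1
  | x12, x14 => x2
  | x12, x15 => x3
  | x13, x0 => x13
  | x13, x1 => x12
  | x13, x2 => x15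
  | x13, x3 => x14
  | x13, x4 => x9
  | x13, x5 => x8
  | x13, x6 => x11
  | x13, x7 => x10
  | x13, x8 => x5
  | x13, x9 => x4
  | x13, x10 => x7
  | x13, x11 => x6
  | x13, x12 => x1
  | x13, x13 => x0
  | x13, x14 => x3
  | x13, x15 => x2
  | x14, x0 => x14
  | x14, x1 => x15
  | x14, x2 => x12
  | x14, x3 => x13
  | x14, x4 => x10
  | x14, x5 => x11
  | x14, x6 => x8
  | x14, x7 => x9
  | x14, x8 => x6
  | x14, x9 => x7
  | x14, x10 => x4
  | x14, x11 => x5
  | x14, x12 => x2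
  | x14, x13 => x3
  | x14, x14 => x0
  | x14, x15 => x1
  | x15, x0 => x15
  | x15, x1 => x14
  | x15, x2 => x13
  | x15, x3 => x12
  | x15, x4 => x11
  | x15, x5 => x10
  | x15, x6 => x9
  | x15, x7 => x8
  | x15, x8 => x7
  | x15, x9 => x6
  | x15, x10 => x5
  | x15, x11 => x4
  | x15, x12 => x3
  | x15, x13 => x2
  | x15, x14 => x1
  | x15, x15 => x0

/-- multiplication -/
def mul : F16c → F16c → F16c
  | x0, x0 => x0
  | x0, x1 => x0
  | x0, x2 => x0
  | x0, x3 => x0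
  | x0, x4 => x0
  | x0, x5 => x0
  | x0, x6 => x0
  | x0, x7 => x0
  | x0, x8 => x0
  | x0, x9 => x0
  | x0, x10 => x0
  | x0, x11 => x0
  | x0, x12 => x0
  | x0, x13 => x0
  | x0, x14 => x0
  | x0, x15 => x0
  | x1, x0 => x0
  | x1, x1 => x1
  | x1, x2 => x2
  | x1, x3 => x3
  | x1, x4 => x4
  | x1, x5 => x5
  | x1, x6 => x6
  | x1, x7 => x7
  | x1, x8 => x8
  | x1, x9 => x9
  | x1, x10 => x10
  | x1, x11 => x11
  | x1, x12 => x12
  | x1, x13 => x13
  | x1, x14 => x14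
  | x1, x15 => x15
  | x2, x0 => x0
  | x2, x1 => x2
  | x2, x2 => x4
  | x2, x3 => x6
  | x2, x4 => x8
  | x2, x5 => x10
  | x2, x6 => x12
  | x2, x7 => x14
  | x2, x8 => x3
  | x2, x9 => x1
  | x2, x10 => x7
  | x2, x11 => x5
  | x2, x12 => x11
  | x2, x13 => x9
  | x2, x14 => x15
  | x2, x15 => x13
  | x3, x0 => x0
  | x3, x1 => x3
  | x3, x2 => x6
  | x3, x3 => x5
  | x3, x4 => x12
  | x3, x5 => x15
  | x3, x6 => x10
  | x3, x7 => x9
  | x3, x8 => x11
  | x3, x9 => x8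
  | x3, x10 => x13
  | x3, x11 => x14
  | x3, x12 => x7
  | x3, x13 => x4
  | x3, x14 => x1
  | x3, x15 => x2
  | x4, x0 => x0
  | x4, x1 => x4
  | x4, x2 => x8
  | x4, x3 => x12
  | x4, x4 => x3
  | x4, x5 => x7
  | x4, x6 => x11
  | x4, x7 => x15
  | x4, x8 => x6
  | x4, x9 => x2
  | x4, x10 => x14
  | x4, x11 => x10
  | x4, x12 => x5
  | x4, x13 => x1
  | x4, x14 => x13
  | x4, x15 => x9
  | x5, x0 => x0
  | x5, x1 => x5
  | x5, x2 => x10
  | x5, x3 => x15
  | x5, x4 => x7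
  | x5, x5 => x2
  | x5, x6 => x13
  | x5, x7 => x8
  | x5, x8 => x14
  | x5, x9 => x11
  | x5, x10 => x4
  | x5, x11 => x1
  | x5, x12 => x9
  | x5, x13 => x12
  | x5, x14 => x3
  | x5, x15 => x6
  | x6, x0 => x0
  | x6, x1 => x6
  | x6, x2 => x12
  | x6, x3 => x10
  | x6, x4 => x11
  | x6, x5 => x13
  | x6, x6 => x7
  | x6, x7 => x1
  | x6, x8 => x5
  | x6, x9 => x3
  | x6, x10 => x9
  | x6, x11 => x15
  | x6, x12 => x14
  | x6, x13 => x8
  | x6, x14 => x2
  | x6, x15 => x4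
  | x7, x0 => x0
  | x7, x1 => x7
  | x7, x2 => x14
  | x7, x3 => x9
  | x7, x4 => x15
  | x7, x5 => x8
  | x7, x6 => x1
  | x7, x7 => x6
  | x7, x8 => x13
  | x7, x9 => x10
  | x7, x10 => x3
  | x7, x11 => x4
  | x7, x12 => x2
  | x7, x13 => x5
  | x7, x14 => x12
  | x7, x15 => x11
  | x8, x0 => x0
  | x8, x1 => x8
  | x8, x2 => x3
  | x8, x3 => x11
  | x8, x4 => x6
  | x8, x5 => x14
  | x8, x6 => x5
  | x8, x7 => x13
  | x8, x8 => x12
  | x8, x9 => x4
  | x8, x10 => x15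
  | x8, x11 => x7
  | x8, x12 => x10
  | x8, x13 => x2
  | x8, x14 => x9
  | x8, x15 => x1
  | x9, x0 => x0
  | x9, x1 => x9
  | x9, x2 => x1
  | x9, x3 => x8
  | x9, x4 => x2
  | x9, x5 => x11
  | x9, x6 => x3
  | x9, x7 => x10
  | x9, x8 => x4
  | x9, x9 => x13
  | x9, x10 => x5
  | x9, x11 => x12
  | x9, x12 => x6
  | x9, x13 => x15
  | x9, x14 => x7
  | x9, x15 => x14
  | x10, x0 => x0
  | x10, x1 => x10
  | x10, x2 => x7
  | x10, x3 => x13
  | x10, x4 => x14
  | x10, x5 => x4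
  | x10, x6 => x9
  | x10, x7 => x3
  | x10, x8 => x15
  | x10, x9 => x5
  | x10, x10 => x8
  | x10, x11 => x2
  | x10, x12 => x1
  | x10, x13 => x11
  | x10, x14 => x6
  | x10, x15 => x12
  | x11, x0 => x0
  | x11, x1 => x11
  | x11, x2 => x5
  | x11, x3 => x14
  | x11, x4 => x10
  | x11, x5 => x1
  | x11, x6 => x15
  | x11, x7 => x4
  | x11, x8 => x7
  | x11, x9 => x12
  | x11, x10 => x2
  | x11, x11 => x9
  | x11, x12 => x13
  | x11, x13 => x6
  | x11, x14 => x8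
  | x11, x15 => x3
  | x12, x0 => x0
  | x12, x1 => x12
  | x12, x2 => x11
  | x12, x3 => x7
  | x12, x4 => x5
  | x12, x5 => x9
  | x12, x6 => x14
  | x12, x7 => x2
  | x12, x8 => x10
  | x12, x9 => x6
  | x12, x10 => x1
  | x12, x11 => x13
  | x12, x12 => x15
  | x12, x13 => x3
  | x12, x14 => x4
  | x12, x15 => x8
  | x13, x0 => x0
  | x13, x1 => x13
  | x13, x2 => x9
  | x13, x3 => x4
  | x13, x4 => x1
  | x13, x5 => x12
  | x13, x6 => x8
  | x13, x7 => x5
  | x13, x8 => x2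
  | x13, x9 => x15
  | x13, x10 => x11
  | x13, x11 => x6
  | x13, x12 => x3
  | x13, x13 => x14
  | x13, x14 => x10
  | x13, x15 => x7
  | x14, x0 => x0
  | x14, x1 => x14
  | x14, x2 => x15
  | x14, x3 => x1
  | x14, x4 => x13
  | x14, x5 => x3
  | x14, x6 => x2
  | x14, x7 => x12
  | x14, x8 => x9
  | x14, x9 => x7
  | x14, x10 => x6
  | x14, x11 => x8
  | x14, x12 => x4
  | x14, x13 => x10
  | x14, x14 => x11
  | x14, x15 => x5
  | x15, x0 => x0
  | x15, x1 => x15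
  | x15, x2 => x13
  | x15, x3 => x2
  | x15, x4 => x9
  | x15, x5 => x6
  | x15, x6 => x4
  | x15, x7 => x11
  | x15, x8 => x1
  | x15, x9 => x14
  | x15, x10 => x12
  | x15, x11 => x3
  | x15, x12 => x8
  | x15, x13 => x7
  | x15, x14 => x5
  | x15, x15 => x10

/-- inverse -/
def inv : F16c → F16c
  | x0 => x0
  | x1 => x1
  | x2 => x9
  | x3 => x14
  | x4 => x13
  | x5 => x11
  | x6 => x7
  | x7 => x6
  | x8 => x15
  | x9 => x2
  | x10 => x12
  | x11 => x5
  | x12 => x10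
  | x13 => x4
  | x14 => x3
  | x15 => x8

instance : Add F16c := ⟨add⟩
instance : Mul F16c := ⟨mul⟩
instance : Zero F16c := ⟨x0⟩
instance : One F16c := ⟨x1⟩
instance : Neg F16c := ⟨id⟩
instance : Inv F16c := ⟨inv⟩

instance : Field F16c where
  add_assoc := by decide +kernel
  zero_add := by decide +kernel
  add_zero := by decide +kernel
  add_comm := by decide +kernel
  neg_add_cancel := by decide +kernel
  mul_assoc := by decide +kernel
  one_mul := by decide +kernel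
  mul_one := by decide +kernel
  left_distrib := by decide +kernel
  right_distrib := by decide +kernel
  zero_mul := by decide +kernel
  mul_zero := by decide +kernel
  mul_comm := by decide +kernel
  exists_pair_ne := ⟨x0, x1, by decide⟩
  mul_inv_cancel := by decide +kernel
  inv_zero := rfl
  nsmul := nsmulRec
  zsmul := zsmulRec
  nnqsmul := _
  qsmul := _

theorem card_eq : Fintype.card F16c = 16 := rfl

/-- the element with a given number -/
def elt : ℕ → F16c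
  | 0 => x0
  | 1 => x1
  | 2 => x2
  | 3 => x3
  | 4 => x4
  | 5 => x5
  | 6 => x6
  | 7 => x7
  | 8 => x8
  | 9 => x9
  | 10 => x10
  | 11 => x11
  | 12 => x12
  | 13 => x13
  | 14 => x14
  | _ => x15

/-- the number of an element -/
def num : F16c → ℕ
  | x0 => 0
  | x1 => 1
  | x2 => 2
  | x3 => 3
  | x4 => 4
  | x5 => 5
  | x6 => 6
  | x7 => 7
  | x8 => 8
  | x9 => 9
  | x10 => 10
  | x11 => 11
  | x12 => 12
  | x13 => 13
  | x14 => 14
  | x15 => 15

theorem elt_num (a : F16c) : elt (num a) = a := by cases a <;> rfl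

theorem num_lt (a : F16c) : num a < 16 := by cases a <;> decide

/-- the Frobenius map `a ↦ a ^ 4` -/
def fr (a : F16c) : F16c := a * a * (a * a)

theorem fr_eq (a : F16c) : a ^ 4 = fr a := by
  unfold fr
  ring

theorem fr_add : ∀ a b : F16c, fr (a + b) = fr a + fr b := by decide +kernel

theorem fr_mul : ∀ a b : F16c, fr (a * b) = fr a * fr b := by decide +kernel

theorem fr_fr : ∀ a : F16c, fr (fr a) = a := by decide +kernel

theorem fr_zero : fr (0 : F16c) = 0 := rfl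

theorem fr_one : fr (1 : F16c) = 1 := rfl

theorem add_self : ∀ a : F16c, a + a = 0 := by decide +kernel

end F16c

end Cfsg.Agent.Lib.Helper58.U34Field
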