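import Mathlib
import Cfsg.Prelude.Def_Classical
import Cfsg.Agent.Lib.Helper58.U34Field
import Cfsg.Agent.Lib.Helper58.U34Data
import Cfsg.Agent.Lib.Helper58.FastChain
import Cfsg.Agent.Lib.Helper58.EvTools

/-!
# `SU₃(4)`: generators, the action on unit and isotropic vectors, the order
-/

set_option autoImplicit false
set_option maxRecDepth 100000
set_option Elab.async false

namespace Cfsg.Agent.Lib.Helper58.U34Group

open Cfsg Matrix
open Cfsg.Agent.Lib.Helper89 Cfsg.Agent.Lib.Helper89.TableChain2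
open Cfsg.Agent.Lib.Helper58.U34Field Cfsg.Agent.Lib.Helper58.U34Field.F16c
open Cfsg.Agent.Lib.Helper58.U34Data Cfsg.Agent.Lib.Helper58.FastChain

/-- the field -/
abbrev K : Type := F16c

/-- the vectors -/
abbrev Vec : Type := Fin 3 → K

/-- the ambient group -/
abbrev SL3 : Type := Matrix.SpecialLinearGroup (Fin 3) K

/-! ### codes of vectors -/

/-- the vector with a given code -/
def vecOf (c : ℕ) : Vec :=
  ![elt (Nat.land c 15), elt (Nat.land (Nat.shiftRight c 4) 15), elt (Nat.land (Nat.shiftRight c 8) 15)]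

/-- the code of three coordinates -/
def code3 (a b c : K) : ℕ := Nat.add (num a) (Nat.add (Nat.mul 16 (num b)) (Nat.mul 256 (num c)))

/-- the code of a vector -/
def codeOf (v : Vec) : ℕ := code3 (v 0) (v 1) (v 2)

theorem code3_ok : ∀ a b c : K, elt (Nat.land (code3 a b c) 15) = a ∧
    elt (Nat.land (Nat.shiftRight (code3 a b c) 4) 15) = b ∧
    elt (Nat.land (Nat.shiftRight (code3 a b c) 8) 15) = c := by decide +kernel

theorem code3_lt : ∀ a b c : K, code3 a b c < 4096 := by decide +kernel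

theorem vecOf_codeOf (v : Vec) : vecOf (codeOf v) = v := by
  have h := code3_ok (v 0) (v 1) (v 2)
  funext i
  fin_cases i
  · exact h.1
  · exact h.2.1
  · exact h.2.2

theorem codeOf_lt (v : Vec) : codeOf v < 4096 := code3_lt _ _ _

theorem codeOf_vecOfB : rangeAll 0 4096 (fun c => Nat.beq (codeOf (vecOf c)) c) = true := by decide +kernel

theorem codeOf_vecOf (c : ℕ) (hc : c < 4096) : codeOf (vecOf c) = c :=
  Nat.eq_of_beq_eq_true (rangeAll_sound 0 4096 _ codeOf_vecOfB c (Nat.zero_le c) (by omega))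

theorem vec3 (v : Vec) : v = ![v 0, v 1, v 2] := by
  funext i
  fin_cases i <;> rfl

/-- the points -/
def pt (x : ℕ) : Vec := vecOf (ptC x)

theorem ptC_lt (x : ℕ) : ptC x < 4096 := by
  unfold ptC
  exact Nat.lt_succ_of_le Nat.and_le_right

theorem codeOf_pt (x : ℕ) : codeOf (pt x) = ptC x := codeOf_vecOf _ (ptC_lt x)

theorem monoB : rangeAll 0 2014 (fun x => Nat.blt (ptC x) (ptC (Nat.add x 1))) = true := by decide +kernel

theorem ptC_mono : ∀ y x : ℕ, x < y → y < 2015 → ptC x < ptC y := by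
  intro y
  induction y with
  | zero => intro x hx; omega
  | succ y ih =>
    intro x hx hy
    have hstep : ptC y < ptC (y + 1) :=
      Nat.le_of_ble_eq_true (rangeAll_sound 0 2014 _ monoB y (Nat.zero_le y) (by omega))
    rcases Nat.lt_succ_iff_lt_or_eq.1 hx with h | h
    · exact lt_trans (ih x h (by omega)) hstep
    · rw [h]; exact hstep

theorem pt_inj (x : ℕ) (hx : x < 2015) (y : ℕ) (hy : y < 2015) (h : pt x = pt y) : x = y := by
  have hk : ptC x = ptC y := by rw [← codeOf_pt, ← codeOf_pt, h]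
  rcases Nat.lt_trichotomy x y with hlt | heq | hgt
  · exact absurd hk (ne_of_lt (ptC_mono y x hlt hy))
  · exact heq
  · exact absurd hk.symm (ne_of_lt (ptC_mono x y hgt hx))

/-! ### the hermitian form -/

/-- the form on two vectors -/
def hf (u v : Vec) : K := u 0 * fr (v 0) + u 1 * fr (v 1) + u 2 * fr (v 2)

theorem herm_eq (u v : Vec) : hermForm 3 K 4 u v = hf u v := by
  unfold hermForm hf
  rw [Fin.sum_univ_three, fr_eq, fr_eq, fr_eq]

/-- the product of a matrix and a vector, written out -/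
def mv3 (M : Matrix (Fin 3) (Fin 3) K) (v : Vec) : Vec :=
  ![M 0 0 * v 0 + M 0 1 * v 1 + M 0 2 * v 2, M 1 0 * v 0 + M 1 1 * v 1 + M 1 2 * v 2,
    M 2 0 * v 0 + M 2 1 * v 1 + M 2 2 * v 2]

theorem mulVec_eq_mv3 (M : Matrix (Fin 3) (Fin 3) K) (v : Vec) : M.mulVec v = mv3 M v := by
  funext i
  fin_cases i <;> simp [Matrix.mulVec, dotProduct, Fin.sum_univ_three, mv3]

theorem smul_eq_mv3 (g : SL3) (v : Vec) : g • v = mv3 g.1 v := by
  rw [Matrix.SpecialLinearGroup.smul_def, Matrix.smul_eq_mulVec, mulVec_eq_mv3]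

theorem mem_SU_iff (g : SL3) : g ∈ SU 3 K 4 ↔ ∀ u v : Vec, hf (g • u) (g • v) = hf u v := by
  constructor
  · intro h u v
    have := h u v
    rw [herm_eq, herm_eq] at this
    exact this
  · intro h u v
    rw [herm_eq, herm_eq]
    exact h u v

theorem fr_add3 (a b c : K) : fr (a + b + c) = fr a + fr b + fr c := by
  rw [fr_add, fr_add]

/-- a matrix with orthonormal columns is unitary -/
theorem mem_SU_of_cols (g : SL3)
    (h : ∀ a b : Fin 3, g.1 0 a * fr (g.1 0 b) + g.1 1 a * fr (g.1 1 b) + g.1 2 a * fr (g.1 2 b) =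
      if a = b then 1 else 0) : g ∈ SU 3 K 4 := by
  rw [mem_SU_iff]
  intro u v
  rw [smul_eq_mv3, smul_eq_mv3]
  have e00 := h 0 0
  have e01 := h 0 1
  have e02 := h 0 2
  have e10 := h 1 0
  have e11 := h 1 1
  have e12 := h 1 2
  have e20 := h 2 0
  have e21 := h 2 1
  have e22 := h 2 2
  simp only [Fin.isValue, if_true, Fin.reduceEq, if_false] at e00 e01 e02 e10 e11 e12 e20 e21 e22
  show (g.1 0 0 * u 0 + g.1 0 1 * u 1 + g.1 0 2 * u 2) * fr (g.1 0 0 * v 0 + g.1 0 1 * v 1 + g.1 0 2 * v 2) +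
    (g.1 1 0 * u 0 + g.1 1 1 * u 1 + g.1 1 2 * u 2) * fr (g.1 1 0 * v 0 + g.1 1 1 * v 1 + g.1 1 2 * v 2) +
    (g.1 2 0 * u 0 + g.1 2 1 * u 1 + g.1 2 2 * u 2) * fr (g.1 2 0 * v 0 + g.1 2 1 * v 1 + g.1 2 2 * v 2) =
    u 0 * fr (v 0) + u 1 * fr (v 1) + u 2 * fr (v 2)
  rw [fr_add3, fr_add3, fr_add3]
  simp only [fr_mul]
  linear_combination (u 0 * fr (v 0)) * e00 + (u 0 * fr (v 1)) * e01 + (u 0 * fr (v 2)) * e02 +
    (u 1 * fr (v 0)) * e10 + (u 1 * fr (v 1)) * e11 + (u 1 * fr (v 2)) * e12 +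
    (u 2 * fr (v 0)) * e20 + (u 2 * fr (v 1)) * e21 + (u 2 * fr (v 2)) * e22

/-! ### the generators -/

/-- the matrices of the generators -/
def gm (j : ℕ) : Matrix (Fin 3) (Fin 3) K := fun i k => elt (gent j i.val k.val)

theorem det_gmF : ∀ j : Fin 5,
    gm j.val 0 0 * gm j.val 1 1 * gm j.val 2 2 - gm j.val 0 0 * gm j.val 1 2 * gm j.val 2 1 -
      gm j.val 0 1 * gm j.val 1 0 * gm j.val 2 2 + gm j.val 0 1 * gm j.val 1 2 * gm j.val 2 0 +
      gm j.val 0 2 * gm j.val 1 0 * gm j.val 2 1 - gm j.val 0 2 * gm j.val 1 1 * gm j.val 2 0 = 1 := by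
  decide +kernel

theorem det_gm (j : ℕ) (hj : j < 5) : (gm j).det = 1 := by
  rw [Matrix.det_fin_three]
  exact det_gmF ⟨j, hj⟩

/-- a generator -/
def gsOf (j : ℕ) (hj : j < 5) : SL3 := ⟨gm j, det_gm j hj⟩

/-- the generators -/
def gs (j : ℕ) : SL3 := if hj : j < 5 then gsOf j hj else 1

theorem gs_coe (j : ℕ) (hj : j < 5) : (gs j).1 = gm j := by
  unfold gs
  rw [dif_pos hj]
  rfl

theorem cols_gmF : ∀ j : Fin 5, ∀ a b : Fin 3,
    gm j.val 0 a * fr (gm j.val 0 b) + gm j.val 1 a * fr (gm j.val 1 b) + gm j.val 2 a * fr (gm j.val 2 b) =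
      if a = b then 1 else 0 := by decide +kernel

theorem gs_mem (j : ℕ) (hj : j < 5) : gs j ∈ SU 3 K 4 := by
  apply mem_SU_of_cols
  rw [gs_coe j hj]
  exact cols_gmF ⟨j, hj⟩

/-! ### the action on the points -/

/-- the test that the table of a generator is right -/
def smulB (j : ℕ) : Bool :=
  rangeAll 0 2015 (fun x => Nat.beq (codeOf (mv3 (gm j) (vecOf (ptC x)))) (ptC (tab0 j x)))

theorem smul_ok0 : smulB 0 = true := by decide +kernel
theorem smul_ok1 : smulB 1 = true := by decide +kernel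
theorem smul_ok2 : smulB 2 = true := by decide +kernel
theorem smul_ok3 : smulB 3 = true := by decide +kernel
theorem smul_ok4 : smulB 4 = true := by decide +kernel

theorem smul_ok (j : ℕ) (hj : j < 5) : smulB j = true := by
  interval_cases j
  · exact smul_ok0
  · exact smul_ok1
  · exact smul_ok2
  · exact smul_ok3
  · exact smul_ok4

theorem gen_smul0 (j : ℕ) (hj : j < 5) (x : ℕ) (hx : x < 2015) : gs j • pt x = pt (tab0 j x) := by
  have h := Nat.eq_of_beq_eq_true (rangeAll_sound 0 2015 _ (smul_ok j hj) x (Nat.zero_le x) (by omega))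
  rw [smul_eq_mv3, gs_coe j hj]
  show mv3 (gm j) (vecOf (ptC x)) = vecOf (ptC (tab0 j x))
  rw [← h, vecOf_codeOf]

theorem tab0_ltB : rangeAll 0 5 (fun j => rangeAll 0 2015 fun x => Nat.blt (tab0 j x) 2015) = true := by
  decide +kernel

theorem tab0_lt (j : ℕ) (hj : j < 5) (x : ℕ) (hx : x < 2015) : tab0 j x < 2015 :=
  Nat.le_of_ble_eq_true (rangeAll_sound 0 2015 _
    (rangeAll_sound 0 5 _ tab0_ltB j (Nat.zero_le j) (by omega)) x (Nat.zero_le x) (by omega))

theorem pt_b0 : pt 0 = ![1, 0, 0] := by decide +kernel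
theorem pt_b1 : pt 5 = ![0, 1, 0] := by decide +kernel
theorem pt_b2 : pt 135 = ![0, 0, 1] := by decide +kernel

theorem single0 : (Pi.single 0 1 : Vec) = ![1, 0, 0] := by
  funext i; fin_cases i <;> rfl
theorem single1 : (Pi.single 1 1 : Vec) = ![0, 1, 0] := by
  funext i; fin_cases i <;> rfl
theorem single2 : (Pi.single 2 1 : Vec) = ![0, 0, 1] := by
  funext i; fin_cases i <;> rfl

theorem smul_single (g : SL3) (k : Fin 3) : g • (Pi.single k 1 : Vec) = fun i => g.1 i k := by
  rw [Matrix.SpecialLinearGroup.smul_def, Matrix.smul_eq_mulVec, Matrix.mulVec_single_one]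
  rfl

theorem faithful (g g' : SL3) (h : ∀ x ∈ chkL, g • pt x = g' • pt x) : g = g' := by
  have h0 := h 0 (by decide)
  have h1 := h 5 (by decide)
  have h2 := h 135 (by decide)
  rw [pt_b0, ← single0, smul_single, smul_single] at h0
  rw [pt_b1, ← single1, smul_single, smul_single] at h1
  rw [pt_b2, ← single2, smul_single, smul_single] at h2
  apply Subtype.ext
  ext i k
  fin_cases k
  · exact congrFun h0 i
  · exact congrFun h1 i
  · exact congrFun h2 i

/-- the table-driven data of the five generators -/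
def D0 : Data SL3 Vec where
  m := 5
  N := 2015
  gen := gs
  pt := pt
  tab := tab0
  chk := chkL
  gen_smul := gen_smul0
  tab_lt := tab0_lt
  chk_lt x hx := by
    have : x = 0 ∨ x = 5 ∨ x = 135 := by simpa [chkL] using hx
    rcases this with rfl | rfl | rfl <;> norm_num
  faithful := faithful
  pt_inj := pt_inj

end Cfsg.Agent.Lib.Helper58.U34Group
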