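import Mathlib
import Cfsg.Agent.Lib.Helper58.U34Group

/-!
# `SU₃(4)`: the stabiliser chain, the order, the centre, some elements
-/

set_option autoImplicit false
set_option maxRecDepth 100000
set_option Elab.async false

namespace Cfsg.Agent.Lib.Helper58.U34Chain

open Cfsg Matrix
open Cfsg.Agent.Lib.Helper89 Cfsg.Agent.Lib.Helper89.TableChain2
open Cfsg.Agent.Lib.Helper58.U34Field Cfsg.Agent.Lib.Helper58.U34Field.F16c
open Cfsg.Agent.Lib.Helper58.U34Data Cfsg.Agent.Lib.Helper58.FastChain Cfsg.Agent.Lib.Helper58.U34Group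
open Cfsg.Agent.Lib.Helper58.EvTools

/-! ### level 0 -/

theorem fix0 : rangeAll 0 2 (fun j => Nat.beq (tab0 j 0) 0) = true := by decide +kernel
theorem head0 : wl0 0 = 0 := by decide +kernel
theorem words0 : rangeAll 0 1040 (fun a => lettersLt 5 (wc0 a) (wl0 a)) = true := by decide +kernel
theorem inj0 : rangeAll 0 1040 (fun a => Nat.beq (pos0 (actP tab0 (wc0 a) (wl0 a) 0)) a) = true := by
  decide +kernel

theorem st0_0 : rangeAll 0 1040 (fun a => stepF tab0 chkL 2 1040 wc0 wl0 0 a (ea0 0 a) (ec0 0 a) (el0 0 a)) = true := by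
  decide +kernel
theorem st0_1 : rangeAll 0 1040 (fun a => stepF tab0 chkL 2 1040 wc0 wl0 1 a (ea0 1 a) (ec0 1 a) (el0 1 a)) = true := by
  decide +kernel
theorem st0_2 : rangeAll 0 1040 (fun a => stepF tab0 chkL 2 1040 wc0 wl0 2 a (ea0 2 a) (ec0 2 a) (el0 2 a)) = true := by
  decide +kernel
theorem st0_3 : rangeAll 0 1040 (fun a => stepF tab0 chkL 2 1040 wc0 wl0 3 a (ea0 3 a) (ec0 3 a) (el0 3 a)) = true := by
  decide +kernel
theorem st0_4 : rangeAll 0 1040 (fun a => stepF tab0 chkL 2 1040 wc0 wl0 4 a (ea0 4 a) (ec0 4 a) (el0 4 a)) = true := by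
  decide +kernel

theorem step0 (j : ℕ) (hj : j < 5) (a : ℕ) (ha : a < 1040) :
    stepF tab0 chkL 2 1040 wc0 wl0 j a (ea0 j a) (ec0 j a) (el0 j a) = true := by
  interval_cases j
  · exact rangeAll_sound 0 1040 _ st0_0 a (Nat.zero_le a) (by omega)
  · exact rangeAll_sound 0 1040 _ st0_1 a (Nat.zero_le a) (by omega)
  · exact rangeAll_sound 0 1040 _ st0_2 a (Nat.zero_le a) (by omega)
  · exact rangeAll_sound 0 1040 _ st0_3 a (Nat.zero_le a) (by omega)
  · exact rangeAll_sound 0 1040 _ st0_4 a (Nat.zero_le a) (by omega)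

theorem ok0 : Data.LevelOK D0 5 2 0 (transv 1040 wc0 wl0) [] :=
  levelOK_fast D0 5 2 0 1040 wc0 wl0 pos0 ea0 ec0 el0 (le_refl 5) (by show 0 < 2015; norm_num)
    (by norm_num) (by norm_num) fix0 head0 words0 inj0 step0

/-! ### level 1 -/

theorem fix1 : rangeAll 0 0 (fun j => Nat.beq (tab0 j 5) 5) = true := rfl
theorem head1 : wl1 0 = 0 := by decide +kernel
theorem words1 : rangeAll 0 60 (fun a => lettersLt 2 (wc1 a) (wl1 a)) = true := by decide +kernel
theorem inj1 : rangeAll 0 60 (fun a => Nat.beq (pos1 (actP tab0 (wc1 a) (wl1 a) 5)) a) = true := by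
  decide +kernel

theorem st1_0 : rangeAll 0 60 (fun a => stepF tab0 chkL 0 60 wc1 wl1 0 a (ea1 0 a) (ec1 0 a) (el1 0 a)) = true := by
  decide +kernel
theorem st1_1 : rangeAll 0 60 (fun a => stepF tab0 chkL 0 60 wc1 wl1 1 a (ea1 1 a) (ec1 1 a) (el1 1 a)) = true := by
  decide +kernel

theorem step1 (j : ℕ) (hj : j < 2) (a : ℕ) (ha : a < 60) :
    stepF tab0 chkL 0 60 wc1 wl1 j a (ea1 j a) (ec1 j a) (el1 j a) = true := by
  interval_cases j
  · exact rangeAll_sound 0 60 _ st1_0 a (Nat.zero_le a) (by omega)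
  · exact rangeAll_sound 0 60 _ st1_1 a (Nat.zero_le a) (by omega)

theorem ok1 : Data.LevelOK D0 2 0 5 (transv 60 wc1 wl1) [] :=
  levelOK_fast D0 2 0 5 60 wc1 wl1 pos1 ea1 ec1 el1 (by show 2 ≤ 5; norm_num)
    (by show 5 < 2015; norm_num) (by norm_num) (by norm_num) fix1 head1 words1 inj1 step1

instance : Finite SL3 := inferInstance

theorem card_H : Nat.card (D0.H 5) = 62400 := by
  rw [ok0.card, ok1.card, Data.card_H_zero, transv_length, transv_length]

/-! ### the generated group is the special unitary group -/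

theorem H_le_SU : D0.H 5 ≤ SU 3 K 4 := by
  show Subgroup.closure (D0.S 5) ≤ SU 3 K 4
  rw [Subgroup.closure_le]
  rintro g ⟨j, hj, rfl⟩
  exact gs_mem j hj

/-- the unit vectors are points of the orbit of the first base point -/
theorem unitB : rangeAll 0 4096 (fun c => cond (decide (hf (vecOf c) (vecOf c) = 1))
    (Nat.blt (idxC c) 2015 && Nat.beq (ptC (idxC c)) c && Nat.blt (pos0 (idxC c)) 1040 &&
      Nat.beq (actP tab0 (wc0 (pos0 (idxC c))) (wl0 (pos0 (idxC c))) 0) (idxC c)) true) = true := by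
  decide +kernel

/-- the unit vectors orthogonal to the first base vector are points of the orbit of the second base point -/
theorem unit1B : rangeAll 0 4096 (fun c => cond (decide (hf (vecOf c) (vecOf c) = 1) && decide (vecOf c 0 = 0))
    (Nat.blt (idxC c) 2015 && Nat.beq (ptC (idxC c)) c && Nat.blt (pos1 (idxC c)) 60 &&
      Nat.beq (actP tab0 (wc1 (pos1 (idxC c))) (wl1 (pos1 (idxC c))) 5) (idxC c)) true) = true := by
  decide +kernel

theorem unit_cover (v : Vec) (hv : hf v v = 1) :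
    ∃ a < 1040, v = D0.pt (act D0.tab ((transv 1040 wc0 wl0).getD a []) 0) := by
  have h := rangeAll_sound 0 4096 _ unitB (codeOf v) (Nat.zero_le _) (by have := codeOf_lt v; omega)
  rw [vecOf_codeOf, decide_eq_true hv, cond_true] at h
  simp only [Bool.and_eq_true] at h
  obtain ⟨⟨⟨h1, h2⟩, h3⟩, h4⟩ := h
  have h2' := Nat.eq_of_beq_eq_true h2
  have h3' : pos0 (idxC (codeOf v)) < 1040 := Nat.le_of_ble_eq_true h3
  have h4' := Nat.eq_of_beq_eq_true h4
  refine ⟨pos0 (idxC (codeOf v)), h3', ?_⟩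
  rw [transv_getD 1040 wc0 wl0 _ h3', act_wordP]
  show v = U34Group.pt (actP tab0 _ _ 0)
  rw [h4']
  show v = vecOf (ptC (idxC (codeOf v)))
  rw [h2', vecOf_codeOf]

theorem unit1_cover (v : Vec) (hv : hf v v = 1) (hv0 : v 0 = 0) :
    ∃ a < 60, v = D0.pt (act D0.tab ((transv 60 wc1 wl1).getD a []) 5) := by
  have h := rangeAll_sound 0 4096 _ unit1B (codeOf v) (Nat.zero_le _) (by have := codeOf_lt v; omega)
  rw [vecOf_codeOf, decide_eq_true hv, decide_eq_true hv0, Bool.and_self, cond_true] at h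
  simp only [Bool.and_eq_true] at h
  obtain ⟨⟨⟨h1, h2⟩, h3⟩, h4⟩ := h
  have h2' := Nat.eq_of_beq_eq_true h2
  have h3' : pos1 (idxC (codeOf v)) < 60 := Nat.le_of_ble_eq_true h3
  have h4' := Nat.eq_of_beq_eq_true h4
  refine ⟨pos1 (idxC (codeOf v)), h3', ?_⟩
  rw [transv_getD 60 wc1 wl1 _ h3', act_wordP]
  show v = U34Group.pt (actP tab0 _ _ 5)
  rw [h4']
  show v = vecOf (ptC (idxC (codeOf v)))
  rw [h2', vecOf_codeOf]

theorem hf_e1 : hf ![1, 0, 0] ![1, 0, 0] = (1 : K) := by decide +kernel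
theorem hf_e2 : hf ![0, 1, 0] ![0, 1, 0] = (1 : K) := by decide +kernel
theorem hf_e21 : hf ![0, 1, 0] ![1, 0, 0] = (0 : K) := by decide +kernel

theorem hf_right_e1 (v : Vec) : hf v ![1, 0, 0] = v 0 := by
  show v 0 * fr 1 + v 1 * fr 0 + v 2 * fr 0 = v 0
  rw [fr_one, fr_zero]
  ring

theorem hf_right_e2 (v : Vec) : hf v ![0, 1, 0] = v 1 := by
  show v 0 * fr 0 + v 1 * fr 1 + v 2 * fr 0 = v 1
  rw [fr_one, fr_zero]
  ring

theorem hf_right_e3 (v : Vec) : hf v ![0, 0, 1] = v 2 := by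
  show v 0 * fr 0 + v 1 * fr 0 + v 2 * fr 1 = v 2
  rw [fr_one, fr_zero]
  ring

/-- a unitary matrix of determinant one fixing the first two base vectors is the identity -/
theorem eq_one_of_fix (g : SL3) (hg : g ∈ SU 3 K 4) (h1 : g • (![1, 0, 0] : Vec) = ![1, 0, 0])
    (h2 : g • (![0, 1, 0] : Vec) = ![0, 1, 0]) : g = 1 := by
  rw [mem_SU_iff] at hg
  have c0 : ∀ i, g.1 i 0 = (![1, 0, 0] : Vec) i := by
    intro i
    have h := congrFun h1 i
    rw [← single0, U34Group.smul_single] at h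
    rw [single0] at h
    exact h
  have c1 : ∀ i, g.1 i 1 = (![0, 1, 0] : Vec) i := by
    intro i
    have h := congrFun h2 i
    rw [← single1, U34Group.smul_single] at h
    rw [single1] at h
    exact h
  have e31 := hg ![0, 0, 1] ![1, 0, 0]
  rw [h1, hf_right_e1, hf_right_e1] at e31
  have e32 := hg ![0, 0, 1] ![0, 1, 0]
  rw [h2, hf_right_e2, hf_right_e2] at e32
  have c20 : g.1 0 2 = 0 := by
    have h := e31
    rw [← single2, U34Group.smul_single] at h
    simpa using h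
  have c21 : g.1 1 2 = 0 := by
    have h := e32
    rw [← single2, U34Group.smul_single] at h
    simpa using h
  have hdet := g.2
  rw [Matrix.det_fin_three, c0 0, c0 1, c0 2, c1 0, c1 1, c1 2, c20, c21] at hdet
  have c22 : g.1 2 2 = 1 := by
    simpa using hdet
  apply Subtype.ext
  ext i k
  fin_cases i <;> fin_cases k
  · simpa using c0 0
  · simpa using c1 0
  · simpa using c20
  · simpa using c0 1
  · simpa using c1 1
  · simpa using c21
  · simpa using c0 2
  · simpa using c1 2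
  · simpa using c22

theorem SU_le_H : SU 3 K 4 ≤ D0.H 5 := by
  intro γ hγ
  refine ok0.mem_H_of_cover (fun γ => γ ∈ SU 3 K 4) ?_ ?_ ?_ γ hγ
  · intro γ u hγ hu
    exact (SU 3 K 4).mul_mem ((SU 3 K 4).inv_mem (H_le_SU hu)) hγ
  · intro γ hγ
    have hγ' := (mem_SU_iff γ).1 hγ
    have hu : hf (γ • D0.pt 0) (γ • D0.pt 0) = 1 := by
      rw [hγ']
      show hf (U34Group.pt 0) (U34Group.pt 0) = 1
      rw [pt_b0]
      exact hf_e1
    obtain ⟨a, ha, hav⟩ := unit_cover _ hu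
    exact ⟨a, by rw [transv_length]; exact ha, hav⟩
  · intro γ hγ hfix
    refine ok1.mem_H_of_cover (fun γ => γ ∈ SU 3 K 4 ∧ γ • D0.pt 0 = D0.pt 0) ?_ ?_ ?_ γ ⟨hγ, hfix⟩
    · rintro γ u ⟨hγ, hfix⟩ hu
      refine ⟨(SU 3 K 4).mul_mem ((SU 3 K 4).inv_mem (H_le_SU (D0.H_mono (by norm_num) hu))) hγ, ?_⟩
      have hst : u • D0.pt 0 = D0.pt 0 := ok0.le_stab hu
      rw [mul_smul, hfix, inv_smul_eq_iff, hst]
    · rintro γ ⟨hγ, hfix⟩
      have hγ' := (mem_SU_iff γ).1 hγ
      have hu : hf (γ • D0.pt 5) (γ • D0.pt 5) = 1 := by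
        rw [hγ']
        show hf (U34Group.pt 5) (U34Group.pt 5) = 1
        rw [pt_b1]
        exact hf_e2
      have hu0 : (γ • D0.pt 5) 0 = 0 := by
        have h1 := hγ' (D0.pt 5) (D0.pt 0)
        rw [hfix] at h1
        have e0 : D0.pt 0 = ![1, 0, 0] := pt_b0
        have e5 : D0.pt 5 = ![0, 1, 0] := pt_b1
        rw [e0, hf_right_e1, e5, hf_e21] at h1
        rw [e5]
        exact h1
      obtain ⟨a, ha, hav⟩ := unit1_cover _ hu hu0
      exact ⟨a, by rw [transv_length]; exact ha, hav⟩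
    · rintro γ ⟨hγ, hfix⟩ hfix5
      rw [Data.H_zero, Subgroup.mem_bot]
      have e0 : D0.pt 0 = ![1, 0, 0] := pt_b0
      have e5 : D0.pt 5 = ![0, 1, 0] := pt_b1
      rw [e0] at hfix
      rw [e5] at hfix5
      exact eq_one_of_fix γ hγ hfix hfix5

theorem SU_eq : SU 3 K 4 = D0.H 5 := le_antisymm SU_le_H H_le_SU

theorem card_SU : Nat.card ↥(SU 3 K 4) = 62400 := by
  rw [SU_eq]
  exact card_H

end Cfsg.Agent.Lib.Helper58.U34Chain
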