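import Mathlib
import Cfsg.Agent.Lib.Helper58.U34Chain

/-!
# `SU₃(4)`: the centre is trivial; elements of orders 10, 15 and 13
-/

set_option autoImplicit false
set_option maxRecDepth 100000
set_option Elab.async false

namespace Cfsg.Agent.Lib.Helper58.U34Elts

open Cfsg Matrix
open Cfsg.Agent.Lib.Helper89 Cfsg.Agent.Lib.Helper89.TableChain2
open Cfsg.Agent.Lib.Helper58.U34Field Cfsg.Agent.Lib.Helper58.U34Field.F16c
open Cfsg.Agent.Lib.Helper58.U34Data Cfsg.Agent.Lib.Helper58.FastChain Cfsg.Agent.Lib.Helper58.U34Group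
open Cfsg.Agent.Lib.Helper58.U34Chain Cfsg.Agent.Lib.Helper58.EvTools

/-- the group -/
abbrev SUc : Subgroup SL3 := SU 3 K 4

/-! ### the centre -/

theorem gm3_eq : gm 3 = Matrix.diagonal ![x8, x15, x1] := by
  ext i j
  fin_cases i <;> fin_cases j <;> decide +kernel

theorem gm2_eq : gm 2 = !![0, 0, 1; 1, 0, 0; 0, 1, 0] := by
  ext i j
  fin_cases i <;> fin_cases j <;> decide +kernel

theorem diag_ne : ∀ i j : Fin 3, i ≠ j →
    (![x8, x15, x1] : Fin 3 → K) i - (![x8, x15, x1] : Fin 3 → K) j ≠ 0 := by decide +kernel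

theorem scalar_one : ∀ a : K, a * a * a = 1 → a * fr a = 1 → a = 1 := by decide +kernel

theorem center_eq_bot : Subgroup.center ↥SUc = ⊥ := by
  rw [eq_bot_iff]
  intro z hz
  rw [Subgroup.mem_bot]
  rw [Subgroup.mem_center_iff] at hz
  have hD := hz ⟨gs 3, gs_mem 3 (by norm_num)⟩
  have hP := hz ⟨gs 2, gs_mem 2 (by norm_num)⟩
  have hD' : gm 3 * z.1.1 = z.1.1 * gm 3 := by
    have := congrArg (fun g : ↥SUc => (g.1.1 : Matrix (Fin 3) (Fin 3) K)) hD
    simpa [gs_coe 3 (by norm_num)] using this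
  have hP' : gm 2 * z.1.1 = z.1.1 * gm 2 := by
    have := congrArg (fun g : ↥SUc => (g.1.1 : Matrix (Fin 3) (Fin 3) K)) hP
    simpa [gs_coe 2 (by norm_num)] using this
  set Z : Matrix (Fin 3) (Fin 3) K := z.1.1 with hZ
  rw [gm3_eq] at hD'
  rw [gm2_eq] at hP'
  have ent : ∀ i j : Fin 3, (![x8, x15, x1] : Fin 3 → K) i * Z i j = Z i j * (![x8, x15, x1] : Fin 3 → K) j := by
    intro i j
    have := congrFun (congrFun hD' i) j
    rwa [Matrix.diagonal_mul, Matrix.mul_diagonal] at this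
  have off : ∀ i j : Fin 3, i ≠ j → Z i j = 0 := by
    intro i j hij
    have h := ent i j
    have hne : (![x8, x15, x1] : Fin 3 → K) i - (![x8, x15, x1] : Fin 3 → K) j ≠ 0 :=
      diag_ne i j hij
    have h2 : ((![x8, x15, x1] : Fin 3 → K) i - (![x8, x15, x1] : Fin 3 → K) j) * Z i j = 0 := by
      linear_combination h
    exact (mul_eq_zero.mp h2).resolve_left hne
  have d10 : Z 1 1 = Z 0 0 := by
    have := congrFun (congrFun hP' 1) 0
    simp [Matrix.mul_apply, Fin.sum_univ_three] at this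
    exact this.symm
  have d21 : Z 2 2 = Z 1 1 := by
    have := congrFun (congrFun hP' 2) 1
    simp [Matrix.mul_apply, Fin.sum_univ_three] at this
    exact this.symm
  have hdet : Z.det = 1 := z.1.2
  rw [Matrix.det_fin_three, off 0 1 (by decide), off 0 2 (by decide), off 1 0 (by decide),
    off 1 2 (by decide), off 2 0 (by decide), off 2 1 (by decide), d21, d10] at hdet
  have h3 : Z 0 0 * Z 0 0 * Z 0 0 = 1 := by
    simpa using hdet
  have hu := (mem_SU_iff z.1).1 z.2 ![1, 0, 0] ![1, 0, 0]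
  rw [hf_e1, ← single0, U34Group.smul_single] at hu
  have h5 : Z 0 0 * fr (Z 0 0) = 1 := by
    have : Z 0 0 * fr (Z 0 0) + Z 1 0 * fr (Z 1 0) + Z 2 0 * fr (Z 2 0) = 1 := hu
    rw [off 1 0 (by decide), off 2 0 (by decide), fr_zero] at this
    simpa using this
  have ha := scalar_one _ h3 h5
  apply Subtype.ext
  apply Subtype.ext
  show Z = 1
  ext i j
  fin_cases i <;> fin_cases j
  · simpa using ha
  · simpa using off 0 1 (by decide)
  · simpa using off 0 2 (by decide)
  · simpa using off 1 0 (by decide)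
  · simpa [d10] using ha
  · simpa using off 1 2 (by decide)
  · simpa using off 2 0 (by decide)
  · simpa using off 2 1 (by decide)
  · simpa [d21, d10] using ha

/-! ### elements -/

theorem x10_lt : ∀ c ∈ x10W, c < D0.m := by
  show ∀ c ∈ x10W, c < 5
  decide

theorem x15_lt : ∀ c ∈ x15W, c < D0.m := by
  show ∀ c ∈ x15W, c < 5
  decide

theorem s13_lt : ∀ c ∈ s13W, c < D0.m := by
  show ∀ c ∈ s13W, c < 5
  decide

theorem x10_pow10 : D0.chk.all (fun x => Nat.beq (act D0.tab ((List.replicate 10 x10W).flatten) x) x) = true := by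
  decide +kernel
theorem x10_pow5 : D0.chk.any (fun x => !(Nat.beq (act D0.tab ((List.replicate 5 x10W).flatten) x) x)) = true := by
  decide +kernel
theorem x10_pow2 : D0.chk.any (fun x => !(Nat.beq (act D0.tab ((List.replicate 2 x10W).flatten) x) x)) = true := by
  decide +kernel

theorem order_x10 : orderOf (D0.ev x10W) = 10 := by
  apply orderOf_eq_of_pow_and_pow_div_prime (by norm_num) (pow_eq_one D0 x10W 10 x10_lt x10_pow10)
  intro p hp hpd
  have h25 : p = 2 ∨ p = 5 := by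
    have : p ∣ 2 * 5 := hpd
    rcases (Nat.Prime.dvd_mul hp).1 this with h | h
    · left; exact (Nat.prime_dvd_prime_iff_eq hp Nat.prime_two).1 h
    · right; exact (Nat.prime_dvd_prime_iff_eq hp Nat.prime_five).1 h
  rcases h25 with rfl | rfl
  · exact pow_ne_one D0 x10W 5 x10_lt x10_pow5
  · exact pow_ne_one D0 x10W 2 x10_lt x10_pow2

theorem x15_pow15 : D0.chk.all (fun x => Nat.beq (act D0.tab ((List.replicate 15 x15W).flatten) x) x) = true := by
  decide +kernel
theorem x15_pow5 : D0.chk.any (fun x => !(Nat.beq (act D0.tab ((List.replicate 5 x15W).flatten) x) x)) = true := by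
  decide +kernel
theorem x15_pow3 : D0.chk.any (fun x => !(Nat.beq (act D0.tab ((List.replicate 3 x15W).flatten) x) x)) = true := by
  decide +kernel

theorem order_x15 : orderOf (D0.ev x15W) = 15 := by
  apply orderOf_eq_of_pow_and_pow_div_prime (by norm_num) (pow_eq_one D0 x15W 15 x15_lt x15_pow15)
  intro p hp hpd
  have h35 : p = 3 ∨ p = 5 := by
    have : p ∣ 3 * 5 := hpd
    rcases (Nat.Prime.dvd_mul hp).1 this with h | h
    · left; exact (Nat.prime_dvd_prime_iff_eq hp Nat.prime_three).1 h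
    · right; exact (Nat.prime_dvd_prime_iff_eq hp Nat.prime_five).1 h
  rcases h35 with rfl | rfl
  · exact pow_ne_one D0 x15W 5 x15_lt x15_pow5
  · exact pow_ne_one D0 x15W 3 x15_lt x15_pow3

theorem s13_pow : D0.chk.all (fun x => Nat.beq (act D0.tab ((List.replicate 13 s13W).flatten) x) x) = true := by
  decide +kernel
theorem s13_ne : D0.chk.any (fun x => !(Nat.beq (act D0.tab ((List.replicate 1 s13W).flatten) x) x)) = true := by
  decide +kernel

theorem order_s13 : orderOf (D0.ev s13W) = 13 := by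
  have : Fact (Nat.Prime 13) := ⟨by norm_num⟩
  apply orderOf_eq_prime (pow_eq_one D0 s13W 13 s13_lt s13_pow)
  have := pow_ne_one D0 s13W 1 s13_lt s13_ne
  rwa [pow_one] at this

theorem ev_mem_SU (w : List ℕ) (hw : ∀ c ∈ w, c < D0.m) : D0.ev w ∈ SUc := by
  show D0.ev w ∈ SU 3 K 4
  rw [SU_eq]
  exact D0.ev_mem 5 w hw

/-- the element of order 13 -/
def s13 : ↥SUc := ⟨D0.ev s13W, ev_mem_SU s13W s13_lt⟩

theorem orderOf_s13 : orderOf s13 = 13 := by
  unfold s13
  rw [Subgroup.orderOf_mk]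
  exact order_s13

theorem exists_ten : ∃ x : ↥SUc, orderOf x = 5 * 2 :=
  ⟨⟨D0.ev x10W, ev_mem_SU x10W x10_lt⟩, by rw [Subgroup.orderOf_mk]; exact order_x10⟩

theorem exists_fifteen : ∃ x : ↥SUc, orderOf x = 5 * 3 :=
  ⟨⟨D0.ev x15W, ev_mem_SU x15W x15_lt⟩, by rw [Subgroup.orderOf_mk]; exact order_x15⟩

theorem card_SUc : Nat.card ↥SUc = 62400 := card_SU

theorem prime_dvd_card {r : ℕ} (hr : r.Prime) (h : r ∣ 62400) : r = 2 ∨ r = 3 ∨ r = 5 ∨ r = 13 := by
  have e : 62400 = 2 ^ 6 * 3 * 5 ^ 2 * 13 := by norm_num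
  rw [e] at h
  rcases (Nat.Prime.dvd_mul hr).1 h with h | h
  · rcases (Nat.Prime.dvd_mul hr).1 h with h | h
    · rcases (Nat.Prime.dvd_mul hr).1 h with h | h
      · exact Or.inl ((Nat.prime_dvd_prime_iff_eq hr Nat.prime_two).1 (hr.dvd_of_dvd_pow h))
      · exact Or.inr (Or.inl ((Nat.prime_dvd_prime_iff_eq hr Nat.prime_three).1 h))
    · exact Or.inr (Or.inr (Or.inl ((Nat.prime_dvd_prime_iff_eq hr Nat.prime_five).1 (hr.dvd_of_dvd_pow h))))
  · exact Or.inr (Or.inr (Or.inr ((Nat.prime_dvd_prime_iff_eq hr (by norm_num)).1 h)))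

end Cfsg.Agent.Lib.Helper58.U34Elts
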