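import Mathlib
import Cfsg.Agent.Lib.Helper58.U34Elts
import Cfsg.Agent.Lib.Helper58.PGExt
import Cfsg.Agent.Lib.Helper58.PGExtP

/-!
# `SU₃(4)`: a module over the field with five elements on which the elements of order 13 have no fixed points

The module consists of the differences of the functions on the isotropic vectors which are constant on
the isotropic points and sum to zero on the blocks of the hermitian unital.
-/

set_option autoImplicit false
set_option maxRecDepth 100000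
set_option Elab.async false

namespace Cfsg.Agent.Lib.Helper58.U34Mod

open Cfsg Matrix
open Cfsg.Agent.Lib.Helper89 Cfsg.Agent.Lib.Helper89.TableChain2
open Cfsg.Agent.Lib.Helper58.U34Field Cfsg.Agent.Lib.Helper58.U34Field.F16c
open Cfsg.Agent.Lib.Helper58.U34Data Cfsg.Agent.Lib.Helper58.FastChain Cfsg.Agent.Lib.Helper58.U34Group
open Cfsg.Agent.Lib.Helper58.U34Chain Cfsg.Agent.Lib.Helper58.EvTools Cfsg.Agent.Lib.Helper58.U34Elts

/-! ### the action of a group on the sum of copies of a module, written multiplicatively -/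

section generic

variable {G A : Type*} [Group G] [AddCommGroup A] [DistribMulAction G A]

/-- the action of an element -/
def actAut (N : ℕ) (g : G) : MulAut (Multiplicative (Fin N → A)) where
  toFun v := Multiplicative.ofAdd fun i => g • (Multiplicative.toAdd v i)
  invFun v := Multiplicative.ofAdd fun i => g⁻¹ • (Multiplicative.toAdd v i)
  left_inv v := by
    apply Multiplicative.toAdd.injective
    funext i
    show g⁻¹ • (g • (Multiplicative.toAdd v i)) = Multiplicative.toAdd v i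
    rw [inv_smul_smul]
  right_inv v := by
    apply Multiplicative.toAdd.injective
    funext i
    show g • (g⁻¹ • (Multiplicative.toAdd v i)) = Multiplicative.toAdd v i
    rw [smul_inv_smul]
  map_mul' v w := by
    apply Multiplicative.toAdd.injective
    funext i
    show g • (Multiplicative.toAdd v i + Multiplicative.toAdd w i) =
      g • Multiplicative.toAdd v i + g • Multiplicative.toAdd w i
    rw [smul_add]

/-- the action as a homomorphism -/
def actHom (N : ℕ) : G →* MulAut (Multiplicative (Fin N → A)) where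
  toFun := actAut N
  map_one' := by
    apply MulEquiv.ext
    intro v
    apply Multiplicative.toAdd.injective
    funext i
    show (1 : G) • (Multiplicative.toAdd v i) = Multiplicative.toAdd v i
    rw [one_smul]
  map_mul' g h := by
    apply MulEquiv.ext
    intro v
    apply Multiplicative.toAdd.injective
    funext i
    show (g * h) • (Multiplicative.toAdd v i) = g • (h • Multiplicative.toAdd v i)
    rw [mul_smul]

theorem actHom_apply (N : ℕ) (g : G) (v : Multiplicative (Fin N → A)) (i : Fin N) :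
    Multiplicative.toAdd (actHom N g v) i = g • Multiplicative.toAdd v i := rfl

end generic

/-- a conjugacy argument: when the Sylow subgroups for `p` have order `p`, an element of order `p` without
fixed points forces the same for all elements of order `p` -/
theorem fpf_of_conj {L V : Type*} [Group L] [Finite L] [Group V] (φ : L →* MulAut V)
    (p : ℕ) [Fact p.Prime] (s : L) (hs : orderOf s = p) (hp2 : ¬ p ^ 2 ∣ Nat.card L)
    (hfix : ∀ v : V, φ s v = v → v = 1) (x : L) (hx : orderOf x = p) (v : V) (hv : φ x v = v) :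
    v = 1 := by
  obtain ⟨g, i, hg⟩ := PGExt.exists_conj_zpow p s x hs hx hp2
  have hxi : φ (x ^ i) v = v := by
    rw [map_zpow]
    have hmem : φ x ∈ MulAction.stabilizer (MulAut V) v := by
      rw [MulAction.mem_stabilizer_iff]
      exact hv
    have h2 := (MulAction.stabilizer (MulAut V) v).zpow_mem hmem i
    rw [MulAction.mem_stabilizer_iff] at h2
    exact h2
  have hsw : φ s (φ g v) = φ g v := by
    rw [hg, map_mul, map_mul, map_inv, MulAut.mul_apply, MulAut.mul_apply, MulAut.inv_apply_self, hxi]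
  have hw : φ g v = 1 := hfix _ hsw
  exact (EmbeddingLike.map_eq_one_iff (f := φ g)).1 hw

/-! ### isotropic vectors -/

/-- the nonzero isotropic vectors -/
def iso (y : Vec) : Prop := hf y y = 0 ∧ y ≠ 0

instance : DecidablePred iso := fun y => inferInstanceAs (Decidable (hf y y = 0 ∧ y ≠ 0))

theorem iso_smul (g : SL3) (hg : g ∈ SUc) (x : Vec) : iso (g • x) ↔ iso x := by
  unfold iso
  rw [(mem_SU_iff g).1 hg x x, Ne, Ne, smul_eq_zero_iff_eq]

/-! ### the module -/

/-- the sum of a function over the translate of the standard block -/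
def blk (f : Vec → ZMod 5) (g : SL3) : ZMod 5 :=
  f (g • pt 6) + f (g • pt 12) + f (g • pt 21) + f (g • pt 34) + f (g • pt 43)

/-- the functions constant on the points and with sum zero on all blocks -/
def V0 : AddSubgroup (Vec → ZMod 5) where
  carrier := {f | (∀ c : K, c ≠ 0 → ∀ y : Vec, f (c • y) = f y) ∧ ∀ g : SL3, g ∈ SUc → blk f g = 0}
  zero_mem' := ⟨fun _ _ _ => rfl, fun _ _ => by simp [blk]⟩
  add_mem' := by
    rintro f f' ⟨h1, h2⟩ ⟨h1', h2'⟩
    refine ⟨fun c hc y => ?_, fun g hg => ?_⟩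
    · show f (c • y) + f' (c • y) = f y + f' y
      rw [h1 c hc y, h1' c hc y]
    · have e1 := h2 g hg
      have e2 := h2' g hg
      unfold blk at e1 e2 ⊢
      simp only [Pi.add_apply]
      linear_combination e1 + e2
  neg_mem' := by
    rintro f ⟨h1, h2⟩
    refine ⟨fun c hc y => ?_, fun g hg => ?_⟩
    · show -f (c • y) = -f y
      rw [h1 c hc y]
    · have e1 := h2 g hg
      unfold blk at e1 ⊢
      simp only [Pi.neg_apply]
      linear_combination -e1

theorem mem_V0_iff (f : Vec → ZMod 5) :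
    f ∈ V0 ↔ (∀ c : K, c ≠ 0 → ∀ y : Vec, f (c • y) = f y) ∧ ∀ g : SL3, g ∈ SUc → blk f g = 0 :=
  Iff.rfl

/-- the differences on pairs of isotropic vectors -/
def delta : (Vec → ZMod 5) →+ (Vec → Vec → ZMod 5) where
  toFun f := fun x y => if iso x ∧ iso y then f x - f y else 0
  map_zero' := by
    funext x y
    simp
  map_add' f f' := by
    funext x y
    show (if iso x ∧ iso y then (f + f') x - (f + f') y else 0) =
      (if iso x ∧ iso y then f x - f y else 0) + (if iso x ∧ iso y then f' x - f' y else 0)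
    split_ifs
    · simp only [Pi.add_apply]
      ring
    · simp

theorem delta_apply (f : Vec → ZMod 5) (x y : Vec) :
    delta f x y = if iso x ∧ iso y then f x - f y else 0 := rfl

/-- the module -/
def V1 : AddSubgroup (Vec → Vec → ZMod 5) := V0.map delta

/-- the action on the functions of two vectors -/
def actF (g : SL3) (F : Vec → Vec → ZMod 5) : Vec → Vec → ZMod 5 := fun x y => F (g⁻¹ • x) (g⁻¹ • y)

theorem actF_one (F : Vec → Vec → ZMod 5) : actF 1 F = F := by
  funext x y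
  show F ((1 : SL3)⁻¹ • x) ((1 : SL3)⁻¹ • y) = F x y
  rw [inv_one, one_smul, one_smul]

theorem actF_mul (g h : SL3) (F : Vec → Vec → ZMod 5) : actF (g * h) F = actF g (actF h F) := by
  funext x y
  show F ((g * h)⁻¹ • x) ((g * h)⁻¹ • y) = F (h⁻¹ • g⁻¹ • x) (h⁻¹ • g⁻¹ • y)
  rw [_root_.mul_inv_rev, mul_smul, mul_smul]

theorem actF_zero (g : SL3) : actF g 0 = 0 := rfl

theorem actF_add (g : SL3) (F F' : Vec → Vec → ZMod 5) : actF g (F + F') = actF g F + actF g F' := rfl

theorem actF_delta (g : SL3) (hg : g ∈ SUc) (f : Vec → ZMod 5) :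
    actF g (delta f) = delta (fun y => f (g⁻¹ • y)) := by
  funext x y
  show (if iso (g⁻¹ • x) ∧ iso (g⁻¹ • y) then f (g⁻¹ • x) - f (g⁻¹ • y) else 0) =
    (if iso x ∧ iso y then f (g⁻¹ • x) - f (g⁻¹ • y) else 0)
  simp only [iso_smul g⁻¹ (SUc.inv_mem hg)]

theorem shift_mem (g : SL3) (hg : g ∈ SUc) (f : Vec → ZMod 5) (hf0 : f ∈ V0) :
    (fun y => f (g⁻¹ • y)) ∈ V0 := by
  obtain ⟨h1, h2⟩ := (mem_V0_iff f).1 hf0
  refine (mem_V0_iff _).2 ⟨fun c hc y => ?_, fun h hh => ?_⟩
  · show f (g⁻¹ • (c • y)) = f (g⁻¹ • y)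
    rw [smul_comm, h1 c hc]
  · have := h2 (g⁻¹ * h) (SUc.mul_mem (SUc.inv_mem hg) hh)
    unfold blk at this ⊢
    simp only [mul_smul] at this
    exact this

theorem actF_mem (g : SL3) (hg : g ∈ SUc) (F : Vec → Vec → ZMod 5) (hF : F ∈ V1) : actF g F ∈ V1 := by
  obtain ⟨f, hf0, rfl⟩ := AddSubgroup.mem_map.1 hF
  rw [actF_delta g hg]
  exact AddSubgroup.mem_map.2 ⟨_, shift_mem g hg f hf0, rfl⟩

instance : DistribMulAction ↥SUc ↥V1 where
  smul g F := ⟨actF g.1 F.1, actF_mem g.1 g.2 F.1 F.2⟩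
  one_smul F := Subtype.ext (actF_one F.1)
  mul_smul g h F := Subtype.ext (actF_mul g.1 h.1 F.1)
  smul_zero g := Subtype.ext (actF_zero g.1)
  smul_add g F F' := Subtype.ext (actF_add g.1 F.1 F'.1)

theorem smul_val (g : ↥SUc) (F : ↥V1) : (g • F).1 = actF g.1 F.1 := rfl

/-! ### a nonzero element of the module -/

/-- a function in the module -/
def f0 (v : Vec) : ZMod 5 := ((tbl (codeOf v) : ℕ) : ZMod 5)

theorem tbl_scalar : ∀ c a b d : K, c ≠ 0 → tbl (code3 (c * a) (c * b) (c * d)) = tbl (code3 a b d) := by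
  decide +kernel

theorem f0_scalar (c : K) (hc : c ≠ 0) (y : Vec) : f0 (c • y) = f0 y := by
  show ((tbl (code3 (c * y 0) (c * y 1) (c * y 2)) : ℕ) : ZMod 5) = ((tbl (code3 (y 0) (y 1) (y 2)) : ℕ) : ZMod 5)
  rw [tbl_scalar c _ _ _ hc]

theorem SU_decomp (g : SL3) (hg : g ∈ SUc) :
    ∃ a < 1040, ∃ y < 60, g = D0.ev (wordP (wc0 a) (wl0 a)) * D0.ev (wordP (wc1 y) (wl1 y)) := by
  have hg5 : g ∈ D0.H 5 := by
    rw [← SU_eq]
    exact hg
  obtain ⟨a, h', hh', rfl⟩ := (ok0.mem_H_iff g).1 hg5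
  obtain ⟨y, h'', hh'', rfl⟩ := (ok1.mem_H_iff h').1 hh'
  rw [D0.H_zero, Subgroup.mem_bot] at hh''
  subst hh''
  have ha : a.val < 1040 := lt_of_lt_of_eq a.isLt (transv_length 1040 wc0 wl0)
  have hy : y.val < 60 := lt_of_lt_of_eq y.isLt (transv_length 60 wc1 wl1)
  refine ⟨a.val, ha, y.val, hy, ?_⟩
  rw [transv_getD 1040 wc0 wl0 _ ha, transv_getD 60 wc1 wl1 _ hy, mul_one]

theorem word0_lt (a : ℕ) (ha : a < 1040) : ∀ c ∈ wordP (wc0 a) (wl0 a), c < D0.m :=
  lettersLt_sound 5 _ _ (rangeAll_sound 0 1040 _ words0 a (Nat.zero_le a) (by omega))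

theorem word1_lt (y : ℕ) (hy : y < 60) : ∀ c ∈ wordP (wc1 y) (wl1 y), c < D0.m := by
  intro c hc
  have := lettersLt_sound 2 _ _ (rangeAll_sound 0 60 _ words1 y (Nat.zero_le y) (by omega)) c hc
  show c < 5
  omega

theorem ev2_smul (a y : ℕ) (ha : a < 1040) (hy : y < 60) (p : ℕ) (hp : p < 2015) :
    (D0.ev (wordP (wc0 a) (wl0 a)) * D0.ev (wordP (wc1 y) (wl1 y))) • pt p =
      pt (actP tab0 (wc0 a) (wl0 a) (actP tab0 (wc1 y) (wl1 y) p)) := by
  have h1 := D0.ev_smul _ (word1_lt y hy) p hp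
  have hlt := D0.act_lt _ (word1_lt y hy) p hp
  have h2 := D0.ev_smul _ (word0_lt a ha) _ hlt
  rw [mul_smul]
  have e1 : D0.ev (wordP (wc1 y) (wl1 y)) • pt p = pt (act tab0 (wordP (wc1 y) (wl1 y)) p) := h1
  rw [e1]
  have e2 : D0.ev (wordP (wc0 a) (wl0 a)) • pt (act tab0 (wordP (wc1 y) (wl1 y)) p) =
      pt (act tab0 (wordP (wc0 a) (wl0 a)) (act tab0 (wordP (wc1 y) (wl1 y)) p)) := h2
  rw [e2, act_wordP, act_wordP]

theorem qtabB : rangeAll 0 60 (fun y =>
    Nat.beq (qtab (Nat.mul 5 y)) (actP tab0 (wc1 y) (wl1 y) 6) &&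
    Nat.beq (qtab (Nat.add (Nat.mul 5 y) 1)) (actP tab0 (wc1 y) (wl1 y) 12) &&
    Nat.beq (qtab (Nat.add (Nat.mul 5 y) 2)) (actP tab0 (wc1 y) (wl1 y) 21) &&
    Nat.beq (qtab (Nat.add (Nat.mul 5 y) 3)) (actP tab0 (wc1 y) (wl1 y) 34) &&
    Nat.beq (qtab (Nat.add (Nat.mul 5 y) 4)) (actP tab0 (wc1 y) (wl1 y) 43)) = true := by
  decide +kernel

/-- the value of the function at the image of a block point -/
def tq (a i : ℕ) : ℕ := tbl (ptC (actP tab0 (wc0 a) (wl0 a) (qtab i)))

/-- the sum over a block -/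
def sum5 (a y : ℕ) : ℕ :=
  Nat.add (Nat.add (Nat.add (Nat.add (tq a (Nat.mul 5 y)) (tq a (Nat.add (Nat.mul 5 y) 1)))
    (tq a (Nat.add (Nat.mul 5 y) 2))) (tq a (Nat.add (Nat.mul 5 y) 3))) (tq a (Nat.add (Nat.mul 5 y) 4))

/-- the test of the block sums -/
def blkB (lo len : ℕ) : Bool :=
  rangeAll lo len (fun a => rangeAll 0 60 (fun y => Nat.beq (Nat.mod (sum5 a y) 5) 0))

theorem blkB0 : blkB 0 130 = true := by decide +kernel
theorem blkB1 : blkB 130 130 = true := by decide +kernel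
theorem blkB2 : blkB 260 130 = true := by decide +kernel
theorem blkB3 : blkB 390 130 = true := by decide +kernel
theorem blkB4 : blkB 520 130 = true := by decide +kernel
theorem blkB5 : blkB 650 130 = true := by decide +kernel
theorem blkB6 : blkB 780 130 = true := by decide +kernel
theorem blkB7 : blkB 910 130 = true := by decide +kernel

theorem blk_check (a : ℕ) (ha : a < 1040) (y : ℕ) (hy : y < 60) : Nat.mod (sum5 a y) 5 = 0 := by
  have h : rangeAll 0 60 (fun y => Nat.beq (Nat.mod (sum5 a y) 5) 0) = true := by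
    by_cases h0 : a < 130
    · exact rangeAll_sound 0 130 _ blkB0 a (by omega) (by omega)
    by_cases h1 : a < 260
    · exact rangeAll_sound 130 130 _ blkB1 a (by omega) (by omega)
    by_cases h2 : a < 390
    · exact rangeAll_sound 260 130 _ blkB2 a (by omega) (by omega)
    by_cases h3 : a < 520
    · exact rangeAll_sound 390 130 _ blkB3 a (by omega) (by omega)
    by_cases h4 : a < 650
    · exact rangeAll_sound 520 130 _ blkB4 a (by omega) (by omega)
    by_cases h5 : a < 780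
    · exact rangeAll_sound 650 130 _ blkB5 a (by omega) (by omega)
    by_cases h6 : a < 910
    · exact rangeAll_sound 780 130 _ blkB6 a (by omega) (by omega)
    · exact rangeAll_sound 910 130 _ blkB7 a (by omega) (by omega)
  exact Nat.eq_of_beq_eq_true (rangeAll_sound 0 60 _ h y (Nat.zero_le y) (by omega))

theorem f0_pt (x : ℕ) : f0 (pt x) = ((tbl (ptC x) : ℕ) : ZMod 5) := by
  unfold f0
  rw [codeOf_pt]

theorem f0_blk (g : SL3) (hg : g ∈ SUc) : blk f0 g = 0 := by
  obtain ⟨a, ha, y, hy, rfl⟩ := SU_decomp g hg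
  unfold blk
  have hq := rangeAll_sound 0 60 _ qtabB y (Nat.zero_le y) (by omega)
  simp only [Bool.and_eq_true] at hq
  obtain ⟨⟨⟨⟨q0, q1⟩, q2⟩, q3⟩, q4⟩ := hq
  rw [ev2_smul a y ha hy 6 (by norm_num), ev2_smul a y ha hy 12 (by norm_num),
    ev2_smul a y ha hy 21 (by norm_num), ev2_smul a y ha hy 34 (by norm_num),
    ev2_smul a y ha hy 43 (by norm_num)]
  rw [← Nat.eq_of_beq_eq_true q0, ← Nat.eq_of_beq_eq_true q1, ← Nat.eq_of_beq_eq_true q2,
    ← Nat.eq_of_beq_eq_true q3, ← Nat.eq_of_beq_eq_true q4]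
  rw [f0_pt, f0_pt, f0_pt, f0_pt, f0_pt]
  have hb : 5 ∣ sum5 a y := Nat.dvd_of_mod_eq_zero (blk_check a ha y hy)
  have hcast : ((sum5 a y : ℕ) : ZMod 5) = 0 := (ZMod.natCast_eq_zero_iff _ 5).2 hb
  rw [← hcast]
  unfold sum5 tq
  show _ = ((_ + _ + _ + _ + _ : ℕ) : ZMod 5)
  push_cast
  rfl

theorem f0_mem : f0 ∈ V0 := (mem_V0_iff f0).2 ⟨f0_scalar, f0_blk⟩

theorem ne_witness : iso (pt 6) ∧ iso (pt 136) ∧ tbl (ptC 6) = 0 ∧ tbl (ptC 136) = 2 := by decide +kernel

theorem delta_f0_ne : delta f0 ≠ 0 := by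
  intro h
  have h1 := congrFun (congrFun h (pt 6)) (pt 136)
  rw [delta_apply, if_pos ⟨ne_witness.1, ne_witness.2.1⟩, f0_pt, f0_pt, ne_witness.2.2.1,
    ne_witness.2.2.2] at h1
  revert h1
  decide

instance : Nontrivial ↥V1 :=
  ⟨⟨⟨delta f0, AddSubgroup.mem_map.2 ⟨f0, f0_mem, rfl⟩⟩, 0, fun h => delta_f0_ne (congrArg Subtype.val h)⟩⟩

/-! ### the element of order 13 has no fixed points -/

/-- the vectors of the orbits of the element of order 13 on the isotropic points -/
def orbvec (j i : ℕ) : Vec := vecOf (orbC j i)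

/-- the test of the classification of an isotropic vector -/
def clsOK (c : ℕ) : Bool :=
  Nat.blt (clsC c) 5 && Nat.blt (exC c) 13 && decide (elt (muC c) ≠ 0) &&
  Nat.beq (code3 (elt (muC c) * orbvec (clsC c) (exC c) 0) (elt (muC c) * orbvec (clsC c) (exC c) 1)
    (elt (muC c) * orbvec (clsC c) (exC c) 2)) c

theorem clsB : rangeAll 0 4096 (fun c => cond (decide (iso (vecOf c))) (clsOK c) true) = true := by
  decide +kernel

theorem iso_cls (v : Vec) (hv : iso v) : clsC (codeOf v) < 5 ∧ exC (codeOf v) < 13 ∧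
    elt (muC (codeOf v)) ≠ 0 ∧
    v = elt (muC (codeOf v)) • orbvec (clsC (codeOf v)) (exC (codeOf v)) := by
  have h := rangeAll_sound 0 4096 _ clsB (codeOf v) (Nat.zero_le _) (by have := codeOf_lt v; omega)
  rw [vecOf_codeOf, decide_eq_true hv, cond_true] at h
  unfold clsOK at h
  simp only [Bool.and_eq_true] at h
  obtain ⟨⟨⟨h1, h2⟩, h3⟩, h4⟩ := h
  refine ⟨Nat.le_of_ble_eq_true h1, Nat.le_of_ble_eq_true h2, of_decide_eq_true h3, ?_⟩
  have h4' : codeOf (elt (muC (codeOf v)) • orbvec (clsC (codeOf v)) (exC (codeOf v))) = codeOf v :=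
    Nat.eq_of_beq_eq_true h4
  calc v = vecOf (codeOf v) := (vecOf_codeOf v).symm
    _ = vecOf (codeOf (elt (muC (codeOf v)) • orbvec (clsC (codeOf v)) (exC (codeOf v)))) := by rw [h4']
    _ = _ := vecOf_codeOf _

theorem orbB : rangeAll 0 5 (fun j => rangeAll 0 13 (fun i =>
    Nat.blt (idxC (orbC j i)) 2015 && Nat.beq (ptC (idxC (orbC j i))) (orbC j i) &&
      decide (iso (orbvec j i)))) = true := by decide +kernel

theorem orbStepB : rangeAll 0 5 (fun j => rangeAll 0 12 (fun i =>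
    Nat.beq (act tab0 s13W (idxC (orbC j i))) (idxC (orbC j (Nat.add i 1))))) = true := by decide +kernel

theorem orb_pt (j i : ℕ) (hj : j < 5) (hi : i < 13) :
    idxC (orbC j i) < 2015 ∧ pt (idxC (orbC j i)) = orbvec j i ∧ iso (orbvec j i) := by
  have h := rangeAll_sound 0 13 _ (rangeAll_sound 0 5 _ orbB j (Nat.zero_le j) (by omega)) i
    (Nat.zero_le i) (by omega)
  simp only [Bool.and_eq_true] at h
  obtain ⟨⟨h1, h2⟩, h3⟩ := h
  refine ⟨Nat.le_of_ble_eq_true h1, ?_, of_decide_eq_true h3⟩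
  show vecOf (ptC (idxC (orbC j i))) = vecOf (orbC j i)
  rw [Nat.eq_of_beq_eq_true h2]

theorem orb_step (j i : ℕ) (hj : j < 5) (hi : i < 12) : D0.ev s13W • orbvec j i = orbvec j (i + 1) := by
  obtain ⟨h1, h2, _⟩ := orb_pt j i hj (by omega)
  obtain ⟨_, h2', _⟩ := orb_pt j (i + 1) hj (by omega)
  have h := Nat.eq_of_beq_eq_true (rangeAll_sound 0 12 _
    (rangeAll_sound 0 5 _ orbStepB j (Nat.zero_le j) (by omega)) i (Nat.zero_le i) (by omega))
  have h3 : D0.ev s13W • pt (idxC (orbC j i)) = pt (act tab0 s13W (idxC (orbC j i))) :=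
    D0.ev_smul s13W s13_lt (idxC (orbC j i)) h1
  rw [← h2, ← h2', h3, h]

theorem iso_P5 : iso (pt 6) ∧ iso (pt 12) ∧ iso (pt 21) ∧ iso (pt 34) ∧ iso (pt 43) := by decide +kernel

theorem bw0_lt : ∀ c ∈ bw0, c < D0.m := by
  show ∀ c ∈ bw0, c < 5
  decide
theorem bw1_lt : ∀ c ∈ bw1, c < D0.m := by
  show ∀ c ∈ bw1, c < 5
  decide
theorem bw2_lt : ∀ c ∈ bw2, c < D0.m := by
  show ∀ c ∈ bw2, c < 5
  decide
theorem bw3_lt : ∀ c ∈ bw3, c < D0.m := by
  show ∀ c ∈ bw3, c < 5
  decide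

theorem cl0_0 : clsC (ptC (act tab0 bw0 6)) = 2 := by decide +kernel
theorem cl0_1 : clsC (ptC (act tab0 bw0 12)) = 1 := by decide +kernel
theorem cl0_2 : clsC (ptC (act tab0 bw0 21)) = 3 := by decide +kernel
theorem cl0_3 : clsC (ptC (act tab0 bw0 34)) = 2 := by decide +kernel
theorem cl0_4 : clsC (ptC (act tab0 bw0 43)) = 3 := by decide +kernel
theorem cl1_0 : clsC (ptC (act tab0 bw1 6)) = 1 := by decide +kernel
theorem cl1_1 : clsC (ptC (act tab0 bw1 12)) = 3 := by decide +kernel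
theorem cl1_2 : clsC (ptC (act tab0 bw1 21)) = 4 := by decide +kernel
theorem cl1_3 : clsC (ptC (act tab0 bw1 34)) = 1 := by decide +kernel
theorem cl1_4 : clsC (ptC (act tab0 bw1 43)) = 3 := by decide +kernel
theorem cl2_0 : clsC (ptC (act tab0 bw2 6)) = 0 := by decide +kernel
theorem cl2_1 : clsC (ptC (act tab0 bw2 12)) = 2 := by decide +kernel
theorem cl2_2 : clsC (ptC (act tab0 bw2 21)) = 0 := by decide +kernel
theorem cl2_3 : clsC (ptC (act tab0 bw2 34)) = 2 := by decide +kernel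
theorem cl2_4 : clsC (ptC (act tab0 bw2 43)) = 1 := by decide +kernel
theorem cl3_0 : clsC (ptC (act tab0 bw3 6)) = 4 := by decide +kernel
theorem cl3_1 : clsC (ptC (act tab0 bw3 12)) = 0 := by decide +kernel
theorem cl3_2 : clsC (ptC (act tab0 bw3 21)) = 3 := by decide +kernel
theorem cl3_3 : clsC (ptC (act tab0 bw3 34)) = 3 := by decide +kernel
theorem cl3_4 : clsC (ptC (act tab0 bw3 43)) = 0 := by decide +kernel

theorem key13 : ∀ c : ZMod 5, 13 * c = 0 → c = 0 := by decide

theorem key5 : ∀ a0 a1 a2 a3 a4 : ZMod 5, a2 + a1 + a3 + a2 + a3 = 0 → a1 + a3 + a4 + a1 + a3 = 0 →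
    a0 + a2 + a0 + a2 + a1 = 0 → a4 + a0 + a3 + a3 + a0 = 0 →
    a1 = a0 ∧ a2 = a0 ∧ a3 = a0 ∧ a4 = a0 := by decide +kernel

/-- a function of the module whose difference is fixed by the element of order 13 is constant -/
theorem fix_zero (f : Vec → ZMod 5) (hf0 : f ∈ V0)
    (hfix : actF (D0.ev s13W) (delta f) = delta f) : delta f = 0 := by
  have hSmem : D0.ev s13W ∈ SUc := ev_mem_SU s13W s13_lt
  obtain ⟨hsc, hblk⟩ := (mem_V0_iff f).1 hf0
  have hd : ∀ x y : Vec, iso x → iso y →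
      f (D0.ev s13W • x) - f (D0.ev s13W • y) = f x - f y := by
    intro x y hx hy
    have h1 := congrFun (congrFun hfix (D0.ev s13W • x)) (D0.ev s13W • y)
    have e : actF (D0.ev s13W) (delta f) (D0.ev s13W • x) (D0.ev s13W • y) = delta f x y := by
      show delta f ((D0.ev s13W)⁻¹ • D0.ev s13W • x) ((D0.ev s13W)⁻¹ • D0.ev s13W • y) = delta f x y
      rw [inv_smul_smul, inv_smul_smul]
    rw [e, delta_apply, delta_apply, if_pos ⟨hx, hy⟩,
      if_pos ⟨(iso_smul _ hSmem x).2 hx, (iso_smul _ hSmem y).2 hy⟩] at h1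
    exact h1.symm
  obtain ⟨_, _, hiso0⟩ := orb_pt 0 0 (by norm_num) (by norm_num)
  obtain ⟨c, hc⟩ : ∃ c : ZMod 5, c = f (D0.ev s13W • orbvec 0 0) - f (orbvec 0 0) := ⟨_, rfl⟩
  have hstep : ∀ x, iso x → f (D0.ev s13W • x) = f x + c := by
    intro x hx
    have := hd x (orbvec 0 0) hx hiso0
    rw [hc]
    linear_combination this
  have hpow : ∀ n : ℕ, ∀ x, iso x → f ((D0.ev s13W) ^ n • x) = f x + n * c := by
    intro n
    induction n with
    | zero =>
      intro x _
      simp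
    | succ n ih =>
      intro x hx
      rw [pow_succ', mul_smul, hstep _ ((iso_smul _ (SUc.pow_mem hSmem n) x).2 hx), ih x hx]
      push_cast
      ring
  have h13 : (D0.ev s13W) ^ 13 = 1 := by
    rw [← order_s13]
    exact pow_orderOf_eq_one _
  have hc0 : c = 0 := by
    have h := hpow 13 (orbvec 0 0) hiso0
    rw [h13, one_smul] at h
    apply key13
    push_cast at h
    linear_combination -h
  have hinv : ∀ x, iso x → f (D0.ev s13W • x) = f x := by
    intro x hx
    rw [hstep x hx, hc0, add_zero]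
  have horb : ∀ j < 5, ∀ i, i < 13 → f (orbvec j i) = f (orbvec j 0) := by
    intro j hj i
    induction i with
    | zero =>
      intro _
      rfl
    | succ i ih =>
      intro hi
      rw [← orb_step j i hj (by omega), hinv _ (orb_pt j i hj (by omega)).2.2, ih (by omega)]
  have hval : ∀ y, iso y → f y = f (orbvec (clsC (codeOf y)) 0) := by
    intro y hy
    obtain ⟨h1, h2, h3, h4⟩ := iso_cls y hy
    conv_lhs => rw [h4]
    rw [hsc _ h3, horb _ h1 _ h2]
  have hev : ∀ w : List ℕ, (∀ c ∈ w, c < D0.m) → ∀ p, p < 2015 → iso (pt p) →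
      f (D0.ev w • pt p) = f (orbvec (clsC (ptC (act tab0 w p))) 0) := by
    intro w hw p hp hiso
    rw [hval _ ((iso_smul _ (ev_mem_SU w hw) _).2 hiso)]
    have : D0.ev w • pt p = pt (act tab0 w p) := D0.ev_smul w hw p hp
    rw [this, codeOf_pt]
  obtain ⟨i6, i12, i21, i34, i43⟩ := iso_P5
  have e0 := hblk (D0.ev bw0) (ev_mem_SU bw0 bw0_lt)
  have e1 := hblk (D0.ev bw1) (ev_mem_SU bw1 bw1_lt)
  have e2 := hblk (D0.ev bw2) (ev_mem_SU bw2 bw2_lt)
  have e3 := hblk (D0.ev bw3) (ev_mem_SU bw3 bw3_lt)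
  unfold blk at e0 e1 e2 e3
  rw [hev bw0 bw0_lt 6 (by norm_num) i6, hev bw0 bw0_lt 12 (by norm_num) i12,
    hev bw0 bw0_lt 21 (by norm_num) i21, hev bw0 bw0_lt 34 (by norm_num) i34,
    hev bw0 bw0_lt 43 (by norm_num) i43, cl0_0, cl0_1, cl0_2, cl0_3, cl0_4] at e0
  rw [hev bw1 bw1_lt 6 (by norm_num) i6, hev bw1 bw1_lt 12 (by norm_num) i12,
    hev bw1 bw1_lt 21 (by norm_num) i21, hev bw1 bw1_lt 34 (by norm_num) i34,
    hev bw1 bw1_lt 43 (by norm_num) i43, cl1_0, cl1_1, cl1_2, cl1_3, cl1_4] at e1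
  rw [hev bw2 bw2_lt 6 (by norm_num) i6, hev bw2 bw2_lt 12 (by norm_num) i12,
    hev bw2 bw2_lt 21 (by norm_num) i21, hev bw2 bw2_lt 34 (by norm_num) i34,
    hev bw2 bw2_lt 43 (by norm_num) i43, cl2_0, cl2_1, cl2_2, cl2_3, cl2_4] at e2
  rw [hev bw3 bw3_lt 6 (by norm_num) i6, hev bw3 bw3_lt 12 (by norm_num) i12,
    hev bw3 bw3_lt 21 (by norm_num) i21, hev bw3 bw3_lt 34 (by norm_num) i34,
    hev bw3 bw3_lt 43 (by norm_num) i43, cl3_0, cl3_1, cl3_2, cl3_3, cl3_4] at e3
  obtain ⟨k1, k2, k3, k4⟩ := key5 _ _ _ _ _ e0 e1 e2 e3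
  have hall : ∀ y, iso y → f y = f (orbvec 0 0) := by
    intro y hy
    rw [hval y hy]
    have hlt := (iso_cls y hy).1
    generalize clsC (codeOf y) = j at hlt
    interval_cases j
    · rfl
    · exact k1
    · exact k2
    · exact k3
    · exact k4
  funext x y
  rw [delta_apply]
  split_ifs with h
  · rw [hall x h.1, hall y h.2, sub_self]
    rfl
  · rfl

/-- the element of order 13 -/
theorem s13_fix (F : ↥V1) (h : s13 • F = F) : F = 0 := by
  obtain ⟨f, hf0, hfF⟩ := AddSubgroup.mem_map.1 F.2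
  have h' : actF (D0.ev s13W) (delta f) = delta f := by
    rw [hfF]
    exact congrArg Subtype.val h
  have h0 := fix_zero f hf0 h'
  apply Subtype.ext
  rw [← hfF, h0]
  rfl

/-! ### the extensions -/

/-- the sum of `N` copies of the module, written multiplicatively -/
abbrev W (N : ℕ) : Type := Multiplicative (Fin N → ↥V1)

/-- the action of the group -/
def phi (N : ℕ) : ↥SUc →* MulAut (W N) := actHom (G := ↥SUc) (A := ↥V1) N

theorem phi_apply (N : ℕ) (g : ↥SUc) (v : W N) (i : Fin N) :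
    Multiplicative.toAdd (phi N g v) i = g • Multiplicative.toAdd v i := rfl

theorem five_nsmul : ∀ z : ZMod 5, 5 • z = 0 := by decide

theorem W_pow (N : ℕ) (v : W N) : v ^ 5 = 1 := by
  apply Multiplicative.toAdd.injective
  rw [toAdd_pow, toAdd_one]
  funext i
  apply Subtype.ext
  funext x y
  show 5 • ((Multiplicative.toAdd v i).1 x y) = 0
  exact five_nsmul _

instance (N : ℕ) : Finite (W N) := Finite.of_equiv (Fin N → ↥V1) Multiplicative.ofAdd

theorem card_W (N : ℕ) : 2 ^ N ≤ Nat.card (W N) := by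
  rw [Nat.card_congr (Multiplicative.toAdd : W N ≃ (Fin N → ↥V1)), Nat.card_fun, Nat.card_fin]
  exact Nat.pow_le_pow_left (Finite.one_lt_card (α := ↥V1)) N

theorem s13_fixW (N : ℕ) (v : W N) (hv : phi N s13 v = v) : v = 1 := by
  apply Multiplicative.toAdd.injective
  funext i
  apply s13_fix
  have := congrArg (fun w : W N => Multiplicative.toAdd w i) hv
  exact this

theorem fpf (N : ℕ) (x : ↥SUc) (r : ℕ) (hr : r.Prime) (hr5 : r ≠ 5) (hx : orderOf x = r)
    (hno : ¬ ∃ g : ↥SUc, orderOf g = 5 * r) (v : W N) (hv : phi N x v = v) : v = 1 := by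
  have hdvd : r ∣ 62400 := by
    rw [← card_SUc, ← hx]
    exact orderOf_dvd_natCard x
  rcases prime_dvd_card hr hdvd with rfl | rfl | rfl | rfl
  · exact absurd exists_ten hno
  · exact absurd exists_fifteen hno
  · exact absurd rfl hr5
  · have : Fact (Nat.Prime 13) := ⟨by norm_num⟩
    exact fpf_of_conj (phi N) 13 s13 orderOf_s13 (by rw [card_SUc]; norm_num) (s13_fixW N) x hx v hv

theorem five_dvd_card : 5 ∣ Nat.card ↥SUc := by
  rw [card_SUc]
  norm_num

/-- the split extension has the prime graph of the group -/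
theorem same_graph (N : ℕ) :
    Cfsg.Agent.Lib.Helper60.SamePrimeGraph ↥SUc (W N ⋊[phi N] ↥SUc) :=
  PGExtP.primeGraph_semidirect_p (phi N) 5 Nat.prime_five (W_pow N) five_dvd_card (fpf N)

theorem card_ext (N : ℕ) : N < Nat.card (W N ⋊[phi N] ↥SUc) := by
  rw [SemidirectProduct.card]
  have h1 : N < 2 ^ N := Nat.lt_two_pow_self
  have h2 := card_W N
  have h3 : 0 < Nat.card ↥SUc := Nat.card_pos
  calc N < Nat.card (W N) := lt_of_lt_of_le h1 h2
    _ ≤ Nat.card (W N) * Nat.card ↥SUc := Nat.le_mul_of_pos_right _ h3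

end Cfsg.Agent.Lib.Helper58.U34Mod
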