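import Mathlib

set_option autoImplicit false

namespace Cfsg.Agent.Lib.Helper58

open Polynomial in
lemma poly_sub_one_pow (p : ℕ) [Fact p.Prime] (s : ℕ) :
    ((X : (ZMod p)[X]) - 1) ^ (p ^ s) = X ^ (p ^ s) - 1 := by
  rw [sub_pow_char_pow, one_pow]

open Polynomial in
lemma poly_geom (p : ℕ) [Fact p.Prime] (s : ℕ) :
    (∑ i ∈ Finset.range (p ^ s), (X : (ZMod p)[X]) ^ i) = (X - 1) ^ (p ^ s - 1) := by
  have hp : 1 ≤ p ^ s := Nat.one_le_pow _ _ (Fact.out : p.Prime).pos
  have h1 : ((X : (ZMod p)[X]) - 1) * ∑ i ∈ Finset.range (p ^ s), X ^ i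
      = (X - 1) * (X - 1) ^ (p ^ s - 1) := by
    rw [mul_geom_sum, ← pow_succ', Nat.sub_add_cancel hp, poly_sub_one_pow]
  have hne : (X : (ZMod p)[X]) - 1 ≠ 0 := by
    have := X_sub_C_ne_zero (1 : ZMod p)
    simpa using this
  exact mul_left_cancel₀ hne h1

lemma lin_key (p : ℕ) [Fact p.Prime] {V : Type*} [AddCommGroup V] [Module (ZMod p) V]
    [Module.Finite (ZMod p) V]
    (A : Module.End (ZMod p) V) (r : ℕ) (hA : A ^ (p ^ r) = 1) (s : ℕ)
    (hs : Module.finrank (ZMod p) V < p ^ s) :
    A ^ (p ^ s) = 1 ∧ ∑ i ∈ Finset.range (p ^ s), A ^ i = 0 := by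
  have hD : (A - 1) ^ (p ^ r) = 0 := by
    have := congrArg (Polynomial.aeval A) (poly_sub_one_pow p r)
    simpa [hA] using this
  have hDm : (A - 1) ^ (Module.finrank (ZMod p) V) = 0 := by
    have := Module.End.ker_pow_le_ker_pow_finrank (A - 1) (p ^ r)
    rw [hD, LinearMap.ker_zero, top_le_iff, LinearMap.ker_eq_top] at this
    exact this
  have hDk : ∀ k, Module.finrank (ZMod p) V ≤ k → (A - 1) ^ k = 0 := by
    intro k hk
    rw [← Nat.sub_add_cancel hk, pow_add, hDm, mul_zero]
  constructor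
  · have := congrArg (Polynomial.aeval A) (poly_sub_one_pow p s)
    simp only [map_pow, map_sub, Polynomial.aeval_X, map_one] at this
    rw [hDk _ hs.le] at this
    exact (sub_eq_zero.mp this.symm)
  · have := congrArg (Polynomial.aeval A) (poly_geom p s)
    simp only [map_pow, map_sub, Polynomial.aeval_X, map_one, map_sum] at this
    rw [this]
    exact hDk _ (Nat.le_sub_one_of_lt hs)

lemma module_key (p : ℕ) [Fact p.Prime] {V : Type*} [AddCommGroup V] [Module (ZMod p) V]
    [Finite V] (m : ℕ) (hcard : Nat.card V = p ^ m)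
    (f : V →+ V) (r : ℕ) (hf : ∀ v, (f^[p ^ r]) v = v) (s : ℕ) (hs : m < p ^ s) :
    (∀ v, (f^[p ^ s]) v = v) ∧ ∀ v, ∑ i ∈ Finset.range (p ^ s), (f^[i]) v = 0 := by
  have hp : p.Prime := Fact.out
  haveI : Module.Finite (ZMod p) V := Module.Finite.of_finite
  have hfr : Module.finrank (ZMod p) V = m := by
    have h1 : Nat.card V = Nat.card (ZMod p) ^ Module.finrank (ZMod p) V :=
      Module.natCard_eq_pow_finrank
    rw [Nat.card_zmod, hcard] at h1
    exact (Nat.pow_right_injective hp.two_le h1).symm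
  set A : Module.End (ZMod p) V := AddMonoidHom.toZModLinearMap p f with hAdef
  have hApow : ∀ (i : ℕ) (v : V), (A ^ i) v = (f^[i]) v := by
    intro i v
    rw [Module.End.pow_apply]
    rfl
  have hA : A ^ (p ^ r) = 1 := by
    ext v
    rw [hApow, hf]; rfl
  obtain ⟨h1, h2⟩ := lin_key p A r hA s (by rw [hfr]; exact hs)
  constructor
  · intro v
    have := congrArg (fun B : Module.End (ZMod p) V => B v) h1
    simp only [hApow] at this
    exact this
  · intro v
    have := congrArg (fun B : Module.End (ZMod p) V => B v) h2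
    simp only [LinearMap.sum_apply, hApow, LinearMap.zero_apply] at this
    exact this

/-- Core lemma at the level of an elementary abelian `p`-group `M` of order `p^m`
with an endomorphism of `p`-power order. -/
lemma elem_abelian_key (p : ℕ) [Fact p.Prime] {M : Type*} [CommGroup M] [Finite M]
    (hexp : ∀ x : M, x ^ p = 1) (m : ℕ) (hcard : Nat.card M = p ^ m)
    (φ : M →* M) (r : ℕ) (hφ : ∀ x, (φ^[p ^ r]) x = x) (s : ℕ) (hs : m < p ^ s) :
    (∀ x, (φ^[p ^ s]) x = x) ∧ ∀ x, ∏ i ∈ Finset.range (p ^ s), (φ^[i]) x = 1 := by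
  letI : Module (ZMod p) (Additive M) := AddCommGroup.zmodModule (n := p) (by
    intro x
    exact congrArg Additive.ofMul (hexp x.toMul))
  have hiter : ∀ (i : ℕ) (x : M),
      ((MonoidHom.toAdditive φ)^[i]) (Additive.ofMul x) = Additive.ofMul ((φ^[i]) x) := by
    intro i
    induction i with
    | zero => intro x; rfl
    | succ i ih =>
      intro x
      rw [Function.iterate_succ_apply, Function.iterate_succ_apply]
      exact ih (φ x)
  obtain ⟨h1, h2⟩ := module_key p (V := Additive M) m hcard (MonoidHom.toAdditive φ) r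
    (by
      intro v
      obtain ⟨x, rfl⟩ : ∃ x, Additive.ofMul x = v := ⟨v.toMul, rfl⟩
      rw [hiter, hφ]) s hs
  constructor
  · intro x
    have := h1 (Additive.ofMul x)
    rw [hiter] at this
    exact Additive.ofMul.injective this
  · intro x
    have := h2 (Additive.ofMul x)
    simp only [hiter] at this
    rw [← ofMul_prod] at this
    exact Additive.ofMul.injective this

end Cfsg.Agent.Lib.Helper58
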